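import Groth.Prelude.Def_AlgSpRep
import Groth.Agent.AlgSp.Basic

/-!
Presheaves with a map representable by algebraic spaces to a sheaf or an algebraic space.
-/

set_option backward.isDefEq.respectTransparency false
set_option backward.isDefEq.respectTransparency.types false

universe u

open CategoryTheory CategoryTheory.Limits AlgebraicGeometry Opposite

namespace Groth.Agent.StFib

variable {S : Scheme.{u}}

/-- Yoneda for presheaves over `S`. -/
noncomputable abbrev pEquiv {F : AlgSp.PSp S} {U : Over S} :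
    ((AlgSp.pyon S).obj U ⟶ F) ≃ F.obj (op U) :=
  uliftYonedaEquiv.{u + 1}

/-- Restriction of a morphism out of a representable presheaf is restriction of the section. -/
theorem pEquiv_map {F : AlgSp.PSp S} {U V : Over S} (f : V ⟶ U)
    (m : (AlgSp.pyon S).obj U ⟶ F) :
    pEquiv ((AlgSp.pyon S).map f ≫ m) = F.map f.op (pEquiv m) :=
  (uliftYonedaEquiv_naturality.{u + 1} (X := op U) (Y := op V) m f.op).symm

theorem pSymm_map {F : AlgSp.PSp S} {U V : Over S} (f : V ⟶ U) (y : F.obj (op U)) :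
    (AlgSp.pyon S).map f ≫ pEquiv.symm y = pEquiv.symm (F.map f.op y) := by
  apply pEquiv.injective
  rw [pEquiv_map, Equiv.apply_symm_apply, Equiv.apply_symm_apply]

/-- Morphisms from a representable into a sheaf agree if they agree on a covering sieve. -/
theorem pyon_hom_ext_of_cover {F : AlgSp.PSp S} (hF : Presheaf.IsSheaf (AlgSp.J S) F) {U : Over S}
    {R : Sieve U} (hR : R ∈ AlgSp.J S U) {m m' : (AlgSp.pyon S).obj U ⟶ F}
    (h : ∀ ⦃V : Over S⦄ (f : V ⟶ U), R f → (AlgSp.pyon S).map f ≫ m = (AlgSp.pyon S).map f ≫ m') :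
    m = m' := by
  apply pEquiv.injective
  refine (((isSheaf_iff_isSheaf_of_type _ _).1 hF).isSeparated R hR).ext fun V f hf => ?_
  rw [← pEquiv_map, ← pEquiv_map, h f hf]

/-- Gluing of compatible morphisms from representables into a sheaf. -/
theorem exists_glue_pyon {F : AlgSp.PSp S} (hF : Presheaf.IsSheaf (AlgSp.J S) F) {U : Over S}
    {R : Sieve U} (hR : R ∈ AlgSp.J S U)
    (x : ∀ ⦃V : Over S⦄ (f : V ⟶ U), R f → ((AlgSp.pyon S).obj V ⟶ F))
    (h : ∀ ⦃V W : Over S⦄ (g : W ⟶ V) (f : V ⟶ U) (hf : R f),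
      (AlgSp.pyon S).map g ≫ x f hf = x (g ≫ f) (R.downward_closed hf g)) :
    ∃ m : (AlgSp.pyon S).obj U ⟶ F, ∀ ⦃V : Over S⦄ (f : V ⟶ U) (hf : R f),
      (AlgSp.pyon S).map f ≫ m = x f hf := by
  let fam : Presieve.FamilyOfElements F R.arrows := fun V f hf => pEquiv (x f hf)
  have hc : fam.Compatible := by
    rw [Presieve.compatible_iff_sieveCompatible]
    intro V W f g hf
    exact ((pEquiv_map g (x f hf)).symm.trans (congrArg _ (h g f hf))).symm
  obtain ⟨t, ht, -⟩ := ((isSheaf_iff_isSheaf_of_type _ _).1 hF) R hR fam hc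
  refine ⟨pEquiv.symm t, fun V f hf => pEquiv.injective ?_⟩
  rw [pEquiv_map, Equiv.apply_symm_apply]
  exact ht f hf

/-- The source of a map representable by algebraic spaces to a sheaf is a sheaf. -/
theorem isSheaf_of_repBySp {F G : AlgSp.PSp S} (a : F ⟶ G) (ha : AlgSp.RepBySp a)
    (hG : Presheaf.IsSheaf (AlgSp.J S) G) : Presheaf.IsSheaf (AlgSp.J S) F := by
  rw [isSheaf_iff_isSheaf_of_type]
  intro U R hR fam hfam
  rw [Presieve.compatible_iff_sieveCompatible] at hfam
  let x : ∀ ⦃V : Over S⦄ (f : V ⟶ U), R f → ((AlgSp.pyon S).obj V ⟶ F) :=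
    fun V f hf => pEquiv.symm (fam f hf)
  have hx : ∀ ⦃V W : Over S⦄ (g : W ⟶ V) (f : V ⟶ U) (hf : R f),
      (AlgSp.pyon S).map g ≫ x f hf = x (g ≫ f) (R.downward_closed hf g) := fun V W g f hf =>
    (pSymm_map g _).trans (congrArg _ (hfam f g hf).symm)
  obtain ⟨ξ, hξ⟩ := exists_glue_pyon hG hR (fun V f hf => x f hf ≫ a) fun V W g f hf => by
    rw [← Category.assoc, hx]
  obtain ⟨hF', -⟩ := ha ξ _ _ (IsPullback.of_hasPullback a ξ)
  obtain ⟨m, hm⟩ := exists_glue_pyon hF' hR
    (fun V f hf => pullback.lift (x f hf) ((AlgSp.pyon S).map f) (hξ f hf).symm) fun V W g f hf => by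
      apply pullback.hom_ext
      · rw [Category.assoc, pullback.lift_fst, pullback.lift_fst, hx]
      · rw [Category.assoc, pullback.lift_snd, pullback.lift_snd, Functor.map_comp]
  refine ⟨pEquiv (m ≫ pullback.fst a ξ), fun V f hf => ?_, fun t ht => ?_⟩
  · rw [← pEquiv_map, ← Category.assoc, hm, pullback.lift_fst, Equiv.apply_symm_apply]
  · apply pEquiv.symm.injective
    rw [Equiv.symm_apply_apply]
    have ht' : ∀ ⦃V : Over S⦄ (f : V ⟶ U) (hf : R f),
        (AlgSp.pyon S).map f ≫ pEquiv.symm t = x f hf := fun V f hf => by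
      rw [pSymm_map, ht f hf]
    have hta : pEquiv.symm t ≫ a = 𝟙 _ ≫ ξ := by
      refine pyon_hom_ext_of_cover hG hR fun V f hf => ?_
      rw [← Category.assoc, ht' f hf, Category.id_comp, hξ f hf]
    have hl : pullback.lift (pEquiv.symm t) (𝟙 _) hta = m := by
      refine pyon_hom_ext_of_cover hF' hR fun V f hf => ?_
      rw [hm f hf]
      apply pullback.hom_ext
      · rw [Category.assoc, pullback.lift_fst, pullback.lift_fst, ht' f hf]
      · rw [Category.assoc, pullback.lift_snd, pullback.lift_snd, Category.comp_id]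
    rw [← hl, pullback.lift_fst]

/-- A sheaf with a map representable by algebraic spaces to an algebraic space is an algebraic space. -/
theorem isAlgSpace_of_repBySp {F G : AlgSp.Sp S} (a : F ⟶ G) (ha : AlgSp.RepBySp a.hom)
    (hG : AlgSp.IsAlgSpace G) : AlgSp.IsAlgSpace F := by
  rw [AlgSp.repBySp_hom_iff] at ha
  refine ⟨fun {T} g => ?_, ?_⟩
  · obtain ⟨W, w, z, sqW⟩ := hG.diag (g ≫ prod.map a a)
    have hz1 : (AlgSp.yon S).map w ≫ (g ≫ prod.fst) ≫ a = z := by
      simpa using (congrArg (· ≫ prod.fst) sqW.w).symm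
    have hz2 : (AlgSp.yon S).map w ≫ (g ≫ prod.snd) ≫ a = z := by
      simpa using (congrArg (· ≫ prod.snd) sqW.w).symm
    have hFW : AlgSp.IsAlgSpace (pullback a z) := ha z _ _ (IsPullback.of_hasPullback a z)
    let s : (AlgSp.yon S).obj W ⟶ pullback a z :=
      pullback.lift ((AlgSp.yon S).map w ≫ g ≫ prod.fst) (𝟙 _) (by simpa using hz1)
    let t : (AlgSp.yon S).obj W ⟶ pullback a z :=
      pullback.lift ((AlgSp.yon S).map w ≫ g ≫ prod.snd) (𝟙 _) (by simpa using hz2)
    obtain ⟨E, e, k, sqE⟩ := hFW.diag (prod.lift s t)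
    have hk1 : k = (AlgSp.yon S).map e ≫ s := by
      simpa using congrArg (· ≫ prod.fst) sqE.w
    have hk2 : k = (AlgSp.yon S).map e ≫ t := by
      simpa using congrArg (· ≫ prod.snd) sqE.w
    have hmW : Mono ((AlgSp.yon S).map w) :=
      (MorphismProperty.monomorphisms _).of_isPullback sqW
        (MorphismProperty.monomorphisms.infer_property _)
    have hmE : Mono ((AlgSp.yon S).map e) :=
      (MorphismProperty.monomorphisms _).of_isPullback sqE
        (MorphismProperty.monomorphisms.infer_property _)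
    have hm : Mono ((AlgSp.yon S).map (e ≫ w)) := by
      rw [Functor.map_comp]; exact mono_comp _ _
    have hw : ((AlgSp.yon S).map (e ≫ w) ≫ g ≫ prod.fst) =
        ((AlgSp.yon S).map (e ≫ w) ≫ g ≫ prod.snd) := by
      rw [Functor.map_comp, Category.assoc, Category.assoc]
      simpa [s, t] using congrArg (· ≫ pullback.fst a z) (hk1.symm.trans hk2)
    refine ⟨E, e ≫ w, (AlgSp.yon S).map (e ≫ w) ≫ g ≫ prod.fst, ?_⟩
    have ex : ∀ c : PullbackCone (Limits.diag F) g, ∃ m : c.pt ⟶ (AlgSp.yon S).obj E,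
        m ≫ (AlgSp.yon S).map (e ≫ w) = c.snd ∧
          m ≫ (AlgSp.yon S).map (e ≫ w) ≫ g ≫ prod.fst = c.fst := by
      intro c
      have h1 : c.fst = c.snd ≫ g ≫ prod.fst := by simpa using congrArg (· ≫ prod.fst) c.condition
      have h2 : c.fst = c.snd ≫ g ≫ prod.snd := by simpa using congrArg (· ≫ prod.snd) c.condition
      obtain ⟨l, -, hl⟩ := sqW.exists_lift (c.fst ≫ a) c.snd (by
        rw [← Category.assoc, Category.assoc]
        apply prod.hom_ext
        · simp [h1]
        · simp [h2])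
      have hst : l ≫ s = l ≫ t := by
        apply pullback.hom_ext
        · simp [s, t, reassoc_of% hl, ← h1, ← h2]
        · simp [s, t]
      obtain ⟨m, -, hm'⟩ := sqE.exists_lift (l ≫ s) l (by
        apply prod.hom_ext
        · simp
        · simpa using hst)
      refine ⟨m, ?_, ?_⟩
      · rw [Functor.map_comp, reassoc_of% hm', hl]
      · rw [Functor.map_comp, Category.assoc, reassoc_of% hm', reassoc_of% hl, h1]
    choose m hm1 hm2 using ex
    refine IsPullback.of_isLimit' ⟨?_⟩ (PullbackCone.IsLimit.mk _ m hm2 hm1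
      fun c m' _ hm' => (cancel_mono _).1 (hm'.trans (hm1 c).symm))
    apply prod.hom_ext
    · simp
    · simpa using hw
  · obtain ⟨U, p, hpe, hps⟩ := hG.atlas
    have sq := IsPullback.of_hasPullback a p
    obtain ⟨V, r, hre, hrs⟩ := (ha p _ _ sq).atlas
    exact ⟨V, r ≫ pullback.fst a p,
      MorphismProperty.comp_mem _ _ _ hre (MorphismProperty.of_isPullback sq.flip hpe),
      MorphismProperty.comp_mem _ _ _ hrs (MorphismProperty.of_isPullback sq.flip hps)⟩

theorem isAlgSpaceP_of_repBySp {F G : AlgSp.PSp S} (a : F ⟶ G) (ha : AlgSp.RepBySp a)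
    (hG : AlgSp.IsAlgSpaceP G) : AlgSp.IsAlgSpaceP F := by
  obtain ⟨hG', hG⟩ := hG
  have hF := isSheaf_of_repBySp a ha hG'
  exact ⟨hF, isAlgSpace_of_repBySp (F := ⟨F, hF⟩) (G := ⟨G, hG'⟩) (ObjectProperty.homMk a) ha hG⟩

theorem repBySp_of_isPullback {F G F' G' : AlgSp.PSp S} {a : F ⟶ G} {ξ : G' ⟶ G} {fst : F' ⟶ F}
    {snd : F' ⟶ G'} (sq : IsPullback fst snd a ξ) (ha : AlgSp.RepBySp a) : AlgSp.RepBySp snd :=
  fun _ η _ fst' snd' sq' => ha (η ≫ ξ) (fst' ≫ fst) snd' (sq'.paste_horiz sq)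

theorem isAlgSpaceP_pullback {F G X F' : AlgSp.PSp S} {a : F ⟶ G} (ha : AlgSp.RepBySp a)
    (hX : AlgSp.IsAlgSpaceP X) {ξ : X ⟶ G} {fst : F' ⟶ F} {snd : F' ⟶ X}
    (sq : IsPullback fst snd a ξ) : AlgSp.IsAlgSpaceP F' :=
  isAlgSpaceP_of_repBySp snd (repBySp_of_isPullback sq ha) hX

theorem repBySp_comp {F G H : AlgSp.PSp S} {a : F ⟶ G} {b : G ⟶ H} (ha : AlgSp.RepBySp a)
    (hb : AlgSp.RepBySp b) : AlgSp.RepBySp (a ≫ b) := by
  intro U ξ F' fst snd sq
  have sqb := IsPullback.of_hasPullback b ξ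
  have h := hb ξ _ _ sqb
  let l : F' ⟶ pullback b ξ := pullback.lift (fst ≫ a) snd (by rw [Category.assoc]; exact sq.w)
  have sq' : IsPullback fst l a (pullback.fst b ξ) := by
    refine IsPullback.of_bot ?_ (pullback.lift_fst _ _ _).symm sqb
    have h2 : l ≫ pullback.snd b ξ = snd := pullback.lift_snd _ _ _
    rw [h2]
    exact sq
  exact isAlgSpaceP_pullback ha h sq'

end Groth.Agent.StFib
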