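import Groth.Agent.StFib.DiagComp

/-!
Cancellation properties of morphisms of algebraic spaces, and of diagonals of composites of stacks.
-/

set_option backward.isDefEq.respectTransparency false
set_option backward.isDefEq.respectTransparency.types false

universe u

open CategoryTheory CategoryTheory.Limits AlgebraicGeometry Opposite AlgSp

namespace Groth.Agent.StFib

variable {S : Scheme.{u}} {X Y Z : Sp S}

theorem locP_of_comp {P : MorphismProperty Scheme.{u}}
    (hP : Groth.Agent.AlgSpCov.EtaleLocal P)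
    (hc : ∀ ⦃A B C : Scheme.{u}⦄ (h : A ⟶ B) (k : B ⟶ C), P (h ≫ k) → P h)
    (hZ : IsAlgSpace Z) (a : X ⟶ Y) (b : Y ⟶ Z) (hab : LocP P (a ≫ b)) : LocP P a := by
  intro U V α β h hα hβ w
  obtain ⟨W, γ, hγ, hγs⟩ := hZ.atlas
  obtain ⟨V', c, p, sq⟩ := Groth.Agent.AlgSpCov.exists_pullback (hZ.representable_from_yon (β ≫ b)) γ
  have hce : Etale c.left := hγ.2 _ _ c sq.flip
  have hcs : Surjective c.left := hγs.2 _ _ c sq.flip
  have sqU := IsPullback.of_hasPullback h c
  have heU : Etale (pullback.fst h c).left :=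
    MorphismProperty.of_isPullback (P := @Etale) (sqU.map (Over.forget S)).flip hce
  have hα' : RepWith @Etale ((yon S).map (pullback.fst h c) ≫ α) :=
    (repWith_isMultiplicative _).comp_mem _ _ ((repWith_yon_map_iff _ _).2 heU) hα
  have hh := hab _ γ (pullback.snd h c ≫ p) hα' hγ (by
    rw [Category.assoc, ← Category.assoc α, w, Category.assoc, ← Category.assoc, ← Functor.map_comp,
      pullback.condition, Functor.map_comp, Category.assoc, sq.w, Functor.map_comp, Category.assoc])
  exact hP.descend _ _ c.left h.left (sqU.map (Over.forget S)).flip hce hcs (hc _ _ hh)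

theorem repWith_of_isIso (P : MorphismProperty Scheme.{u}) [P.IsStableUnderBaseChange]
    [P.IsMultiplicative] {f : X ⟶ Y} [IsIso f] : RepWith P f := by
  have h := (MorphismProperty.cancel_left_of_respectsIso (RepWith P) f (𝟙 Y)).2
    ((repWith_isMultiplicative P).id_mem Y)
  rwa [Category.comp_id] at h

theorem repWith_diagonal_of_mono (P : MorphismProperty Scheme.{u}) [P.IsStableUnderBaseChange]
    [P.IsMultiplicative] (f : X ⟶ Y) [Mono f] : RepWith P (pullback.diagonal f) :=
  have : IsIso (pullback.diagonal f) := by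
    refine ⟨pullback.fst f f, pullback.diagonal_fst _, ?_⟩
    have : pullback.fst f f = pullback.snd f f := (cancel_mono f).1 pullback.condition
    apply pullback.hom_ext <;> simp [this]
  repWith_of_isIso P

theorem isProperMor_of_repWith_closedImmersion (hY : IsAlgSpace Y) (f : X ⟶ Y)
    (hf : RepWith @IsClosedImmersion f) : IsProperMor f := by
  have : Mono f := Groth.Agent.AlgSp.mono_of_repWith
    (fun g hg => have : IsClosedImmersion g := hg; inferInstance) f hf
  exact ⟨repWith_diagonal_of_mono @IsClosedImmersion f,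
    ⟨locP_of_repWith' Groth.Agent.AlgSpCov.etaleLocal_locallyOfFiniteType
      (Groth.Agent.AlgSp.repWith_mono
        (fun g hg => (have : IsClosedImmersion g := hg; inferInstance : LocallyOfFiniteType g)) hf),
     Groth.Agent.AlgSp.isQuasiCompactMor_of_repWith hY (Groth.Agent.AlgSp.repWith_mono
        (fun g hg => (have : IsClosedImmersion g := hg; inferInstance : QuasiCompact g)) hf)⟩,
    Groth.Agent.AlgSp.isUnivClosedMor_of_repWith (Groth.Agent.AlgSp.repWith_mono
        (fun g hg => (have : IsClosedImmersion g := hg; inferInstance : UniversallyClosed g)) hf)⟩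
where
  locP_of_repWith' {P : MorphismProperty Scheme.{u}} (hP : Groth.Agent.AlgSpCov.EtaleLocal P)
      {F G : Sp S} {f : F ⟶ G} (hf : RepWith P f) : LocP P f :=
    Groth.Agent.AlgSpCov.locP_of_repWith hP hf

theorem isProperMor_of_comp (hX : IsAlgSpace X) (hY : IsAlgSpace Y) (hZ : IsAlgSpace Z)
    (a : X ⟶ Y) (b : Y ⟶ Z) (hb : IsSeparatedMor b) (hab : IsProperMor (a ≫ b)) : IsProperMor a := by
  have hP := Groth.Agent.AlgSp.isAlgSpace_pullback hZ hX hY (a ≫ b) b
  have h1 : RepWith @IsClosedImmersion (pullback.lift (𝟙 X) a (by simp) : X ⟶ pullback (a ≫ b) b) :=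
    MorphismProperty.of_isPullback (pullback_lift_diagonal_isPullback a b) hb
  have h2 := good_proper.comp hX hP hY _ (pullback.snd (a ≫ b) b)
    (isProperMor_of_repWith_closedImmersion hP _ h1)
    (good_proper.bc hX hZ hP hY (a ≫ b) b _ (pullback.fst (a ≫ b) b) (IsPullback.of_hasPullback _ _) hab)
  rwa [pullback.lift_snd] at h2

theorem isQuasiSeparatedMor_of_comp (a : X ⟶ Y) (b : Y ⟶ Z) (hab : IsQuasiSeparatedMor (a ≫ b)) :
    IsQuasiSeparatedMor a := by
  have e : pullback.diagonal (a ≫ b) = pullback.diagonal a ≫ pullback.mapDesc a a b := by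
    apply pullback.hom_ext <;> simp [pullback.mapDesc]
  have : Mono (pullback.mapDesc a a b) := ⟨fun u v h => by
    apply pullback.hom_ext
    · simpa [pullback.mapDesc] using congrArg (· ≫ pullback.fst (a ≫ b) (a ≫ b)) h
    · simpa [pullback.mapDesc] using congrArg (· ≫ pullback.snd (a ≫ b) (a ≫ b)) h⟩
  refine Groth.Agent.AlgSp.mem_of_comp_of_diagonal (RepWith @QuasiCompact) _ (pullback.mapDesc a a b) ?_
    (repWith_diagonal_of_mono @QuasiCompact _)
  exact e ▸ (hab : RepWith @QuasiCompact (pullback.diagonal (a ≫ b)))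

theorem qcqs_of_comp (hX : IsAlgSpace X) (hY : IsAlgSpace Y) (hZ : IsAlgSpace Z)
    (a : X ⟶ Y) (b : Y ⟶ Z) (hb : IsQuasiSeparatedMor b)
    (hab : (IsQuasiCompactMor ⊓ IsQuasiSeparatedMor : MorphismProperty (Sp S)) (a ≫ b)) :
    (IsQuasiCompactMor ⊓ IsQuasiSeparatedMor : MorphismProperty (Sp S)) a :=
  ⟨Groth.Agent.AlgSp.isQuasiCompactMor_of_comp hX hY hZ a b hab.1 hb,
    isQuasiSeparatedMor_of_comp a b hab.2⟩

theorem unramified_of_comp_scheme {A B C : Scheme.{u}} (h : A ⟶ B) (k : B ⟶ C)
    (hhk : (@LocallyOfFiniteType ⊓ @FormallyUnramified : MorphismProperty Scheme.{u}) (h ≫ k)) :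
    (@LocallyOfFiniteType ⊓ @FormallyUnramified : MorphismProperty Scheme.{u}) h :=
  have := hhk.1
  have := hhk.2
  ⟨locallyOfFiniteType_of_comp h k, FormallyUnramified.of_comp h k⟩

theorem quasiFinite_of_comp_scheme {A B C : Scheme.{u}} (h : A ⟶ B) (k : B ⟶ C)
    (hhk : (@LocallyQuasiFinite ⊓ @LocallyOfFiniteType : MorphismProperty Scheme.{u}) (h ≫ k)) :
    (@LocallyQuasiFinite ⊓ @LocallyOfFiniteType : MorphismProperty Scheme.{u}) h :=
  have := hhk.1
  have := hhk.2
  ⟨LocallyQuasiFinite.of_comp h k, locallyOfFiniteType_of_comp h k⟩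

end Groth.Agent.StFib
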