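import Groth.Prelude.Def_AlgSp4
import Mathlib.AlgebraicGeometry.Morphisms.Etale
import Mathlib.AlgebraicGeometry.Morphisms.FlatDescent

/-!
Representable smooth, étale or surjective morphisms to a scheme, read as morphisms of algebraic spaces.
-/

set_option backward.isDefEq.respectTransparency false
set_option backward.isDefEq.respectTransparency.types false

universe u

open CategoryTheory CategoryTheory.Limits AlgebraicGeometry Opposite AlgSp

namespace Groth.Agent.StFib

variable {S : Scheme.{u}}

theorem isEtaleMor_of_repWith {F G : Sp S} {f : F ⟶ G} (hf : RepWith @Etale f) : IsEtaleMor f :=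
  fun _ _ hφ => (repWith_isMultiplicative _).comp_mem _ _ hφ hf

/-- A representable morphism to a scheme is a morphism of schemes. -/
theorem exists_iso_yon_of_repWith (P : MorphismProperty Scheme.{u}) {F : Sp S} {U : Over S}
    {f : F ⟶ (yon S).obj U} (hf : RepWith P f) :
    ∃ (V : Over S) (g : V ⟶ U) (ι : (yon S).obj V ≅ F), ι.hom ≫ f = (yon S).map g ∧ P g.left := by
  have sq := hf.1.isPullback (𝟙 ((yon S).obj U))
  have := sq.isIso_fst_of_isIso
  refine ⟨_, hf.1.snd (𝟙 _), asIso (hf.1.fst (𝟙 _)), ?_, hf.2 _ _ _ sq⟩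
  exact sq.w.trans (Category.comp_id _)

theorem isSurjectiveMor_of_repWith {F : Sp S} {U : Over S} {f : F ⟶ (yon S).obj U}
    (hf : RepWith @Surjective f) : IsSurjectiveMor f := by
  obtain ⟨V, g, ι, hι, hg⟩ := exists_iso_yon_of_repWith _ hf
  intro x
  obtain ⟨u, rfl⟩ := (Points.schemeHomeo U).surjective x
  obtain ⟨v, rfl⟩ := (show Surjective g.left from hg).surj u
  refine ⟨Points.map ι.hom (Points.schemeHomeo V v), ?_⟩
  rw [← Points.map_comp, hι, Points.map_yon_map_apply]

instance smooth_isMultiplicative : MorphismProperty.IsMultiplicative @Smooth where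
  id_mem _ := inferInstance

set_option backward.isDefEq.respectTransparency.types false in
instance smooth_hasOfPostcompProperty_etale :
    MorphismProperty.HasOfPostcompProperty @Smooth @Etale := by
  rw [MorphismProperty.hasOfPostcompProperty_iff_le_diagonal]
  intro X Y f hf
  have : IsOpenImmersion (pullback.diagonal f) := inferInstance
  exact inferInstanceAs (Smooth (pullback.diagonal f))

theorem etale_fst_of_pullback {F G : Sp S} {f : F ⟶ G} {U W : Over S} {b : (yon S).obj U ⟶ G}
    (hb : RepWith @Etale b) {fst : (yon S).obj W ⟶ F} {snd : (yon S).obj W ⟶ (yon S).obj U}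
    (sq : IsPullback fst snd f b) : RepWith @Etale fst :=
  MorphismProperty.of_isPullback sq.flip hb

/-- A representable morphism with `P` has `P` in charts, if `P` absorbs étale morphisms. -/
theorem locP_of_repWith {P : MorphismProperty Scheme.{u}} [P.IsStableUnderComposition]
    (hE : (@Etale : MorphismProperty Scheme.{u}) ≤ P) {F G : Sp S} {f : F ⟶ G} (hf : RepWith P f) :
    LocP P f := by
  intro U V a b h ha hb e
  have sqW := hf.1.isPullback b
  let l : U ⟶ hf.1.pullback b := hf.1.lift a h e
  have hl : RepWith @Etale ((yon S).map l) := by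
    have sqP := IsPullback.of_hasPullback a (hf.1.fst b)
    obtain ⟨W', q, ι, hι, hq⟩ := exists_iso_yon_of_repWith @Etale
      (MorphismProperty.of_isPullback sqP ha)
    let s : (yon S).obj U ⟶ pullback a (hf.1.fst b) :=
      pullback.lift (𝟙 _) ((yon S).map l) (by simp [l])
    obtain ⟨s', hs'⟩ := (yon S).map_surjective (s ≫ ι.inv)
    have hl' : s' ≫ q = l := (yon S).map_injective (by
      rw [Functor.map_comp, hs', ← hι]; simp [s])
    have hq' : Etale q.left := hq
    obtain ⟨r, hr⟩ := (yon S).map_surjective (ι.hom ≫ pullback.fst a (hf.1.fst b))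
    have hr' : Etale r.left := by
      refine (repWith_yon_map_iff _ _).1 ?_
      rw [hr]
      refine (MorphismProperty.cancel_left_of_respectsIso _ _ _).2 ?_
      exact MorphismProperty.of_isPullback sqP.flip (etale_fst_of_pullback hb sqW)
    have hsr : s' ≫ r = 𝟙 U := (yon S).map_injective (by
      rw [Functor.map_comp, hs', hr]; simp [s])
    have : Etale (s'.left ≫ r.left) := by
      rw [← Over.comp_left, hsr, Over.id_left]; infer_instance
    have : Etale s'.left := MorphismProperty.of_postcomp (W := @Etale) (W' := @Etale) s'.left r.left hr' this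
    refine (repWith_yon_map_iff _ _).2 ?_
    rw [← hl', Over.comp_left]
    infer_instance
  have h1 : l ≫ hf.1.snd b = h := hf.1.lift_snd _ _ _
  rw [← h1, Over.comp_left]
  exact P.comp_mem _ _ (hE _ _ _ ((repWith_yon_map_iff _ _).1 hl)) (hf.2 _ _ _ sqW)

theorem locP_smooth_of_repWith {F : Sp S} {U : Over S} {f : F ⟶ (yon S).obj U}
    (hf : RepWith @Smooth f) : LocP @Smooth f :=
  locP_of_repWith (fun _ _ f hf => (have : Etale f := hf; inferInstance : Smooth f)) hf

theorem repWith_mono' {P Q : MorphismProperty Scheme.{u}} (h : P ≤ Q) {F G : Sp S} {f : F ⟶ G}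
    (hf : RepWith P f) : RepWith Q f :=
  ⟨hf.1, fun _ _ g fst snd sq => h _ (hf.2 g fst snd sq)⟩

instance isSurjectiveMor_respectsIso : (IsSurjectiveMor (S := S)).RespectsIso :=
  MorphismProperty.RespectsIso.mk _
    (fun {X Y Z} e f hf x => by
      obtain ⟨y, rfl⟩ := hf x
      exact ⟨Points.map e.inv y, by rw [← Points.map_comp, Iso.inv_hom_id_assoc]⟩)
    (fun {X Y Z} e f hf x => by
      obtain ⟨y, hy⟩ := hf (Points.map e.inv x)
      exact ⟨y, by rw [Points.map_comp, hy, ← Points.map_comp, Iso.inv_hom_id, Points.map_id]⟩)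

instance isEtaleMor_respectsIso : (IsEtaleMor (S := S)).RespectsIso :=
  MorphismProperty.RespectsIso.mk _
    (fun {X Y Z} e f hf U φ hφ => by
      rw [← Category.assoc]
      exact hf _ ((MorphismProperty.cancel_right_of_respectsIso _ _ _).2 hφ))
    (fun {X Y Z} e f hf U φ hφ => by
      rw [← Category.assoc]
      exact (MorphismProperty.cancel_right_of_respectsIso _ _ _).2 (hf φ hφ))

instance locP_respectsIso (P : MorphismProperty Scheme.{u}) : (LocP (S := S) P).RespectsIso :=
  MorphismProperty.RespectsIso.mk _
    (fun {X Y Z} e f hf U V a b h ha hb eq => hf (a ≫ e.hom) b h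
      ((MorphismProperty.cancel_right_of_respectsIso _ _ _).2 ha) hb (by rw [Category.assoc, eq]))
    (fun {X Y Z} e f hf U V a b h ha hb eq => hf a (b ≫ e.inv) h ha
      ((MorphismProperty.cancel_right_of_respectsIso _ _ _).2 hb) (by
        rw [← Category.assoc, ← eq, Category.assoc, Category.assoc, Iso.hom_inv_id, Category.comp_id]))

end Groth.Agent.StFib
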