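import Groth.Agent.StFib.Yoneda
import Mathlib.CategoryTheory.Limits.Types.Pullbacks
import Mathlib.CategoryTheory.Limits.FunctorCategory.Basic
import Mathlib.CategoryTheory.Limits.Shapes.Pullback.IsPullback.Basic

/-!
Functors between categories of presheaves, their fibre products, and the presheaf of a setoid.
-/

set_option backward.isDefEq.respectTransparency false
set_option backward.isDefEq.respectTransparency.types false

universe w v₃ u₃ v u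

open CategoryTheory CategoryTheory.Limits Opposite FibCat

namespace Groth.Agent.StFib

variable {C : Type u} [Category.{v} C] {P Q R : Cᵒᵖ ⥤ Type w}

theorem eltObj_map_eq {T T' : C} (g g' : T' ⟶ T) (h : g = g') (s : P.obj (op T)) :
    P.map g.op s = P.map g'.op s := by rw [h]

theorem psh_map_id (T : C) (s : P.obj (op T)) : P.map (𝟙 T).op s = s := by simp

theorem psh_map_map {X Y Z : C} (f : X ⟶ Y) (g : Y ⟶ Z) (x : P.obj (op Z)) :
    P.map f.op (P.map g.op x) = P.map (f ≫ g).op x := by simp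

theorem psh_map_eqToHom_cancel {X Y : C} (h : X = Y) (h' : Y = X) (x : P.obj (op X)) :
    P.map (eqToHom h).op (P.map (eqToHom h').op x) = x := by subst h; simp

/-- An isomorphism of elements lying over an equality. -/
def eltIso {a b : (Stk.ofPsh P).obj} (h : a.base = b.base)
    (hs : P.map (eqToHom h).op b.sec = a.sec) : a ≅ b where
  hom := ⟨eqToHom h, hs⟩
  inv := ⟨eqToHom h.symm, by rw [← hs]; exact psh_map_eqToHom_cancel _ _ _⟩
  hom_inv_id := Stk.EltObj.hom_ext (eqToHom_trans h h.symm)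
  inv_hom_id := Stk.EltObj.hom_ext (eqToHom_trans h.symm h)

theorem vert_eltIso {a b : (Stk.ofPsh P).obj} (h : a.base = b.base)
    (hs : P.map (eqToHom h).op b.sec = a.sec) : Vert (eltIso h hs).hom := ⟨h, rfl⟩

/-- The map of presheaves underlying a functor over `C` between their categories. -/
def pshMap (Φ : Stk.ofPsh P ⥤ᵇ Stk.ofPsh Q) : P ⟶ Q where
  app T := ↾fun s => Q.map (eqToHom (Φ.w_obj (⟨T.unop, s⟩ : (Stk.ofPsh P).obj)).symm).op
    (Φ.obj (⟨T.unop, s⟩ : (Stk.ofPsh P).obj)).sec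
  naturality T T' g := by
    ext s
    let a : (Stk.ofPsh P).obj := ⟨T'.unop, P.map g s⟩
    let b : (Stk.ofPsh P).obj := ⟨T.unop, s⟩
    let φ : a ⟶ b := ⟨g.unop, rfl⟩
    have h1 : (Φ.map φ).hom = eqToHom (Φ.w_obj a) ≫ g.unop ≫ eqToHom (Φ.w_obj b).symm :=
      w_map Φ φ
    have h2 := (Φ.map φ).map_sec
    change Q.map (eqToHom (Φ.w_obj a).symm).op (Φ.obj a).sec =
      Q.map g (Q.map (eqToHom (Φ.w_obj b).symm).op (Φ.obj b).sec)
    rw [← h2, h1]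
    refine (psh_map_map (P := Q) _ _ _).trans ?_
    refine Eq.trans ?_ (psh_map_map (P := Q) g.unop (eqToHom (Φ.w_obj b).symm) _).symm
    exact eltObj_map_eq _ _ (by simp) _

theorem pshMap_app (Φ : Stk.ofPsh P ⥤ᵇ Stk.ofPsh Q) (a : (Stk.ofPsh P).obj) :
    (pshMap Φ).app (op a.base) a.sec = Q.map (eqToHom (Φ.w_obj a).symm).op (Φ.obj a).sec := rfl

theorem exists_iso_pshMap (Φ : Stk.ofPsh P ⥤ᵇ Stk.ofPsh Q) :
    Nonempty (Φ ≅ Stk.ofPshMap (pshMap Φ)) := by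
  refine ⟨isoMk (F := Φ) (G := Stk.ofPshMap (pshMap Φ))
    (fun a => eltIso (Φ.w_obj a) (psh_map_eqToHom_cancel _ _ _))
    (fun a => vert_eltIso _ _) (fun {a b} φ => Stk.EltObj.hom_ext ?_)⟩
  · change (Φ.map φ).hom ≫ eqToHom (Φ.w_obj b) = eqToHom (Φ.w_obj a) ≫ φ.hom
    have h1 : (Φ.map φ).hom = eqToHom (Φ.w_obj a) ≫ φ.hom ≫ eqToHom (Φ.w_obj b).symm :=
      w_map Φ φ
    simp [h1]

theorem pshMap_congr {Φ Ψ : Stk.ofPsh P ⥤ᵇ Stk.ofPsh Q} (e : Φ ≅ Ψ) : pshMap Φ = pshMap Ψ := by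
  ext T s
  let a : (Stk.ofPsh P).obj := ⟨T.unop, s⟩
  obtain ⟨h, hv⟩ := vert_isoApp e a
  have h2 := (isoApp e a).hom.map_sec
  have hv' : (isoApp e a).hom.hom = eqToHom h := hv
  change Q.map (eqToHom (Φ.w_obj a).symm).op (Φ.obj a).sec =
    Q.map (eqToHom (Ψ.w_obj a).symm).op (Ψ.obj a).sec
  rw [← h2, hv']
  exact (psh_map_map (P := Q) _ _ _).trans (eltObj_map_eq _ _ (eqToHom_trans _ _) _)

@[simp]
theorem pshMap_ofPshMap (φ : P ⟶ Q) : pshMap (Stk.ofPshMap φ) = φ := by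
  ext T s
  exact psh_map_id _ _

@[simp]
theorem pshMap_id : pshMap (BasedFunctor.id (Stk.ofPsh P)) = 𝟙 P := by
  ext T s
  exact psh_map_id _ _

theorem ofPshMap_comp (φ : P ⟶ Q) (ψ : Q ⟶ R) :
    Nonempty (BasedFunctor.comp (Stk.ofPshMap φ) (Stk.ofPshMap ψ) ≅ Stk.ofPshMap (φ ≫ ψ)) :=
  ⟨Iso.refl _⟩

theorem pshMap_comp (Φ : Stk.ofPsh P ⥤ᵇ Stk.ofPsh Q) (Ψ : Stk.ofPsh Q ⥤ᵇ Stk.ofPsh R) :
    pshMap (BasedFunctor.comp Φ Ψ) = pshMap Φ ≫ pshMap Ψ := by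
  obtain ⟨i⟩ := exists_iso_pshMap Φ
  obtain ⟨j⟩ := exists_iso_pshMap Ψ
  obtain ⟨k⟩ := ofPshMap_comp (pshMap Φ) (pshMap Ψ)
  rw [pshMap_congr (isoWhiskerRight i Ψ ≪≫ isoWhiskerLeft _ j ≪≫ k), pshMap_ofPshMap]

theorem isIso_pshMap {Φ : Stk.ofPsh P ⥤ᵇ Stk.ofPsh Q} (h : IsEquivOver Φ) : IsIso (pshMap Φ) := by
  obtain ⟨G, ⟨a⟩, ⟨b⟩⟩ := h
  have h1 := (pshMap_congr a).trans pshMap_id
  have h2 := (pshMap_congr b).trans pshMap_id
  rw [pshMap_comp] at h1 h2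
  exact ⟨⟨pshMap G, h1, h2⟩⟩

section Pullback

variable {F' F H G : Cᵒᵖ ⥤ Type w} {a : F ⟶ G} {ξ : H ⟶ G} {fst : F' ⟶ H} {snd : F' ⟶ F}

/-- The 2-isomorphism of a commutative square of presheaves. -/
def pshSqIso (h : fst ≫ ξ = snd ≫ a) :
    BasedFunctor.comp (Stk.ofPshMap fst) (Stk.ofPshMap ξ) ≅
      BasedFunctor.comp (Stk.ofPshMap snd) (Stk.ofPshMap a) :=
  isoMk (fun z =>
    { hom := ⟨𝟙 _, by
        refine (psh_map_id _ _).trans ?_
        exact (congr_arg (fun m => m z.sec) (congr_app h (op z.base))).symm⟩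
      inv := ⟨𝟙 _, by
        refine (psh_map_id _ _).trans ?_
        exact (congr_arg (fun m => m z.sec) (congr_app h (op z.base)))⟩
      hom_inv_id := Stk.EltObj.hom_ext (Category.comp_id _)
      inv_hom_id := Stk.EltObj.hom_ext (Category.comp_id _) })
    (fun z => ⟨rfl, rfl⟩)
    (fun φ => Stk.EltObj.hom_ext ((Category.comp_id _).trans (Category.id_comp _).symm))

/-- The category of a fibre product of presheaves is the 2-fibre product of their categories. -/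
theorem pshSq_cart (sq : IsPullback fst snd ξ a) :
    IsEquivOver (fpLift (Stk.ofPshMap fst) (Stk.ofPshMap snd) (pshSqIso sq.w)) := by
  have sqT : ∀ T : C, IsPullback (fst.app (op T)) (snd.app (op T)) (ξ.app (op T)) (a.app (op T)) :=
    fun T => IsPullback.map ((evaluation _ _).obj (op T)) sq
  have : (fpLift (Stk.ofPshMap fst) (Stk.ofPshMap snd) (pshSqIso sq.w)).toFunctor.Faithful :=
    ⟨fun {w w'} φ ψ h => Stk.EltObj.hom_ext (congrArg (fun k => k.hom.fst.hom) h)⟩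
  have : (fpLift (Stk.ofPshMap fst) (Stk.ofPshMap snd) (pshSqIso sq.w)).toFunctor.Full := ⟨fun {w w'} k => by
    let g : w.base ⟶ w'.base := k.hom.fst.hom
    have hb : g ≫ 𝟙 _ = 𝟙 _ ≫ k.hom.snd.hom := congrArg Stk.EltObj.Hom.hom k.hom.w
    have hb' : g = k.hom.snd.hom := by simpa using hb
    have hsec : F'.map g.op w'.sec = w.sec := by
      apply Types.ext_of_isPullback (sqT w.base)
      · exact ((congrArg (fun m => m w'.sec) (fst.naturality g.op))).trans k.hom.fst.map_sec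
      · refine ((congrArg (fun m => m w'.sec) (snd.naturality g.op))).trans ?_
        refine Eq.trans ?_ k.hom.snd.map_sec
        exact eltObj_map_eq (P := F) g k.hom.snd.hom hb' (snd.app (op w'.base) w'.sec)
    exact ⟨⟨g, hsec⟩, fp_hom_ext (Stk.EltObj.hom_ext rfl) (Stk.EltObj.hom_ext hb')⟩⟩
  refine isEquivOver_mk _ fun z => ?_
  obtain ⟨e, he⟩ := vert_fp_iso z
  have he' : z.obj.iso.hom.hom = eqToHom e := he
  have hz := z.obj.iso.hom.map_sec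
  rw [he'] at hz
  obtain ⟨w, hw1, hw2⟩ := Types.exists_of_isPullback (sqT z.obj.fst.base) z.obj.fst.sec
    (F.map (eqToHom (fp_base_eq z)).op z.obj.snd.sec) (by
      refine Eq.trans ?_ (congrArg (fun m => m z.obj.snd.sec)
        (a.naturality (eqToHom (fp_base_eq z)).op)).symm
      exact hz.symm)
  refine ⟨⟨z.obj.fst.base, w⟩, fpIsoMk
    (eltIso rfl ((psh_map_id _ _).trans hw1.symm))
    (eltIso (fp_base_eq z) hw2.symm)
    (Stk.EltObj.hom_ext ?_), ⟨rfl, rfl⟩⟩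
  change 𝟙 _ ≫ z.obj.iso.hom.hom = 𝟙 _ ≫ eqToHom (fp_base_eq z)
  rw [he']
  rfl

end Pullback

section Setoid

variable {𝒳 : BasedCategory.{v₃, w} C}

/-- Isomorphism classes over identities. -/
def fibreRel (𝒳 : BasedCategory.{v₃, w} C) (T : C) (a b : {x : 𝒳.obj // 𝒳.p.obj x = T}) : Prop :=
  ∃ i : a.1 ≅ b.1, Vert i.hom

theorem fibreRel_equiv (𝒳 : BasedCategory.{v₃, w} C) (T : C) :
    _root_.Equivalence (fibreRel 𝒳 T) :=
  ⟨fun a => ⟨Iso.refl _, Vert.id _⟩, fun ⟨i, hi⟩ => ⟨i.symm, hi.inv⟩,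
    fun ⟨i, hi⟩ ⟨j, hj⟩ => ⟨i ≪≫ j, hi.comp hj⟩⟩

theorem quot_eq_iff {T : C} {a b : {x : 𝒳.obj // 𝒳.p.obj x = T}} :
    Quot.mk (fibreRel 𝒳 T) a = Quot.mk _ b ↔ fibreRel 𝒳 T a b :=
  ⟨fun h => (fibreRel_equiv 𝒳 T).eqvGen_iff.1 (Quot.eqvGen_exact h), Quot.sound⟩

/-- Pullback of objects along a morphism of the base. -/
noncomputable def pullObj (h : IsFibGrpd 𝒳.p) {T T' : C} (g : T' ⟶ T)
    (a : {x : 𝒳.obj // 𝒳.p.obj x = T}) : {x : 𝒳.obj // 𝒳.p.obj x = T'} :=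
  ⟨(grpd_exists_lift h a.1 (g ≫ eqToHom a.2.symm)).choose,
    (grpd_exists_lift h a.1 (g ≫ eqToHom a.2.symm)).choose_spec.choose⟩

theorem pullObj_spec (h : IsFibGrpd 𝒳.p) {T T' : C} (g : T' ⟶ T)
    (a : {x : 𝒳.obj // 𝒳.p.obj x = T}) : ∃ φ : (pullObj h g a).1 ⟶ a.1,
      𝒳.p.map φ = eqToHom (pullObj h g a).2 ≫ g ≫ eqToHom a.2.symm :=
  (grpd_exists_lift h a.1 (g ≫ eqToHom a.2.symm)).choose_spec.choose_spec

theorem mk_pullObj_eq (h : IsFibGrpd 𝒳.p) {T T' : C} (g : T' ⟶ T)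
    (a : {x : 𝒳.obj // 𝒳.p.obj x = T}) (b : {x : 𝒳.obj // 𝒳.p.obj x = T'}) (ψ : b.1 ⟶ a.1)
    (hψ : 𝒳.p.map ψ = eqToHom b.2 ≫ g ≫ eqToHom a.2.symm) :
    Quot.mk (fibreRel 𝒳 T') (pullObj h g a) = Quot.mk _ b := by
  obtain ⟨φ, hφ⟩ := pullObj_spec h g a
  obtain ⟨χ, hχ, -⟩ := grpd_exists_vert_fac h ψ φ ((pullObj h g a).2.trans b.2.symm)
    (by simp [hφ, hψ])
  exact Quot.sound ⟨χ, hχ⟩

/-- The presheaf of isomorphism classes of objects. -/
noncomputable def classPsh (𝒳 : BasedCategory.{v₃, w} C) (h : IsFibGrpd 𝒳.p) : Cᵒᵖ ⥤ Type w where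
  obj T := Quot (fibreRel 𝒳 T.unop)
  map {T T'} g := ↾Quot.lift (fun a => Quot.mk _ (pullObj h g.unop a)) (fun a b hab => by
    obtain ⟨i, hi⟩ := hab
    obtain ⟨φ, hφ⟩ := pullObj_spec h g.unop a
    exact (mk_pullObj_eq h g.unop b (pullObj h g.unop a) (φ ≫ i.hom) (by simp [hφ, hi.2])).symm)
  map_id T := by
    ext x
    induction x using Quot.ind with
    | _ a => exact mk_pullObj_eq h _ a a (𝟙 _) (by simp)
  map_comp {T T' T''} g g' := by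
    ext x
    induction x using Quot.ind with
    | _ a =>
      obtain ⟨φ, hφ⟩ := pullObj_spec h g.unop a
      obtain ⟨φ', hφ'⟩ := pullObj_spec h g'.unop (pullObj h g.unop a)
      exact mk_pullObj_eq h _ a _ (φ' ≫ φ) (by simp [hφ, hφ'])

/-- The comparison functor to the category of the presheaf of isomorphism classes. -/
noncomputable def toClassPsh (h : IsFibGrpd 𝒳.p) : 𝒳 ⥤ᵇ Stk.ofPsh (classPsh 𝒳 h) where
  toFunctor :=
    { obj := fun x => ⟨𝒳.p.obj x, Quot.mk _ ⟨x, rfl⟩⟩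
      map := fun {x y} φ => ⟨𝒳.p.map φ, mk_pullObj_eq h _ _ _ φ (by simp)⟩
      map_id := fun x => Stk.EltObj.hom_ext (𝒳.p.map_id x)
      map_comp := fun φ ψ => Stk.EltObj.hom_ext (𝒳.p.map_comp φ ψ) }
  w := rfl

theorem toClassPsh_isEquivOver (h : IsFibSetoid 𝒳.p) : IsEquivOver (toClassPsh h.1) := by
  have : (toClassPsh h.1).toFunctor.Faithful := ⟨fun {x y} φ ψ e => by
    have hp : 𝒳.p.map φ = 𝒳.p.map ψ := congrArg Stk.EltObj.Hom.hom e
    obtain ⟨χ, h1, h2⟩ := grpd_exists_fac h.1 φ ψ (𝟙 _) (by simpa using hp)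
    have : χ = 𝟙 x := vert_unique_of_isFibSetoid h ⟨rfl, h1⟩ (Vert.id x)
    rwa [this, Category.id_comp] at h2⟩
  have : (toClassPsh h.1).toFunctor.Full := ⟨fun {x y} k => by
    have hk : Quot.mk (fibreRel 𝒳 (𝒳.p.obj x)) (pullObj h.1 k.hom ⟨y, rfl⟩) =
        Quot.mk _ (⟨x, rfl⟩ : {z : 𝒳.obj // 𝒳.p.obj z = 𝒳.p.obj x}) := k.map_sec
    obtain ⟨i, hi⟩ := quot_eq_iff.1 hk
    obtain ⟨φ, hφ⟩ := pullObj_spec h.1 (k.hom : 𝒳.p.obj x ⟶ 𝒳.p.obj y)
      (⟨y, rfl⟩ : {z : 𝒳.obj // 𝒳.p.obj z = 𝒳.p.obj y})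
    refine ⟨i.inv ≫ φ, Stk.EltObj.hom_ext ?_⟩
    change 𝒳.p.map (i.inv ≫ φ) = k.hom
    simp [hφ, hi.inv.2]⟩
  refine isEquivOver_mk _ fun y => ?_
  obtain ⟨a, ha⟩ := Quot.exists_rep y.sec
  refine ⟨a.1, eltIso a.2 ?_, vert_eltIso _ _⟩
  rw [← ha]
  exact mk_pullObj_eq h.1 _ a ⟨a.1, rfl⟩ (𝟙 _) (by simp)

end Setoid

end Groth.Agent.StFib
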