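import Groth.Agent.StFib.Fp

/-!
2-cartesian squares over a base category and base change.
-/

set_option backward.isDefEq.respectTransparency false
set_option backward.isDefEq.respectTransparency.types false

universe v₇ u₇ v₆ u₆ v₅ u₅ v₄ u₄ v₃ u₃ v₂ u₂ v u

open CategoryTheory CategoryTheory.Limits FibCat

namespace Groth.Agent.StFib

variable {C : Type u} [Category.{v} C]
variable {𝒳 : BasedCategory.{v₂, u₂} C} {𝒴 : BasedCategory.{v₃, u₃} C} {𝒵 : BasedCategory.{v₄, u₄} C}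
  {𝒲 : BasedCategory.{v₅, u₅} C} {𝒱 : BasedCategory.{v₆, u₆} C}

/-- Two fibre products over 2-isomorphic legs are equivalent, compatibly with the first projections. -/
theorem exists_fp_congr {F F' : 𝒳 ⥤ᵇ 𝒵} {G G' : 𝒴 ⥤ᵇ 𝒵} (eF : F' ≅ F) (eG : G' ≅ G) :
    ∃ E : fp F G ⥤ᵇ fp F' G', IsEquivOver E ∧
      Nonempty (BasedFunctor.comp E (fpFst F' G') ≅ fpFst F G) ∧
      Nonempty (BasedFunctor.comp E (fpSnd F' G') ≅ fpSnd F G) := by
  have : (BasedFunctor.id 𝒵).toFunctor.Full := inferInstanceAs (𝟭 𝒵.obj).Full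
  have : (BasedFunctor.id 𝒵).toFunctor.Faithful := inferInstanceAs (𝟭 𝒵.obj).Faithful
  exact ⟨fpMap (F := F') (G := G') (F' := F) (G' := G) (BasedFunctor.id 𝒳) (BasedFunctor.id 𝒴)
      (BasedFunctor.id 𝒵) eF eG,
    fpMap_isEquivOver (F := F') (G := G') (F' := F) (G' := G) (BasedFunctor.id 𝒳) (BasedFunctor.id 𝒴)
      (BasedFunctor.id 𝒵) eF eG (isEquivOver_id _) (isEquivOver_id _),
    ⟨Iso.refl _⟩, ⟨Iso.refl _⟩⟩

variable {f : 𝒳 ⥤ᵇ 𝒴} {g : 𝒵 ⥤ᵇ 𝒴} (T : 𝒲 ⥤ᵇ 𝒵) (L : 𝒲 ⥤ᵇ 𝒳)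
  (e : BasedFunctor.comp T g ≅ BasedFunctor.comp L f)

/-- Base change of the left leg of a 2-cartesian square is base change of the right leg. -/
theorem exists_fp_of_cart (h : IsEquivOver (fpLift T L e)) (y : 𝒱 ⥤ᵇ 𝒵) :
    ∃ E : fp y T ⥤ᵇ fp (BasedFunctor.comp y g) f, IsEquivOver E ∧
      Nonempty (BasedFunctor.comp E (fpFst (BasedFunctor.comp y g) f) ≅ fpFst y T) ∧
      Nonempty (BasedFunctor.comp E (fpSnd (BasedFunctor.comp y g) f) ≅
        BasedFunctor.comp (fpSnd y T) L) := by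
  have : (BasedFunctor.id 𝒵).toFunctor.Full := inferInstanceAs (𝟭 𝒵.obj).Full
  have : (BasedFunctor.id 𝒵).toFunctor.Faithful := inferInstanceAs (𝟭 𝒵.obj).Faithful
  let M : fp y T ⥤ᵇ fp y (fpFst g f) :=
    fpMap (F := y) (G := fpFst g f) (BasedFunctor.id 𝒱) (fpLift T L e) (BasedFunctor.id 𝒵)
      (Iso.refl _) (Iso.refl _)
  exact ⟨BasedFunctor.comp M (fpPaste g f y),
    isEquivOver_comp (fpMap_isEquivOver _ _ _ _ _ (isEquivOver_id _) h)
      (fpPaste_isEquivOver g f y), ⟨Iso.refl _⟩, ⟨Iso.refl _⟩⟩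

/-- The square of a 2-fibre product is 2-cartesian. -/
theorem fpLift_self_isEquivOver (g : 𝒵 ⥤ᵇ 𝒴) (f : 𝒳 ⥤ᵇ 𝒴) :
    IsEquivOver (fpLift (fpFst g f) (fpSnd g f) (fpIso g f)) :=
  isEquivOver_of_iso (isEquivOver_id _)
    (isoMk (fun x => fpIsoMk (Iso.refl _) (Iso.refl _) (by
      change g.map (𝟙 _) ≫ _ = _ ≫ f.map (𝟙 _)
      simp
      rfl))
      (fun x => Vert.id _)
      (fun φ => fp_hom_ext ((Category.comp_id _).trans (Category.id_comp _).symm)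
        ((Category.comp_id _).trans (Category.id_comp _).symm)))

end Groth.Agent.StFib
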