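import Groth.Prelude.Def_AlgSt2
import Groth.Agent.StFib.Square

/-!
Transport of representability by algebraic spaces along equivalences and 2-cartesian squares.
-/

set_option backward.isDefEq.respectTransparency false
set_option backward.isDefEq.respectTransparency.types false

universe w₆ t₆ w₅ t₅ w₄ t₄ w₃ t₃ w₂ t₂ u

open CategoryTheory CategoryTheory.Limits AlgebraicGeometry Opposite

namespace Groth.Agent.StFib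

variable {S : Scheme.{u}}
variable {𝒳 : BasedCategory.{w₂, t₂} (Over S)} {𝒴 : BasedCategory.{w₃, t₃} (Over S)}
  {𝒵 : BasedCategory.{w₄, t₄} (Over S)} {𝒲 : BasedCategory.{w₅, t₅} (Over S)}

theorem repByAlgSp_of_equiv {E : 𝒳 ⥤ᵇ 𝒴} (hE : FibCat.IsEquivOver E) (h : AlgSt.RepByAlgSp 𝒳) :
    AlgSt.RepByAlgSp 𝒴 := by
  obtain ⟨F, e, he⟩ := h
  exact ⟨F, BasedFunctor.comp e E, isEquivOver_comp he hE⟩

theorem repByAlgSp_iff_of_equiv {E : 𝒳 ⥤ᵇ 𝒴} (hE : FibCat.IsEquivOver E) :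
    AlgSt.RepByAlgSp 𝒳 ↔ AlgSt.RepByAlgSp 𝒴 := by
  obtain ⟨E', hE', -, -⟩ := isEquivOver_symm hE
  exact ⟨repByAlgSp_of_equiv hE, repByAlgSp_of_equiv hE'⟩

theorem secHom_congr {F : AlgSp.Sp S} {U : Over S} {Φ Ψ : AlgSt.ofSp F ⥤ᵇ FibCat.overCat U}
    (e : Φ ≅ Ψ) (a : (AlgSt.ofSp F).obj) : AlgSt.secHom Φ a = AlgSt.secHom Ψ a := by
  obtain ⟨h, hv⟩ := vert_isoApp e a
  have hv' : (isoApp e a).hom.left = eqToHom h := hv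
  have hw := Over.w (isoApp e a).hom
  unfold AlgSt.secHom
  rw [← hw, hv', eqToHom_trans_assoc]

theorem spMapOfOver_congr {F : AlgSp.Sp S} {U : Over S} {Φ Ψ : AlgSt.ofSp F ⥤ᵇ FibCat.overCat U}
    (e : Φ ≅ Ψ) : AlgSt.spMapOfOver Φ = AlgSt.spMapOfOver Ψ := by
  apply ObjectProperty.hom_ext
  ext T x
  exact congrArg ULift.up (secHom_congr e ⟨T.unop, x⟩)

/-- "Representable with `P`" only depends on each base change up to equivalence over the scheme. -/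
theorem repByAlgSpWith_of_forall (P : MorphismProperty (AlgSp.Sp S)) {f : 𝒳 ⥤ᵇ 𝒴} {f' : 𝒲 ⥤ᵇ 𝒵}
    (hf : AlgSt.RepByAlgSpWith P f)
    (H : ∀ (U : Over S) (y : FibCat.overCat U ⥤ᵇ 𝒵), ∃ (y' : FibCat.overCat U ⥤ᵇ 𝒴)
      (E : FibCat.fp y f' ⥤ᵇ FibCat.fp y' f), FibCat.IsEquivOver E ∧
        Nonempty (BasedFunctor.comp E (FibCat.fpFst y' f) ≅ FibCat.fpFst y f')) :
    AlgSt.RepByAlgSpWith P f' := by
  intro U y
  obtain ⟨y', E, hE, ⟨i⟩⟩ := H U y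
  obtain ⟨F, e, he, hP⟩ := hf U y'
  obtain ⟨E', hE', -, ⟨j⟩⟩ := isEquivOver_symm hE
  refine ⟨F, BasedFunctor.comp e E', isEquivOver_comp he hE', ?_⟩
  have h2 := spMapOfOver_congr (F := F.obj) (isoWhiskerLeft e (isoWhiskerLeft E' i.symm ≪≫
    isoWhiskerRight j (FibCat.fpFst y' f)))
  exact h2.symm ▸ hP

theorem repByAlgSp1_of_forall {f : 𝒳 ⥤ᵇ 𝒴} {f' : 𝒲 ⥤ᵇ 𝒵} (hf : AlgSt.RepByAlgSp1 f)
    (H : ∀ (U : Over S) (y : FibCat.overCat U ⥤ᵇ 𝒵), ∃ (y' : FibCat.overCat U ⥤ᵇ 𝒴)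
      (E : FibCat.fp y f' ⥤ᵇ FibCat.fp y' f), FibCat.IsEquivOver E) :
    AlgSt.RepByAlgSp1 f' := by
  intro U y
  obtain ⟨y', E, hE⟩ := H U y
  exact (repByAlgSp_iff_of_equiv hE).2 (hf U y')

theorem repByAlgSp1_of_with {P : MorphismProperty (AlgSp.Sp S)} {f : 𝒳 ⥤ᵇ 𝒴}
    (hf : AlgSt.RepByAlgSpWith P f) : AlgSt.RepByAlgSp1 f := fun U y => by
  obtain ⟨F, e, he, -⟩ := hf U y
  exact ⟨F, e, he⟩

theorem repByAlgSp1_iff_with_top {f : 𝒳 ⥤ᵇ 𝒴} :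
    AlgSt.RepByAlgSp1 f ↔ AlgSt.RepByAlgSpWith (⊤ : MorphismProperty (AlgSp.Sp S)) f :=
  ⟨fun hf U y => by
    obtain ⟨F, e, he⟩ := hf U y
    exact ⟨F, e, he, trivial⟩, repByAlgSp1_of_with⟩

theorem repByAlgSpWith_mono {P Q : MorphismProperty (AlgSp.Sp S)} {f : 𝒳 ⥤ᵇ 𝒴}
    (hf : AlgSt.RepByAlgSpWith P f)
    (h : ∀ (F : AlgSp.Space S) (U : Over S) (a : F.obj ⟶ (AlgSp.yon S).obj U), P a → Q a) :
    AlgSt.RepByAlgSpWith Q f := fun U y => by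
  obtain ⟨F, e, he, hP⟩ := hf U y
  exact ⟨F, e, he, h F U _ hP⟩

theorem repByAlgSpWith_of_cart (P : MorphismProperty (AlgSp.Sp S)) {f : 𝒳 ⥤ᵇ 𝒴} {g : 𝒵 ⥤ᵇ 𝒴}
    (T : 𝒲 ⥤ᵇ 𝒵) (L : 𝒲 ⥤ᵇ 𝒳) (e : BasedFunctor.comp T g ≅ BasedFunctor.comp L f)
    (h : FibCat.IsEquivOver (FibCat.fpLift T L e)) (hf : AlgSt.RepByAlgSpWith P f) :
    AlgSt.RepByAlgSpWith P T :=
  repByAlgSpWith_of_forall P hf fun _ y => by
    obtain ⟨E, hE, hi, -⟩ := exists_fp_of_cart T L e h y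
    exact ⟨BasedFunctor.comp y g, E, hE, hi⟩

theorem repByAlgSp1_of_cart {f : 𝒳 ⥤ᵇ 𝒴} {g : 𝒵 ⥤ᵇ 𝒴}
    (T : 𝒲 ⥤ᵇ 𝒵) (L : 𝒲 ⥤ᵇ 𝒳) (e : BasedFunctor.comp T g ≅ BasedFunctor.comp L f)
    (h : FibCat.IsEquivOver (FibCat.fpLift T L e)) (hf : AlgSt.RepByAlgSp1 f) :
    AlgSt.RepByAlgSp1 T :=
  repByAlgSp1_iff_with_top.2 (repByAlgSpWith_of_cart _ T L e h (repByAlgSp1_iff_with_top.1 hf))

theorem repByAlgSpWith_fpFst (P : MorphismProperty (AlgSp.Sp S)) {f : 𝒳 ⥤ᵇ 𝒴} (g : 𝒵 ⥤ᵇ 𝒴)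
    (hf : AlgSt.RepByAlgSpWith P f) : AlgSt.RepByAlgSpWith P (FibCat.fpFst g f) :=
  repByAlgSpWith_of_cart P _ _ _ (fpLift_self_isEquivOver g f) hf

theorem repByAlgSpWith_of_iso (P : MorphismProperty (AlgSp.Sp S)) {f f' : 𝒳 ⥤ᵇ 𝒴} (i : f ≅ f')
    (hf : AlgSt.RepByAlgSpWith P f) : AlgSt.RepByAlgSpWith P f' :=
  repByAlgSpWith_of_forall P hf fun _ y => by
    obtain ⟨E, hE, hi, -⟩ := exists_fp_congr (Iso.refl y) i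
    exact ⟨y, E, hE, hi⟩

theorem repByAlgSpWith_fpSnd (P : MorphismProperty (AlgSp.Sp S)) {f : 𝒳 ⥤ᵇ 𝒴} (g : 𝒵 ⥤ᵇ 𝒴)
    (hg : AlgSt.RepByAlgSpWith P g) : AlgSt.RepByAlgSpWith P (FibCat.fpSnd g f) :=
  repByAlgSpWith_of_cart P _ _ _
    (isEquivOver_of_iso (fpSwap_isEquivOver g f) (Iso.refl _)) hg

/-- An equivalence over a common leg has an inverse over that leg. -/
theorem exists_inv_over {F : 𝒳 ⥤ᵇ 𝒵} {G : 𝒴 ⥤ᵇ 𝒵} {E : 𝒳 ⥤ᵇ 𝒴} (hE : FibCat.IsEquivOver E)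
    (i : BasedFunctor.comp E G ≅ F) :
    ∃ E' : 𝒴 ⥤ᵇ 𝒳, FibCat.IsEquivOver E' ∧ Nonempty (BasedFunctor.comp E' F ≅ G) := by
  obtain ⟨E', hE', -, ⟨j⟩⟩ := isEquivOver_symm hE
  exact ⟨E', hE', ⟨isoWhiskerLeft E' i.symm ≪≫ isoWhiskerRight j G⟩⟩

/-- "Representable with `P`" is invariant under equivalences of source and target. -/
theorem repByAlgSpWith_iff_of_equiv (P : MorphismProperty (AlgSp.Sp S)) {f : 𝒳 ⥤ᵇ 𝒴} {f' : 𝒲 ⥤ᵇ 𝒵}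
    (a : 𝒲 ⥤ᵇ 𝒳) (b : 𝒵 ⥤ᵇ 𝒴) (ha : FibCat.IsEquivOver a) (hb : FibCat.IsEquivOver b)
    (e : BasedFunctor.comp f' b ≅ BasedFunctor.comp a f) :
    AlgSt.RepByAlgSpWith P f ↔ AlgSt.RepByAlgSpWith P f' := by
  have := full_of_isEquivOver hb
  have := faithful_of_isEquivOver hb
  have key : ∀ (U : Over S) (y : FibCat.overCat U ⥤ᵇ 𝒵),
      ∃ E : FibCat.fp y f' ⥤ᵇ FibCat.fp (BasedFunctor.comp y b) f, FibCat.IsEquivOver E ∧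
        Nonempty (BasedFunctor.comp E (FibCat.fpFst (BasedFunctor.comp y b) f) ≅
          FibCat.fpFst y f') := fun U y =>
    ⟨fpMap (F := BasedFunctor.comp y b) (G := f) (F' := y) (G' := f')
      (BasedFunctor.id (FibCat.overCat U)) a b (Iso.refl _) e.symm,
      fpMap_isEquivOver (F := BasedFunctor.comp y b) (G := f) (F' := y) (G' := f') _ _ _ _ _
        (isEquivOver_id _) ha, ⟨Iso.refl _⟩⟩
  refine ⟨fun hf => repByAlgSpWith_of_forall P hf fun U y => ?_,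
    fun hf' => repByAlgSpWith_of_forall P hf' fun U y => ?_⟩
  · obtain ⟨E, hE, hi⟩ := key U y
    exact ⟨_, E, hE, hi⟩
  · obtain ⟨b', -, -, ⟨j⟩⟩ := isEquivOver_symm hb
    obtain ⟨E, hE, ⟨i⟩⟩ := key U (BasedFunctor.comp y b')
    obtain ⟨E₂, hE₂, ⟨i₂⟩, -⟩ := exists_fp_congr
      (F := BasedFunctor.comp (BasedFunctor.comp y b') b) (F' := y) (G := f) (G' := f)
      (isoWhiskerLeft y j).symm (Iso.refl f)
    obtain ⟨E', hE', ⟨i'⟩⟩ := exists_inv_over (F := FibCat.fpFst (BasedFunctor.comp y b') f')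
      (G := FibCat.fpFst y f) (isEquivOver_comp hE hE₂) ((isoWhiskerLeft E i₂).trans i)
    exact ⟨_, E', hE', ⟨i'⟩⟩

end Groth.Agent.StFib
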