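import Groth.Agent.StFib.Grpd

/-!
The 2-fibre product over a base category: vertical isomorphisms, fibredness, congruence, pasting.
-/

set_option backward.isDefEq.respectTransparency false
set_option backward.isDefEq.respectTransparency.types false

universe v₇ u₇ v₆ u₆ v₅ u₅ v₄ u₄ v₃ u₃ v₂ u₂ v u

open CategoryTheory CategoryTheory.Limits FibCat

namespace Groth.Agent.StFib

variable {C : Type u} [Category.{v} C]
variable {𝒳 : BasedCategory.{v₂, u₂} C} {𝒴 : BasedCategory.{v₃, u₃} C} {𝒮 : BasedCategory.{v₄, u₄} C}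
variable {F : 𝒳 ⥤ᵇ 𝒮} {G : 𝒴 ⥤ᵇ 𝒮}

theorem vert_fp_iso (x : (fp F G).obj) : Vert x.obj.iso.hom :=
  vert_of_isHomLift x.property

theorem fp_base_eq (x : (fp F G).obj) : 𝒳.p.obj x.obj.fst = 𝒴.p.obj x.obj.snd :=
  (F.w_obj _).symm.trans ((vert_fp_iso x).base_eq.trans (G.w_obj _))

/-- Constructor for objects of the 2-fibre product. -/
def fpMk (a : 𝒳.obj) (b : 𝒴.obj) (i : F.obj a ≅ G.obj b) (hi : Vert i.hom) : (fp F G).obj :=
  ⟨⟨a, b, i⟩, hi.isHomLift (F.w_obj a)⟩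

/-- Constructor for morphisms of the 2-fibre product. -/
def fpHom {x y : (fp F G).obj} (a : x.obj.fst ⟶ y.obj.fst) (b : x.obj.snd ⟶ y.obj.snd)
    (w : F.map a ≫ y.obj.iso.hom = x.obj.iso.hom ≫ G.map b) : x ⟶ y :=
  ObjectProperty.homMk ⟨a, b, w⟩

/-- Constructor for isomorphisms of the 2-fibre product. -/
def fpIsoMk {x y : (fp F G).obj} (a : x.obj.fst ≅ y.obj.fst) (b : x.obj.snd ≅ y.obj.snd)
    (w : F.map a.hom ≫ y.obj.iso.hom = x.obj.iso.hom ≫ G.map b.hom) : x ≅ y where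
  hom := fpHom a.hom b.hom w
  inv := fpHom a.inv b.inv (by
    rw [← cancel_epi (F.map a.hom), ← Functor.map_comp_assoc, a.hom_inv_id, ← Category.assoc,
      Functor.map_id, Category.id_comp, w, Category.assoc, ← Functor.map_comp, b.hom_inv_id,
      Functor.map_id, Category.comp_id])
  hom_inv_id := by
    apply ObjectProperty.hom_ext; apply CategoricalPullback.hom_ext <;> simp [fpHom]
  inv_hom_id := by
    apply ObjectProperty.hom_ext; apply CategoricalPullback.hom_ext <;> simp [fpHom]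

theorem fp_hom_ext {x y : (fp F G).obj} {f g : x ⟶ y} (h₁ : f.hom.fst = g.hom.fst)
    (h₂ : f.hom.snd = g.hom.snd) : f = g :=
  ObjectProperty.hom_ext _ (CategoricalPullback.hom_ext h₁ h₂)

/-- The two components of a morphism of the fibre product as isomorphisms. -/
def fpIsoFst {x y : (fp F G).obj} (f : x ≅ y) : x.obj.fst ≅ y.obj.fst :=
  (fpFst F G).toFunctor.mapIso f

/-- The two components of a morphism of the fibre product as isomorphisms. -/
def fpIsoSnd {x y : (fp F G).obj} (f : x ≅ y) : x.obj.snd ≅ y.obj.snd :=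
  (fpSnd F G).toFunctor.mapIso f

theorem fp_snd_map {x y : (fp F G).obj} (f : x ⟶ y) :
    𝒴.p.map f.hom.snd =
      eqToHom (fp_base_eq x).symm ≫ 𝒳.p.map f.hom.fst ≫ eqToHom (fp_base_eq y) := by
  have := fp_isHomLift_snd F G f
  exact IsHomLift.fac' 𝒴.p ((fp F G).p.map f) f.hom.snd

theorem vert_fp_iff {x y : (fp F G).obj} {f : x ⟶ y} : Vert f ↔ Vert f.hom.fst := Iff.rfl

theorem vert_fp_snd {x y : (fp F G).obj} {f : x ⟶ y} (h : Vert f) : Vert f.hom.snd :=
  h.map (fpSnd F G)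

theorem isFibGrpd_fp (h𝒳 : IsFibGrpd 𝒳.p) (h𝒴 : IsFibGrpd 𝒴.p) (h𝒮 : IsFibGrpd 𝒮.p)
    (F : 𝒳 ⥤ᵇ 𝒮) (G : 𝒴 ⥤ᵇ 𝒮) : IsFibGrpd (fp F G).p where
  exists_lift {x V} f := by
    have f₀ : V ⟶ 𝒳.p.obj x.obj.fst := f
    obtain ⟨a, ea, φ, hφ⟩ := grpd_exists_lift h𝒳 x.obj.fst (f : V ⟶ 𝒳.p.obj x.obj.fst)
    obtain ⟨b, eb, ψ, hψ⟩ := grpd_exists_lift h𝒴 x.obj.snd
      ((f : V ⟶ 𝒳.p.obj x.obj.fst) ≫ eqToHom (fp_base_eq x))
    obtain ⟨i, hi, hfac⟩ := grpd_exists_vert_fac h𝒮 (G.map ψ) (F.map φ ≫ x.obj.iso.hom)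
      ((F.w_obj a).trans (ea.trans (eb.symm.trans (G.w_obj b).symm)))
      (by simp [w_map, hφ, hψ, (vert_fp_iso x).2])
    refine ⟨fpMk a b i hi, fpHom φ ψ hfac.symm, ?_⟩
    exact IsHomLift.of_fac' (fp F G).p _ _ ea rfl (by
      change 𝒳.p.map φ = _
      simpa using hφ)
  isStronglyCartesian {y x} φ :=
    { universal_property' := fun {z} g ψ hψ => by
        have hg : (g : 𝒳.p.obj z.obj.fst ⟶ 𝒳.p.obj y.obj.fst) ≫ 𝒳.p.map φ.hom.fst
            = 𝒳.p.map ψ.hom.fst :=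
          IsHomLift.eq_of_isHomLift (fp F G).p (g ≫ (fp F G).p.map φ) ψ
        obtain ⟨a, ha, hac⟩ := grpd_exists_fac h𝒳 φ.hom.fst ψ.hom.fst
          (g : 𝒳.p.obj z.obj.fst ⟶ 𝒳.p.obj y.obj.fst) hg
        obtain ⟨b, hb, hbc⟩ := grpd_exists_fac h𝒴 φ.hom.snd ψ.hom.snd
          (eqToHom (fp_base_eq z).symm ≫ (g : 𝒳.p.obj z.obj.fst ⟶ 𝒳.p.obj y.obj.fst) ≫
            eqToHom (fp_base_eq y))
          (by simp [fp_snd_map, ← hg])
        have hw : F.map a ≫ y.obj.iso.hom = z.obj.iso.hom ≫ G.map b := by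
          apply grpd_cancel h𝒮 (G.map φ.hom.snd)
          · rw [Category.assoc, Category.assoc, ← G.toFunctor.map_comp, hbc, ← φ.hom.w,
              ← Category.assoc, ← F.toFunctor.map_comp, hac, ψ.hom.w]
          · simp [w_map, ha, hb, (vert_fp_iso y).2, (vert_fp_iso z).2]
        refine ⟨fpHom a b hw, ⟨?_, fp_hom_ext hac hbc⟩, ?_⟩
        · exact IsHomLift.of_fac' (fp F G).p _ _ rfl rfl (by
            change 𝒳.p.map a = _
            simpa using ha)
        · rintro χ ⟨h4, h5⟩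
          have h6 : g = 𝒳.p.map χ.hom.fst := IsHomLift.eq_of_isHomLift (fp F G).p g χ
          apply fp_hom_ext
          · exact grpd_cancel h𝒳 φ.hom.fst
              ((congrArg (fun k => k.hom.fst) h5).trans hac.symm)
              (by rw [← h6]; exact ha.symm)
          · exact grpd_cancel h𝒴 φ.hom.snd
              ((congrArg (fun k => k.hom.snd) h5).trans hbc.symm)
              (by rw [fp_snd_map, ← h6]; exact hb.symm) }

section Swap

variable (F G)

/-- The symmetry of 2-fibre products. -/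
def fpSwap : fp F G ⥤ᵇ fp G F :=
  fpLift (fpSnd F G) (fpFst F G) (fpIso F G).symm

theorem fpSwap_isEquivOver : IsEquivOver (fpSwap F G) :=
  ⟨fpSwap G F,
    ⟨isoMk (fun x => fpIsoMk (Iso.refl _) (Iso.refl _)
        (by simp; rfl))
      (fun x => Vert.id _) (fun f => fp_hom_ext ((Category.comp_id _).trans (Category.id_comp _).symm)
        ((Category.comp_id _).trans (Category.id_comp _).symm))⟩,
    ⟨isoMk (fun x => fpIsoMk (Iso.refl _) (Iso.refl _)
        (by simp; rfl))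
      (fun x => Vert.id _) (fun f => fp_hom_ext ((Category.comp_id _).trans (Category.id_comp _).symm)
        ((Category.comp_id _).trans (Category.id_comp _).symm))⟩⟩

end Swap

section Congr

variable {𝒳' : BasedCategory.{v₅, u₅} C} {𝒴' : BasedCategory.{v₆, u₆} C}
  {𝒮' : BasedCategory.{v₇, u₇} C}
variable {F' : 𝒳' ⥤ᵇ 𝒮'} {G' : 𝒴' ⥤ᵇ 𝒮'} (a : 𝒳' ⥤ᵇ 𝒳) (b : 𝒴' ⥤ᵇ 𝒴) (c : 𝒮' ⥤ᵇ 𝒮)
  (eF : BasedFunctor.comp a F ≅ BasedFunctor.comp F' c)
  (eG : BasedFunctor.comp b G ≅ BasedFunctor.comp G' c)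

/-- Functoriality of 2-fibre products. -/
def fpMap : fp F' G' ⥤ᵇ fp F G :=
  fpLift (BasedFunctor.comp (fpFst F' G') a) (BasedFunctor.comp (fpSnd F' G') b)
    (isoWhiskerLeft (fpFst F' G') eF ≪≫ isoWhiskerRight (fpIso F' G') c ≪≫
      isoWhiskerLeft (fpSnd F' G') eG.symm)

theorem fpMap_iso_hom (x : (fp F' G').obj) : ((fpMap a b c eF eG).obj x).obj.iso.hom =
    (isoApp eF x.obj.fst).hom ≫ c.map x.obj.iso.hom ≫ (isoApp eG x.obj.snd).inv := rfl

theorem fpMap_faithful [a.toFunctor.Faithful] [b.toFunctor.Faithful] :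
    (fpMap a b c eF eG).toFunctor.Faithful where
  map_injective {x y} f g h :=
    fp_hom_ext (a.toFunctor.map_injective (congrArg (fun k => k.hom.fst) h))
      (b.toFunctor.map_injective (congrArg (fun k => k.hom.snd) h))

theorem fpMap_full [a.toFunctor.Full] [b.toFunctor.Full] [c.toFunctor.Faithful] :
    (fpMap a b c eF eG).toFunctor.Full where
  map_surjective {x y} f := by
    obtain ⟨p, hp⟩ := a.toFunctor.map_surjective (X := x.obj.fst) (Y := y.obj.fst) f.hom.fst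
    obtain ⟨q, hq⟩ := b.toFunctor.map_surjective (X := x.obj.snd) (Y := y.obj.snd) f.hom.snd
    have hw := f.hom.w
    rw [fpMap_iso_hom, fpMap_iso_hom, ← hp, ← hq] at hw
    have hF : F.map (a.map p) ≫ (isoApp eF y.obj.fst).hom =
      (isoApp eF x.obj.fst).hom ≫ c.map (F'.map p) := isoApp_naturality eF p
    have hG : G.map (b.map q) ≫ (isoApp eG y.obj.snd).hom =
      (isoApp eG x.obj.snd).hom ≫ c.map (G'.map q) := isoApp_naturality eG q
    have hG' : (isoApp eG x.obj.snd).inv ≫ G.map (b.map q) =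
        c.map (G'.map q) ≫ (isoApp eG y.obj.snd).inv := by
      rw [Iso.inv_comp_eq, ← Category.assoc, Iso.eq_comp_inv, hG]
    refine ⟨fpHom p q ?_, fp_hom_ext hp hq⟩
    apply c.toFunctor.map_injective
    rw [c.toFunctor.map_comp, c.toFunctor.map_comp]
    rw [← cancel_epi (isoApp eF x.obj.fst).hom, ← cancel_mono (isoApp eG y.obj.snd).inv]
    simp only [← Category.assoc] at hw ⊢
    rw [hF] at hw
    simp only [Category.assoc] at hw ⊢
    rw [hw, hG']

theorem fpMap_isEquivOver (ha : IsEquivOver a) (hb : IsEquivOver b) [c.toFunctor.Full]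
    [c.toFunctor.Faithful] : IsEquivOver (fpMap a b c eF eG) := by
  have := full_of_isEquivOver ha
  have := faithful_of_isEquivOver ha
  have := full_of_isEquivOver hb
  have := faithful_of_isEquivOver hb
  have := fpMap_full a b c eF eG
  have := fpMap_faithful a b c eF eG
  refine isEquivOver_mk _ fun y => ?_
  obtain ⟨x₁, e₁, h₁⟩ := exists_vert_iso_of_isEquivOver ha y.obj.fst
  obtain ⟨x₂, e₂, h₂⟩ := exists_vert_iso_of_isEquivOver hb y.obj.snd
  let j : c.obj (F'.obj x₁) ≅ c.obj (G'.obj x₂) :=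
    (isoApp eF x₁).symm ≪≫ F.toFunctor.mapIso e₁ ≪≫ y.obj.iso ≪≫ G.toFunctor.mapIso e₂.symm ≪≫
      isoApp eG x₂
  have hj : Vert j.hom :=
    (vert_isoApp eF x₁).inv.comp ((h₁.map F).comp ((vert_fp_iso y).comp
      ((h₂.inv.map G).comp (vert_isoApp eG x₂))))
  refine ⟨fpMk x₁ x₂ (c.toFunctor.preimageIso j) (Vert.of_map c (by simpa using hj)),
    fpIsoMk e₁ e₂ ?_, h₁⟩
  rw [fpMap_iso_hom]
  change F.map e₁.hom ≫ y.obj.iso.hom = ((isoApp eF x₁).hom ≫
    c.map (c.toFunctor.preimageIso j).hom ≫ (isoApp eG x₂).inv) ≫ G.map e₂.hom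
  have hj' : c.map (c.toFunctor.preimageIso j).hom = j.hom := by simp
  rw [hj']
  simp only [j, Iso.trans_hom, Iso.symm_hom, Functor.mapIso_hom]
  generalize isoApp eF x₁ = i
  generalize isoApp eG x₂ = k
  simp [← Functor.map_comp]

end Congr

section Paste

variable {𝒲 : BasedCategory.{v₅, u₅} C} (h : 𝒲 ⥤ᵇ 𝒳)

variable (F G)

/-- The 2-isomorphism of the pasting functor. -/
def fpPasteIso :
    BasedFunctor.comp (fpFst h (fpFst F G)) (BasedFunctor.comp h F) ≅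
      BasedFunctor.comp (BasedFunctor.comp (fpSnd h (fpFst F G)) (fpSnd F G)) G :=
  isoWhiskerRight (fpIso h (fpFst F G)) F ≪≫ isoWhiskerLeft (fpSnd h (fpFst F G)) (fpIso F G)

/-- Pasting of 2-fibre products: `𝒲 ×_𝒳 (𝒳 ×_𝒮 𝒴) ⟶ 𝒲 ×_𝒮 𝒴`. -/
def fpPaste : fp h (fpFst F G) ⥤ᵇ fp (BasedFunctor.comp h F) G :=
  fpLift (fpFst h (fpFst F G)) (BasedFunctor.comp (fpSnd h (fpFst F G)) (fpSnd F G))
    (fpPasteIso F G h)

theorem fpPaste_iso_hom (x : (fp h (fpFst F G)).obj) :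
    ((fpPaste F G h).obj x).obj.iso.hom = F.map x.obj.iso.hom ≫ x.obj.snd.obj.iso.hom := rfl

theorem fpPaste_isEquivOver : IsEquivOver (fpPaste F G h) := by
  have : (fpPaste F G h).toFunctor.Faithful := ⟨fun {x y} f g hfg => by
    have h1 : f.hom.fst = g.hom.fst := congrArg (fun k => k.hom.fst) hfg
    refine fp_hom_ext h1 (fp_hom_ext ?_ (congrArg (fun k => k.hom.snd) hfg))
    have hf := f.hom.w
    rw [h1, g.hom.w] at hf
    exact ((cancel_epi x.obj.iso.hom).1 hf).symm⟩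
  have : (fpPaste F G h).toFunctor.Full := ⟨fun {x y} k => by
    let a : x.obj.snd.obj.fst ⟶ y.obj.snd.obj.fst :=
      x.obj.iso.inv ≫ h.map k.hom.fst ≫ y.obj.iso.hom
    have hk := k.hom.w
    rw [fpPaste_iso_hom, fpPaste_iso_hom] at hk
    have hw : F.map a ≫ y.obj.snd.obj.iso.hom = x.obj.snd.obj.iso.hom ≫ G.map k.hom.snd := by
      simp only [a, Functor.map_comp, Category.assoc]
      rw [← cancel_epi (F.map x.obj.iso.hom), ← Category.assoc (F.map x.obj.iso.hom),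
        ← Functor.map_comp, Iso.hom_inv_id, Functor.map_id, Category.id_comp]
      exact hk.trans (Category.assoc _ _ _)
    refine ⟨fpHom k.hom.fst (fpHom a k.hom.snd hw) ?_, fp_hom_ext rfl rfl⟩
    change h.map k.hom.fst ≫ _ = _ ≫ a
    simp [a]⟩
  refine isEquivOver_mk _ fun y => ?_
  refine ⟨fpMk y.obj.fst (fpMk (h.obj y.obj.fst) y.obj.snd y.obj.iso (vert_fp_iso y))
    (Iso.refl _) (Vert.id _), fpIsoMk (Iso.refl _) (Iso.refl _) ?_, Vert.id _⟩
  rw [fpPaste_iso_hom]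
  simp [fpMk]

end Paste

end Groth.Agent.StFib
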