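import Groth.Prelude.Def_AlgSt
import Groth.Agent.StFib.Fp

/-!
The 2-Yoneda lemma for categories fibred in groupoids and categories attached to presheaves.
-/

set_option backward.isDefEq.respectTransparency false
set_option backward.isDefEq.respectTransparency.types false

universe w w' v₄ u₄ v₃ u₃ v₂ u₂ v u

open CategoryTheory CategoryTheory.Limits Opposite FibCat

namespace Groth.Agent.StFib

variable {C : Type u} [Category.{v} C]
variable {𝒳 : BasedCategory.{v₂, u₂} C} {𝒴 : BasedCategory.{v₃, u₃} C}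

theorem over_w {U : C} {g g' : Over U} (φ : g ⟶ g') : φ.left ≫ g'.hom = g.hom := Over.w φ

/-- `C/U` is fibred in groupoids. -/
theorem isFibGrpd_overCat (U : C) : IsFibGrpd (overCat U).p where
  exists_lift {x V} f := ⟨Over.mk (f ≫ x.hom), Over.homMk f rfl,
    IsHomLift.map (overCat U).p (Over.homMk f rfl : Over.mk (f ≫ x.hom) ⟶ x)⟩
  isStronglyCartesian {y x} φ :=
    { universal_property' := fun {a'} g φ' hφ' => by
        have hg : g ≫ φ.left = φ'.left :=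
          IsHomLift.eq_of_isHomLift (overCat U).p (g ≫ (overCat U).p.map φ) φ'
        let χ : a' ⟶ y := Over.homMk g (by
          show g ≫ y.hom = a'.hom
          rw [← over_w φ, ← over_w φ', ← hg, Category.assoc])
        refine ⟨χ, ⟨IsHomLift.map (overCat U).p χ, Over.OverMorphism.ext hg⟩, ?_⟩
        rintro χ' ⟨hχ, -⟩
        exact Over.OverMorphism.ext (IsHomLift.eq_of_isHomLift (overCat U).p g χ').symm }

theorem overCat_vert_end {U : C} {g : (overCat U).obj} {φ : g ⟶ g} (h : Vert φ) : φ = 𝟙 g := by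
  obtain ⟨e, he⟩ := h
  exact Over.OverMorphism.ext he

theorem overCat_vert_unique {U : C} {g g' : (overCat U).obj} {φ ψ : g ⟶ g'} (h : Vert φ)
    (h' : Vert ψ) : φ = ψ :=
  Over.OverMorphism.ext (h.2.trans h'.2.symm)

/-- 2-Yoneda, existence: every object over `U` comes from a functor on `C/U`. -/
theorem exists_overFunctor (h : IsFibGrpd 𝒳.p) {U : C} (x : 𝒳.obj) (hx : 𝒳.p.obj x = U) :
    ∃ (y : overCat U ⥤ᵇ 𝒳) (i : y.obj (Over.mk (𝟙 U)) ≅ x), Vert i.hom := by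
  subst hx
  have H : ∀ g : Over (𝒳.p.obj x), ∃ (a : 𝒳.obj) (e : 𝒳.p.obj a = g.left) (φ : a ⟶ x),
      𝒳.p.map φ = eqToHom e ≫ g.hom := fun g => grpd_exists_lift h x g.hom
  choose a e φ hφ using H
  have H' : ∀ (g g' : Over (𝒳.p.obj x)) (k : g ⟶ g'), ∃ χ : a g ⟶ a g',
      𝒳.p.map χ = eqToHom (e g) ≫ k.left ≫ eqToHom (e g').symm ∧ χ ≫ φ g' = φ g := fun g g' k =>
    grpd_exists_fac h (φ g') (φ g) _ (by simp [hφ, over_w k])
  choose m hm hmc using H'
  let y₀ : Over (𝒳.p.obj x) ⥤ 𝒳.obj :=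
    { obj := a
      map := fun {g g'} k => m g g' k
      map_id := fun g => grpd_cancel h (φ g) (by simp [hmc]) (by simp [hm])
      map_comp := fun {g g' g''} k k' => grpd_cancel h (φ g'') (by simp [hmc]) (by simp [hm]) }
  have hv : Vert (φ (Over.mk (𝟙 (𝒳.p.obj x)))) :=
    ⟨e _, (hφ _).trans (Category.comp_id _)⟩
  have := hv.isIso h
  exact ⟨⟨y₀, CategoryTheory.Functor.ext e fun g g' k => hm g g' k⟩, asIso (φ (Over.mk (𝟙 (𝒳.p.obj x)))), hv⟩

/-- The terminal morphism of the slice. -/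
def overToId {U : C} (g : Over U) : g ⟶ Over.mk (𝟙 U) :=
  Over.homMk g.hom (by simp)

/-- 2-Yoneda, fullness: a vertical isomorphism at the identity gives a 2-isomorphism. -/
theorem exists_overIso (h : IsFibGrpd 𝒳.p) {U : C} (y y' : overCat U ⥤ᵇ 𝒳)
    (i : y.obj (Over.mk (𝟙 U)) ≅ y'.obj (Over.mk (𝟙 U))) (hi : Vert i.hom) :
    ∃ α : y ≅ y', (isoApp α (Over.mk (𝟙 U))).hom = i.hom := by
  have H : ∀ g : (overCat U).obj, ∃ χ : y.obj g ≅ y'.obj g, Vert χ.hom ∧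
      χ.hom ≫ y'.map (overToId g) = y.map (overToId g) ≫ i.hom := fun g =>
    grpd_exists_vert_fac h (y'.map (overToId g)) (y.map (overToId g) ≫ i.hom)
      ((y.w_obj g).trans (y'.w_obj g).symm) (by simp [w_map, hi.2])
  choose χ hχ hc using H
  refine ⟨isoMk χ hχ (fun {g g'} k => ?_), ?_⟩
  · apply grpd_cancel h (y'.map (overToId g'))
    · have hk : k ≫ overToId g' = overToId g := Over.OverMorphism.ext (over_w k)
      rw [Category.assoc, Category.assoc, hc, ← y'.toFunctor.map_comp, hk, hc, ← Category.assoc,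
        ← y.toFunctor.map_comp, hk]
    · simp [w_map, (hχ g).2, (hχ g').2]
  · have hid : overToId (Over.mk (𝟙 U)) = 𝟙 _ := Over.OverMorphism.ext rfl
    have := hc (Over.mk (𝟙 U))
    rw [hid, y'.toFunctor.map_id, y.toFunctor.map_id, Category.id_comp] at this
    exact (Category.comp_id _).symm.trans this

section Psh

variable {P : Cᵒᵖ ⥤ Type w} {Q : Cᵒᵖ ⥤ Type w'}

theorem ofPsh_hom_ext {a b : (Stk.ofPsh P).obj} {f g : a ⟶ b}
    (h : (Stk.ofPsh P).p.map f = (Stk.ofPsh P).p.map g) : f = g := Stk.EltObj.hom_ext h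

theorem ofPsh_eq_of_vert {T : C} {s t : P.obj (op T)}
    {φ : (⟨T, s⟩ : (Stk.ofPsh P).obj) ⟶ ⟨T, t⟩} (h : Vert (𝒳 := Stk.ofPsh P) φ) : s = t := by
  obtain ⟨e, he⟩ := h
  have h1 : φ.hom = 𝟙 T := he
  have h2 := φ.map_sec
  rw [h1, op_id] at h2
  simpa using h2.symm

theorem isFibSetoid_ofPsh (P : Cᵒᵖ ⥤ Type w) : IsFibSetoid (Stk.EltObj.forget P) := by
  refine ⟨(Stk.isFibGrpd_ofPsh P), fun U a b => ⟨fun f g => ?_⟩⟩
  apply Functor.Fiber.hom_ext
  apply Stk.EltObj.hom_ext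
  have := f.2
  have := g.2
  exact (IsHomLift.fac' (Stk.EltObj.forget P) (𝟙 U) f.1).trans
    (IsHomLift.fac' (Stk.EltObj.forget P) (𝟙 U) g.1).symm

/-- Vertical parallel morphisms of a setoid-like category coincide. -/
theorem vert_unique_of_isFibSetoid (h : IsFibSetoid 𝒳.p) {a b : 𝒳.obj} {φ ψ : a ⟶ b}
    (hφ : Vert φ) (hψ : Vert ψ) : φ = ψ := by
  let A : 𝒳.p.Fiber (𝒳.p.obj a) := ⟨a, rfl⟩
  let B : 𝒳.p.Fiber (𝒳.p.obj a) := ⟨b, hφ.base_eq.symm⟩
  let f : A ⟶ B := ⟨φ, vert_iff.1 hφ⟩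
  let g : A ⟶ B := ⟨ψ, vert_iff.1 hψ⟩
  exact congrArg Subtype.val ((h.2 (𝒳.p.obj a) A B).elim f g)

theorem isFibSetoid_of_vert_unique (h : IsFibGrpd 𝒳.p)
    (H : ∀ {a b : 𝒳.obj} (φ ψ : a ⟶ b), Vert φ → Vert ψ → φ = ψ) : IsFibSetoid 𝒳.p :=
  ⟨h, fun _ _ _ => ⟨fun f g => Functor.Fiber.hom_ext
    (H f.1 g.1 (vert_of_isHomLift f.2) (vert_of_isHomLift g.2))⟩⟩

theorem isFibSetoid_of_ofPsh_equiv {e : Stk.ofPsh P ⥤ᵇ 𝒳} (he : IsEquivOver e) :
    IsFibSetoid 𝒳.p := by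
  refine isFibSetoid_of_vert_unique (isFibGrpd_of_isEquivOver he (Stk.isFibGrpd_ofPsh P))
    (fun {a b} φ ψ hφ hψ => ?_)
  obtain ⟨G, hG, -, -⟩ := isEquivOver_symm he
  have := faithful_of_isEquivOver hG
  exact G.toFunctor.map_injective (ofPsh_hom_ext ((hφ.map G).2.trans (hψ.map G).2.symm))

end Psh

end Groth.Agent.StFib
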