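import Groth.Prelude.Def_AlgSt3
import Groth.Agent.StFib.Rep
import Groth.Agent.StFib.Yoneda

/-!
Representable morphisms are faithful; monomorphisms are fully faithful.
-/

set_option backward.isDefEq.respectTransparency false
set_option backward.isDefEq.respectTransparency.types false

universe w₆ t₆ w₅ t₅ w₄ t₄ w₃ t₃ w₂ t₂ u

open CategoryTheory CategoryTheory.Limits AlgebraicGeometry Opposite

namespace Groth.Agent.StFib

variable {S : Scheme.{u}}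
variable {𝒳 : BasedCategory.{w₂, t₂} (Over S)} {𝒴 : BasedCategory.{w₃, t₃} (Over S)}

theorem isFibSetoid_of_repByAlgSp (hr : AlgSt.RepByAlgSp 𝒳) : FibCat.IsFibSetoid 𝒳.p := by
  obtain ⟨F, e, he⟩ := hr
  exact isFibSetoid_of_ofPsh_equiv he

theorem faithful_of_repByAlgSp1 (h𝒳 : FibCat.IsFibGrpd 𝒳.p) (h𝒴 : FibCat.IsFibGrpd 𝒴.p)
    (f : 𝒳 ⥤ᵇ 𝒴) (hf : AlgSt.RepByAlgSp1 f) : f.toFunctor.Faithful := by
  refine faithful_of_vert h𝒳 h𝒴 f (fun a φ hp hfφ => ?_)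
  obtain ⟨y, i, hi⟩ := exists_overFunctor h𝒴 (f.obj a) (f.w_obj a)
  let P : (FibCat.fp y f).obj := fpMk (Over.mk (𝟙 (𝒳.p.obj a))) a i hi
  let k : P ⟶ P := fpHom (𝟙 _) φ (by
    rw [hfφ]
    exact (congrArg (· ≫ _) (y.toFunctor.map_id _)).trans
      ((Category.id_comp _).trans (Category.comp_id _).symm))
  have hk : k = 𝟙 P :=
    vert_unique_of_isFibSetoid (isFibSetoid_of_repByAlgSp (hf _ y))
      (vert_fp_iff.2 (Vert.id _)) (Vert.id _)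
  exact congrArg (fun m => m.hom.snd) hk

theorem secHom_mk {F : AlgSp.Sp S} {U : Over S} (Φ : AlgSt.ofSp F ⥤ᵇ FibCat.overCat U)
    (a : (AlgSt.ofSp F).obj) {g : (FibCat.overCat U).obj} (m : Φ.obj a ⟶ g) (hm : Vert m) :
    AlgSt.secHom Φ a = eqToHom ((Φ.w_obj a).symm.trans hm.base_eq) ≫ g.hom := by
  have h1 : m.left = eqToHom hm.base_eq := hm.2
  unfold AlgSt.secHom
  rw [← over_w m, h1, eqToHom_trans_assoc]

theorem full_of_isMono (h𝒳 : FibCat.IsFibGrpd 𝒳.p) (h𝒴 : FibCat.IsFibGrpd 𝒴.p)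
    (j : 𝒳 ⥤ᵇ 𝒴) (hj : AlgSt.IsMono j) : j.toFunctor.Full := by
  refine full_of_vert h𝒳 h𝒴 j (fun a a' β hβ => ?_)
  obtain ⟨y, i, hi⟩ := exists_overFunctor h𝒴 (U := 𝒳.p.obj a) (j.obj a) (j.w_obj a)
  obtain ⟨F, e, he, hmono⟩ := hj _ y
  have := hβ.isIso h𝒴
  let P : (FibCat.fp y j).obj := fpMk (Over.mk (𝟙 (𝒳.p.obj a))) a i hi
  let Q : (FibCat.fp y j).obj := fpMk (Over.mk (𝟙 (𝒳.p.obj a))) a' (i ≪≫ asIso β) (hi.comp hβ)
  have := full_of_isEquivOver he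
  obtain ⟨⟨T, s⟩, m, hm⟩ := exists_vert_iso_of_isEquivOver he P
  obtain ⟨⟨T', t⟩, n, hn⟩ := exists_vert_iso_of_isEquivOver he Q
  have hT : T = 𝒳.p.obj a := (e.w_obj _).symm.trans hm.base_eq
  have hT' : T' = 𝒳.p.obj a := (e.w_obj _).symm.trans hn.base_eq
  subst hT
  subst hT'
  let Φ := BasedFunctor.comp e (FibCat.fpFst y j)
  have hs : AlgSt.secHom Φ ⟨_, s⟩ = AlgSt.secHom Φ ⟨_, t⟩ := by
    rw [secHom_mk Φ ⟨_, s⟩ m.hom.hom.fst (vert_fp_iff.1 hm),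
      secHom_mk Φ ⟨_, t⟩ n.hom.hom.fst (vert_fp_iff.1 hn)]
    rfl
  have hM : Mono (AlgSt.spMapOfOver Φ).hom :=
    have : Mono (AlgSt.spMapOfOver Φ) := hmono
    (sheafToPresheaf (AlgSp.J S) (Type (u + 1))).map_mono (AlgSt.spMapOfOver Φ)
  have hinj := (NatTrans.mono_iff_mono_app (AlgSt.spMapOfOver Φ).hom).1 hM (op (𝒳.p.obj a))
  rw [CategoryTheory.mono_iff_injective] at hinj
  have hst : s = t := hinj (congrArg ULift.up hs)
  subst hst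
  let r : P ≅ Q := m.symm ≪≫ n
  have hr : Vert r.hom := hm.inv.comp hn
  have hr1 : r.hom.hom.fst = 𝟙 _ := overCat_vert_end (vert_fp_iff.1 hr)
  have hw := r.hom.hom.w
  rw [hr1] at hw
  refine ⟨r.hom.hom.snd, ?_⟩
  have hw' : i.hom ≫ β = i.hom ≫ j.map r.hom.hom.snd := by
    exact ((Category.id_comp _).symm.trans (congrArg (· ≫ _) (y.toFunctor.map_id _).symm)).trans hw
  exact ((cancel_epi i.hom).1 hw').symm

theorem fullyFaithful_of_isMono (h𝒳 : FibCat.IsFibGrpd 𝒳.p) (h𝒴 : FibCat.IsFibGrpd 𝒴.p)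
    (j : 𝒳 ⥤ᵇ 𝒴) (hj : AlgSt.IsMono j) : j.toFunctor.Full ∧ j.toFunctor.Faithful :=
  ⟨full_of_isMono h𝒳 h𝒴 j hj, faithful_of_repByAlgSp1 h𝒳 h𝒴 j (repByAlgSp1_of_with hj)⟩

end Groth.Agent.StFib
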