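import Groth.Prelude.Def_AlgSpRep
import Groth.Agent.StFib.Psh
import Groth.Agent.StFib.RepProps
import Groth.Agent.StFib.RepSp
import Groth.Agent.AlgSp.Space

/-!
Representability by algebraic spaces of morphisms of presheaves and of their categories.
-/

set_option backward.isDefEq.respectTransparency false
set_option backward.isDefEq.respectTransparency.types false

universe w₄ t₄ w₃ t₃ w₂ t₂ u

open CategoryTheory CategoryTheory.Limits AlgebraicGeometry Opposite FibCat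

namespace Groth.Agent.StFib

variable {S : Scheme.{u}}

theorem isAlgSpace_yon (U : Over S) : AlgSp.IsAlgSpace ((AlgSp.yon S).obj U) where
  diag := by
    rw [AlgSp.diag_yon_obj]
    exact (MorphismProperty.cancel_right_of_respectsIso _ _ _).2 (AlgSp.representable_yon_map _)
  atlas := ⟨U, (AlgSp.yon S).map (𝟙 U),
    (AlgSp.repWith_yon_map_iff _ _).2 (MorphismProperty.id_mem _ _),
    (AlgSp.repWith_yon_map_iff _ _).2 (MorphismProperty.id_mem _ _)⟩

theorem toOverCat_isEquivOver (U : Over S) : IsEquivOver (AlgSt.toOverCat U) :=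
  ⟨AlgSt.ofOverCat U, ⟨Iso.refl _⟩, ⟨Iso.refl _⟩⟩

theorem repByAlgSp_overCat (U : Over S) : AlgSt.RepByAlgSp (overCat U) :=
  ⟨⟨(AlgSp.yon S).obj U, isAlgSpace_yon U⟩, AlgSt.toOverCat U, toOverCat_isEquivOver U⟩

theorem repByAlgSp_ofPsh {P : AlgSp.PSp S} (h : AlgSp.IsAlgSpaceP P) :
    AlgSt.RepByAlgSp (Stk.ofPsh P) := by
  obtain ⟨hs, ha⟩ := h
  exact ⟨⟨⟨P, hs⟩, ha⟩, BasedFunctor.id _, isEquivOver_id _⟩

theorem isAlgSpaceP_of_repByAlgSp {P : AlgSp.PSp S} (h : AlgSt.RepByAlgSp (Stk.ofPsh P)) :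
    AlgSp.IsAlgSpaceP P := by
  obtain ⟨F, e, he⟩ := h
  have := isIso_pshMap (P := F.obj.obj) (Q := P) he
  exact ((AlgSp.isAlgSpaceP_obj_iff F.obj).2 F.property).of_iso (asIso (pshMap e))

section Square

variable {F G F' : AlgSp.PSp S}

/-- A pullback of presheaves along a section computes the 2-fibre product over the slice. -/
theorem exists_ofPsh_fp (a : F ⟶ G) {U : Over S} (y : overCat U ⥤ᵇ Stk.ofPsh G)
    {fst : F' ⟶ F} {snd : F' ⟶ (AlgSp.pyon S).obj U}
    (sq : IsPullback fst snd a (pshMap (BasedFunctor.comp (AlgSt.toOverCat U) y))) :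
    ∃ e : Stk.ofPsh F' ⥤ᵇ fp y (Stk.ofPshMap a), IsEquivOver e ∧
      Nonempty (BasedFunctor.comp e (fpFst y (Stk.ofPshMap a)) ≅
        BasedFunctor.comp (Stk.ofPshMap snd) (AlgSt.toOverCat U)) := by
  have : (BasedFunctor.id (Stk.ofPsh G)).toFunctor.Full := inferInstanceAs (𝟭 _).Full
  have : (BasedFunctor.id (Stk.ofPsh G)).toFunctor.Faithful := inferInstanceAs (𝟭 _).Faithful
  obtain ⟨i⟩ := exists_iso_pshMap (BasedFunctor.comp (AlgSt.toOverCat U) y)
  let M := fpMap (F := y) (G := Stk.ofPshMap a)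
    (F' := Stk.ofPshMap (pshMap (BasedFunctor.comp (AlgSt.toOverCat U) y))) (G' := Stk.ofPshMap a)
    (AlgSt.toOverCat U) (BasedFunctor.id _) (BasedFunctor.id _) i (Iso.refl _)
  exact ⟨BasedFunctor.comp (fpLift (Stk.ofPshMap snd) (Stk.ofPshMap fst) (pshSqIso sq.flip.w)) M,
    isEquivOver_comp (pshSq_cart sq.flip)
      (fpMap_isEquivOver _ _ _ _ _ (toOverCat_isEquivOver U) (isEquivOver_id _)),
    ⟨Iso.refl _⟩⟩

theorem spMapOfOver_comp {P : AlgSp.Sp S} {Q : AlgSp.PSp S} (φ : P.obj ⟶ Q) {U : Over S}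
    (m : Q ⟶ (AlgSp.pyon S).obj U) :
    (AlgSt.spMapOfOver (BasedFunctor.comp (Stk.ofPshMap φ)
      (BasedFunctor.comp (Stk.ofPshMap m) (AlgSt.toOverCat U)))).hom = φ ≫ m := by
  ext T x
  exact congrArg ULift.up (Category.id_comp _)

/-- A map of presheaves is representable by algebraic spaces iff its functor is. -/
theorem repBySp_iff (a : F ⟶ G) : AlgSp.RepBySp a ↔ AlgSt.RepByAlgSp1 (Stk.ofPshMap a) := by
  constructor
  · intro ha U y
    have sq := IsPullback.of_hasPullback a (pshMap (BasedFunctor.comp (AlgSt.toOverCat U) y))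
    obtain ⟨e, he, -⟩ := exists_ofPsh_fp a y sq
    exact repByAlgSp_of_equiv he (repByAlgSp_ofPsh (ha _ _ _ sq))
  · intro ha U ξ F' fst snd sq
    let y : overCat U ⥤ᵇ Stk.ofPsh G := BasedFunctor.comp (AlgSt.ofOverCat U) (Stk.ofPshMap ξ)
    have hξ : pshMap (BasedFunctor.comp (AlgSt.toOverCat U) y) = ξ := pshMap_ofPshMap ξ
    obtain ⟨e, he, -⟩ := exists_ofPsh_fp a y (hξ.symm ▸ sq)
    exact isAlgSpaceP_of_repByAlgSp ((repByAlgSp_iff_of_equiv he).2 (ha U y))

/-- A map of presheaves has `Q` iff its functor does. -/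
theorem repBySpWith_iff (Q : MorphismProperty (AlgSp.Sp S)) [Q.RespectsIso] (a : F ⟶ G) :
    AlgSp.RepBySpWith Q a ↔ AlgSt.RepByAlgSpWith Q (Stk.ofPshMap a) := by
  constructor
  · intro ha U y
    have sq := IsPullback.of_hasPullback a (pshMap (BasedFunctor.comp (AlgSt.toOverCat U) y))
    obtain ⟨e, he, ⟨i⟩⟩ := exists_ofPsh_fp a y sq
    obtain ⟨h, hA, hQ⟩ := ha _ _ _ sq
    refine ⟨⟨⟨_, h⟩, hA⟩, e, he, ?_⟩
    have h1 := spMapOfOver_congr (F := (⟨_, h⟩ : AlgSp.Sp S)) i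
    rw [h1]
    convert hQ using 1
    apply ObjectProperty.hom_ext
    exact (spMapOfOver_comp (P := ⟨_, h⟩) (𝟙 _) _).trans (Category.id_comp _)
  · intro ha U ξ F' fst snd sq
    let y : overCat U ⥤ᵇ Stk.ofPsh G := BasedFunctor.comp (AlgSt.ofOverCat U) (Stk.ofPshMap ξ)
    have hξ : pshMap (BasedFunctor.comp (AlgSt.toOverCat U) y) = ξ := pshMap_ofPshMap ξ
    obtain ⟨e, he, ⟨i⟩⟩ := exists_ofPsh_fp a y (hξ.symm ▸ sq)
    obtain ⟨A, e', he', hQ⟩ := ha U y
    obtain ⟨d, hd, -, ⟨j⟩⟩ := isEquivOver_symm he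
    have hiso := isIso_pshMap (P := A.obj.obj) (Q := F') (isEquivOver_comp he' hd)
    obtain ⟨k⟩ := exists_iso_pshMap (P := A.obj.obj) (Q := F') (BasedFunctor.comp e' d)
    have hA' := ((AlgSp.isAlgSpaceP_obj_iff A.obj).2 A.property).of_iso
      (asIso (pshMap (BasedFunctor.comp e' d)))
    obtain ⟨h, hA⟩ := hA'
    refine ⟨h, hA, ?_⟩
    let φ : A.obj ⟶ (⟨F', h⟩ : AlgSp.Sp S) :=
      ObjectProperty.homMk (pshMap (BasedFunctor.comp e' d))
    have : IsIso φ := by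
      have : IsIso ((sheafToPresheaf _ _).map φ) := hiso
      exact isIso_of_fully_faithful (sheafToPresheaf _ _) φ
    refine (MorphismProperty.cancel_left_of_respectsIso Q φ _).1 ?_
    convert hQ using 1
    apply ObjectProperty.hom_ext
    have h2 := congrArg (fun m => m.hom) (spMapOfOver_congr (F := A.obj)
      (isoWhiskerLeft e' (isoWhiskerRight j (fpFst y (Stk.ofPshMap a))).symm ≪≫
        isoWhiskerLeft (BasedFunctor.comp e' d) i ≪≫ isoWhiskerRight k _))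
    exact ((h2.trans (spMapOfOver_comp (P := A.obj) _ snd))).symm

end Square

section Space

variable {𝒳 : BasedCategory.{w₂, t₂} (Over S)} {𝒴 : BasedCategory.{w₃, t₃} (Over S)}

theorem repBySp_hom {F G : AlgSp.Sp S} (a : F ⟶ G) (hF : AlgSp.IsAlgSpace F)
    (hG : AlgSp.IsAlgSpace G) : AlgSp.RepBySp a.hom := by
  rw [AlgSp.repBySp_hom_iff]
  exact fun U ξ _ _ _ sq =>
    Groth.Agent.AlgSp.isAlgSpace_of_isPullback' hG hF (isAlgSpace_yon U) sq

/-- Morphisms between categories representable by algebraic spaces are representable. -/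
theorem repByAlgSp1_of_repByAlgSp (hX : AlgSt.RepByAlgSp 𝒳) (hY : AlgSt.RepByAlgSp 𝒴)
    (f : 𝒳 ⥤ᵇ 𝒴) : AlgSt.RepByAlgSp1 f := by
  obtain ⟨A, eA, heA⟩ := hX
  obtain ⟨B, eB, heB⟩ := hY
  obtain ⟨d, hd, -, ⟨j⟩⟩ := isEquivOver_symm heB
  obtain ⟨k⟩ := exists_iso_pshMap (P := A.obj.obj) (Q := B.obj.obj)
    (BasedFunctor.comp eA (BasedFunctor.comp f d))
  let m : A.obj ⟶ B.obj := ObjectProperty.homMk (pshMap (BasedFunctor.comp eA (BasedFunctor.comp f d)))
  have hm := repByAlgSp1_iff_with_top.1 ((repBySp_iff _).1 (repBySp_hom m A.property B.property))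
  refine repByAlgSp1_iff_with_top.2 ((repByAlgSpWith_iff_of_equiv _ eA eB heA heB ?_).2 hm)
  exact isoWhiskerRight k.symm eB ≪≫ isoWhiskerLeft eA (isoWhiskerLeft f j)

end Space

end Groth.Agent.StFib
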