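import Groth.Agent.StFib.Compact
import Groth.Prelude.Def_AlgSpCov

/-!
Properties smooth local on source and target, read on smooth chart squares of a morphism of algebraic stacks.
-/

set_option backward.isDefEq.respectTransparency false
set_option backward.isDefEq.respectTransparency.types false
set_option linter.unusedVariables false

universe u

open CategoryTheory CategoryTheory.Limits AlgebraicGeometry Opposite FibCat

namespace Groth.Agent.StFib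

variable {S : Scheme.{u}} {𝒳 𝒴 : AlgSt.Cat S}

/-- Composition of maps of slices. -/
def overMapCompIso {U V W : Over S} (k : U ⟶ V) (c : V ⟶ W) :
    AlgSt.overMap (k ≫ c) ≅ BasedFunctor.comp (AlgSt.overMap k) (AlgSt.overMap c) :=
  isoMk (fun x => Over.isoMk (Iso.refl _) (by
      change 𝟙 _ ≫ ((x.hom ≫ k) ≫ c) = x.hom ≫ k ≫ c
      simp))
    (fun x => Vert.id _)
    (fun φ => Over.OverMorphism.ext ((Category.comp_id _).trans (Category.id_comp _).symm))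

theorem overMap_injective {U V : Over S} {a b : U ⟶ V} (e : AlgSt.overMap a ≅ AlgSt.overMap b) :
    a = b := by
  have hv : Vert (isoApp e (Over.mk (𝟙 U))).hom := vert_isoApp e (Over.mk (𝟙 U))
  have hw : (isoApp e (Over.mk (𝟙 U))).hom.left ≫ (𝟙 U ≫ b) = 𝟙 U ≫ a :=
    Over.w (isoApp e (Over.mk (𝟙 U))).hom
  obtain ⟨hb, hh⟩ := hv
  have h1 : (isoApp e (Over.mk (𝟙 U))).hom.left = 𝟙 U := hh
  rw [h1] at hw
  exact ((Category.id_comp a).symm.trans (hw.symm.trans ((Category.id_comp _).trans (Category.id_comp b))))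

/-- A fibre product of schemes is a 2-fibre product of slices. -/
theorem exists_equiv_pullback {A B C : Over S} (h : A ⟶ C) (k : B ⟶ C) :
    ∃ N : overCat (pullback h k) ⥤ᵇ fp (AlgSt.overMap h) (AlgSt.overMap k), IsEquivOver N ∧
      Nonempty (BasedFunctor.comp N (fpFst _ _) ≅ AlgSt.overMap (pullback.fst h k)) ∧
      Nonempty (BasedFunctor.comp N (fpSnd _ _) ≅ AlgSt.overMap (pullback.snd h k)) := by
  have sq := IsPullback.map (sheafToPresheaf (AlgSp.J S) (Type (u + 1)))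
    ((IsPullback.of_hasPullback h k).map (AlgSp.yon S))
  let N' : AlgSt.ofSch (pullback h k) ⥤ᵇ fp (AlgSt.ofSpMap ((AlgSp.yon S).map h))
      (AlgSt.ofSpMap ((AlgSp.yon S).map k)) :=
    fpLift (Stk.ofPshMap ((AlgSp.yon S).map (pullback.fst h k)).hom)
      (Stk.ofPshMap ((AlgSp.yon S).map (pullback.snd h k)).hom) (pshSqIso sq.w)
  have hN' : IsEquivOver N' := pshSq_cart sq
  have := full_of_isEquivOver (toOverCat_isEquivOver C)
  have := faithful_of_isEquivOver (toOverCat_isEquivOver C)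
  let M : fp (AlgSt.ofSpMap ((AlgSp.yon S).map h)) (AlgSt.ofSpMap ((AlgSp.yon S).map k)) ⥤ᵇ
      fp (AlgSt.overMap h) (AlgSt.overMap k) :=
    fpMap (F := AlgSt.overMap h) (G := AlgSt.overMap k) (F' := AlgSt.ofSpMap ((AlgSp.yon S).map h))
      (G' := AlgSt.ofSpMap ((AlgSp.yon S).map k)) (AlgSt.toOverCat A) (AlgSt.toOverCat B)
      (AlgSt.toOverCat C) (toOverCatIso h).symm (toOverCatIso k).symm
  have hM : IsEquivOver M :=
    fpMap_isEquivOver _ _ _ _ _ (toOverCat_isEquivOver A) (toOverCat_isEquivOver B)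
  refine ⟨BasedFunctor.comp (AlgSt.ofOverCat _) (BasedFunctor.comp N' M),
    isEquivOver_comp ⟨AlgSt.toOverCat _, ⟨Iso.refl _⟩, ⟨Iso.refl _⟩⟩ (isEquivOver_comp hN' hM), ⟨?_⟩, ⟨?_⟩⟩
  · exact isoWhiskerLeft (AlgSt.ofOverCat _) (toOverCatIso (pullback.fst h k))
  · exact isoWhiskerLeft (AlgSt.ofOverCat _) (toOverCatIso (pullback.snd h k))

/-- A chart refinement with smoothness on both sides. -/
theorem exists_chart_fp_smooth {τ : Precoverage Scheme.{u}} (h : AlgSt.IsAlgStack τ 𝒳) {U V : Over S}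
    {x : overCat U ⥤ᵇ 𝒳} {y : overCat V ⥤ᵇ 𝒳} (hx : AlgSt.RepByAlgSpWith (AlgSp.LocP @Smooth) x)
    (hy : AlgSt.RepByAlgSpWith (AlgSp.LocP @Smooth) y) :
    ∃ (W : Over S) (a : W ⟶ U) (b : W ⟶ V),
      Nonempty (BasedFunctor.comp (AlgSt.overMap a) x ≅ BasedFunctor.comp (AlgSt.overMap b) y) ∧
      Smooth a.left ∧ Smooth b.left ∧
      (AlgSt.RepByAlgSpWith AlgSp.IsSurjectiveMor x → Surjective b.left) ∧
      (AlgSt.RepByAlgSpWith AlgSp.IsSurjectiveMor y → Surjective a.left) := by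
  obtain ⟨W, w, hw, hws⟩ := atlasProp_smooth.atlas (repByAlgSp1_chart h x V y)
  have hM : IsFibGrpd (fp y x).p :=
    isFibGrpd_fp (isFibGrpd_overCat V) (isFibGrpd_overCat U) h.isStack.1 y x
  obtain ⟨b, ⟨ib⟩⟩ := exists_iso_overMap (BasedFunctor.comp w (fpFst y x))
  obtain ⟨a, ⟨ia⟩⟩ := exists_iso_overMap (BasedFunctor.comp w (fpSnd y x))
  have sb : ∀ Q : MorphismProperty (AlgSp.Sp S), Good Q → AlgSt.RepByAlgSpWith Q w →
      AlgSt.RepByAlgSpWith Q x → AlgSt.RepByAlgSpWith Q (AlgSt.overMap b) :=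
    fun Q hQ h1 h2 => repByAlgSpWith_of_iso _ ib (repByAlgSpWith_comp hQ.bc hQ.comp hQ.det
      (isFibGrpd_overCat W) hM h1 (repByAlgSpWith_fpFst Q y h2))
  have sa : ∀ Q : MorphismProperty (AlgSp.Sp S), Good Q → AlgSt.RepByAlgSpWith Q w →
      AlgSt.RepByAlgSpWith Q y → AlgSt.RepByAlgSpWith Q (AlgSt.overMap a) :=
    fun Q hQ h1 h2 => repByAlgSpWith_of_iso _ ia (repByAlgSpWith_comp hQ.bc hQ.comp hQ.det
      (isFibGrpd_overCat W) hM h1 (repByAlgSpWith_fpSnd Q y h2))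
  exact ⟨W, a, b, ⟨isoWhiskerRight ia.symm x ≪≫ isoWhiskerLeft w (fpIso y x).symm ≪≫ isoWhiskerRight ib y⟩,
    mem_scheme_of_overMap Groth.Agent.AlgSpCov.standard_smooth (sa _ good_smooth hw hy),
    mem_scheme_of_overMap Groth.Agent.AlgSpCov.standard_smooth (sb _ good_smooth hw hx),
    fun hs => surjective_of_overMap (sb _ good_surjective hws hs),
    fun hs => surjective_of_overMap (sa _ good_surjective hws hs)⟩

theorem repByAlgSpWith_comp_isEquivOver {P : MorphismProperty (AlgSp.Sp S)} {𝒲 : AlgSt.Cat S}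
    {u : 𝒳 ⥤ᵇ 𝒴} (hu : AlgSt.RepByAlgSpWith P u) {E : 𝒲 ⥤ᵇ 𝒳} (hE : IsEquivOver E) :
    AlgSt.RepByAlgSpWith P (BasedFunctor.comp E u) :=
  (repByAlgSpWith_iff_of_equiv P E (BasedFunctor.id _) hE (isEquivOver_id _) (f := u)
    (f' := BasedFunctor.comp E u) (Iso.refl _)).1 hu

variable {P : MorphismProperty (AlgSp.Sp S)} {f : 𝒳 ⥤ᵇ 𝒴}

theorem mem_of_locQ_of {τ : Precoverage Scheme.{u}}
    (hover : ∀ W : Over S, AlgSt.IsAlgStack τ (overCat W))
    (hP : AlgSp.IsSmoothLocalST P) (h𝒳 : AlgSt.IsAlgStack τ 𝒳)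
    (h𝒴 : AlgSt.IsAlgStack τ 𝒴) (hf : AlgSt.LocQ P f) {U V : Over S}
    {x : overCat U ⥤ᵇ 𝒳} {y : overCat V ⥤ᵇ 𝒴} {h : U ⟶ V}
    (α : BasedFunctor.comp x f ≅ BasedFunctor.comp (AlgSt.overMap h) y)
    (hy : AlgSt.RepByAlgSpWith (AlgSp.LocP @Smooth) y)
    (hl : AlgSt.RepByAlgSpWith (AlgSp.LocP @Smooth) (fpLift x (AlgSt.overMap h) α)) :
    P ((AlgSp.yon S).map h) := by
  obtain ⟨U₀, V₀, x₀, y₀, h₀, α₀, hx₀, hxs₀, hy₀, hP₀⟩ := hf
  -- the chart of `V₀ ×_𝒴 V`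
  obtain ⟨Z, w, hw, hws⟩ := atlasProp_smooth.atlas (repByAlgSp1_chart h𝒴 y V₀ y₀)
  have hVV : IsFibGrpd (fp y₀ y).p :=
    isFibGrpd_fp (isFibGrpd_overCat V₀) (isFibGrpd_overCat V) h𝒴.isStack.1 y₀ y
  obtain ⟨e₀, ⟨i₀⟩⟩ := exists_iso_overMap (BasedFunctor.comp w (fpFst y₀ y))
  obtain ⟨e, ⟨ie⟩⟩ := exists_iso_overMap (BasedFunctor.comp w (fpSnd y₀ y))
  have he₀ : Smooth e₀.left := mem_scheme_of_overMap Groth.Agent.AlgSpCov.standard_smooth
    (repByAlgSpWith_of_iso _ i₀ (repByAlgSpWith_comp good_smooth.bc good_smooth.comp good_smooth.det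
      (isFibGrpd_overCat Z) hVV hw (repByAlgSpWith_fpFst _ y₀ hy)))
  have he : Smooth e.left := mem_scheme_of_overMap Groth.Agent.AlgSpCov.standard_smooth
    (repByAlgSpWith_of_iso _ ie (repByAlgSpWith_comp good_smooth.bc good_smooth.comp good_smooth.det
      (isFibGrpd_overCat Z) hVV hw (repByAlgSpWith_fpSnd _ y₀ hy₀)))
  -- the smooth surjective chart `U₀ ×_{V₀} Z` of `𝒳 ×_𝒴 V`
  obtain ⟨N, hN, ⟨iN1⟩, ⟨iN2⟩⟩ := exists_equiv_pullback h₀ e₀
  obtain ⟨C1, hC1, ⟨iC11⟩, ⟨iC12⟩⟩ := exists_fp_congr (F := AlgSt.overMap h₀) (F' := AlgSt.overMap h₀)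
    (G := AlgSt.overMap e₀) (G' := BasedFunctor.comp w (fpFst y₀ y)) (Iso.refl _) i₀
  let R1 := fpMap (F := AlgSt.overMap h₀) (G := fpFst y₀ y) (F' := AlgSt.overMap h₀)
    (G' := BasedFunctor.comp w (fpFst y₀ y)) (BasedFunctor.id _) w (BasedFunctor.id _) (Iso.refl _) (Iso.refl _)
  obtain ⟨E, hE, ⟨iE1⟩, ⟨iE2⟩⟩ := exists_fp_of_cart _ _ _ (fpLift_self_isEquivOver y₀ y) (AlgSt.overMap h₀)
  obtain ⟨C2, hC2, ⟨iC21⟩, ⟨iC22⟩⟩ := exists_fp_congr (F := BasedFunctor.comp (AlgSt.overMap h₀) y₀)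
    (F' := BasedFunctor.comp x₀ f) (G := y) (G' := y) α₀ (Iso.refl _)
  let L := fpMap (F := f) (G := y) (F' := BasedFunctor.comp x₀ f) (G' := y) x₀ (BasedFunctor.id _)
    (BasedFunctor.id _) (Iso.refl _) (Iso.refl _)
  let EC := BasedFunctor.comp E C2
  let NC := BasedFunctor.comp N C1
  let ψ : overCat (pullback h₀ e₀) ⥤ᵇ fp f y :=
    BasedFunctor.comp (BasedFunctor.comp NC R1) (BasedFunctor.comp EC L)
  have hmid : IsFibGrpd (fp (AlgSt.overMap h₀) (fpFst y₀ y)).p :=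
    isFibGrpd_fp (isFibGrpd_overCat U₀) hVV (isFibGrpd_overCat V₀) _ _
  have hψ : ∀ Q : MorphismProperty (AlgSp.Sp S), Good Q → AlgSt.RepByAlgSpWith Q w →
      AlgSt.RepByAlgSpWith Q x₀ → AlgSt.RepByAlgSpWith Q ψ := fun Q hQ h1 h2 =>
    repByAlgSpWith_comp hQ.bc hQ.comp hQ.det (isFibGrpd_overCat _) hmid
      (repByAlgSpWith_comp_isEquivOver (repByAlgSpWith_fpMap_right Q h1 _ _) (isEquivOver_comp hN hC1))
      (repByAlgSpWith_comp_isEquivOver (repByAlgSpWith_fpMap_left Q h2 f y) (isEquivOver_comp hE hC2))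
  let jR : BasedFunctor.comp ψ (fpSnd f y) ≅
      BasedFunctor.comp (AlgSt.overMap (pullback.snd h₀ e₀)) (AlgSt.overMap e) :=
    isoWhiskerLeft (BasedFunctor.comp (BasedFunctor.comp NC R1) E) iC22 ≪≫
      isoWhiskerLeft (BasedFunctor.comp NC R1) iE2 ≪≫
        isoWhiskerRight (isoWhiskerLeft N iC12 ≪≫ iN2) (BasedFunctor.comp w (fpSnd y₀ y)) ≪≫
          isoWhiskerLeft (AlgSt.overMap (pullback.snd h₀ e₀)) ie
  -- compare with the given square
  have hFy : AlgSt.IsAlgStack τ (fp f y) :=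
    isAlgStack_fp h𝒴.isStack h𝒴.diag h𝒳 (hover V) f y
  obtain ⟨T, t₁, t₂, ⟨it⟩, ht₁, ht₂, -, hsurj⟩ :=
    exists_chart_fp_smooth hFy hl (hψ _ good_smooth hw hx₀)
  have := hsurj (hψ _ good_surjective hws hxs₀)
  have heq : t₁ ≫ h = (t₂ ≫ pullback.snd h₀ e₀) ≫ e := overMap_injective
    (overMapCompIso t₁ h ≪≫ isoWhiskerRight it (fpSnd f y) ≪≫
      isoWhiskerLeft (AlgSt.overMap t₂) (jR ≪≫ (overMapCompIso (pullback.snd h₀ e₀) e).symm) ≪≫
      (overMapCompIso t₂ (pullback.snd h₀ e₀ ≫ e)).symm ≪≫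
      eqToIso (congrArg AlgSt.overMap (Category.assoc t₂ (pullback.snd h₀ e₀) e).symm))
  have hsm : ∀ {A B : Over S} (g : A ⟶ B), Smooth g.left →
      AlgSp.LocP (S := S) @Smooth ((AlgSp.yon S).map g) := fun g hg =>
    Groth.Agent.AlgSpCov.locP_of_repWith Groth.Agent.AlgSpCov.standard_smooth.etaleLocal
      ((AlgSp.repWith_yon_map_iff _ _).2 hg)
  have hPk : P ((AlgSp.yon S).map (t₂ ≫ pullback.snd h₀ e₀)) := by
    rw [Functor.map_comp]
    exact hP.precomp (isAlgSpace_yon _) (isAlgSpace_yon _) (isAlgSpace_yon _) _ _ (hsm t₂ ht₂)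
      (hP.baseChange (isAlgSpace_yon _) (isAlgSpace_yon _) (isAlgSpace_yon _) (isAlgSpace_yon _) _ _ _ _
        ((IsPullback.of_hasPullback h₀ e₀).map (AlgSp.yon S)) (hsm e₀ he₀) hP₀)
  refine (hP.locality (isAlgSpace_yon U) (isAlgSpace_yon V) _).2 fun p => ?_
  obtain ⟨u, rfl⟩ := (AlgSp.Points.schemeHomeo U).surjective p
  obtain ⟨t, rfl⟩ := t₁.left.surjective u
  exact ⟨_, _, (AlgSp.yon S).map t₁, (AlgSp.yon S).map e, (AlgSp.yon S).map (t₂ ≫ pullback.snd h₀ e₀),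
    AlgSp.Points.schemeHomeo T t, isAlgSpace_yon _, isAlgSpace_yon _, hsm t₁ ht₁, hsm e he,
    by rw [← Functor.map_comp, ← Functor.map_comp, heq], AlgSp.Points.map_yon_map_apply _ _, hPk⟩

theorem mem_of_locQ (hP : AlgSp.IsSmoothLocalST P) (h𝒳 : AlgSt.IsAlgStack Scheme.fppfPrecoverage 𝒳)
    (h𝒴 : AlgSt.IsAlgStack Scheme.fppfPrecoverage 𝒴) (hf : AlgSt.LocQ P f) {U V : Over S}
    {x : overCat U ⥤ᵇ 𝒳} {y : overCat V ⥤ᵇ 𝒴} {h : U ⟶ V}
    (α : BasedFunctor.comp x f ≅ BasedFunctor.comp (AlgSt.overMap h) y)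
    (hy : AlgSt.RepByAlgSpWith (AlgSp.LocP @Smooth) y)
    (hl : AlgSt.RepByAlgSpWith (AlgSp.LocP @Smooth) (fpLift x (AlgSt.overMap h) α)) :
    P ((AlgSp.yon S).map h) :=
  mem_of_locQ_of (fun W => isAlgStack_of_repByAlgSp (repByAlgSp_overCat W)) hP h𝒳 h𝒴 hf α hy hl

/-- A chart square over a given chart of the target whose comparison map is smooth. -/
theorem exists_smooth_square (h𝒳 : AlgSt.IsAlgStack Scheme.fppfPrecoverage 𝒳)
    (h𝒴 : AlgSt.IsAlgStack Scheme.fppfPrecoverage 𝒴) (f : 𝒳 ⥤ᵇ 𝒴) {V : Over S} {y : overCat V ⥤ᵇ 𝒴}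
    (hy : AlgSt.RepByAlgSpWith (AlgSp.LocP @Smooth) y) :
    ∃ (U : Over S) (x : overCat U ⥤ᵇ 𝒳) (h : U ⟶ V)
      (α : BasedFunctor.comp x f ≅ BasedFunctor.comp (AlgSt.overMap h) y),
      AlgSt.RepByAlgSpWith (AlgSp.LocP @Smooth) x ∧
      (AlgSt.RepByAlgSpWith AlgSp.IsSurjectiveMor y → AlgSt.RepByAlgSpWith AlgSp.IsSurjectiveMor x) ∧
      AlgSt.RepByAlgSpWith (AlgSp.LocP @Smooth) (fpLift x (AlgSt.overMap h) α) ∧
      AlgSt.RepByAlgSpWith AlgSp.IsSurjectiveMor (fpLift x (AlgSt.overMap h) α) := by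
  have hV := isAlgStack_of_repByAlgSp (repByAlgSp_overCat V)
  have hFy := isAlgStack_fp h𝒴.isStack h𝒴.diag h𝒳 hV f y
  obtain ⟨U, w, hw, hws⟩ := hFy.atlas
  obtain ⟨h, ⟨ih⟩⟩ := exists_iso_overMap (BasedFunctor.comp w (fpSnd f y))
  let x := BasedFunctor.comp w (fpFst f y)
  let α : BasedFunctor.comp x f ≅ BasedFunctor.comp (AlgSt.overMap h) y :=
    isoWhiskerLeft w (fpIso f y) ≪≫ isoWhiskerRight ih y
  let β : w ≅ fpLift x (AlgSt.overMap h) α :=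
    isoMk (F := w) (G := fpLift x (AlgSt.overMap h) α)
      (fun a => fpIsoMk (Iso.refl _) (isoApp ih a) (by
        change f.map (𝟙 _) ≫ (isoApp (isoWhiskerLeft w (fpIso f y) ≪≫ isoWhiskerRight ih y) a).hom =
          (w.obj a).obj.iso.hom ≫ y.map (isoApp ih a).hom
        rw [CategoryTheory.Functor.map_id, Category.id_comp]
        rfl))
      (fun a => Vert.id _)
      (fun {a b} φ => fp_hom_ext (F := f) (G := y) ((Category.comp_id _).trans (Category.id_comp _).symm)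
        (isoApp_naturality ih φ))
  refine ⟨U, x, h, α, ?_, fun hys => ?_, repByAlgSpWith_of_iso _ β hw, repByAlgSpWith_of_iso _ β hws⟩
  · exact repByAlgSpWith_comp good_smooth.bc good_smooth.comp good_smooth.det (isFibGrpd_overCat U)
      hFy.isStack.1 hw (repByAlgSpWith_fpFst _ f hy)
  · exact repByAlgSpWith_comp good_surjective.bc good_surjective.comp good_surjective.det
      (isFibGrpd_overCat U) hFy.isStack.1 hws (repByAlgSpWith_fpFst _ f hys)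

theorem locQ_iff_forall (hP : AlgSp.IsSmoothLocalST P) (h𝒳 : AlgSt.IsAlgStack Scheme.fppfPrecoverage 𝒳)
    (h𝒴 : AlgSt.IsAlgStack Scheme.fppfPrecoverage 𝒴) :
    AlgSt.LocQ P f ↔
      ∀ (U V : Over S) (x : overCat U ⥤ᵇ 𝒳) (y : overCat V ⥤ᵇ 𝒴) (h : U ⟶ V)
        (α : BasedFunctor.comp x f ≅ BasedFunctor.comp (AlgSt.overMap h) y),
        AlgSt.RepByAlgSpWith (AlgSp.LocP @Smooth) x → AlgSt.RepByAlgSpWith (AlgSp.LocP @Smooth) y →
        AlgSt.RepByAlgSpWith (AlgSp.LocP @Smooth) (fpLift x (AlgSt.overMap h) α) →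
          P ((AlgSp.yon S).map h) := by
  refine ⟨fun hf U V x y h α _ hy hl => mem_of_locQ hP h𝒳 h𝒴 hf α hy hl, fun H => ?_⟩
  obtain ⟨V, y, hy, hys⟩ := h𝒴.atlas
  obtain ⟨U, x, h, α, hx, hxs, hl, -⟩ := exists_smooth_square h𝒳 h𝒴 f hy
  exact ⟨U, V, x, y, h, α, hx, hxs hys, hy, H U V x y h α hx hy hl⟩

end Groth.Agent.StFib
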