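import Groth.Agent.StFib.RepPoints

/-!
Quasi-compactness of algebraic stacks on points.
-/

set_option backward.isDefEq.respectTransparency false
set_option backward.isDefEq.respectTransparency.types false
set_option linter.unusedVariables false

universe u

open CategoryTheory CategoryTheory.Limits AlgebraicGeometry Opposite FibCat TopologicalSpace

namespace Groth.Agent.StFib

variable {S : Scheme.{u}} {𝒳 𝒴 : AlgSt.Cat S}

theorem repByAlgSpWith_overMap_locP {P : MorphismProperty Scheme.{u}}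
    (hP : Groth.Agent.AlgSpCov.Standard P) {U V : Over S} (h : V ⟶ U) (hh : P h.left) :
    AlgSt.RepByAlgSpWith (AlgSp.LocP P) (AlgSt.overMap h) := by
  have := hP.bc
  exact (repByAlgSpWith_iff_of_equiv _ (AlgSt.toOverCat V) (AlgSt.toOverCat U)
    (toOverCat_isEquivOver V) (toOverCat_isEquivOver U) (toOverCatIso h)).2
    (repByAlgSpWith_ofSpMap (good_locP hP).bc (isAlgSpace_yon V) (isAlgSpace_yon U) _
      (Groth.Agent.AlgSpCov.locP_of_repWith hP.etaleLocal ((AlgSp.repWith_yon_map_iff _ _).2 hh)))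

theorem exists_open_compact_nhd (h : AlgSt.IsAlgStack Scheme.fppfPrecoverage 𝒳) (x : AlgSt.Points 𝒳)
    (W : Set (AlgSt.Points 𝒳)) (hW : IsOpen W) (hx : x ∈ W) :
    ∃ V : Set (AlgSt.Points 𝒳), IsOpen V ∧ IsCompact V ∧ x ∈ V ∧ V ⊆ W := by
  obtain ⟨U, z, hz, hzs⟩ := h.atlas
  obtain ⟨t, rfl⟩ := ofChart_surjective h.isStack.1 hzs x
  obtain ⟨O, hO, htO, hOW⟩ := U.left.isBasis_affineOpens.exists_subset_of_mem_open
    (show t ∈ AlgSt.Points.ofChart z ⁻¹' W from hx) (hW.preimage (continuous_ofChart h z))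
  obtain ⟨O, hO', rfl⟩ := hO
  exact ⟨_, isOpenMap_ofChart h (repByAlgSpWith_flat_of_smooth hz) (repByAlgSpWith_lfp_of_smooth hz) _
      O.isOpen, (IsAffineOpen.isCompact hO').image (continuous_ofChart h z), ⟨t, htO, rfl⟩,
    Set.image_subset_iff.2 hOW⟩

theorem compactSpace_points (h : AlgSt.IsAlgStack Scheme.fppfPrecoverage 𝒳)
    (hc : AlgSt.IsQuasiCompact 𝒳) : CompactSpace (AlgSt.Points 𝒳) := by
  obtain ⟨U, z, hU, hz, hzs⟩ := hc
  exact (ofChart_surjective h.isStack.1 hzs).compactSpace (continuous_ofChart h z)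

theorem isQuasiCompact_of_compactSpace (h : AlgSt.IsAlgStack Scheme.fppfPrecoverage 𝒳)
    [CompactSpace (AlgSt.Points 𝒳)] : AlgSt.IsQuasiCompact 𝒳 := by
  obtain ⟨U, z, hz, hzs⟩ := h.atlas
  let 𝒰 := U.left.affineCover
  obtain ⟨I, hI⟩ := isCompact_univ.elim_finite_subcover
    (fun i => AlgSt.Points.ofChart z '' Set.range (𝒰.f i))
    (fun i => isOpenMap_ofChart h (repByAlgSpWith_flat_of_smooth hz) (repByAlgSpWith_lfp_of_smooth hz) _
      (𝒰.f i).opensRange.isOpen)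
    (fun P _ => by
      obtain ⟨t, rfl⟩ := ofChart_surjective h.isStack.1 hzs P
      obtain ⟨i, w, hw⟩ := 𝒰.exists_eq t
      exact Set.mem_iUnion.2 ⟨i, t, ⟨w, hw⟩, rfl⟩)
  let g : (∐ fun i : I => 𝒰.X i.1) ⟶ U.left := Sigma.desc fun i => 𝒰.f i.1
  have : Smooth g := IsZariskiLocalAtSource.sigmaDesc fun i => inferInstance
  let W : Over S := Over.mk (g ≫ U.hom)
  let a : W ⟶ U := Over.homMk g rfl
  refine ⟨W, BasedFunctor.comp (AlgSt.overMap a) z,
    inferInstanceAs (IsAffine (∐ fun i : I => 𝒰.X i.1)), ?_, ?_⟩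
  · exact repByAlgSpWith_comp good_smooth.bc good_smooth.comp good_smooth.det (isFibGrpd_overCat W)
      (isFibGrpd_overCat U) (repByAlgSpWith_overMap_locP Groth.Agent.AlgSpCov.standard_smooth a this) hz
  · refine (isSurjective_iff_rep (isAlgStack_of_repByAlgSp (repByAlgSp_overCat W)) h
      (repByAlgSp1_chart h _)).1 fun P => ?_
    obtain ⟨i, hi, -, ⟨w, rfl⟩, rfl⟩ := Set.mem_iUnion₂.1 (hI (Set.mem_univ P))
    refine ⟨AlgSt.Points.ofChart (BasedFunctor.id _) (Sigma.ι (fun i : I => 𝒰.X i.1) ⟨i, hi⟩ w), ?_⟩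
    rw [← ofChart_eq_map, ofChart_overMap z a]
    refine congrArg _ ?_
    change g _ = _
    rw [← Scheme.Hom.comp_apply, Sigma.ι_desc]

theorem isQuasiCompact_of_surjective (h𝒳 : AlgSt.IsAlgStack Scheme.fppfPrecoverage 𝒳)
    (h𝒴 : AlgSt.IsAlgStack Scheme.fppfPrecoverage 𝒴) {f : 𝒳 ⥤ᵇ 𝒴} (hf : AlgSt.IsSurjective f)
    (hc : AlgSt.IsQuasiCompact 𝒳) : AlgSt.IsQuasiCompact 𝒴 := by
  have := compactSpace_points h𝒳 hc
  have := (show Function.Surjective (AlgSt.Points.map f) from hf).compactSpace (continuous_points_map h𝒴 f)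
  exact isQuasiCompact_of_compactSpace h𝒴

theorem isOpenMap_points_map_rep (h𝒳 : AlgSt.IsAlgStack Scheme.fppfPrecoverage 𝒳)
    (h𝒴 : AlgSt.IsAlgStack Scheme.fppfPrecoverage 𝒴) {f : 𝒳 ⥤ᵇ 𝒴}
    (hf₁ : AlgSt.RepByAlgSpWith (AlgSp.LocP @Flat) f)
    (hf₂ : AlgSt.RepByAlgSpWith (AlgSp.LocP @LocallyOfFinitePresentation) f) :
    IsOpenMap (AlgSt.Points.map f) := by
  obtain ⟨U, z, hz, hzs⟩ := h𝒳.atlas
  have step : ∀ Q : MorphismProperty (AlgSp.Sp S), Good Q → AlgSt.RepByAlgSpWith Q z →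
      AlgSt.RepByAlgSpWith Q f → AlgSt.RepByAlgSpWith Q (BasedFunctor.comp z f) :=
    fun Q hQ h1 h2 => repByAlgSpWith_comp hQ.bc hQ.comp hQ.det (isFibGrpd_overCat U) h𝒳.isStack.1 h1 h2
  have ho := isOpenMap_ofChart h𝒴
    (step _ (good_locP Groth.Agent.AlgSpCov.standard_flat) (repByAlgSpWith_flat_of_smooth hz) hf₁)
    (step _ (good_locP Groth.Agent.AlgSpCov.standard_locallyOfFinitePresentation)
      (repByAlgSpWith_lfp_of_smooth hz) hf₂)
  intro Ω hΩ
  have he : AlgSt.Points.map f '' Ω =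
      AlgSt.Points.ofChart (BasedFunctor.comp z f) '' (AlgSt.Points.ofChart z ⁻¹' Ω) := by
    ext P
    constructor
    · rintro ⟨Q, hQ, rfl⟩
      obtain ⟨u, rfl⟩ := ofChart_surjective h𝒳.isStack.1 hzs Q
      exact ⟨u, hQ, rfl⟩
    · rintro ⟨u, hu, rfl⟩
      exact ⟨_, hu, rfl⟩
  rw [he]
  exact ho _ (hΩ U z hz)

theorem isOpen_range_openSubstack (h : AlgSt.IsAlgStack Scheme.fppfPrecoverage 𝒳) {Q : 𝒳.obj → Prop}
    (hQ : AlgSt.IsOpenSubstack 𝒳 Q Scheme.fppfPrecoverage) :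
    IsOpen (Set.range (AlgSt.Points.map (AlgSt.subIncl 𝒳 Q))) :=
  (isOpenMap_points_map_rep hQ.2.1 h
    (repByAlgSpWith_mono hQ.2.2 fun F V m hm => Groth.Agent.AlgSpCov.locP_of_repWith
      Groth.Agent.AlgSpCov.etaleLocal_flat (Groth.Agent.AlgSp.repWith_mono
        (fun g hg => (have : IsOpenImmersion g := hg; inferInstance : Flat g)) hm))
    (repByAlgSpWith_mono hQ.2.2 fun F V m hm => Groth.Agent.AlgSpCov.locP_of_repWith
      Groth.Agent.AlgSpCov.etaleLocal_locallyOfFinitePresentation (Groth.Agent.AlgSp.repWith_mono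
        (fun g hg => (have : IsOpenImmersion g := hg; inferInstance : LocallyOfFinitePresentation g)) hm))).isOpen_range

end Groth.Agent.StFib
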