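import Groth.Agent.StFib.SliceSheaf
import Mathlib.AlgebraicGeometry.Morphisms.FormallyUnramified
import Mathlib.RingTheory.LocalRing.Module
import Mathlib.LinearAlgebra.Dual.Lemmas

/-!
# Unramified morphisms through tangent vectors at field points
-/

set_option linter.unusedVariables false
set_option backward.isDefEq.respectTransparency false
set_option backward.isDefEq.respectTransparency.types false

universe u

open CategoryTheory CategoryTheory.Limits AlgebraicGeometry Opposite TensorProduct

namespace Groth.Agent.StFib.Slice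

attribute [-instance] IsLocalRing.instModuleResidueFieldOfAlgebra

theorem algebra_unramified_of_derivations (R T : Type u) [CommRing R] [CommRing T] [Algebra R T]
    [Algebra.FiniteType R T]
    (H : ∀ (K : Type u) [Field K] (φ : T →+* K),
      letI := φ.toAlgebra
      letI : Algebra R K := (φ.comp (algebraMap R T)).toAlgebra
      ∀ D : Derivation R T K, D = 0) : Algebra.FormallyUnramified R T := by
  refine ⟨(Module.support_eq_empty_iff (R := T)).1 (Set.eq_empty_iff_forall_notMem.2 fun p hp => ?_)⟩
  have := (Module.mem_support_iff_nontrivial_residueField_tensorProduct p).1 hp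
  let k := p.asIdeal.ResidueField
  obtain ⟨v, hv⟩ := exists_ne (0 : k ⊗[T] Ω[T⁄R])
  obtain ⟨φ, hφ⟩ := Module.Projective.exists_dual_ne_zero k hv
  let L : Ω[T⁄R] →ₗ[T] k :=
    ((φ : k ⊗[T] Ω[T⁄R] →ₗ[k] k).restrictScalars T).comp (TensorProduct.mk T k Ω[T⁄R] 1)
  let d : Derivation R T k := L.compDer (KaehlerDifferential.D R T)
  have H' : ∀ (K : Type u) [Field K] [i : Algebra T K] [j : Algebra R K] [IsScalarTower R T K]
      (D : Derivation R T K), D = 0 := by
    intro K _ i j _
    obtain ⟨χ, hi⟩ : ∃ χ : T →+* K, i = χ.toAlgebra := ⟨@algebraMap T K _ _ i, Algebra.algebra_ext _ _ fun _ => rfl⟩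
    subst hi
    let _ : Algebra T K := χ.toAlgebra
    obtain rfl : j = (χ.comp (algebraMap R T)).toAlgebra :=
      Algebra.algebra_ext _ _ fun r => IsScalarTower.algebraMap_apply R T K r
    exact H K χ
  have hd : ∀ x, d x = 0 := fun x => congr($(H' k d) x)
  have hL : L = 0 := by
    apply (KaehlerDifferential.linearMapEquivDerivation R T).injective
    rw [map_zero]
    exact Derivation.ext hd
  apply hφ
  have : φ = 0 := by
    refine TensorProduct.AlgebraTensorModule.curry_injective ?_
    refine LinearMap.ext_ring (LinearMap.ext fun w => ?_)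
    simpa [L] using congr($hL w)
  rw [this]
  rfl

theorem formallyUnramified_of_lifts {U T : Scheme.{u}} (k : U ⟶ T) [LocallyOfFiniteType k]
    (H : ∀ (K : Type u) [Field K] (v : Spec (CommRingCat.of K) ⟶ U) (δ₁ δ₂ : dualPt K ⟶ U),
      IsLift k v δ₁ → IsLift k v δ₂ → δ₁ = δ₂) : FormallyUnramified k := by
  rw [HasRingHomProperty.iff_appLE (P := @FormallyUnramified)]
  intro UR VT hle
  have hR := UR.2
  have hT := VT.2
  let R := Γ(T, UR.1)
  let A := Γ(U, VT.1)
  let _ : Algebra R A := (k.appLE UR.1 VT.1 hle).hom.toAlgebra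
  have : Algebra.FiniteType R A := k.finiteType_appLE hR hT hle
  change Algebra.FormallyUnramified R A
  refine algebra_unramified_of_derivations R A fun K _ φ => ?_
  let := φ.toAlgebra
  let : Algebra R K := (φ.comp (k.appLE UR.1 VT.1 hle).hom).toAlgebra
  intro D
  obtain ⟨δ, hl, ψ, hδ, hψ⟩ := exists_lift_of_derivation k hR hT hle φ D
  obtain ⟨δ₀, hl₀, ψ₀, hδ₀, hψ₀⟩ := exists_lift_of_derivation k hR hT hle φ 0
  have heq := H K (pt hT φ) δ δ₀ hl hl₀
  subst hδ hδ₀
  rw [cancel_mono] at heq
  refine Derivation.ext fun x => ?_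
  have := congr(TrivSqZeroExt.snd ($(Spec.map_injective heq) x))
  simpa [hψ, hψ₀] using this

end Groth.Agent.StFib.Slice
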