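import Groth.Agent.StFib.DMFaithful
import Groth.Agent.StFib.UnramifiedLifts

/-!
# Trivial automorphisms at field points give representability
-/

set_option linter.unusedVariables false
set_option backward.isDefEq.respectTransparency false
set_option backward.isDefEq.respectTransparency.types false

universe u

open CategoryTheory CategoryTheory.Limits AlgebraicGeometry Opposite FibCat

namespace Groth.Agent.StFib

section Space

open _root_.AlgSp

variable {S : Scheme.{u}}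

/-- A space over a scheme with at most one section over every scheme over a field point is unramified. -/
theorem locP_unramified_of_unique_sections {A : Sp S} (hA : IsAlgSpace A) {T : Over S}
    (a : A ⟶ (yon S).obj T) (hl : LocP @LocallyOfFiniteType a)
    (H : ∀ (K : Type u) [Field K] (X₀ : Over S) (_ : X₀.left = Spec (CommRingCat.of K)) (t₀ : X₀ ⟶ T)
      (X : Over S) (ρ : X ⟶ X₀) (r₁ r₂ : (yon S).obj X ⟶ A),
      r₁ ≫ a = (yon S).map (ρ ≫ t₀) → r₂ ≫ a = (yon S).map (ρ ≫ t₀) → r₁ = r₂) :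
    LocP (@LocallyOfFiniteType ⊓ @FormallyUnramified) a := by
  obtain ⟨U, α, hα, hαs⟩ := hA.atlas
  obtain ⟨k, hk⟩ := (yon S).map_surjective (α ≫ a)
  have hkl : LocallyOfFiniteType k.left :=
    hl α (𝟙 _) k hα (repWith_id _ T) (by rw [Category.comp_id]; exact hk.symm)
  have := Groth.Agent.AlgSpCov.standard_unramified.{u}.bc
  have := Groth.Agent.AlgSpCov.standard_unramified.{u}.comp
  refine Groth.Agent.AlgSpCov.locP_of_one_chart Groth.Agent.AlgSpCov.standard_unramified.etaleLocal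
    Groth.Agent.AlgSpCov.standard_unramified.of_etale (IsAlgSpace.yon_obj T) (V := T) hα hαs (repWith_id _ T)
    (by rw [Category.comp_id]; exact hk.symm) ⟨hkl, Slice.formallyUnramified_of_lifts k.left ?_⟩
  intro K _ v δ₁ δ₂ h₁ h₂
  let X₀ : Over S := Over.mk (v ≫ U.hom)
  let X : Over S := Over.mk (Slice.retr K ≫ v ≫ U.hom)
  let ρ : X ⟶ X₀ := Over.homMk (Slice.retr K) rfl
  let t₀ : X₀ ⟶ T := Over.homMk (v ≫ k.left) (by
    change (v ≫ k.left) ≫ T.hom = v ≫ U.hom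
    rw [Category.assoc, Over.w k])
  have hstr : ∀ δ, Slice.IsLift k.left v δ → δ ≫ U.hom = X.hom := fun δ h => by
    rw [← Over.w k, reassoc_of% h.2, Over.w k]
    rfl
  let d₁ : X ⟶ U := Over.homMk δ₁ (hstr _ h₁)
  let d₂ : X ⟶ U := Over.homMk δ₂ (hstr _ h₂)
  have hd : ∀ (δ : Slice.dualPt K ⟶ U.left) (h : Slice.IsLift k.left v δ),
      ((yon S).map (Over.homMk δ (hstr δ h) : X ⟶ U) ≫ α) ≫ a = (yon S).map (ρ ≫ t₀) := fun δ h => by
    rw [Category.assoc, ← hk, ← Functor.map_comp]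
    exact congrArg (yon S).map (Over.OverMorphism.ext h.2)
  have heq : (yon S).map d₁ ≫ α = (yon S).map d₂ ≫ α := H K X₀ rfl t₀ X ρ _ _ (hd δ₁ h₁) (hd δ₂ h₂)
  obtain ⟨O, e, fst, hO⟩ := hα.1 ((yon S).map d₁ ≫ α)
  have hmem : Etale e.left := hα.2 _ fst e hO
  obtain ⟨fst, rfl⟩ := (yon S).map_surjective fst
  obtain ⟨τ₁, hτ₁⟩ := (yon S).map_surjective (hO.lift ((yon S).map d₁) (𝟙 _) (by rw [Category.id_comp]))
  obtain ⟨τ₂, hτ₂⟩ := (yon S).map_surjective (hO.lift ((yon S).map d₂) (𝟙 _) (by rw [Category.id_comp]; exact heq.symm))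
  have e₁ : τ₁ ≫ e = 𝟙 X := (yon S).map_injective (by
    rw [Functor.map_comp, hτ₁, hO.lift_snd, CategoryTheory.Functor.map_id])
  have e₂ : τ₂ ≫ e = 𝟙 X := (yon S).map_injective (by
    rw [Functor.map_comp, hτ₂, hO.lift_snd, CategoryTheory.Functor.map_id])
  have f₁ : τ₁ ≫ fst = d₁ := (yon S).map_injective (by rw [Functor.map_comp, hτ₁, hO.lift_fst])
  have f₂ : τ₂ ≫ fst = d₂ := (yon S).map_injective (by rw [Functor.map_comp, hτ₂, hO.lift_fst])
  let i₀ : X₀ ⟶ X := Over.homMk (Slice.incl K) (Slice.incl_retr_assoc K _)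
  have hi : i₀ ≫ τ₁ = i₀ ≫ τ₂ := (yon S).map_injective (hO.hom_ext (by
      rw [← Functor.map_comp, ← Functor.map_comp, Category.assoc, Category.assoc, f₁, f₂]
      exact congrArg (yon S).map (Over.OverMorphism.ext (h₁.1.trans h₂.1.symm))) (by
      rw [← Functor.map_comp, ← Functor.map_comp, Category.assoc, Category.assoc, e₁, e₂]))
  obtain ⟨σ, -, huniq⟩ := Slice.existsUnique_section e.left (i₀ ≫ τ₁).left (by
    change (Slice.incl K ≫ τ₁.left) ≫ e.left = _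
    rw [Category.assoc]
    exact (congrArg (Slice.incl K ≫ ·) (congrArg (fun m => m.left) e₁)).trans (Category.comp_id _))
  have u₁ := huniq τ₁.left ⟨rfl, congrArg (fun m => m.left) e₁⟩
  have u₂ := huniq τ₂.left ⟨(congrArg (fun m => m.left) hi).symm, congrArg (fun m => m.left) e₂⟩
  have h12 : τ₁.left ≫ fst.left = τ₂.left ≫ fst.left := by rw [u₁, u₂]
  exact (congrArg (fun m => m.left) f₁).symm.trans (h12.trans (congrArg (fun m => m.left) f₂))

end Space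

variable {S : Scheme.{u}} {𝒳 𝒴 : AlgSt.Cat S} {K' : Precoverage Scheme.{u}}

/-- The automorphisms killed by `f` of restrictions of field points are trivial. -/
def TrivialAutAtFields (f : 𝒳 ⥤ᵇ 𝒴) : Prop :=
  ∀ (K : Type u) [Field K] (X₀ : Over S) (_ : X₀.left = Spec (CommRingCat.of K)) (x : overCat X₀ ⥤ᵇ 𝒳)
    (T : (overCat X₀).obj) (φ : x.obj T ⟶ x.obj T), Vert φ → f.map φ = 𝟙 _ → φ = 𝟙 _

theorem lft_diag_generic (h𝒳 : AlgSt.IsAlgStack K' 𝒳) (h𝒴 : AlgSt.IsAlgStack K' 𝒴) (f : 𝒳 ⥤ᵇ 𝒴) :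
    AlgSt.RepByAlgSpWith (AlgSp.LocP @LocallyOfFiniteType) (diag f) := by
  obtain ⟨U, x, hx, hxs⟩ := h𝒳.atlas
  have step : ∀ {R : MorphismProperty Scheme.{u}},
      (∀ {A B : Scheme.{u}} (g : A ⟶ B), Smooth g → R g) → AlgSt.RepByAlgSpWith (AlgSp.LocP R) x := fun hR =>
    repByAlgSpWith_mono hx fun F T m hm A B a b k ha hb e => hR _ (hm a b k ha hb e)
  have hc : ∀ ⦃A B C : Scheme.{u}⦄ (a : A ⟶ B) (k : B ⟶ C),
      LocallyOfFiniteType (a ≫ k) → LocallyOfFiniteType a :=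
    fun _ _ _ a k hh => have := hh; locallyOfFiniteType_of_comp a k
  have h0 : AlgSt.RepByAlgSpWith (AlgSp.LocP @LocallyOfFiniteType) (diag (toSelf 𝒳)) :=
    diag_toSelf_of_chart Groth.Agent.AlgSpCov.standard_locallyOfFiniteType hc fppfLocal_lft h𝒳.isStack.1 h𝒳.diag
      (x := x) (step fun g _ => inferInstance) (step fun g _ => inferInstance) hxs (step fun g _ => inferInstance)
  obtain ⟨i⟩ := exists_iso_toSelf (BasedFunctor.comp f (toSelf 𝒴))
  exact diag_of_comp_mem (Q := ⊤) good_lft.bc (fun A B C _ _ hC a b _ hab => locP_of_comp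
      Groth.Agent.AlgSpCov.etaleLocal_locallyOfFiniteType hc hC a b hab)
    (repByAlgSp1_iff_with_top.1 h𝒴.diag) (repByAlgSpWith_diag_of_iso _ i.symm h0)

theorem isDMMor_of_trivialAut (h𝒳 : AlgSt.IsAlgStack K' 𝒳) (h𝒴 : AlgSt.IsAlgStack K' 𝒴) (f : 𝒳 ⥤ᵇ 𝒴)
    (hT : TrivialAutAtFields f) : AlgSt.IsDMMor f := by
  intro T y
  have hl := lft_diag_generic h𝒳 h𝒴 f
  obtain ⟨A, e, he, -⟩ := hl T y
  refine ⟨A, e, he, locP_unramified_of_unique_sections A.property _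
    (mem_of_rep_chart good_lft.bc good_lft.det hl y A e he) ?_⟩
  intro K _ X₀ hX₀ t₀ X ρ r₁ r₂ h₁ h₂
  let Φ := BasedFunctor.comp e (fpFst y (diag f))
  let sec : ((AlgSp.yon S).obj X ⟶ A.obj) → A.obj.obj.obj (op X) := fun r => r.hom.app (op X) ⟨𝟙 X⟩
  have hsec : ∀ (r : (AlgSp.yon S).obj X ⟶ A.obj), r ≫ AlgSt.spMapOfOver Φ = (AlgSp.yon S).map (ρ ≫ t₀) →
      AlgSt.secHom Φ ⟨X, sec r⟩ = ρ ≫ t₀ := fun r hr => by
    have := congrArg (fun m => ULift.down (m.hom.app (op X) ⟨𝟙 X⟩)) hr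
    exact this.trans (Category.id_comp (ρ ≫ t₀) :)
  let g : (overCat T).obj := Over.mk (ρ ≫ t₀)
  have hw : ∀ (r : (AlgSp.yon S).obj X ⟶ A.obj), r ≫ AlgSt.spMapOfOver Φ = (AlgSp.yon S).map (ρ ≫ t₀) →
      ∃ w : (e.obj ⟨X, sec r⟩).obj.fst ≅ g, Vert w.hom := fun r hr => by
    refine ⟨Over.isoMk (eqToIso (Φ.w_obj ⟨X, sec r⟩)) ?_, ⟨Φ.w_obj ⟨X, sec r⟩, rfl⟩⟩
    change eqToHom (Φ.w_obj ⟨X, sec r⟩) ≫ ρ ≫ t₀ = _
    rw [← hsec r hr, AlgSt.secHom, eqToHom_trans_assoc]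
    exact Category.id_comp _
  obtain ⟨w₁, hw₁⟩ := hw r₁ h₁
  obtain ⟨w₂, hw₂⟩ := hw r₂ h₂
  let z₁ := e.obj ⟨X, sec r₁⟩
  let z₂ := e.obj ⟨X, sec r₂⟩
  let w : z₁.obj.fst ≅ z₂.obj.fst := w₁ ≪≫ w₂.symm
  have hwv : Vert w.hom := hw₁.comp hw₂.inv
  obtain ⟨β, hβ, hβeq⟩ : ∃ β : (diag f).obj z₁.obj.snd ≅ (diag f).obj z₂.obj.snd,
      Vert β.hom ∧ β.hom = z₁.obj.iso.inv ≫ y.map w.hom ≫ z₂.obj.iso.hom :=
    ⟨z₁.obj.iso.symm ≪≫ y.toFunctor.mapIso w ≪≫ z₂.obj.iso,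
      (vert_fp_iso z₁).inv.comp ((hwv.map y).comp (vert_fp_iso z₂)), rfl⟩
  let u : z₁.obj.snd ≅ z₂.obj.snd := fpIsoFst (F := f) (G := f) β
  let v : z₁.obj.snd ≅ z₂.obj.snd := fpIsoSnd (F := f) (G := f) β
  have hu : Vert u.hom := vert_fp_iff.1 hβ
  have hv : Vert v.hom := vert_fp_snd hβ
  have hwe : f.map u.hom ≫ 𝟙 _ = 𝟙 _ ≫ f.map v.hom := β.hom.hom.w
  have hfe : f.map u.hom = f.map v.hom := (Category.comp_id _).symm.trans (hwe.trans (Category.id_comp _))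
  have hfφ : f.map (u.hom ≫ v.inv) = 𝟙 _ := by
    rw [f.toFunctor.map_comp, hfe, ← f.toFunctor.map_comp, Iso.hom_inv_id, f.toFunctor.map_id]
  let x : overCat X₀ ⥤ᵇ 𝒳 := BasedFunctor.comp (AlgSt.overMap t₀) (BasedFunctor.comp y (fpFst f f))
  let o : (overCat X₀).obj := Over.mk ρ
  let c : x.obj o ≅ z₁.obj.snd := fpIsoFst ((y.toFunctor.mapIso w₁).symm ≪≫ z₁.obj.iso)
  have hc : Vert c.hom := vert_fp_iff.1 ((hw₁.map y).inv.comp (vert_fp_iso z₁))
  have hconj : c.hom ≫ (u.hom ≫ v.inv) ≫ c.inv = 𝟙 _ := hT K X₀ hX₀ x o _ (hc.comp ((hu.comp hv.inv).comp hc.inv)) (by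
    rw [f.toFunctor.map_comp, f.toFunctor.map_comp, hfφ]
    exact ((congrArg (f.map c.hom ≫ ·) (Category.id_comp _)).trans (f.toFunctor.map_comp _ _).symm).trans
      ((congrArg f.map c.hom_inv_id).trans (f.toFunctor.map_id _)))
  have huv0 : u.hom ≫ v.inv = 𝟙 _ := by
    rw [← cancel_epi c.hom, ← cancel_mono c.inv, Category.assoc, hconj, Category.comp_id, c.hom_inv_id]
  have huv : u.hom = v.hom := by
    rw [← Category.comp_id u.hom, ← v.inv_hom_id, ← Category.assoc, huv0, Category.id_comp]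
  have hwz : y.map w.hom ≫ z₂.obj.iso.hom = z₁.obj.iso.hom ≫ (diag f).map u.hom := by
    have h' : (diag f).map u.hom = β.hom := fp_hom_ext rfl huv
    rw [h']
    rw [hβeq]
    simp
  let Z : z₁ ⟶ z₂ := fpHom w.hom u.hom hwz
  have := full_of_isEquivOver he
  obtain ⟨q, hq⟩ := e.toFunctor.map_surjective Z
  have hZ : Vert Z := vert_fp_iff.2 hwv
  have hqv : Vert (𝒳 := AlgSt.ofSp A.obj) q := by
    refine ⟨rfl, ?_⟩
    obtain ⟨h0, h0'⟩ := hZ
    have := w_map e q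
    rw [hq, h0'] at this
    rw [← cancel_epi (eqToHom (e.w_obj ⟨X, sec r₁⟩)), ← cancel_mono (eqToHom (e.w_obj ⟨X, sec r₂⟩).symm)]
    simpa using this.symm
  have hs : sec r₁ = sec r₂ := ofPsh_eq_of_vert hqv
  exact (AlgSp.J S).uliftYonedaEquiv.injective hs

end Groth.Agent.StFib

namespace Groth.Agent.StFib

variable {S : Scheme.{u}} {𝒳 𝒴 : AlgSt.Cat S} {K' : Precoverage Scheme.{u}}

/-- A morphism of algebraic stacks without automorphisms at field points is faithful. -/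
theorem faithful_of_trivialAut (h𝒳 : AlgSt.IsAlgStack K' 𝒳) (h𝒴 : AlgSt.IsAlgStack K' 𝒴) (f : 𝒳 ⥤ᵇ 𝒴)
    (hT : TrivialAutAtFields f) : f.toFunctor.Faithful := by
  have hg := h𝒳.isStack.1
  have hFg : IsFibGrpd (fp f f).p := isFibGrpd_fp hg hg h𝒴.isStack.1 f f
  have hFFg : IsFibGrpd (fp (diag f) (diag f)).p := isFibGrpd_fp hg hg hFg _ _
  have hs : AlgSt.IsSurjective (diag (diag f)) := by
    intro P
    obtain ⟨p, rfl⟩ := AlgSt.Points.mk_surjective P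
    let β := p.obj.obj.iso
    have hβ : Vert β.hom := vert_fp_iso p.obj
    let u : p.obj.obj.fst ≅ p.obj.obj.snd := fpIsoFst (F := f) (G := f) β
    let v : p.obj.obj.fst ≅ p.obj.obj.snd := fpIsoSnd (F := f) (G := f) β
    have hu : Vert u.hom := vert_fp_iff.1 hβ
    have hv : Vert v.hom := vert_fp_snd hβ
    have hwe : f.map u.hom ≫ 𝟙 _ = 𝟙 _ ≫ f.map v.hom := β.hom.hom.w
    have hfe : f.map u.hom = f.map v.hom := (Category.comp_id _).symm.trans (hwe.trans (Category.id_comp _))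
    have hp : 𝒳.p.obj p.obj.obj.fst = Over.mk p.str := p.lies
    obtain ⟨x, i, hi⟩ := exists_overFunctor hg p.obj.obj.fst hp
    have hfi : f.map (i.hom ≫ (u.hom ≫ v.inv) ≫ i.inv) = 𝟙 _ := by
      rw [f.toFunctor.map_comp, f.toFunctor.map_comp, f.toFunctor.map_comp, hfe]
      simp only [← f.toFunctor.map_comp]
      rw [Iso.hom_inv_id, Category.id_comp, i.hom_inv_id, f.toFunctor.map_id]
    have hconj := hT p.K (Over.mk p.str) rfl x (Over.mk (𝟙 _)) (i.hom ≫ (u.hom ≫ v.inv) ≫ i.inv)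
      (hi.comp ((hu.comp hv.inv).comp hi.inv)) hfi
    have huv0 : u.hom ≫ v.inv = 𝟙 _ := by
      rw [← cancel_epi i.hom, ← cancel_mono i.inv, Category.assoc, hconj, Category.comp_id, i.hom_inv_id]
    have huv : u.hom = v.hom := by
      rw [← Category.comp_id u.hom, ← v.inv_hom_id, ← Category.assoc, huv0, Category.id_comp]
    refine ⟨AlgSt.Points.mk ⟨p.K, p.str, p.obj.obj.fst, hp⟩, ?_⟩
    refine AlgSt.Points.sound ⟨⟨p.K, p.str, (diag (diag f)).obj p.obj.obj.fst,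
      ((diag (diag f)).w_obj _).trans hp⟩, 𝟙 _,
      (fpHom (F := diag f) (G := diag f) (𝟙 p.obj.obj.fst) u.hom ?_ : (diag (diag f)).obj p.obj.obj.fst ⟶ p.obj), trivial⟩
    exact (((congrArg (· ≫ β.hom) ((diag f).toFunctor.map_id _)).trans (Category.id_comp _)).trans
      (show β.hom = (diag f).map u.hom from fp_hom_ext rfl huv.symm)).trans (Category.id_comp _).symm
  have hsr : AlgSt.RepByAlgSpWith AlgSp.IsSurjectiveMor (diag (diag f)) := by
    intro T y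
    obtain ⟨A, e, he, -⟩ := isOpenImm_diag_diag f (isDMMor_of_trivialAut h𝒳 h𝒴 f hT) T y
    exact ⟨A, e, he, (points_fpFst_overCat_iff (fun φ => Function.Surjective φ) homeoInv_surjective y A e he).1
      (isSurjective_fpFst hg (isFibGrpd_overCat T) hFFg (diag (diag f)) y hs)⟩
  exact faithful_of_isEquivOver_diag_diag hg h𝒴.isStack.1 f (isEquivOver_of_openImm_surjective hg hFFg _
    (isOpenImm_diag_diag f (isDMMor_of_trivialAut h𝒳 h𝒴 f hT)) hsr)

theorem isFibSetoid_of_trivialAut (h𝒳 : AlgSt.IsAlgStack K' 𝒳) (hS : AlgSt.IsAlgStack K' (selfOver (C := Over S)))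
    (hT : TrivialAutAtFields (toSelf 𝒳)) : IsFibSetoid 𝒳.p := by
  have := faithful_of_trivialAut h𝒳 hS _ hT
  exact (isFibSetoid_iff_aut h𝒳.isStack.1).2 fun a φ hp h2 =>
    (toSelf 𝒳).toFunctor.map_injective (h2.trans ((toSelf 𝒳).toFunctor.map_id a).symm)

end Groth.Agent.StFib
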