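import Groth.Agent.StFib.InertiaProps
import Groth.Agent.StFib.TrivialAut
import Groth.Agent.StFib.Compact
import Groth.Prelude.Def_StGerb2

/-!
The automorphism group scheme of a point as a base change of the inertia.
-/

set_option backward.isDefEq.respectTransparency false
set_option backward.isDefEq.respectTransparency.types false
set_option linter.unusedVariables false

universe u

open CategoryTheory CategoryTheory.Limits AlgebraicGeometry Opposite FibCat

namespace Groth.Agent.StFib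

variable {S : Scheme.{u}} {𝒳 : AlgSt.Cat S}

/-- A group scheme over the base of a chart, as a scheme over `S`. -/
def grpOver {U : Over S} (G : Over U.left) : Over S := Over.mk (G.hom ≫ U.hom)

/-- Its structure morphism. -/
def grpProj {U : Over S} (G : Over U.left) : grpOver G ⟶ U := Over.homMk G.hom rfl

theorem autO_ext {y : 𝒳.obj} {a b : Gerb.AutO y} (h : a.hom.1 = b.hom.1) : a = b :=
  Aut.ext (Functor.Fiber.hom_ext h)

/-- An automorphism over the identity as an isomorphism. -/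
noncomputable def autIso {y : 𝒳.obj} (a : Gerb.AutO y) : y ≅ y := Functor.Fiber.fiberInclusion.mapIso a

theorem vert_autIso {y : 𝒳.obj} (a : Gerb.AutO y) : Vert (autIso a).hom :=
  vert_of_isHomLift (R := 𝒳.p.obj y) a.hom.2

theorem exists_autO {y : 𝒳.obj} (β : y ≅ y) (h : Vert β.hom) : ∃ a : Gerb.AutO y, a.hom.1 = β.hom := by
  have h1 : 𝒳.p.IsHomLift (𝟙 (𝒳.p.obj y)) β.hom := h.isHomLift rfl
  have h2 : 𝒳.p.IsHomLift (𝟙 (𝒳.p.obj y)) β.inv := h.inv.isHomLift rfl
  exact ⟨⟨Functor.Fiber.homMk 𝒳.p _ β.hom, Functor.Fiber.homMk 𝒳.p _ β.inv,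
    Functor.Fiber.hom_ext β.hom_inv_id, Functor.Fiber.hom_ext β.inv_hom_id⟩, rfl⟩

theorem toSelf_map_autIso {y : 𝒳.obj} (a : Gerb.AutO y) : (toSelf 𝒳).map (autIso a).hom = 𝟙 _ := by
  change 𝒳.p.map (autIso a).hom = 𝟙 _
  rw [(vert_autIso a).2]
  exact eqToHom_refl _ _

variable {U : Over S} {x : overCat U ⥤ᵇ 𝒳} {G : Over U.left} [GrpObj G]

/-- The object of the slice over `U` under an object of the slice over the group scheme. -/
abbrev autBase (t : (overCat (grpOver G)).obj) : Over U := (AlgSt.overMap (grpProj G)).obj t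

/-- The section of the group under an object of the slice over it. -/
noncomputable def autSec (t : (overCat (grpOver G)).obj) : (Gerb.ptsGrp U G).obj (op (autBase t)) :=
  (Over.homMk t.hom.left rfl : (Over.iteratedSliceForward U).obj (autBase t) ⟶ G)

theorem autSec_map {t t' : (overCat (grpOver G)).obj} (φ : t ⟶ t') :
    (Gerb.ptsGrp U G).map ((AlgSt.overMap (grpProj G)).map φ).op (autSec t') = autSec t :=
  Over.OverMorphism.ext (congrArg (fun k : _ ⟶ grpOver G => k.left) (Over.w φ))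

/-- The functor from the group scheme to the inertia. -/
noncomputable def autFunctor (r : Gerb.AutRep x (Gerb.ptsGrp U G)) : overCat (grpOver G) ⥤ᵇ inertia (toSelf 𝒳) where
  toFunctor :=
    { obj := fun t => ⟨x.obj (autBase t), autIso (r.iso _ (autSec t)), toSelf_map_autIso _⟩
      map := fun {t t'} φ => ⟨x.map ((AlgSt.overMap (grpProj G)).map φ), by
        have h := r.natural ((AlgSt.overMap (grpProj G)).map φ) (autSec t')
        rw [autSec_map φ] at h
        exact h⟩
      map_id := fun t => InertiaObj.hom_ext (by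
        change x.map ((AlgSt.overMap (grpProj G)).map (𝟙 t)) = 𝟙 _
        rw [CategoryTheory.Functor.map_id, CategoryTheory.Functor.map_id])
      map_comp := fun φ ψ => InertiaObj.hom_ext (by
        change x.map ((AlgSt.overMap (grpProj G)).map (φ ≫ ψ)) = x.map _ ≫ x.map _
        rw [CategoryTheory.Functor.map_comp, CategoryTheory.Functor.map_comp]) }
  w := (BasedFunctor.comp (AlgSt.overMap (grpProj G)) x).w

/-- The group scheme representing the automorphisms is the base change of the inertia. -/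
theorem autRep_cart (h𝒳 : IsFibGrpd 𝒳.p) (r : Gerb.AutRep x (Gerb.ptsGrp U G)) :
    IsEquivOver (fpLift (F := x) (G := inertiaToBase (toSelf 𝒳)) (AlgSt.overMap (grpProj G)) (autFunctor r)
      (Iso.refl (BasedFunctor.comp (AlgSt.overMap (grpProj G)) x))) := by
  refine fpLift_isEquivOver_mk _ _ _
    (fun {w w'} φ ψ h _ => Over.OverMorphism.ext (congrArg (fun k => Over.Hom.left k) h :))
    (fun {w w'} a b h => ?_) fun z => ?_
  · have hb : x.map a = b.hom := by
      have h' : x.map a ≫ 𝟙 _ = 𝟙 _ ≫ b.hom := h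
      simpa using h'
    have hc : (r.iso _ (autSec w)).hom.1 ≫ x.map a = x.map a ≫ (r.iso _ (autSec w')).hom.1 := hb ▸ b.comm
    have hn := r.natural a (autSec w')
    have he : (Gerb.ptsGrp U G).map a.op (autSec w') = autSec w := by
      refine (r.iso _).injective (autO_ext (grpd_cancel h𝒳 (x.map a) (hn.trans hc.symm) ?_))
      exact (vert_autIso _).2.trans (vert_autIso (r.iso _ (autSec w))).2.symm
    have hw : a.left.left ≫ w'.hom.left = w.hom.left := congrArg (fun k => Over.Hom.left k) he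
    refine ⟨Over.homMk a.left (Over.OverMorphism.ext hw), Over.OverMorphism.ext rfl, InertiaObj.hom_ext ?_⟩
    change x.map _ = b.hom
    rw [← hb]
    exact congrArg x.map (Over.OverMorphism.ext rfl)
  · let T₀ : Over U := z.obj.fst
    let ι : x.obj T₀ ≅ z.obj.snd.pt := z.obj.iso
    let β : x.obj T₀ ≅ x.obj T₀ := ι ≪≫ z.obj.snd.aut ≪≫ ι.symm
    have hι : Vert ι.hom := vert_fp_iso z
    obtain ⟨a, ha⟩ := exists_autO β (hι.comp ((inertia_vert_aut z.obj.snd).comp hι.inv))
    let a₀ : (Over.iteratedSliceForward U).obj T₀ ⟶ G := (r.iso T₀).symm a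
    have hra : (r.iso T₀ a₀).hom.1 = β.hom := by
      rw [show r.iso T₀ a₀ = a from (r.iso T₀).apply_symm_apply a]
      exact ha
    let k : T₀.left ⟶ grpOver G := Over.homMk a₀.left (by
      change a₀.left ≫ G.hom ≫ U.hom = T₀.left.hom
      have h1 : a₀.left ≫ G.hom = T₀.hom.left := Over.w a₀
      rw [← Category.assoc, h1]
      exact Over.w T₀.hom)
    have hk : k ≫ grpProj G = T₀.hom := Over.OverMorphism.ext (Over.w a₀)
    let w : (overCat (grpOver G)).obj := Over.mk k
    let u : autBase w ≅ T₀ := Over.isoMk (Iso.refl _) (by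
      change 𝟙 _ ≫ T₀.hom = k ≫ grpProj G
      rw [hk, Category.id_comp])
    have hsec : (Gerb.ptsGrp U G).map u.hom.op a₀ = autSec w :=
      Over.OverMorphism.ext (Category.id_comp _)
    have hn := r.natural u.hom a₀
    rw [hsec, hra] at hn
    let bi : x.obj (autBase w) ≅ z.obj.snd.pt := x.toFunctor.mapIso u ≪≫ ι
    have hbc : (autIso (r.iso _ (autSec w))).hom ≫ bi.hom = bi.hom ≫ z.obj.snd.aut.hom := by
      change (r.iso _ (autSec w)).hom.1 ≫ x.map u.hom ≫ ι.hom = (x.map u.hom ≫ ι.hom) ≫ z.obj.snd.aut.hom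
      rw [← Category.assoc, hn]
      simp [β]
    refine ⟨w, u, ⟨⟨bi.hom, hbc⟩, ⟨bi.inv, by
      change z.obj.snd.aut.hom ≫ bi.inv = bi.inv ≫ (autIso (r.iso _ (autSec w))).hom
      rw [Iso.eq_inv_comp, ← Category.assoc, ← hbc, Category.assoc, Iso.hom_inv_id, Category.comp_id]⟩,
      InertiaObj.hom_ext bi.hom_inv_id, InertiaObj.hom_ext bi.inv_hom_id⟩, ⟨rfl, rfl⟩, ?_⟩
    exact (Category.id_comp _).symm

/-- A property of the diagonal passes to the automorphism group scheme of a point. -/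
theorem rep_grpProj (h𝒳 : IsFibGrpd 𝒳.p) (r : Gerb.AutRep x (Gerb.ptsGrp U G))
    {P : MorphismProperty (AlgSp.Sp S)} (hΔ : AlgSt.RepByAlgSpWith P (diag (toSelf 𝒳))) :
    AlgSt.RepByAlgSpWith P (AlgSt.overMap (grpProj G)) :=
  repByAlgSpWith_of_cart P _ _ _ (autRep_cart h𝒳 r) (inertiaToBase_mem P hΔ)

theorem stableBC_quasiAffine : StableBC (AlgSp.IsQuasiAffineMor (S := S)) := by
  intro X₁ Y₁ X₂ Y₂ _ _ _ _ a b a' b' sq ha Z hZ g
  obtain ⟨W, i, fst, hW, hq⟩ := ha hZ (g ≫ b)
  obtain ⟨l, hl₁, hl₂⟩ := sq.exists_lift fst ((AlgSp.yon S).map i ≫ g) (by rw [hW.w, Category.assoc])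
  refine ⟨W, i, l, IsPullback.of_right ?_ hl₂ sq, hq⟩
  rw [hl₁]
  exact hW

theorem detected_quasiAffine : DetectedOnSchemes (AlgSp.IsQuasiAffineMor (S := S)) := by
  intro V A hV hA b h Z hZ g
  obtain ⟨W, i, fst, hW, hq⟩ := h g hZ (𝟙 _)
  refine ⟨W, i, fst ≫ pullback.fst b g, ?_, hq⟩
  have := hW.paste_horiz (IsPullback.of_hasPullback b g)
  rwa [Category.id_comp] at this

theorem lft_autRep (h𝒳 : AlgSt.IsAlgStack Scheme.fppfPrecoverage 𝒳)
    (r : Gerb.AutRep x (Gerb.ptsGrp U G)) : LocallyOfFiniteType G.hom :=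
  mem_scheme_of_overMap Groth.Agent.AlgSpCov.standard_locallyOfFiniteType
    (rep_grpProj h𝒳.isStack.1 r
      (lft_diag_generic h𝒳 isAlgStack_selfOver (toSelf 𝒳)))

theorem mem_grpProj (h𝒳 : IsFibGrpd 𝒳.p) (r : Gerb.AutRep x (Gerb.ptsGrp U G))
    {P : MorphismProperty (AlgSp.Sp S)} (hPb : StableBC P) (hdet : DetectedOnSchemes P)
    (hΔ : AlgSt.RepByAlgSpWith P (diag (toSelf 𝒳))) : P ((AlgSp.yon S).map (grpProj G)) :=
  mem_of_repByAlgSpWith_ofSpMap hPb hdet (isAlgSpace_yon _) (isAlgSpace_yon U) _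
    ((repByAlgSpWith_iff_of_equiv P (AlgSt.toOverCat (grpOver G)) (AlgSt.toOverCat U)
      (toOverCat_isEquivOver _) (toOverCat_isEquivOver U) (toOverCatIso (grpProj G))).1 (rep_grpProj h𝒳 r hΔ))

theorem quasiAffine_of_autRep [IsAffine U.left] (h𝒳 : IsFibGrpd 𝒳.p) (r : Gerb.AutRep x (Gerb.ptsGrp U G))
    (hΔ : AlgSt.RepByAlgSpWith AlgSp.IsQuasiAffineMor (diag (toSelf 𝒳))) : G.left.IsQuasiAffine := by
  obtain ⟨W, i, fst, hW, hq⟩ := mem_grpProj h𝒳 r stableBC_quasiAffine detected_quasiAffine hΔ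
    inferInstance (𝟙 ((AlgSp.yon S).obj U))
  have : IsIso fst := hW.isIso_fst_of_isIso
  let e : W ≅ grpOver G := (AlgSp.yon S).preimageIso (asIso fst)
  have : IsIso e.hom.left := (inferInstance : IsIso ((Over.forget S).map e.hom))
  exact Scheme.IsQuasiAffine.of_isAffineHom (inv e.hom.left)

end Groth.Agent.StFib
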