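import Groth.Prelude.Def_AlgSt4
import Groth.Agent.StFib.RepProps

/-!
Field-valued points of categories fibred in groupoids: the equivalence relation, amalgamation,
behaviour under monomorphisms, equivalences and fibre products.
-/

set_option backward.isDefEq.respectTransparency false
set_option backward.isDefEq.respectTransparency.types false

universe w₄ t₄ w₃ t₃ w₂ t₂ u

open CategoryTheory CategoryTheory.Limits AlgebraicGeometry Opposite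

namespace Groth.Agent.StFib

variable {S : Scheme.{u}}
variable {𝒳 : BasedCategory.{w₂, t₂} (Over S)} {𝒴 : BasedCategory.{w₃, t₃} (Over S)}
  {𝒵 : BasedCategory.{w₄, t₄} (Over S)}

/-- Two field points of a scheme with the same image are dominated by a third one. -/
theorem exists_field_square {K₁ K₂ L : Type u} [Field K₁] [Field K₂] [Field L]
    (s₁ : Spec (CommRingCat.of K₁) ⟶ S) (s₂ : Spec (CommRingCat.of K₂) ⟶ S)
    (t : Spec (CommRingCat.of L) ⟶ S) (α₁ : Over.mk s₁ ⟶ Over.mk t) (α₂ : Over.mk s₂ ⟶ Over.mk t) :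
    ∃ (Ω : Type u) (_ : Field Ω) (w : Spec (CommRingCat.of Ω) ⟶ S) (d₁ : Over.mk w ⟶ Over.mk s₁)
      (d₂ : Over.mk w ⟶ Over.mk s₂), d₁ ≫ α₁ = d₂ ≫ α₂ := by
  obtain ⟨Ω, _, i₁, i₂, hi⟩ :=
    AlgSp.FieldPt.exists_amalgamation (Spec.preimage α₁.left).hom (Spec.preimage α₂.left).hom
  have hL : Spec.map (CommRingCat.ofHom i₁) ≫ α₁.left =
      Spec.map (CommRingCat.ofHom i₂) ≫ α₂.left := by
    conv_lhs => rw [← Spec.map_preimage α₁.left]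
    conv_rhs => rw [← Spec.map_preimage α₂.left]
    rw [← Spec.map_comp, ← Spec.map_comp]
    congr 1
    exact CommRingCat.hom_ext hi
  have e₁ : α₁.left ≫ t = s₁ := Over.w α₁
  have e₂ : α₂.left ≫ t = s₂ := Over.w α₂
  let w : Spec (CommRingCat.of Ω) ⟶ S := Spec.map (CommRingCat.ofHom i₁) ≫ s₁
  have hw : Spec.map (CommRingCat.ofHom i₂) ≫ s₂ = w := by
    change _ = Spec.map (CommRingCat.ofHom i₁) ≫ s₁
    rw [← e₁, ← e₂, ← Category.assoc, ← Category.assoc, hL]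
  exact ⟨Ω, inferInstance, w, Over.homMk (Spec.map (CommRingCat.ofHom i₁)) rfl,
    Over.homMk (Spec.map (CommRingCat.ofHom i₂)) hw, Over.OverMorphism.ext hL⟩

/-- The morphism of base schemes underlying a morphism of field points. -/
noncomputable def fptBase {p q : AlgSt.FPt 𝒳} (φ : p.obj ⟶ q.obj) : Over.mk p.str ⟶ Over.mk q.str :=
  eqToHom p.lies.symm ≫ 𝒳.p.map φ ≫ eqToHom q.lies

theorem fptBase_map (f : 𝒳 ⥤ᵇ 𝒴) {p q : AlgSt.FPt 𝒳} (φ : p.obj ⟶ q.obj) :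
    fptBase (𝒳 := 𝒴) (p := p.map f) (q := q.map f) (f.map φ) = fptBase φ := by
  unfold fptBase
  rw [w_map]
  simp only [Category.assoc, eqToHom_trans_assoc, eqToHom_trans]

/-- A field point lifts along every morphism of field spectra. -/
theorem exists_fpt_lift (h : FibCat.IsFibGrpd 𝒳.p) (p : AlgSt.FPt 𝒳) {Ω : Type u} [Field Ω]
    (w : Spec (CommRingCat.of Ω) ⟶ S) (d : Over.mk w ⟶ Over.mk p.str) :
    ∃ (y : 𝒳.obj) (e : 𝒳.p.obj y = Over.mk w) (a : y ⟶ p.obj),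
      𝒳.p.map a = eqToHom e ≫ d ≫ eqToHom p.lies.symm := by
  obtain ⟨y, e, a, ha⟩ := grpd_exists_lift h p.obj (d ≫ eqToHom p.lies.symm)
  exact ⟨y, e, a, ha⟩

theorem rel_refl (p : AlgSt.FPt 𝒳) : AlgSt.FPt.Rel p p := ⟨p, 𝟙 _, 𝟙 _, trivial⟩

theorem rel_symm {p q : AlgSt.FPt 𝒳} : AlgSt.FPt.Rel p q → AlgSt.FPt.Rel q p :=
  fun ⟨r, a, b, _⟩ => ⟨r, b, a, trivial⟩

theorem rel_trans (h : FibCat.IsFibGrpd 𝒳.p) {p q s : AlgSt.FPt 𝒳} :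
    AlgSt.FPt.Rel p q → AlgSt.FPt.Rel q s → AlgSt.FPt.Rel p s := by
  rintro ⟨r, a, b, -⟩ ⟨r', b', c, -⟩
  obtain ⟨Ω, _, w, d, d', hd⟩ := exists_field_square r.str r'.str q.str (fptBase b) (fptBase b')
  obtain ⟨y, e, l, hl⟩ := exists_fpt_lift h r w d
  obtain ⟨y', e', l', hl'⟩ := exists_fpt_lift h r' w d'
  obtain ⟨χ, -, -⟩ := grpd_exists_vert_fac h (l' ≫ b') (l ≫ b) (e.trans e'.symm) (by
    simp only [fptBase] at hd
    rw [← cancel_mono (eqToHom q.lies)]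
    simp [hl, hl', hd])
  exact ⟨⟨Ω, w, y, e⟩, l ≫ a, χ.hom ≫ l' ≫ c, trivial⟩

theorem rel_equivalence (h : FibCat.IsFibGrpd 𝒳.p) : _root_.Equivalence (@AlgSt.FPt.Rel S 𝒳) :=
  ⟨rel_refl, rel_symm, rel_trans h⟩

theorem rel_of_mk_eq (h : FibCat.IsFibGrpd 𝒳.p) {p q : AlgSt.FPt 𝒳}
    (e : AlgSt.Points.mk p = AlgSt.Points.mk q) : AlgSt.FPt.Rel p q :=
  (rel_equivalence h).eqvGen_iff.1 (Quot.eqvGen_exact e)

/-- Field points with the same image become isomorphic after a field extension. -/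
theorem exists_vert_of_map_eq (h𝒳 : FibCat.IsFibGrpd 𝒳.p) (h𝒵 : FibCat.IsFibGrpd 𝒵.p)
    (h𝒴 : FibCat.IsFibGrpd 𝒴.p) (f : 𝒳 ⥤ᵇ 𝒴) (g : 𝒵 ⥤ᵇ 𝒴) (z : AlgSt.FPt 𝒵) (x : AlgSt.FPt 𝒳)
    (h : AlgSt.Points.map g (AlgSt.Points.mk z) = AlgSt.Points.map f (AlgSt.Points.mk x)) :
    ∃ (Ω : Type u) (_ : Field Ω) (w : Spec (CommRingCat.of Ω) ⟶ S) (z' : 𝒵.obj) (x' : 𝒳.obj)
      (_ : 𝒵.p.obj z' = Over.mk w) (_ : 𝒳.p.obj x' = Over.mk w)
      (_ : z' ⟶ z.obj) (_ : x' ⟶ x.obj) (i : g.obj z' ≅ f.obj x'), Vert i.hom := by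
  obtain ⟨r, a, b, -⟩ := rel_of_mk_eq h𝒴 h
  obtain ⟨z', ez, az, haz⟩ := exists_fpt_lift h𝒵 z r.str (fptBase a)
  obtain ⟨x', ex, ax, hax⟩ := exists_fpt_lift h𝒳 x r.str (fptBase b)
  obtain ⟨iz, hiz, -⟩ := grpd_exists_vert_fac h𝒴 a (g.map az)
    ((g.w_obj z').trans (ez.trans r.lies.symm)) (by
      rw [w_map, haz]; unfold fptBase; simp <;> rfl)
  obtain ⟨ix, hix, -⟩ := grpd_exists_vert_fac h𝒴 b (f.map ax)
    ((f.w_obj x').trans (ex.trans r.lies.symm)) (by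
      rw [w_map, hax]; unfold fptBase; simp <;> rfl)
  exact ⟨r.K, r.field, r.str, z', x', ez, ex, az, ax, iz ≪≫ ix.symm, hiz.comp hix.inv⟩

theorem exists_points_fp_of_map_eq (h𝒳 : FibCat.IsFibGrpd 𝒳.p) (h𝒵 : FibCat.IsFibGrpd 𝒵.p)
    (h𝒴 : FibCat.IsFibGrpd 𝒴.p) (f : 𝒳 ⥤ᵇ 𝒴) (g : 𝒵 ⥤ᵇ 𝒴) (z : AlgSt.Points 𝒵) (x : AlgSt.Points 𝒳)
    (h : AlgSt.Points.map g z = AlgSt.Points.map f x) :
    ∃ w : AlgSt.Points (FibCat.fp g f),
      AlgSt.Points.map (FibCat.fpFst g f) w = z ∧ AlgSt.Points.map (FibCat.fpSnd g f) w = x := by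
  obtain ⟨z, rfl⟩ := AlgSt.Points.mk_surjective z
  obtain ⟨x, rfl⟩ := AlgSt.Points.mk_surjective x
  obtain ⟨Ω, _, w, z', x', ez, ex, az, ax, i, hi⟩ := exists_vert_of_map_eq h𝒳 h𝒵 h𝒴 f g z x h
  exact ⟨AlgSt.Points.mk ⟨Ω, w, fpMk z' x' i hi, ez⟩,
    AlgSt.Points.sound ⟨⟨Ω, w, z', ez⟩, 𝟙 _, az, trivial⟩,
    AlgSt.Points.sound ⟨⟨Ω, w, x', ex⟩, 𝟙 _, ax, trivial⟩⟩

theorem points_map_injective_of_isMono (h𝒳 : FibCat.IsFibGrpd 𝒳.p) (h𝒴 : FibCat.IsFibGrpd 𝒴.p)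
    (f : 𝒳 ⥤ᵇ 𝒴) (hf : AlgSt.IsMono f) : Function.Injective (AlgSt.Points.map f) := by
  intro p q h
  obtain ⟨p, rfl⟩ := AlgSt.Points.mk_surjective p
  obtain ⟨q, rfl⟩ := AlgSt.Points.mk_surjective q
  obtain ⟨Ω, _, w, p', q', ep, eq', ap, aq, i, hi⟩ := exists_vert_of_map_eq h𝒳 h𝒳 h𝒴 f f p q h
  have := full_of_isMono h𝒳 h𝒴 f hf
  obtain ⟨α, -⟩ := f.toFunctor.map_surjective i.hom
  exact AlgSt.Points.sound ⟨⟨Ω, w, p', ep⟩, ap, α ≫ aq, trivial⟩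

theorem isSurjective_fpFst (h𝒳 : FibCat.IsFibGrpd 𝒳.p) (h𝒵 : FibCat.IsFibGrpd 𝒵.p)
    (h𝒴 : FibCat.IsFibGrpd 𝒴.p) (f : 𝒳 ⥤ᵇ 𝒴) (g : 𝒵 ⥤ᵇ 𝒴) (hf : AlgSt.IsSurjective f) :
    AlgSt.IsSurjective (FibCat.fpFst g f) := by
  intro z
  obtain ⟨x, hx⟩ := hf (AlgSt.Points.map g z)
  obtain ⟨w, hw, -⟩ := exists_points_fp_of_map_eq h𝒳 h𝒵 h𝒴 f g z x hx.symm
  exact ⟨w, hw⟩

theorem points_map_congr {f g : 𝒳 ⥤ᵇ 𝒴} (e : f ≅ g) : AlgSt.Points.map f = AlgSt.Points.map g := by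
  funext p
  obtain ⟨p, rfl⟩ := AlgSt.Points.mk_surjective p
  exact AlgSt.Points.sound ⟨p.map f, 𝟙 _, (isoApp e p.obj).hom, trivial⟩

theorem points_map_id : AlgSt.Points.map (BasedFunctor.id 𝒳) = id := by
  funext p
  obtain ⟨p, rfl⟩ := AlgSt.Points.mk_surjective p
  rfl

theorem points_map_comp (f : 𝒳 ⥤ᵇ 𝒴) (g : 𝒴 ⥤ᵇ 𝒵) :
    AlgSt.Points.map (BasedFunctor.comp f g) = AlgSt.Points.map g ∘ AlgSt.Points.map f := by
  funext p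
  obtain ⟨p, rfl⟩ := AlgSt.Points.mk_surjective p
  rfl

theorem points_bijective_of_isEquivOver {e : 𝒳 ⥤ᵇ 𝒴} (he : FibCat.IsEquivOver e) :
    Function.Bijective (AlgSt.Points.map e) := by
  obtain ⟨G, ⟨a⟩, ⟨b⟩⟩ := he
  have h1 := (points_map_congr a).trans points_map_id
  have h2 := (points_map_congr b).trans points_map_id
  rw [points_map_comp] at h1 h2
  exact ⟨Function.LeftInverse.injective (congrFun h1),
    Function.RightInverse.surjective (congrFun h2)⟩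

/-- Base change of a base change, on points. -/
theorem isUnivInjective_fpFst (K : Precoverage Scheme.{u}) (f : 𝒳 ⥤ᵇ 𝒴) (g : 𝒵 ⥤ᵇ 𝒴)
    (hf : AlgSt.IsUnivInjective K f) : AlgSt.IsUnivInjective K (FibCat.fpFst g f) := by
  intro 𝒲 h𝒲 g'
  have h := hf 𝒲 h𝒲 (BasedFunctor.comp g' g)
  have h' : AlgSt.Points.map (FibCat.fpFst g' (FibCat.fpFst g f)) =
      AlgSt.Points.map (FibCat.fpFst (BasedFunctor.comp g' g) f) ∘
        AlgSt.Points.map (fpPaste g f g') := by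
    rw [← points_map_comp]; rfl
  rw [h']
  exact h.comp (points_bijective_of_isEquivOver (fpPaste_isEquivOver g f g')).injective

theorem isQuasiCompact_of_equiv {E : 𝒳 ⥤ᵇ 𝒴} (hE : FibCat.IsEquivOver E)
    (h : AlgSt.IsQuasiCompact 𝒳) : AlgSt.IsQuasiCompact 𝒴 := by
  obtain ⟨U, x, hU, h1, h2⟩ := h
  obtain ⟨G, hG, ⟨a⟩, -⟩ := isEquivOver_symm hE
  have key : ∀ P : MorphismProperty (AlgSp.Sp S), AlgSt.RepByAlgSpWith P x →
      AlgSt.RepByAlgSpWith P (BasedFunctor.comp x E) := fun P hP =>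
    (repByAlgSpWith_iff_of_equiv P (f := x) (f' := BasedFunctor.comp x E)
      (BasedFunctor.id (FibCat.overCat U)) G (isEquivOver_id _) hG (isoWhiskerLeft x a)).1 hP
  exact ⟨U, BasedFunctor.comp x E, hU, key _ h1, key _ h2⟩

theorem isQuasiCompactMor_fpFst (K : Precoverage Scheme.{u}) (f : 𝒳 ⥤ᵇ 𝒴) (g : 𝒵 ⥤ᵇ 𝒴)
    (hf : AlgSt.IsQuasiCompactMor K f) : AlgSt.IsQuasiCompactMor K (FibCat.fpFst g f) := by
  intro 𝒲 h𝒲 hqc g'
  obtain ⟨E, hE, -, -⟩ := isEquivOver_symm (fpPaste_isEquivOver g f g')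
  exact isQuasiCompact_of_equiv hE (hf 𝒲 h𝒲 hqc (BasedFunctor.comp g' g))

end Groth.Agent.StFib
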