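import Groth.Agent.StFib.DiagComp
import Groth.Agent.StFib.Points

/-!
Affine, integral and finite morphisms; universally injective composites.
-/

set_option backward.isDefEq.respectTransparency false
set_option backward.isDefEq.respectTransparency.types false

universe u

open CategoryTheory CategoryTheory.Limits AlgebraicGeometry Opposite FibCat

namespace Groth.Agent.StFib

variable {S : Scheme.{u}}

/-- Properties tested on affine schemes. -/
def AffTest (R : ∀ (W Z : Over S), (W ⟶ Z) → Prop) : MorphismProperty (AlgSp.Sp S) := fun F G f =>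
  ∀ ⦃Z : Over S⦄, IsAffine Z.left → ∀ (g : (AlgSp.yon S).obj Z ⟶ G),
    ∃ (W : Over S) (i : W ⟶ Z) (fst : (AlgSp.yon S).obj W ⟶ F),
      IsPullback fst ((AlgSp.yon S).map i) f g ∧ R W Z i

theorem good_affTest (R : ∀ (W Z : Over S), (W ⟶ Z) → Prop)
    (haff : ∀ {W Z : Over S} (i : W ⟶ Z), R W Z i → IsAffine W.left)
    (hcomp : ∀ {W W' Z : Over S} (j : W' ⟶ W) (i : W ⟶ Z), R W' W j → R W Z i → R W' Z (j ≫ i)) :
    Good (AffTest R) where
  bc X₁ Y₁ X₂ Y₂ _ _ _ _ a b a' b' sq h Z hZ g := by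
    obtain ⟨W, i, fst, sqW, hR⟩ := h hZ (g ≫ b)
    have w : fst ≫ a = ((AlgSp.yon S).map i ≫ g) ≫ b := by rw [Category.assoc]; exact sqW.w
    refine ⟨W, i, sq.lift fst _ w, IsPullback.of_right ?_ (sq.lift_snd _ _ w) sq, hR⟩
    rw [sq.lift_fst]
    exact sqW
  comp X Y T _ _ _ a b ha hb Z hZ g := by
    obtain ⟨W₁, i₁, f₁, sq₁, h₁⟩ := hb hZ g
    obtain ⟨W₂, i₂, f₂, sq₂, h₂⟩ := ha (haff i₁ h₁) f₁
    exact ⟨W₂, i₂ ≫ i₁, f₂, by rw [Functor.map_comp]; exact sq₂.paste_vert sq₁, hcomp i₂ i₁ h₂ h₁⟩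
  det V A _ _ b h Z hZ g := by
    obtain ⟨W, i, fst, sq, hR⟩ := h g hZ (𝟙 _)
    refine ⟨W, i, fst ≫ pullback.fst b g, ?_, hR⟩
    simpa using sq.paste_horiz (IsPullback.of_hasPullback b g)

theorem good_affine : Good (S := S) AlgSp.IsAffineMor :=
  good_affTest (fun W _ _ => IsAffine W.left) (fun _ h => h) (fun _ _ h _ => h)

theorem good_integral : Good (S := S) AlgSp.IsIntegralMor :=
  good_affTest (fun W _ i => IsAffine W.left ∧ IsIntegralHom i.left) (fun _ h => h.1)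
    (fun j i h h' => ⟨h.1, have := h.2; have := h'.2; inferInstanceAs (IsIntegralHom (j.left ≫ i.left))⟩)

theorem good_finite : Good (S := S) AlgSp.IsFiniteMor :=
  good_affTest (fun W _ i => IsAffine W.left ∧ IsFinite i.left) (fun _ h => h.1)
    (fun j i h h' => ⟨h.1, have := h.2; have := h'.2; inferInstanceAs (IsFinite (j.left ≫ i.left))⟩)

theorem isUnivInjective_comp {𝒳 𝒴 𝒵 : AlgSt.Cat S} (h𝒴 : AlgSt.IsAlgStack Scheme.fppfPrecoverage 𝒴)
    (h𝒵 : AlgSt.IsAlgStack Scheme.fppfPrecoverage 𝒵) (f : 𝒳 ⥤ᵇ 𝒴) (g : 𝒴 ⥤ᵇ 𝒵)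
    (hf : AlgSt.IsUnivInjective Scheme.fppfPrecoverage f)
    (hg : AlgSt.IsUnivInjective Scheme.fppfPrecoverage g) :
    AlgSt.IsUnivInjective Scheme.fppfPrecoverage (BasedFunctor.comp f g) := by
  intro T hT h
  obtain ⟨E, hE, ⟨i⟩⟩ := exists_fp_assoc h g f
  have e := points_map_congr i
  rw [points_map_comp, points_map_comp] at e
  have h1 := (hg T hT h).comp (hf _ (isAlgStack_fp h𝒵.isStack h𝒵.diag hT h𝒴 h g) (fpSnd h g))
  rw [← e] at h1
  exact h1.of_comp_right (points_bijective_of_isEquivOver hE).2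

end Groth.Agent.StFib
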