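import Groth.Prelude.Def_AlgSt
import Groth.Agent.StFib.Psh
import Mathlib.CategoryTheory.Sites.SheafOfTypes

/-!
Stacks: invariance under equivalences, 2-fibre products, and the category of a sheaf.
-/

set_option backward.isDefEq.respectTransparency false
set_option backward.isDefEq.respectTransparency.types false

universe w v₅ u₅ v₄ u₄ v₃ u₃ v₂ u₂ v u

open CategoryTheory CategoryTheory.Limits Opposite FibCat

namespace Groth.Agent.StFib

variable {C : Type u} [Category.{v} C]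
variable {𝒳 : BasedCategory.{v₂, u₂} C} {𝒴 : BasedCategory.{v₃, u₃} C} {𝒮 : BasedCategory.{v₄, u₄} C}

theorem based_hom_ext {F G : 𝒳 ⥤ᵇ 𝒴} {α β : F ⟶ G}
    (h : ∀ a, α.toNatTrans.app a = β.toNatTrans.app a) : α = β :=
  BasedNatTrans.homCategory.ext α β (NatTrans.ext (funext h))

/-- Composition of functors over `C` with a fixed functor. -/
def postComp (𝒜 : BasedCategory.{v₅, u₅} C) (F : 𝒳 ⥤ᵇ 𝒴) : (𝒜 ⥤ᵇ 𝒳) ⥤ (𝒜 ⥤ᵇ 𝒴) where
  obj G := BasedFunctor.comp G F
  map α := BasedCategory.whiskerRight α F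
  map_id G := based_hom_ext fun a => F.toFunctor.map_id _
  map_comp α β := based_hom_ext fun a => F.toFunctor.map_comp _ _

theorem postComp_isEquivalence (𝒜 : BasedCategory.{v₅, u₅} C) {F : 𝒳 ⥤ᵇ 𝒴} (hF : IsEquivOver F) :
    (postComp 𝒜 F).IsEquivalence := by
  obtain ⟨G, ⟨a⟩, ⟨b⟩⟩ := hF
  refine (CategoryTheory.Equivalence.mk (postComp 𝒜 F) (postComp 𝒜 G) ?_ ?_).isEquivalence_functor
  · exact NatIso.ofComponents (fun K => (isoWhiskerLeft K a).symm)
      (fun {K L} α => based_hom_ext fun x =>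
        (a.inv.toNatTrans.naturality (α.toNatTrans.app x)))
  · exact NatIso.ofComponents (fun K => isoWhiskerLeft K b)
      (fun {K L} α => based_hom_ext fun x =>
        (b.hom.toNatTrans.naturality (α.toNatTrans.app x)))

/-- Restriction commutes with composition. -/
def resSieveComp {U : C} (R : Sieve U) (F : 𝒳 ⥤ᵇ 𝒴) :
    Stk.resSieve R 𝒳 ⋙ postComp (Stk.sieveCat R) F ≅ postComp (overCat U) F ⋙ Stk.resSieve R 𝒴 :=
  NatIso.ofComponents (fun _ => Iso.refl _) fun _ => based_hom_ext fun _ =>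
    (Category.comp_id _).trans (Category.id_comp _).symm

theorem isStackFor_iff_of_isEquivOver {U : C} (R : Sieve U) {F : 𝒳 ⥤ᵇ 𝒴} (hF : IsEquivOver F) :
    Stk.IsStackFor R 𝒳 ↔ Stk.IsStackFor R 𝒴 := by
  have := postComp_isEquivalence (Stk.sieveCat R) hF
  have := postComp_isEquivalence (overCat U) hF
  constructor <;> intro h
  · have : (Stk.resSieve R 𝒳).IsEquivalence := h
    have : (postComp (overCat U) F ⋙ Stk.resSieve R 𝒴).IsEquivalence :=
      Functor.isEquivalence_of_iso (resSieveComp R F)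
    exact Functor.isEquivalence_of_comp_left (postComp (overCat U) F) (Stk.resSieve R 𝒴)
  · have : (Stk.resSieve R 𝒴).IsEquivalence := h
    have : (Stk.resSieve R 𝒳 ⋙ postComp (Stk.sieveCat R) F).IsEquivalence :=
      Functor.isEquivalence_of_iso (resSieveComp R F).symm
    exact Functor.isEquivalence_of_comp_right (Stk.resSieve R 𝒳) (postComp (Stk.sieveCat R) F)

/-- Being a stack is invariant under equivalence over the base. -/
theorem isStack_iff_of_isEquivOver (J : GrothendieckTopology C) {F : 𝒳 ⥤ᵇ 𝒴} (hF : IsEquivOver F) :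
    Stk.IsStack J 𝒳 ↔ Stk.IsStack J 𝒴 := by
  obtain ⟨G, hG, -, -⟩ := isEquivOver_symm hF
  exact ⟨fun h => ⟨isFibGrpd_of_isEquivOver hF h.1, fun U R hR =>
      (isStackFor_iff_of_isEquivOver R hF).1 (h.2 R hR)⟩,
    fun h => ⟨isFibGrpd_of_isEquivOver hG h.1, fun U R hR =>
      (isStackFor_iff_of_isEquivOver R hF).2 (h.2 R hR)⟩⟩

theorem isPrestack_of_isStack {J : GrothendieckTopology C} (h : Stk.IsStack J 𝒳) :
    Stk.IsPrestack J 𝒳 :=
  ⟨h.1, fun _ R hR => have : (Stk.resSieve R 𝒳).IsEquivalence := h.2 R hR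
    ⟨inferInstance, inferInstance⟩⟩

/-- A 2-fibre product of stacks over a prestack is a stack. -/
theorem isStackFor_fp {U : C} (R : Sieve U) (F : 𝒳 ⥤ᵇ 𝒮) (G : 𝒴 ⥤ᵇ 𝒮)
    (hX : Stk.IsStackFor R 𝒳) (hY : Stk.IsStackFor R 𝒴) (hS : Stk.IsPrestackFor R 𝒮) :
    Stk.IsStackFor R (fp F G) := by
  have : (Stk.resSieve R 𝒳).IsEquivalence := hX
  have : (Stk.resSieve R 𝒴).IsEquivalence := hY
  obtain ⟨_, _⟩ := hS
  have : (Stk.resSieve R (fp F G)).Faithful := ⟨fun {K K'} {α β} h => by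
    have h1 : (postComp _ (fpFst F G)).map α = (postComp _ (fpFst F G)).map β :=
      (Stk.resSieve R 𝒳).map_injective (based_hom_ext fun a =>
        congrArg (fun k => k.hom.fst) (congrArg (fun t => t.toNatTrans.app a) h))
    have h2 : (postComp _ (fpSnd F G)).map α = (postComp _ (fpSnd F G)).map β :=
      (Stk.resSieve R 𝒴).map_injective (based_hom_ext fun a =>
        congrArg (fun k => k.hom.snd) (congrArg (fun t => t.toNatTrans.app a) h))
    exact based_hom_ext fun a => fp_hom_ext (congrArg (fun t => t.toNatTrans.app a) h1)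
      (congrArg (fun t => t.toNatTrans.app a) h2)⟩
  have : (Stk.resSieve R (fp F G)).Full := ⟨fun {K K'} γ => by
    obtain ⟨α₁, h1⟩ := (Stk.resSieve R 𝒳).map_surjective
      (X := BasedFunctor.comp K (fpFst F G)) (Y := BasedFunctor.comp K' (fpFst F G))
      ((postComp _ (fpFst F G)).map γ)
    obtain ⟨α₂, h2⟩ := (Stk.resSieve R 𝒴).map_surjective
      (X := BasedFunctor.comp K (fpSnd F G)) (Y := BasedFunctor.comp K' (fpSnd F G))
      ((postComp _ (fpSnd F G)).map γ)
    have hc : (postComp _ F).map α₁ ≫ (isoWhiskerLeft K' (fpIso F G)).hom =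
        (isoWhiskerLeft K (fpIso F G)).hom ≫ (postComp _ G).map α₂ :=
      (Stk.resSieve R 𝒮).map_injective (based_hom_ext fun a => by
        have e1 : α₁.toNatTrans.app ((Stk.sieveIncl R).obj a) = (γ.toNatTrans.app a).hom.fst :=
          congrArg (fun t => t.toNatTrans.app a) h1
        have e2 : α₂.toNatTrans.app ((Stk.sieveIncl R).obj a) = (γ.toNatTrans.app a).hom.snd :=
          congrArg (fun t => t.toNatTrans.app a) h2
        change F.map (α₁.toNatTrans.app ((Stk.sieveIncl R).obj a)) ≫ _ =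
          _ ≫ G.map (α₂.toNatTrans.app ((Stk.sieveIncl R).obj a))
        rw [e1, e2]
        exact (γ.toNatTrans.app a).hom.w)
    let t : K.toFunctor ⟶ K'.toFunctor :=
      { app := fun a => fpHom (α₁.toNatTrans.app a) (α₂.toNatTrans.app a)
          (congrArg (fun t => t.toNatTrans.app a) hc)
        naturality := fun a b φ => fp_hom_ext (α₁.toNatTrans.naturality φ)
          (α₂.toNatTrans.naturality φ) }
    refine ⟨{ toNatTrans := t, isHomLift' := fun a => ?_ }, based_hom_ext fun a => fp_hom_ext ?_ ?_⟩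
    · exact Vert.isHomLift (vert_fp_iff.2 (vert_app α₁ a)) (K.w_obj a)
    · exact congrArg (fun t => t.toNatTrans.app a) h1
    · exact congrArg (fun t => t.toNatTrans.app a) h2⟩
  have : (Stk.resSieve R (fp F G)).EssSurj := ⟨fun L => by
    let K₁ := (Stk.resSieve R 𝒳).objPreimage (BasedFunctor.comp L (fpFst F G))
    let i₁ : BasedFunctor.comp (Stk.sieveIncl R) K₁ ≅ BasedFunctor.comp L (fpFst F G) :=
      (Stk.resSieve R 𝒳).objObjPreimageIso _
    let K₂ := (Stk.resSieve R 𝒴).objPreimage (BasedFunctor.comp L (fpSnd F G))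
    let i₂ : BasedFunctor.comp (Stk.sieveIncl R) K₂ ≅ BasedFunctor.comp L (fpSnd F G) :=
      (Stk.resSieve R 𝒴).objObjPreimageIso _
    let j : (Stk.resSieve R 𝒮).obj (BasedFunctor.comp K₁ F) ≅
        (Stk.resSieve R 𝒮).obj (BasedFunctor.comp K₂ G) :=
      isoWhiskerRight i₁ F ≪≫ isoWhiskerLeft L (fpIso F G) ≪≫ (isoWhiskerRight i₂ G).symm
    let e : BasedFunctor.comp K₁ F ≅ BasedFunctor.comp K₂ G := (Stk.resSieve R 𝒮).preimageIso j
    refine ⟨fpLift K₁ K₂ e, ⟨isoMk (F := (Stk.resSieve R (fp F G)).obj (fpLift K₁ K₂ e)) (G := L)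
      (fun a => fpIsoMk (isoApp i₁ a) (isoApp i₂ a) ?_) (fun a => vert_isoApp i₁ a)
      (fun φ => fp_hom_ext (isoApp_naturality i₁ φ) (isoApp_naturality i₂ φ))⟩⟩
    have he : (Stk.resSieve R 𝒮).map e.hom = j.hom := by simp [e]
    have he' : e.hom.toNatTrans.app ((Stk.sieveIncl R).obj a) =
        F.map (isoApp i₁ a).hom ≫ (L.obj a).obj.iso.hom ≫ G.map (isoApp i₂ a).inv :=
      congrArg (fun t => t.toNatTrans.app a) he
    change F.map (isoApp i₁ a).hom ≫ (L.obj a).obj.iso.hom =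
      e.hom.toNatTrans.app ((Stk.sieveIncl R).obj a) ≫ G.map (isoApp i₂ a).hom
    rw [he', Category.assoc, Category.assoc, ← Functor.map_comp, Iso.inv_hom_id, CategoryTheory.Functor.map_id,
      Category.comp_id]⟩
  exact { }

theorem isStack_fp (J : GrothendieckTopology C) (F : 𝒳 ⥤ᵇ 𝒮) (G : 𝒴 ⥤ᵇ 𝒮)
    (hX : Stk.IsStack J 𝒳) (hY : Stk.IsStack J 𝒴) (hS : Stk.IsPrestack J 𝒮) :
    Stk.IsStack J (fp F G) :=
  ⟨isFibGrpd_fp hX.1 hY.1 hS.1 F G, fun _ R hR =>
    isStackFor_fp R F G (hX.2 R hR) (hY.2 R hR) (hS.2 R hR)⟩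

section Sheaf

variable {P : Cᵒᵖ ⥤ Type w} {𝒜 : BasedCategory.{v₅, u₅} C}

/-- The section classified at an object by a functor to the category of a presheaf. -/
def secAt (G : 𝒜 ⥤ᵇ Stk.ofPsh P) (a : 𝒜.obj) : P.obj (op (𝒜.p.obj a)) :=
  P.map (eqToHom (G.w_obj a).symm).op (G.obj a).sec

theorem secAt_map (G : 𝒜 ⥤ᵇ Stk.ofPsh P) {a b : 𝒜.obj} (φ : a ⟶ b) :
    P.map (𝒜.p.map φ).op (secAt G b) = secAt G a := by
  have h1 : (G.map φ).hom = eqToHom (G.w_obj a) ≫ 𝒜.p.map φ ≫ eqToHom (G.w_obj b).symm :=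
    w_map G φ
  rw [secAt, secAt, ← (G.map φ).map_sec, h1]
  refine (psh_map_map (P := P) _ _ _).trans ?_
  refine Eq.trans ?_ (psh_map_map (P := P) _ _ _).symm
  exact eltObj_map_eq _ _ (by simp) _

theorem secAt_congr {G H : 𝒜 ⥤ᵇ Stk.ofPsh P} (e : G ⟶ H) (a : 𝒜.obj) :
    secAt G a = secAt H a := by
  obtain ⟨h, hv⟩ := vert_app e a
  have hv' : (e.toNatTrans.app a).hom = eqToHom h := hv
  rw [secAt, secAt, ← (e.toNatTrans.app a).map_sec, hv']
  exact (psh_map_map (P := P) _ _ _).trans (eltObj_map_eq _ _ (eqToHom_trans _ _) _)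

theorem exists_iso_of_secAt {G H : 𝒜 ⥤ᵇ Stk.ofPsh P} (h : ∀ a, secAt G a = secAt H a) :
    Nonempty (G ≅ H) := by
  have hb : ∀ a, (G.obj a).base = (H.obj a).base := fun a =>
    (G.w_obj a).trans (H.w_obj a).symm
  refine ⟨isoMk (F := G) (G := H) (fun a => eltIso (hb a) ?_) (fun a => vert_eltIso _ _)
    (fun {a b} φ => ofPsh_hom_ext ?_)⟩
  · have h2 := congrArg (fun s => P.map (eqToHom (G.w_obj a)).op s) (h a)
    simp only [secAt] at h2
    have h3 := (psh_map_map (P := P) (eqToHom (G.w_obj a)) (eqToHom (H.w_obj a).symm)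
      (H.obj a).sec).symm.trans h2.symm
    rw [eqToHom_trans] at h3
    exact h3.trans (psh_map_eqToHom_cancel _ _ _)
  · rw [Functor.map_comp, Functor.map_comp, w_map, w_map]
    change _ ≫ eqToHom (hb b) = eqToHom (hb a) ≫ _
    simp <;> rfl

/-- The category of a sheaf is a stack. -/
theorem isStack_ofPsh {J : GrothendieckTopology C} (hP : Presieve.IsSheaf J P) :
    Stk.IsStack J (Stk.ofPsh P) := by
  refine ⟨Stk.isFibGrpd_ofPsh P, fun U R hR => ?_⟩
  have : (Stk.resSieve R (Stk.ofPsh P)).Faithful := ⟨fun {K K'} {α β} _ => based_hom_ext fun a =>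
    ofPsh_hom_ext ((vert_app α a).2.trans (vert_app β a).2.symm)⟩
  let r : ∀ g : Over U, g ⟶ Over.mk (𝟙 U) := fun g => Over.homMk g.hom (by simp)
  have hu : ∀ K : overCat U ⥤ᵇ Stk.ofPsh P, ∀ g : Over U,
      P.map g.hom.op (secAt K (Over.mk (𝟙 U))) = secAt K g := fun K g => secAt_map K (r g)
  have : (Stk.resSieve R (Stk.ofPsh P)).Full := ⟨fun {K K'} γ => by
    have h0 : secAt K (Over.mk (𝟙 U)) = secAt K' (Over.mk (𝟙 U)) :=
      ((hP R hR).isSeparatedFor).ext fun V f hf =>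
        ((hu K (Over.mk f)).trans (secAt_congr γ (⟨Over.mk f, hf⟩ : (Stk.sieveCat R).obj))).trans
          (hu K' (Over.mk f)).symm
    obtain ⟨i⟩ := exists_iso_of_secAt (G := K) (H := K') fun g =>
      (hu K g).symm.trans ((congrArg (fun s => P.map g.hom.op s) h0).trans (hu K' g))
    exact ⟨i.hom, based_hom_ext fun a =>
      ofPsh_hom_ext ((vert_app i.hom _).2.trans (vert_app γ a).2.symm)⟩⟩
  have : (Stk.resSieve R (Stk.ofPsh P)).EssSurj := ⟨fun L => by
    let x : Presieve.FamilyOfElements P R.arrows := fun V f hf =>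
      secAt L (⟨Over.mk f, hf⟩ : (Stk.sieveCat R).obj)
    have hx : x.Compatible := by
      rw [Presieve.compatible_iff_sieveCompatible]
      intro V W f g hf
      exact (secAt_map L (a := (⟨Over.mk (g ≫ f), R.downward_closed hf g⟩ : (Stk.sieveCat R).obj))
        (b := ⟨Over.mk f, hf⟩) (InducedCategory.homMk (Over.homMk g rfl))).symm
    obtain ⟨t, ht, -⟩ := hP R hR x hx
    let K : overCat U ⥤ᵇ Stk.ofPsh P :=
      { toFunctor :=
          { obj := fun g => ⟨g.left, P.map g.hom.op t⟩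
            map := fun {g g'} φ => ⟨φ.left,
              (psh_map_map (P := P) _ _ _).trans (eltObj_map_eq _ _ (over_w φ) _)⟩ }
        w := rfl }
    exact ⟨K, exists_iso_of_secAt fun a => (psh_map_id _ _).trans (ht a.obj.hom a.property)⟩⟩
  exact { }

end Sheaf

end Groth.Agent.StFib
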