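import Groth.Agent.StFib.RepFp
import Groth.Agent.StFib.Stack
import Groth.Agent.StFib.AtlasProps

/-!
Algebraic stacks: invariance under equivalences, and algebraic spaces as Deligne–Mumford stacks.
-/

set_option backward.isDefEq.respectTransparency false
set_option backward.isDefEq.respectTransparency.types false

universe u

open CategoryTheory CategoryTheory.Limits AlgebraicGeometry Opposite FibCat

namespace Groth.Agent.StFib

variable {S : Scheme.{u}} {𝒳 𝒴 : AlgSt.Cat S}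

theorem repByAlgSpWith_comp_equiv (P : MorphismProperty (AlgSp.Sp S)) {U : Over S}
    {x : overCat U ⥤ᵇ 𝒳} (hx : AlgSt.RepByAlgSpWith P x) {E : 𝒳 ⥤ᵇ 𝒴} (hE : IsEquivOver E) :
    AlgSt.RepByAlgSpWith P (BasedFunctor.comp x E) := by
  obtain ⟨E', hE', -, ⟨j⟩⟩ := isEquivOver_symm hE
  obtain ⟨a, ⟨b⟩, ⟨c⟩⟩ := hE
  have hb : IsEquivOver a := ⟨E, ⟨c⟩, ⟨b⟩⟩
  exact (repByAlgSpWith_iff_of_equiv P (BasedFunctor.id (overCat U)) a (isEquivOver_id _) hb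
    (f' := BasedFunctor.comp x E) (isoWhiskerLeft x b)).1 hx

theorem hasAtlas_of_isEquivOver (P : MorphismProperty (AlgSp.Sp S)) {E : 𝒳 ⥤ᵇ 𝒴} (hE : IsEquivOver E)
    (h : AlgSt.HasAtlas P 𝒳) : AlgSt.HasAtlas P 𝒴 := by
  obtain ⟨U, x, h1, h2⟩ := h
  exact ⟨U, BasedFunctor.comp x E, repByAlgSpWith_comp_equiv P h1 hE,
    repByAlgSpWith_comp_equiv _ h2 hE⟩

theorem diag_of_isEquivOver (h𝒳 : IsFibGrpd 𝒳.p) {E : 𝒳 ⥤ᵇ 𝒴} (hE : IsEquivOver E)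
    (h : AlgSt.RepByAlgSp1 (diag (toSelf 𝒳))) : AlgSt.RepByAlgSp1 (diag (toSelf 𝒴)) := by
  rw [repByAlgSp1_diag_iff (isFibGrpd_of_isEquivOver hE h𝒳)]
  intro U y
  obtain ⟨a, ⟨b⟩, ⟨c⟩⟩ := hE
  have hx := (repByAlgSp1_diag_iff h𝒳).1 h U (BasedFunctor.comp y a)
  exact repByAlgSp1_iff_with_top.2 ((repByAlgSpWith_iff_of_equiv _ (BasedFunctor.id (overCat U)) a
    (isEquivOver_id _) ⟨E, ⟨c⟩, ⟨b⟩⟩ (f := BasedFunctor.comp y a) (f' := y) (Iso.refl _)).1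
      (repByAlgSp1_iff_with_top.1 hx))

theorem isAlgStack_of_isEquivOver (K : Precoverage Scheme.{u}) {E : 𝒳 ⥤ᵇ 𝒴} (hE : IsEquivOver E)
    (h : AlgSt.IsAlgStack K 𝒳) : AlgSt.IsAlgStack K 𝒴 where
  isStack := (isStack_iff_of_isEquivOver _ hE).1 h.isStack
  diag := diag_of_isEquivOver h.isStack.1 hE h.diag
  atlas := hasAtlas_of_isEquivOver _ hE h.atlas

theorem isAlgStack_iff_of_isEquivOver (K : Precoverage Scheme.{u}) {E : 𝒳 ⥤ᵇ 𝒴} (hE : IsEquivOver E) :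
    AlgSt.IsAlgStack K 𝒳 ↔ AlgSt.IsAlgStack K 𝒴 := by
  obtain ⟨E', hE', -, -⟩ := isEquivOver_symm hE
  exact ⟨isAlgStack_of_isEquivOver K hE, isAlgStack_of_isEquivOver K hE'⟩

theorem isDM_iff_of_isEquivOver (K : Precoverage Scheme.{u}) {E : 𝒳 ⥤ᵇ 𝒴} (hE : IsEquivOver E) :
    AlgSt.IsDM K 𝒳 ↔ AlgSt.IsDM K 𝒴 := by
  obtain ⟨E', hE', -, -⟩ := isEquivOver_symm hE
  exact ⟨fun h => ⟨isAlgStack_of_isEquivOver K hE h.1, hasAtlas_of_isEquivOver _ hE h.2⟩,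
    fun h => ⟨isAlgStack_of_isEquivOver K hE' h.1, hasAtlas_of_isEquivOver _ hE' h.2⟩⟩

/-- A representable atlas of a sheaf as an atlas of its category. -/
theorem repByAlgSpWith_atlas (Q : MorphismProperty (AlgSp.Sp S)) [Q.RespectsIso]
    (P : MorphismProperty Scheme.{u})
    (hPQ : ∀ ⦃F : AlgSp.Sp S⦄ ⦃U : Over S⦄ (f : F ⟶ (AlgSp.yon S).obj U), AlgSp.RepWith P f → Q f)
    {F : AlgSp.Sp S} (hF : AlgSp.IsAlgSpace F) {U : Over S} (p : (AlgSp.yon S).obj U ⟶ F)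
    (hp : AlgSp.RepWith P p) :
    AlgSt.RepByAlgSpWith Q (BasedFunctor.comp (AlgSt.ofOverCat U) (AlgSt.ofSpMap p)) := by
  have h1 : AlgSp.RepBySpWith Q p.hom := (AlgSp.repBySpWith_hom_iff Q p).2 fun V ξ F' fst snd sq =>
    ⟨Groth.Agent.AlgSp.isAlgSpace_of_isPullback' hF (isAlgSpace_yon U) (isAlgSpace_yon V) sq,
      hPQ snd (MorphismProperty.of_isPullback sq hp)⟩
  exact (repByAlgSpWith_iff_of_equiv Q (AlgSt.ofOverCat U) (BasedFunctor.id _)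
    ⟨AlgSt.toOverCat U, ⟨Iso.refl _⟩, ⟨Iso.refl _⟩⟩ (isEquivOver_id _)
    (f' := BasedFunctor.comp (AlgSt.ofOverCat U) (AlgSt.ofSpMap p)) (Iso.refl _)).1
      ((repBySpWith_iff Q p.hom).1 h1)

theorem isDM_of_repByAlgSp (h : AlgSt.RepByAlgSp 𝒳) :
    AlgSt.IsDM Scheme.fppfPrecoverage 𝒳 := by
  obtain ⟨F, e, he⟩ := h
  refine (isDM_iff_of_isEquivOver _ he).1 ?_
  obtain ⟨U, p, hpe, hps⟩ := F.property.atlas
  let x := BasedFunctor.comp (AlgSt.ofOverCat U) (AlgSt.ofSpMap p)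
  have h1 : AlgSt.RepByAlgSpWith AlgSp.IsEtaleMor x :=
    repByAlgSpWith_atlas _ _ (fun _ _ _ h => isEtaleMor_of_repWith h) F.property p hpe
  have h2 : AlgSt.RepByAlgSpWith AlgSp.IsSurjectiveMor x :=
    repByAlgSpWith_atlas _ _ (fun _ _ _ h => isSurjectiveMor_of_repWith h) F.property p hps
  have h3 : AlgSt.RepByAlgSpWith (AlgSp.LocP @Smooth) x :=
    repByAlgSpWith_atlas _ _ (fun _ _ _ h => locP_smooth_of_repWith h) F.property p
      (repWith_mono' (P := @Etale) (Q := @Smooth) (fun _ _ f hf => have : Etale f := hf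
        inferInstance) hpe)
  refine ⟨⟨isStack_ofPsh ((isSheaf_iff_isSheaf_of_type _ _).1 F.obj.property), ?_, U, x, h3, h2⟩,
    U, x, h1, h2⟩
  rw [repByAlgSp1_diag_iff (Stk.isFibGrpd_ofPsh _)]
  exact fun V y => repByAlgSp1_of_repByAlgSp (repByAlgSp_overCat V)
    ⟨F, BasedFunctor.id _, isEquivOver_id _⟩ y

end Groth.Agent.StFib
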