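import Groth.Agent.StFib.DiagRep2
import Groth.Agent.AlgSp.QCMor
import Groth.Agent.AlgSp.PointsMor
import Mathlib.AlgebraicGeometry.ZariskisMainTheorem

/-!
Reading properties of representable morphisms off their diagonals.
-/

set_option backward.isDefEq.respectTransparency false
set_option backward.isDefEq.respectTransparency.types false

universe u

open CategoryTheory CategoryTheory.Limits AlgebraicGeometry Opposite FibCat

namespace Groth.Agent.StFib

variable {S : Scheme.{u}} {𝒳 𝒴 : AlgSt.Cat S} {f : 𝒳 ⥤ᵇ 𝒴}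

/-- A map of algebraic spaces has `P` if its functor has. -/
theorem mem_of_repByAlgSpWith_ofSpMap {P : MorphismProperty (AlgSp.Sp S)} (hPb : StableBC P)
    (hdet : DetectedOnSchemes P) {A B : AlgSp.Sp S} (hA : AlgSp.IsAlgSpace A)
    (hB : AlgSp.IsAlgSpace B) (b : A ⟶ B) (h : AlgSt.RepByAlgSpWith P (AlgSt.ofSpMap b)) : P b := by
  have := hPb.of_respects
  refine hdet hA hB b fun U p => ?_
  obtain ⟨hX, hR⟩ := (AlgSp.repBySpWith_hom_iff _ b).1
    ((repBySpWith_iff _ b.hom).2 (repByAlgSpWith_restr h)) p _ _ (IsPullback.of_hasPullback b p)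
  exact hR hX (isAlgSpace_yon U)

/-- A functor from a space to a scheme is the functor of its map. -/
theorem exists_iso_ofSpMap_toOverCat {A : AlgSp.Sp S} {T : Over S}
    (Φ : AlgSt.ofSp A ⥤ᵇ overCat T) :
    Nonempty (BasedFunctor.comp (AlgSt.ofSpMap (AlgSt.spMapOfOver Φ)) (AlgSt.toOverCat T) ≅ Φ) := by
  obtain ⟨d, hd', -, ⟨j⟩⟩ := isEquivOver_symm (toOverCat_isEquivOver T)
  obtain ⟨k⟩ := exists_iso_pshMap (P := A.obj) (Q := ((AlgSp.yon S).obj T).obj)
    (BasedFunctor.comp Φ d)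
  have ha : pshMap (P := A.obj) (Q := ((AlgSp.yon S).obj T).obj) (BasedFunctor.comp Φ d) =
      (AlgSt.spMapOfOver Φ).hom := by
    have h := congrArg (fun m => m.hom) (spMapOfOver_congr (F := A)
      (Iso.trans (isoWhiskerRight k.symm (AlgSt.toOverCat T)) (isoWhiskerLeft Φ j)))
    refine Eq.trans ?_ h
    ext W x
    exact (congrArg ULift.up (Category.id_comp _)).symm
  rw [ha] at k
  exact ⟨Iso.trans (isoWhiskerRight k.symm (AlgSt.toOverCat T)) (isoWhiskerLeft Φ j)⟩

/-- A representable morphism whose diagonal has `P` has every property that `P` of the diagonal gives. -/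
theorem of_diag_mem {P Q : MorphismProperty (AlgSp.Sp S)} (hPb : StableBC P) (hdet : DetectedOnSchemes P)
    (hq : ∀ ⦃A : AlgSp.Sp S⦄ ⦃U : Over S⦄, AlgSp.IsAlgSpace A →
      ∀ a : A ⟶ (AlgSp.yon S).obj U, P (pullback.diagonal a) → Q a)
    {f : 𝒳 ⥤ᵇ 𝒴} (hf : AlgSt.RepByAlgSp1 f) (hd : AlgSt.RepByAlgSpWith P (diag f)) :
    AlgSt.RepByAlgSpWith Q f := by
  intro T y
  obtain ⟨A, e, he, -⟩ := repByAlgSp1_iff_with_top.1 hf T y
  refine ⟨A, e, he, hq A.property _ ?_⟩
  let a := AlgSt.spMapOfOver (BasedFunctor.comp e (fpFst y f))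
  have h1 : AlgSt.RepByAlgSpWith P (diag (fpFst y f)) :=
    repByAlgSpWith_of_cart P _ _ _ (diag_fpFst_cart y f) hd
  obtain ⟨i⟩ := exists_iso_ofSpMap_toOverCat (A := A.obj) (BasedFunctor.comp e (fpFst y f))
  have h2 := repByAlgSpWith_diag_of_iso P i.symm ((diag_iff_of_equiv_source P e he (Iso.refl _)).1 h1)
  have h3 := (diag_ofSpMap_iff P a).1 ((diag_iff_of_equiv_target P (AlgSt.ofSpMap a) _
    (toOverCat_isEquivOver T)).2 h2)
  exact mem_of_repByAlgSpWith_ofSpMap hPb hdet A.property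
    (Groth.Agent.AlgSp.isAlgSpace_pullback (isAlgSpace_yon T) A.property A.property a a) _ h3

theorem tfae_separated (hf : AlgSt.RepByAlgSp1 f) :
    [AlgSt.RepByAlgSpWith AlgSp.IsSeparatedMor f, AlgSt.IsClosedImm (diag f),
      AlgSt.IsSeparatedMor f, AlgSt.RepByAlgSpWith AlgSp.IsUnivClosedMor (diag f)].TFAE := by
  tfae_have 1 → 2 := fun h =>
    diag_of_rep_mem (good_repWith @IsClosedImmersion).bc (fun A U _ a ha => ha) h
  tfae_have 2 → 3 := fun h => repByAlgSpWith_mono h
    fun F U m hm => isProperMor_of_repWith_closedImmersion (isAlgSpace_yon U) m hm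
  tfae_have 3 → 4 := fun h => repByAlgSpWith_mono h fun F U m hm => hm.2.2
  tfae_have 4 → 1 := fun h => of_diag_mem good_univClosed.bc good_univClosed.det
    (fun A U hA a ha => by
      obtain ⟨hr, hl, hm, hs, -⟩ := Groth.Agent.AlgSp.diagonal_props hA a
      have hu := (Groth.Agent.AlgSp.repWith_universallyClosed_iff _ hr).2 ha
      refine ⟨hr, fun W p q fst snd sq => ?_⟩
      have : IsSeparated _ := hs.2 _ _ _ sq
      have : LocallyOfFiniteType _ := hl.2 _ _ _ sq
      have : UniversallyClosed _ := hu.2 _ _ _ sq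
      exact (IsClosedImmersion.iff_isProper_and_mono _).2 ⟨⟨⟩, hm.2 _ _ _ sq⟩) hf h
  tfae_finish

theorem tfae_quasiSeparated (hf : AlgSt.RepByAlgSp1 f) :
    [AlgSt.RepByAlgSpWith AlgSp.IsQuasiSeparatedMor f,
      AlgSt.RepByAlgSpWith AlgSp.IsQuasiCompactMor (diag f),
      AlgSt.RepByAlgSpWith AlgSp.IsFiniteTypeMor (diag f)].TFAE := by
  tfae_have 1 → 2 := fun h => diag_of_rep_mem good_quasiCompact.bc (fun A U hA a ha =>
    Groth.Agent.AlgSp.isQuasiCompactMor_of_repWith
      (Groth.Agent.AlgSp.isAlgSpace_pullback (isAlgSpace_yon U) hA hA a a) ha) h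
  tfae_have 2 → 3 := fun h => diag_of_rep_mem (Q := AlgSp.IsQuasiSeparatedMor)
    (good_lft.inf good_quasiCompact).bc (fun A U hA a ha => by
      have hl := Groth.Agent.AlgSp.repWith_diagonal hA a @LocallyOfFiniteType fun _ h _ => h
      exact ⟨Groth.Agent.AlgSpCov.locP_of_repWith
          Groth.Agent.AlgSpCov.etaleLocal_locallyOfFiniteType hl,
        Groth.Agent.AlgSp.isQuasiCompactMor_of_repWith
          (Groth.Agent.AlgSp.isAlgSpace_pullback (isAlgSpace_yon U) hA hA a a) ha⟩)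
    (of_diag_mem good_quasiCompact.bc good_quasiCompact.det (fun A U hA a ha =>
      (Groth.Agent.AlgSp.repWith_quasiCompact_iff
        (Groth.Agent.AlgSp.isAlgSpace_pullback (isAlgSpace_yon U) hA hA a a) _
        (Groth.Agent.AlgSp.diagonal_props hA a).1).2 ha) hf h)
  tfae_have 3 → 1 := fun h => of_diag_mem good_quasiCompact.bc good_quasiCompact.det
    (fun A U hA a ha =>
      (Groth.Agent.AlgSp.repWith_quasiCompact_iff
        (Groth.Agent.AlgSp.isAlgSpace_pullback (isAlgSpace_yon U) hA hA a a) _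
        (Groth.Agent.AlgSp.diagonal_props hA a).1).2 ha) hf (repByAlgSpWith_mono h fun F U m hm => hm.2)
  tfae_finish

theorem isQuasiSeparatedMor_iff_of_rep (hf : AlgSt.RepByAlgSp1 f) :
    AlgSt.IsQuasiSeparatedMor f ↔ AlgSt.RepByAlgSpWith AlgSp.IsQuasiSeparatedMor f := by
  refine ⟨fun h => ((tfae_quasiSeparated hf).out 1 0).1 (repByAlgSpWith_mono h fun F U m hm => hm.1),
    fun h => diag_of_rep_mem (good_quasiCompact.inf good_quasiSeparated).bc (fun A U hA a ha => ?_) h⟩
  refine ⟨Groth.Agent.AlgSp.isQuasiCompactMor_of_repWith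
    (Groth.Agent.AlgSp.isAlgSpace_pullback (isAlgSpace_yon U) hA hA a a) ha, ?_⟩
  have : Mono (pullback.diagonal a) := inferInstance
  exact repWith_diagonal_of_mono @QuasiCompact _

end Groth.Agent.StFib
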