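import Groth.Agent.StFib.DiagRep
import Groth.Agent.StFib.Cancel
import Groth.Agent.StFib.Rep
import Mathlib.AlgebraicGeometry.Morphisms.FormallyUnramified

/-!
Properties of the diagonal of a representable morphism.
-/

set_option backward.isDefEq.respectTransparency false
set_option backward.isDefEq.respectTransparency.types false

universe u

open CategoryTheory CategoryTheory.Limits AlgebraicGeometry Opposite FibCat

namespace Groth.Agent.StFib

variable {S : Scheme.{u}} {𝒳 𝒴 : AlgSt.Cat S} {f : 𝒳 ⥤ᵇ 𝒴}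

theorem isMono_diag (hf : AlgSt.RepByAlgSp1 f) : AlgSt.IsMono (diag f) :=
  diag_of_rep_mem (Q := ⊤) good_mono.bc (fun A U _ a _ =>
    (MorphismProperty.monomorphisms.infer_property (pullback.diagonal a)))
    (repByAlgSp1_iff_with_top.1 hf)

theorem isSeparated_diag (hf : AlgSt.RepByAlgSp1 f) :
    AlgSt.RepByAlgSpWith AlgSp.IsSeparatedMor (diag f) :=
  diag_of_rep_mem (Q := ⊤) good_separated.bc (fun A U _ a _ => by
    have : Mono (pullback.diagonal a) := inferInstance
    exact repWith_diagonal_of_mono @IsClosedImmersion _)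
    (repByAlgSp1_iff_with_top.1 hf)

theorem isDMMor_of_rep (hf : AlgSt.RepByAlgSp1 f) : AlgSt.IsDMMor f :=
  diag_of_rep_mem (Q := ⊤) good_unramified.bc (fun A U hA a _ =>
    Groth.Agent.AlgSpCov.locP_of_repWith Groth.Agent.AlgSpCov.standard_unramified.etaleLocal
      (Groth.Agent.AlgSp.repWith_diagonal hA a
        (@LocallyOfFiniteType ⊓ @FormallyUnramified) fun {X Y} g h hm => by
          have : Mono g := hm
          have : IsIso (pullback.diagonal g) := ⟨pullback.fst g g, pullback.diagonal_fst _, by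
            have : pullback.fst g g = pullback.snd g g := (cancel_mono g).1 pullback.condition
            apply pullback.hom_ext <;> simp [this]⟩
          exact ⟨h, inferInstance⟩))
    (repByAlgSp1_iff_with_top.1 hf)

theorem isRepresentable1_diag (hf : AlgSt.RepByAlgSp1 f) : IsRepresentable1 (diag f) := by
  have h : AlgSt.RepByAlgSpWith (AlgSp.RepWith ⊤) (diag f) :=
    diag_of_rep_mem (Q := ⊤) (good_repWith ⊤).bc (fun A U hA a _ =>
      Groth.Agent.AlgSp.repWith_diagonal hA a ⊤ fun _ _ _ => trivial)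
      (repByAlgSp1_iff_with_top.1 hf)
  intro U z
  obtain ⟨F, e, he, hP⟩ := h U z
  obtain ⟨V, g, ι, -, -⟩ := exists_iso_yon_of_repWith ⊤ hP
  obtain ⟨d, hd, -, -⟩ := isEquivOver_symm he
  have hi : IsEquivOver (AlgSt.ofSpMap ι.inv) :=
    ⟨AlgSt.ofSpMap ι.hom,
      ⟨isoMk (fun a => eltIso rfl ((psh_map_id _ _).trans
          (congrArg (fun m => m.hom.app (op a.base) a.sec) ι.inv_hom_id).symm))
        (fun a => vert_eltIso _ _) (fun φ => Stk.EltObj.hom_ext ((Category.comp_id _).trans (Category.id_comp _).symm))⟩,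
      ⟨isoMk (fun a => eltIso rfl ((psh_map_id _ _).trans
          (congrArg (fun m => m.hom.app (op a.base) a.sec) ι.hom_inv_id).symm))
        (fun a => vert_eltIso _ _) (fun φ => Stk.EltObj.hom_ext ((Category.comp_id _).trans (Category.id_comp _).symm))⟩⟩
  exact ⟨V, BasedFunctor.comp d (BasedFunctor.comp (AlgSt.ofSpMap ι.inv) (AlgSt.toOverCat V)),
    isEquivOver_comp hd (isEquivOver_comp hi (toOverCat_isEquivOver V))⟩

end Groth.Agent.StFib
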