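import Groth.Agent.StFib.DescCriteria
import Groth.Agent.AlgSpCov.FpqcBase
import Groth.Agent.S10505

/-!
The diagonal of a morphism of algebraic stacks is locally of finite type; descent for diagonals.
-/

set_option backward.isDefEq.respectTransparency false
set_option backward.isDefEq.respectTransparency.types false

universe u

open CategoryTheory CategoryTheory.Limits AlgebraicGeometry Opposite FibCat

namespace Groth.Agent.StFib

variable {S : Scheme.{u}} {𝒳 𝒴 : AlgSt.Cat S}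

/-- fpqc local implies fppf local. -/
theorem fppfLocal_of_fpqc {P : MorphismProperty (AlgSp.Sp S)}
    (hP : AlgSp.IsLocalOnBase AlgSp.IsFpqcCover P) : AlgSp.IsLocalOnBase AlgSp.IsFppfCover P := by
  intro ι Y Yi g hY hYi hc
  exact hP Yi g hY hYi (Groth.Agent.S10505.result (⟨Y, hY⟩ : AlgSp.Space S)
    (fun i => (⟨Yi i, hYi i⟩ : AlgSp.Space S)) (fun i => ObjectProperty.homMk (g i)) hc)

theorem fppfLocal_lft :
    AlgSp.IsLocalOnBase AlgSp.IsFppfCover (AlgSp.LocP (S := S) @LocallyOfFiniteType) :=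
  fppfLocal_of_fpqc
    (Groth.Agent.AlgSpCov.isLocalOnBase_locP Groth.Agent.AlgSpCov.etaleLocal_locallyOfFiniteType)

/-- The product of a chart with itself covers `𝒳 × 𝒳`. -/
theorem repByAlgSpWith_compPhi (P : MorphismProperty (AlgSp.Sp S)) (hP : Good P) {U : Over S}
    (h𝒳 : IsFibGrpd 𝒳.p) {x : overCat U ⥤ᵇ 𝒳} (hx : AlgSt.RepByAlgSpWith P x) :
    AlgSt.RepByAlgSpWith P (compPhi x x (toSelf 𝒳)) := by
  obtain ⟨F, e, he⟩ := repByAlgSp_selfOver (S := S)
  have hself : IsFibGrpd (selfOver (C := Over S)).p :=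
    isFibGrpd_of_isEquivOver he (Stk.isFibGrpd_ofPsh _)
  let t := toSelf 𝒳
  let M1 := fpMap (F := t) (G := BasedFunctor.comp x t) (F' := BasedFunctor.comp x t)
    (G' := BasedFunctor.comp x t) x (BasedFunctor.id _) (BasedFunctor.id _) (Iso.refl _) (Iso.refl _)
  let M2 := fpMap (F := t) (G := t) (F' := t) (G' := BasedFunctor.comp x t) (BasedFunctor.id 𝒳) x
    (BasedFunctor.id _) (Iso.refl _) (Iso.refl _)
  have h : AlgSt.RepByAlgSpWith P (BasedFunctor.comp M1 M2) :=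
    repByAlgSpWith_comp hP.bc hP.comp hP.det
      (isFibGrpd_fp (isFibGrpd_overCat U) (isFibGrpd_overCat U) hself _ _)
      (isFibGrpd_fp h𝒳 (isFibGrpd_overCat U) hself _ _)
      (repByAlgSpWith_fpMap_left P hx t _) (repByAlgSpWith_fpMap_right P hx t t)
  refine repByAlgSpWith_of_iso P ?_ h
  exact isoMk (fun w => fpIsoMk (Iso.refl _) (Iso.refl _) (by
      change t.map (𝟙 _) ≫ w.obj.iso.hom =
        (𝟙 _ ≫ (𝟙 _ ≫ w.obj.iso.hom ≫ 𝟙 _) ≫ 𝟙 _) ≫ t.map (𝟙 _)
      simp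
      exact (Category.comp_id _).symm))
    (fun w => Vert.id _)
    (fun φ => fp_hom_ext ((Category.comp_id _).trans (Category.id_comp _).symm)
      ((Category.comp_id _).trans (Category.id_comp _).symm))

theorem lft_diag_toSelf (h : AlgSt.IsAlgStack Scheme.fppfPrecoverage 𝒳) :
    AlgSt.RepByAlgSpWith (AlgSp.LocP @LocallyOfFiniteType) (diag (toSelf 𝒳)) := by
  obtain ⟨U, x, hx, hxs⟩ := h.atlas
  obtain ⟨F, e, he⟩ := repByAlgSp_selfOver (S := S)
  have hself : IsFibGrpd (selfOver (C := Over S)).p :=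
    isFibGrpd_of_isEquivOver he (Stk.isFibGrpd_ofPsh _)
  let t := toSelf 𝒳
  have h1 : AlgSt.RepByAlgSpWith (AlgSp.LocP @Flat) x := repByAlgSpWith_mono hx
    fun F V m hm A B a b k ha hb e => have : Smooth k.left := hm a b k ha hb e; inferInstance
  have h2 : AlgSt.RepByAlgSpWith (AlgSp.LocP @LocallyOfFinitePresentation) x := repByAlgSpWith_mono hx
    fun F V m hm A B a b k ha hb e => have : Smooth k.left := hm a b k ha hb e; inferInstance
  have h3 : AlgSt.RepByAlgSpWith (AlgSp.LocP @LocallyOfFiniteType) x := repByAlgSpWith_mono hx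
    fun F V m hm A B a b k ha hb e => have : Smooth k.left := hm a b k ha hb e; inferInstance
  refine repByAlgSpWith_of_locally_lift good_lft.bc fppfLocal_lft h.diag
    (exists_locally_lift (isFibGrpd_fp (isFibGrpd_overCat U) (isFibGrpd_overCat U) hself _ _)
      (isFibGrpd_fp h.isStack.1 h.isStack.1 hself t t)
      (repByAlgSpWith_compPhi _ (good_locP Groth.Agent.AlgSpCov.standard_flat) h.isStack.1 h1)
      (repByAlgSpWith_compPhi _ (good_locP Groth.Agent.AlgSpCov.standard_locallyOfFinitePresentation)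
        h.isStack.1 h2)
      (repByAlgSpWith_compPhi _ good_surjective h.isStack.1 hxs)) ?_
  let u : fp x x ⥤ᵇ fp (BasedFunctor.comp x t) (BasedFunctor.comp x t) :=
    fpLift (fpFst x x) (fpSnd x x) (isoWhiskerRight (fpIso x x) t)
  have hcart := comp_cart x x t (isoWhiskerRight (fpIso x x) t) fun _ => rfl
  refine (repByAlgSpWith_iff_of_equiv _ _ (BasedFunctor.id _) hcart (isEquivOver_id _)
    (f := fpFst (compPhi x x t) (diag t)) (f' := u) (Iso.refl _)).2 ?_
  refine repByAlgSpWith_cancel (Q := ⊤) good_lft.bc (fun A B C _ _ hC a b _ hab => locP_of_comp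
      Groth.Agent.AlgSpCov.etaleLocal_locallyOfFiniteType
      (fun _ _ _ g k hgk => (have : LocallyOfFiniteType (g ≫ k) := hgk
        locallyOfFiniteType_of_comp g k : LocallyOfFiniteType g)) hC a b hab)
    (q := fpFst (BasedFunctor.comp x t) (BasedFunctor.comp x t))
    (repByAlgSpWith_fpFst _ _ (repByAlgSp1_iff_with_top.1
      (repByAlgSp1_of_repByAlgSp (repByAlgSp_overCat U) repByAlgSp_selfOver _))) ?_
  exact repByAlgSpWith_fpFst _ x h3

theorem lft_diag (h𝒳 : AlgSt.IsAlgStack Scheme.fppfPrecoverage 𝒳)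
    (h𝒴 : AlgSt.IsAlgStack Scheme.fppfPrecoverage 𝒴) (f : 𝒳 ⥤ᵇ 𝒴) :
    AlgSt.RepByAlgSpWith (AlgSp.LocP @LocallyOfFiniteType) (diag f) := by
  obtain ⟨i⟩ := exists_iso_toSelf (BasedFunctor.comp f (toSelf 𝒴))
  exact diag_of_comp_mem (Q := ⊤) good_lft.bc (fun A B C _ _ hC a b _ hab => locP_of_comp
      Groth.Agent.AlgSpCov.etaleLocal_locallyOfFiniteType
      (fun _ _ _ g k hgk => (have : LocallyOfFiniteType (g ≫ k) := hgk
        locallyOfFiniteType_of_comp g k : LocallyOfFiniteType g)) hC a b hab)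
    (repByAlgSp1_iff_with_top.1 h𝒴.diag)
    (repByAlgSpWith_diag_of_iso _ i.symm (lft_diag_toSelf h𝒳))

/-- Properties of the diagonal local on the base descend along covers of the target. -/
theorem diag_of_fpFst_cover {P : MorphismProperty (AlgSp.Sp S)} (hPb : StableBC P)
    (hP : AlgSp.IsLocalOnBase AlgSp.IsFppfCover P) (h𝒴 : IsFibGrpd 𝒴.p) {f : 𝒳 ⥤ᵇ 𝒴}
    (hd : AlgSt.RepByAlgSp1 (diag f)) {𝒲 : AlgSt.Cat S} (h𝒲 : IsFibGrpd 𝒲.p) {w : 𝒲 ⥤ᵇ 𝒴}
    (hw₁ : AlgSt.RepByAlgSpWith (AlgSp.LocP @Flat) w)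
    (hw₂ : AlgSt.RepByAlgSpWith (AlgSp.LocP @LocallyOfFinitePresentation) w)
    (hw₃ : AlgSt.RepByAlgSpWith AlgSp.IsSurjectiveMor w)
    (h : AlgSt.RepByAlgSpWith P (diag (fpFst w f))) : AlgSt.RepByAlgSpWith P (diag f) := by
  refine repByAlgSpWith_of_locally_lift hPb hP hd (g := diagPhi w f) (fun U z => ?_) ?_
  · obtain ⟨R, hR, hl⟩ := exists_locally_lift h𝒲 h𝒴 hw₁ hw₂ hw₃ U
      (BasedFunctor.comp (BasedFunctor.comp z (fpFst f f)) f)
    refine ⟨R, hR, fun V k hk => ?_⟩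
    obtain ⟨t, ⟨i⟩⟩ := hl k hk
    let z₀ := BasedFunctor.comp (AlgSt.overMap k) z
    let j : BasedFunctor.comp t w ≅ BasedFunctor.comp (BasedFunctor.comp z₀ (fpSnd f f)) f :=
      i ≪≫ isoWhiskerLeft z₀ (fpIso f f)
    let sa : overCat V ⥤ᵇ fp w f := fpLift t (BasedFunctor.comp z₀ (fpFst f f)) i
    let sb : overCat V ⥤ᵇ fp w f := fpLift t (BasedFunctor.comp z₀ (fpSnd f f)) j
    let z' : overCat V ⥤ᵇ fp (fpFst w f) (fpFst w f) := fpLift sa sb (Iso.refl _)
    refine ⟨z', ⟨isoMk (F := BasedFunctor.comp z' (diagPhi w f)) (G := z₀)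
      (fun (a : (overCat V).obj) => fpIsoMk (Iso.refl _) (Iso.refl _) ?_)
      (fun a => Vert.id _) (fun φ => fp_hom_ext (F := f) (G := f)
        ((Category.comp_id _).trans (Category.id_comp _).symm)
        ((Category.comp_id _).trans (Category.id_comp _).symm))⟩⟩
    change f.map (𝟙 _) ≫ (z₀.obj a).obj.iso.hom =
      ((isoApp i a).inv ≫ w.map (𝟙 _) ≫ (isoApp i a).hom ≫ (z₀.obj a).obj.iso.hom) ≫ f.map (𝟙 _)
    have key : ∀ {A B C : 𝒴.obj} (p : A ≅ B) (m : B ⟶ C), m = p.inv ≫ 𝟙 A ≫ p.hom ≫ m := by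
      intros; simp
    rw [CategoryTheory.Functor.map_id, CategoryTheory.Functor.map_id, CategoryTheory.Functor.map_id]
    exact ((Category.id_comp _).trans (key (isoApp i a) _)).trans (Category.comp_id _).symm
  · obtain ⟨E, hE, ⟨iE⟩⟩ := (⟨_, diag_fpFst_cart w f, ⟨Iso.refl _⟩⟩ :
      ∃ E : fp w f ⥤ᵇ fp (diagPhi w f) (diag f), IsEquivOver E ∧
        Nonempty (diag (fpFst w f) ≅ BasedFunctor.comp E (fpFst (diagPhi w f) (diag f))))
    exact (repByAlgSpWith_iff_of_equiv P E (BasedFunctor.id _) hE (isEquivOver_id _)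
      (f := fpFst (diagPhi w f) (diag f)) (f' := diag (fpFst w f)) iE).2 h

end Groth.Agent.StFib
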