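import Groth.Agent.StFib.Inertia
import Groth.Agent.StFib.DiagConv
import Groth.Agent.StFib.DiagLft

/-!
# The relative inertia as a base change of the diagonal
-/

set_option linter.unusedVariables false
set_option backward.isDefEq.respectTransparency false
set_option backward.isDefEq.respectTransparency.types false

universe u

open CategoryTheory CategoryTheory.Limits AlgebraicGeometry Opposite FibCat

namespace Groth.Agent.StFib

variable {S : Scheme.{u}} {𝒳 𝒴 : AlgSt.Cat S}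

theorem inertia_vert_aut {f : 𝒳 ⥤ᵇ 𝒴} (x : InertiaObj f) : Vert x.aut.hom := by
  refine vert_of_isHomLift (R := 𝒳.p.obj x.pt) ?_
  rw [← BasedFunctor.isHomLift_iff f, x.map_aut]
  exact IsHomLift.id (f.w_obj x.pt)

theorem exists_inertia_equiv (f : 𝒳 ⥤ᵇ 𝒴) :
    ∃ E : inertia f ⥤ᵇ fp (diag f) (diag f), IsEquivOver E ∧
      BasedFunctor.comp E (fpFst (diag f) (diag f)) = inertiaToBase f ∧
      Nonempty (BasedFunctor.comp (inertiaNeutral f) E ≅ diag (diag f)) := by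
  let ε : BasedFunctor.comp (inertiaToBase f) (diag f) ≅ BasedFunctor.comp (inertiaToBase f) (diag f) :=
    isoMk (fun x => fpIsoMk x.aut (Iso.refl _) (by
      show f.map x.aut.hom ≫ 𝟙 _ = 𝟙 _ ≫ f.map (𝟙 _)
      rw [x.map_aut, f.toFunctor.map_id]))
      (fun x => vert_fp_iff.2 (inertia_vert_aut x))
      (fun {x y} φ => fp_hom_ext φ.comm.symm (by
        show φ.hom ≫ 𝟙 _ = 𝟙 _ ≫ φ.hom
        simp))
  refine ⟨fpLift (inertiaToBase f) (inertiaToBase f) ε, ?_, rfl, ⟨?_⟩⟩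
  · refine fpLift_isEquivOver_mk _ _ _ (fun φ ψ h _ => InertiaObj.hom_ext h) ?_ ?_
    · intro x y a b h
      have h1 : a ≫ y.aut.hom = x.aut.hom ≫ b := congrArg (fun t => CategoricalPullback.Hom.fst t.hom) h
      have h2 : a ≫ 𝟙 _ = 𝟙 _ ≫ b := congrArg (fun t => CategoricalPullback.Hom.snd t.hom) h
      have h2' : a = b := (Category.comp_id a).symm.trans (h2.trans (Category.id_comp b))
      subst h2'
      exact ⟨⟨a, h1.symm⟩, rfl, rfl⟩
    · intro z
      let j₁ : z.obj.fst ≅ z.obj.snd := fpIsoFst z.obj.iso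
      let j₂ : z.obj.fst ≅ z.obj.snd := fpIsoSnd z.obj.iso
      have hj : f.map j₁.hom ≫ 𝟙 _ = 𝟙 _ ≫ f.map j₂.hom := z.obj.iso.hom.hom.w
      have hj' : f.map j₁.hom = f.map j₂.hom :=
        (Category.comp_id _).symm.trans (hj.trans (Category.id_comp _))
      refine ⟨⟨z.obj.fst, j₁ ≪≫ j₂.symm, ?_⟩, Iso.refl _, j₂, Vert.id _, ?_⟩
      · show f.map (j₁.hom ≫ j₂.inv) = 𝟙 _
        rw [f.toFunctor.map_comp, hj', ← f.toFunctor.map_comp, Iso.hom_inv_id, f.toFunctor.map_id]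
      · refine fp_hom_ext ?_ ?_
        · show 𝟙 _ ≫ j₁.hom = (j₁.hom ≫ j₂.inv) ≫ j₂.hom
          simp
        · show 𝟙 _ ≫ j₂.hom = 𝟙 _ ≫ j₂.hom
          rfl
  · exact isoMk (fun x => fpIsoMk (Iso.refl _) (Iso.refl _) (fp_hom_ext
      (by show 𝟙 _ ≫ 𝟙 _ = 𝟙 _ ≫ 𝟙 _; rfl) (by show 𝟙 _ ≫ 𝟙 _ = 𝟙 _ ≫ 𝟙 _; rfl)))
      (fun x => Vert.id _)
      (fun φ => fp_hom_ext ((Category.comp_id _).trans (Category.id_comp _).symm)
        ((Category.comp_id _).trans (Category.id_comp _).symm))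

/-- A property stable under base change passes from the diagonal to the inertia. -/
theorem inertiaToBase_mem (P : MorphismProperty (AlgSp.Sp S)) {f : 𝒳 ⥤ᵇ 𝒴}
    (h : AlgSt.RepByAlgSpWith P (diag f)) : AlgSt.RepByAlgSpWith P (inertiaToBase f) := by
  obtain ⟨E, hE, h1, -⟩ := exists_inertia_equiv f
  exact (repByAlgSpWith_iff_of_equiv P E (BasedFunctor.id _) hE (isEquivOver_id _)
    (f := fpFst (diag f) (diag f)) (f' := inertiaToBase f) (eqToIso h1.symm)).1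
    (repByAlgSpWith_fpFst P (diag f) h)

/-- The neutral section against the double diagonal. -/
theorem inertiaNeutral_mem_iff (P : MorphismProperty (AlgSp.Sp S)) (f : 𝒳 ⥤ᵇ 𝒴) :
    AlgSt.RepByAlgSpWith P (inertiaNeutral f) ↔ AlgSt.RepByAlgSpWith P (diag (diag f)) := by
  obtain ⟨E, hE, -, ⟨i⟩⟩ := exists_inertia_equiv f
  exact (repByAlgSpWith_iff_of_equiv P (BasedFunctor.id _) E (isEquivOver_id _) hE
    (f := diag (diag f)) (f' := inertiaNeutral f) i).symm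

end Groth.Agent.StFib

namespace Groth.Agent.StFib

variable {S : Scheme.{u}} {𝒳 𝒴 : AlgSt.Cat S}

/-- A section of a morphism is a base change of its diagonal. -/
theorem section_mem {P : MorphismProperty (AlgSp.Sp S)} {u : 𝒳 ⥤ᵇ 𝒴} {q : 𝒴 ⥤ᵇ 𝒳}
    (e : BasedFunctor.comp u q ≅ BasedFunctor.id 𝒳) (h : AlgSt.RepByAlgSpWith P (diag q)) :
    AlgSt.RepByAlgSpWith P u := by
  let p : 𝒳 ⥤ᵇ 𝒳 := BasedFunctor.id 𝒳
  let e' : BasedFunctor.comp (BasedFunctor.id 𝒳) p ≅ BasedFunctor.comp u q := e.symm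
  have hgr := repByAlgSpWith_of_cart P _ _ _ (graph_cart p q u e') h
  let j : 𝒴 ⥤ᵇ fp p q := fpLift q (BasedFunctor.id 𝒴) (Iso.refl _ : BasedFunctor.comp q p ≅ BasedFunctor.comp (BasedFunctor.id 𝒴) q)
  have hj : IsEquivOver j := by
    refine fpLift_isEquivOver_mk _ _ _ (fun φ ψ _ h => h) (fun {a a'} f g h => ⟨g, ?_, rfl⟩) fun z => ?_
    · exact ((Category.comp_id _).symm.trans (h.trans (Category.id_comp _))).symm
    · exact ⟨z.obj.snd, z.obj.iso.symm, Iso.refl _, (vert_fp_iso z).inv, z.obj.iso.inv_hom_id.trans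
        ((congrArg (𝟙 _ ≫ ·) (q.toFunctor.map_id _)).trans (Category.comp_id _)).symm⟩
  let i : BasedFunctor.comp u j ≅ BasedFunctor.comp (BasedFunctor.id 𝒳) (fpLift (BasedFunctor.id 𝒳) u e') :=
    isoMk (fun x => fpIsoMk (isoApp e x) (Iso.refl _) (by
      change (isoApp e x).hom ≫ (isoApp e' x).hom = 𝟙 _ ≫ q.map (𝟙 _)
      rw [q.toFunctor.map_id, Category.comp_id]
      exact (isoApp e x).hom_inv_id))
      (fun x => vert_fp_iff.2 (vert_isoApp e x))
      (fun φ => fp_hom_ext (isoApp_naturality e φ) ((Category.comp_id _).trans (Category.id_comp _).symm))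
  exact (repByAlgSpWith_iff_of_equiv P (BasedFunctor.id _) j (isEquivOver_id _) hj
    (f := fpLift (BasedFunctor.id 𝒳) u e') (f' := u) i).1 hgr

end Groth.Agent.StFib

namespace Groth.Agent.StFib

variable {S : Scheme.{u}} {𝒳 𝒴 : AlgSt.Cat S}

local notation "K" => Scheme.fppfPrecoverage

theorem neutral_section (f : 𝒳 ⥤ᵇ 𝒴) :
    Nonempty (BasedFunctor.comp (inertiaNeutral f) (inertiaToBase f) ≅ BasedFunctor.id 𝒳) :=
  ⟨eqToIso rfl⟩

theorem tfae_inertia_separated (h𝒳 : AlgSt.IsAlgStack K 𝒳) (h𝒴 : AlgSt.IsAlgStack K 𝒴) (f : 𝒳 ⥤ᵇ 𝒴) :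
    [AlgSt.RepByAlgSpWith AlgSp.IsSeparatedMor (inertiaToBase f),
      AlgSt.RepByAlgSpWith AlgSp.IsSeparatedMor (diag f),
      AlgSt.IsClosedImm (inertiaNeutral f)].TFAE := by
  have hr : AlgSt.RepByAlgSp1 (diag f) := repByAlgSp1_of_with (lft_diag h𝒳 h𝒴 f)
  obtain ⟨e⟩ := neutral_section f
  tfae_have 2 → 1 := inertiaToBase_mem _
  tfae_have 1 → 3 := fun h => section_mem e
    (((tfae_separated (repByAlgSp1_of_with h)).out 0 1).1 h)
  tfae_have 3 → 2 := fun h =>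
    ((tfae_separated hr).out 1 0).1 ((inertiaNeutral_mem_iff _ f).1 h)
  tfae_finish

theorem tfae_inertia_quasiSeparated (h𝒳 : AlgSt.IsAlgStack K 𝒳) (h𝒴 : AlgSt.IsAlgStack K 𝒴) (f : 𝒳 ⥤ᵇ 𝒴) :
    [AlgSt.RepByAlgSpWith AlgSp.IsQuasiSeparatedMor (inertiaToBase f),
      AlgSt.RepByAlgSpWith AlgSp.IsQuasiSeparatedMor (diag f),
      AlgSt.RepByAlgSpWith AlgSp.IsQuasiCompactMor (inertiaNeutral f)].TFAE := by
  have hr : AlgSt.RepByAlgSp1 (diag f) := repByAlgSp1_of_with (lft_diag h𝒳 h𝒴 f)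
  obtain ⟨e⟩ := neutral_section f
  tfae_have 2 → 1 := inertiaToBase_mem _
  tfae_have 1 → 3 := fun h => section_mem e
    (((tfae_quasiSeparated (repByAlgSp1_of_with h)).out 0 1).1 h)
  tfae_have 3 → 2 := fun h =>
    ((tfae_quasiSeparated hr).out 1 0).1 ((inertiaNeutral_mem_iff _ f).1 h)
  tfae_finish

theorem imm_neutral_of_locallySeparated (f : 𝒳 ⥤ᵇ 𝒴) :
    (AlgSt.RepByAlgSpWith AlgSp.IsLocallySeparatedMor (inertiaToBase f) → AlgSt.IsImm (inertiaNeutral f)) ∧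
      (AlgSt.RepByAlgSpWith AlgSp.IsLocallySeparatedMor (diag f) → AlgSt.IsImm (inertiaNeutral f)) := by
  obtain ⟨e⟩ := neutral_section f
  have h1 : AlgSt.RepByAlgSpWith AlgSp.IsLocallySeparatedMor (inertiaToBase f) →
      AlgSt.IsImm (inertiaNeutral f) := fun h => section_mem e
    (diag_of_rep_mem (good_repWith @IsImmersion).bc (fun A U _ a ha => ha) h)
  exact ⟨h1, fun h => h1 (inertiaToBase_mem _ h)⟩

end Groth.Agent.StFib
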