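import Groth.Agent.StFib.PointsChart
import Mathlib.AlgebraicGeometry.Morphisms.UniversallyOpen

/-!
The topology on the points of an algebraic stack.
-/

set_option backward.isDefEq.respectTransparency false
set_option backward.isDefEq.respectTransparency.types false
set_option linter.unusedVariables false

universe u

open CategoryTheory CategoryTheory.Limits AlgebraicGeometry Opposite FibCat

namespace Groth.Agent.StFib

variable {S : Scheme.{u}} {𝒳 𝒴 : AlgSt.Cat S}

theorem repByAlgSpWith_flat_of_smooth {f : 𝒳 ⥤ᵇ 𝒴} (h : AlgSt.RepByAlgSpWith (AlgSp.LocP @Smooth) f) :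
    AlgSt.RepByAlgSpWith (AlgSp.LocP @Flat) f :=
  repByAlgSpWith_mono h
    fun F V m hm A B a b k ha hb e => have : Smooth k.left := hm a b k ha hb e; inferInstance

theorem repByAlgSpWith_lfp_of_smooth {f : 𝒳 ⥤ᵇ 𝒴} (h : AlgSt.RepByAlgSpWith (AlgSp.LocP @Smooth) f) :
    AlgSt.RepByAlgSpWith (AlgSp.LocP @LocallyOfFinitePresentation) f :=
  repByAlgSpWith_mono h
    fun F V m hm A B a b k ha hb e => have : Smooth k.left := hm a b k ha hb e; inferInstance

/-- Charts of a category with representable diagonal are representable. -/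
theorem repByAlgSp1_chart {τ : Precoverage Scheme.{u}} (h : AlgSt.IsAlgStack τ 𝒳) {U : Over S}
    (x : overCat U ⥤ᵇ 𝒳) : AlgSt.RepByAlgSp1 x :=
  (repByAlgSp1_diag_iff h.isStack.1).1 h.diag U x

/-- A common refinement of two charts, the second projection inheriting properties of the first chart. -/
theorem exists_chart_fp {τ : Precoverage Scheme.{u}} (h : AlgSt.IsAlgStack τ 𝒳) {U V : Over S}
    (x : overCat U ⥤ᵇ 𝒳) (y : overCat V ⥤ᵇ 𝒳) :
    ∃ (W : Over S) (a : W ⟶ U) (b : W ⟶ V),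
      Nonempty (BasedFunctor.comp (AlgSt.overMap a) x ≅ BasedFunctor.comp (AlgSt.overMap b) y) ∧
      (∀ u v, AlgSt.Points.ofChart x u = AlgSt.Points.ofChart y v → ∃ w, a.left w = u ∧ b.left w = v) ∧
      (AlgSt.RepByAlgSpWith (AlgSp.LocP @Flat) x → Flat b.left) ∧
      (AlgSt.RepByAlgSpWith (AlgSp.LocP @LocallyOfFinitePresentation) x →
        LocallyOfFinitePresentation b.left) ∧
      (AlgSt.RepByAlgSpWith AlgSp.IsSurjectiveMor x → Surjective b.left) := by
  obtain ⟨W, w, hw, hws⟩ := atlasProp_smooth.atlas (repByAlgSp1_chart h x V y)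
  have hM : IsFibGrpd (fp y x).p :=
    isFibGrpd_fp (isFibGrpd_overCat V) (isFibGrpd_overCat U) h.isStack.1 y x
  obtain ⟨b, ⟨ib⟩⟩ := exists_iso_overMap (BasedFunctor.comp w (fpFst y x))
  obtain ⟨a, ⟨ia⟩⟩ := exists_iso_overMap (BasedFunctor.comp w (fpSnd y x))
  let i : BasedFunctor.comp (AlgSt.overMap a) x ≅ BasedFunctor.comp (AlgSt.overMap b) y :=
    isoWhiskerRight ia.symm x ≪≫ isoWhiskerLeft w (fpIso y x).symm ≪≫ isoWhiskerRight ib y
  have step : ∀ Q : MorphismProperty (AlgSp.Sp S), Good Q → AlgSt.RepByAlgSpWith Q w →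
      AlgSt.RepByAlgSpWith Q x → AlgSt.RepByAlgSpWith Q (AlgSt.overMap b) :=
    fun Q hQ h1 h2 => repByAlgSpWith_of_iso _ ib (repByAlgSpWith_comp hQ.bc hQ.comp hQ.det
      (isFibGrpd_overCat W) hM h1 (repByAlgSpWith_fpFst Q y h2))
  refine ⟨W, a, b, ⟨i⟩, fun u v huv => ?_, fun hx => ?_, fun hx => ?_, fun hx => ?_⟩
  · obtain ⟨r, hr₁, hr₂⟩ := exists_points_fp_of_map_eq (isFibGrpd_overCat U) (isFibGrpd_overCat V)
      h.isStack.1 x y (AlgSt.Points.ofChart (BasedFunctor.id _) v)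
      (AlgSt.Points.ofChart (BasedFunctor.id _) u) huv.symm
    obtain ⟨z, rfl⟩ := ofChart_surjective hM hws r
    rw [map_ofChart, ofChart_congr ib] at hr₁
    rw [map_ofChart, ofChart_congr ia] at hr₂
    refine ⟨z, ?_, ?_⟩
    · have := congrArg ptMap hr₂
      rw [ptMap_ofChart_id] at this
      refine Eq.trans ?_ this
      exact ((congrArg ptMap (ofChart_overMap (BasedFunctor.id (overCat U)) a z)).trans
        (ptMap_ofChart_id _)).symm
    · have := congrArg ptMap hr₁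
      rw [ptMap_ofChart_id] at this
      refine Eq.trans ?_ this
      exact ((congrArg ptMap (ofChart_overMap (BasedFunctor.id (overCat V)) b z)).trans
        (ptMap_ofChart_id _)).symm
  · exact mem_scheme_of_overMap Groth.Agent.AlgSpCov.standard_flat
      (step _ (good_locP Groth.Agent.AlgSpCov.standard_flat) (repByAlgSpWith_flat_of_smooth hw) hx)
  · exact mem_scheme_of_overMap Groth.Agent.AlgSpCov.standard_locallyOfFinitePresentation
      (step _ (good_locP Groth.Agent.AlgSpCov.standard_locallyOfFinitePresentation)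
        (repByAlgSpWith_lfp_of_smooth hw) hx)
  · exact surjective_of_overMap (step _ good_surjective hws hx)

/-- Every chart is continuous on points. -/
theorem continuous_ofChart {τ : Precoverage Scheme.{u}} (h : AlgSt.IsAlgStack τ 𝒳) {U : Over S}
    (x : overCat U ⥤ᵇ 𝒳) : Continuous (AlgSt.Points.ofChart x) := by
  obtain ⟨V, y, hy, hys⟩ := h.atlas
  obtain ⟨W, b, a, ⟨i⟩, -, h1, h2, h3⟩ := exists_chart_fp h y x
  have := h1 (repByAlgSpWith_flat_of_smooth hy)
  have := h2 (repByAlgSpWith_lfp_of_smooth hy)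
  have := h3 hys
  refine continuous_def.2 fun Ω hΩ => ?_
  have hb : IsOpen (b.left ⁻¹' (AlgSt.Points.ofChart y ⁻¹' Ω)) :=
    (hΩ V y hy).preimage b.left.continuous
  have he : AlgSt.Points.ofChart x ⁻¹' Ω = a.left '' (b.left ⁻¹' (AlgSt.Points.ofChart y ⁻¹' Ω)) := by
    ext u
    constructor
    · intro hu
      obtain ⟨w, rfl⟩ := a.left.surjective u
      refine ⟨w, ?_, rfl⟩
      change AlgSt.Points.ofChart y (b.left w) ∈ Ω
      rw [← ofChart_overMap y b w, ofChart_congr i, ofChart_overMap x a w]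
      exact hu
    · rintro ⟨w, hw, rfl⟩
      change AlgSt.Points.ofChart x (a.left w) ∈ Ω
      rw [← ofChart_overMap x a w, ← ofChart_congr i, ofChart_overMap y b w]
      exact hw
  rw [he]
  exact a.left.isOpenMap _ hb

/-- Flat charts locally of finite presentation are open on points. -/
theorem isOpenMap_ofChart {τ : Precoverage Scheme.{u}} (h : AlgSt.IsAlgStack τ 𝒳) {U : Over S}
    {x : overCat U ⥤ᵇ 𝒳} (hx₁ : AlgSt.RepByAlgSpWith (AlgSp.LocP @Flat) x)
    (hx₂ : AlgSt.RepByAlgSpWith (AlgSp.LocP @LocallyOfFinitePresentation) x) :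
    IsOpenMap (AlgSt.Points.ofChart x) := by
  intro Ω hΩ V y _
  obtain ⟨W, a, b, ⟨i⟩, hex, h1, h2, -⟩ := exists_chart_fp h x y
  have := h1 hx₁
  have := h2 hx₂
  have he : AlgSt.Points.ofChart y ⁻¹' (AlgSt.Points.ofChart x '' Ω) = b.left '' (a.left ⁻¹' Ω) := by
    ext v
    constructor
    · rintro ⟨u, hu, huv⟩
      obtain ⟨w, rfl, rfl⟩ := hex u v huv
      exact ⟨w, hu, rfl⟩
    · rintro ⟨w, hw, rfl⟩
      exact ⟨a.left w, hw, by rw [← ofChart_overMap x a w, ofChart_congr i, ofChart_overMap y b w]⟩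
  rw [he]
  exact b.left.isOpenMap _ (hΩ.preimage a.left.continuous)

theorem continuous_points_map {τ : Precoverage Scheme.{u}} (h𝒴 : AlgSt.IsAlgStack τ 𝒴) (f : 𝒳 ⥤ᵇ 𝒴) :
    Continuous (AlgSt.Points.map f) :=
  continuous_def.2 fun _ hW U x _ => hW.preimage (continuous_ofChart h𝒴 (BasedFunctor.comp x f))

theorem exists_atlas_of_rep (hX : AlgSt.RepByAlgSp 𝒳) :
    ∃ (U : Over S) (x : overCat U ⥤ᵇ 𝒳), AlgSt.RepByAlgSpWith (AlgSp.LocP @Smooth) x ∧
      AlgSt.RepByAlgSpWith AlgSp.IsSurjectiveMor x :=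
  atlasProp_smooth.atlas hX

theorem isOpenMap_points_map_space (h : AlgSt.IsAlgStack Scheme.fppfPrecoverage 𝒳) {A : AlgSp.Space S}
    {p : AlgSt.ofSp A.obj ⥤ᵇ 𝒳} (hp₁ : AlgSt.RepByAlgSpWith (AlgSp.LocP @Flat) p)
    (hp₂ : AlgSt.RepByAlgSpWith (AlgSp.LocP @LocallyOfFinitePresentation) p) :
    IsOpenMap (AlgSt.Points.map p) := by
  obtain ⟨U, w, hw, hws⟩ := exists_atlas_of_rep (𝒳 := AlgSt.ofSp A.obj)
    ⟨A, BasedFunctor.id _, isEquivOver_id _⟩
  have hg : IsFibGrpd (AlgSt.ofSp A.obj).p := Stk.isFibGrpd_ofPsh _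
  have hA := isDM_of_repByAlgSp (S := S) (𝒳 := AlgSt.ofSp A.obj) ⟨A, BasedFunctor.id _, isEquivOver_id _⟩
  have step : ∀ Q : MorphismProperty (AlgSp.Sp S), Good Q → AlgSt.RepByAlgSpWith Q w →
      AlgSt.RepByAlgSpWith Q p → AlgSt.RepByAlgSpWith Q (BasedFunctor.comp w p) :=
    fun Q hQ h1 h2 => repByAlgSpWith_comp hQ.bc hQ.comp hQ.det (isFibGrpd_overCat U) hg h1 h2
  have ho := isOpenMap_ofChart h
    (step _ (good_locP Groth.Agent.AlgSpCov.standard_flat) (repByAlgSpWith_flat_of_smooth hw) hp₁)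
    (step _ (good_locP Groth.Agent.AlgSpCov.standard_locallyOfFinitePresentation)
      (repByAlgSpWith_lfp_of_smooth hw) hp₂)
  intro Ω hΩ
  have he : AlgSt.Points.map p '' Ω =
      AlgSt.Points.ofChart (BasedFunctor.comp w p) '' (AlgSt.Points.ofChart w ⁻¹' Ω) := by
    ext P
    constructor
    · rintro ⟨Q, hQ, rfl⟩
      obtain ⟨u, rfl⟩ := ofChart_surjective hg hws Q
      exact ⟨u, hQ, rfl⟩
    · rintro ⟨u, hu, rfl⟩
      exact ⟨_, hu, rfl⟩
  rw [he]
  exact ho _ (hΩ U w hw)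

theorem points_map_space_surjective (h𝒳 : IsFibGrpd 𝒳.p) {A : AlgSp.Space S}
    {p : AlgSt.ofSp A.obj ⥤ᵇ 𝒳} (hp : AlgSt.RepByAlgSpWith AlgSp.IsSurjectiveMor p) :
    Function.Surjective (AlgSt.Points.map p) := by
  obtain ⟨U, w, -, hws⟩ := exists_atlas_of_rep (𝒳 := AlgSt.ofSp A.obj)
    ⟨A, BasedFunctor.id _, isEquivOver_id _⟩
  have hs := ofChart_surjective h𝒳 (repByAlgSpWith_comp good_surjective.bc good_surjective.comp
    good_surjective.det (isFibGrpd_overCat U) (Stk.isFibGrpd_ofPsh _) hws hp)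
  intro P
  obtain ⟨u, rfl⟩ := hs P
  exact ⟨_, map_ofChart w p u⟩

theorem isOpen_iff_preimage_space (h : AlgSt.IsAlgStack Scheme.fppfPrecoverage 𝒳) {A : AlgSp.Space S}
    {p : AlgSt.ofSp A.obj ⥤ᵇ 𝒳} (hp₁ : AlgSt.RepByAlgSpWith (AlgSp.LocP @Flat) p)
    (hp₂ : AlgSt.RepByAlgSpWith (AlgSp.LocP @LocallyOfFinitePresentation) p)
    (hp₃ : AlgSt.RepByAlgSpWith AlgSp.IsSurjectiveMor p) (W : Set (AlgSt.Points 𝒳)) :
    IsOpen W ↔ IsOpen (AlgSt.Points.map p ⁻¹' W) := by
  refine ⟨fun hW => hW.preimage (continuous_points_map h p), fun hW => ?_⟩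
  have := isOpenMap_points_map_space h hp₁ hp₂ _ hW
  rwa [Set.image_preimage_eq _ (points_map_space_surjective h.isStack.1 hp₃)] at this

end Groth.Agent.StFib
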