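import Groth.Agent.StFib.Fibre

/-!
Atlases of fibre products; fibre products of algebraic stacks are algebraic stacks.
-/

set_option backward.isDefEq.respectTransparency false
set_option backward.isDefEq.respectTransparency.types false

universe u

open CategoryTheory CategoryTheory.Limits AlgebraicGeometry Opposite FibCat

namespace Groth.Agent.StFib

variable {S : Scheme.{u}} {𝒳 𝒴 𝒵 : AlgSt.Cat S}

theorem repByAlgSpWith_fpMap_right (P : MorphismProperty (AlgSp.Sp S)) {𝒴' : AlgSt.Cat S}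
    {y : 𝒴' ⥤ᵇ 𝒴} (hy : AlgSt.RepByAlgSpWith P y) (f : 𝒳 ⥤ᵇ 𝒵) (g : 𝒴 ⥤ᵇ 𝒵) :
    AlgSt.RepByAlgSpWith P (fpMap (F := f) (G := g) (F' := f) (G' := BasedFunctor.comp y g)
      (BasedFunctor.id 𝒳) y (BasedFunctor.id 𝒵) (Iso.refl _) (Iso.refl _)) := by
  refine (repByAlgSpWith_iff_of_equiv P (fpSwap (BasedFunctor.comp y g) f) (fpSwap g f)
    (fpSwap_isEquivOver _ _) (fpSwap_isEquivOver _ _) ?_).2 (repByAlgSpWith_fpMap_left P hy g f)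
  refine isoMk (fun z => fpIsoMk (Iso.refl _) (Iso.refl _) ?_) (fun z => Vert.id _)
    (fun φ => fp_hom_ext ((Category.comp_id _).trans (Category.id_comp _).symm)
      ((Category.comp_id _).trans (Category.id_comp _).symm))
  change f.map (𝟙 _) ≫ (𝟙 _ ≫ z.obj.iso.inv ≫ 𝟙 _) =
    ((𝟙 _ ≫ z.obj.iso.inv) ≫ 𝟙 _) ≫ g.map (𝟙 _)
  simp
  exact (Category.comp_id _).symm

/-- A morphism from a representable category to a category with representable diagonal. -/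
theorem repByAlgSp1_of_diag (h𝒳 : IsFibGrpd 𝒳.p) (hd : AlgSt.RepByAlgSp1 (diag (toSelf 𝒳)))
    (hY : AlgSt.RepByAlgSp 𝒴) (x : 𝒴 ⥤ᵇ 𝒳) : AlgSt.RepByAlgSp1 x :=
  repByAlgSp1_of_forall_overCat h𝒳 ((repByAlgSp1_diag_iff h𝒳).1 hd) hY x

theorem diag_of_rep (h𝒳 : IsFibGrpd 𝒳.p) (h𝒴 : IsFibGrpd 𝒴.p) (j : 𝒳 ⥤ᵇ 𝒴)
    (hj : AlgSt.RepByAlgSp1 j) (hY : AlgSt.RepByAlgSp1 (diag (toSelf 𝒴))) :
    AlgSt.RepByAlgSp1 (diag (toSelf 𝒳)) := by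
  rw [repByAlgSp1_diag_iff h𝒳]
  intro U x V y
  have hxj := (repByAlgSp1_diag_iff h𝒴).1 hY U (BasedFunctor.comp x j)
  obtain ⟨E, hE⟩ := (⟨_, comp_cart y x j (isoWhiskerRight (fpIso y x) j) fun _ => rfl⟩ :
    ∃ E : fp y x ⥤ᵇ fp (compPhi y x j) (diag j), IsEquivOver E)
  exact (repByAlgSp_iff_of_equiv hE).2 (repByAlgSp_fp h𝒳 (isFibGrpd_fp h𝒳 h𝒳 h𝒴 j j) (diag j) _
    (repByAlgSp1_diag_of_rep hj) (hxj V (BasedFunctor.comp y j)))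

theorem diag_of_fp (h𝒳 : IsFibGrpd 𝒳.p) (h𝒴 : IsFibGrpd 𝒴.p) (h𝒵 : IsFibGrpd 𝒵.p)
    (hX : AlgSt.RepByAlgSp1 (diag (toSelf 𝒳))) (hY : AlgSt.RepByAlgSp1 (diag (toSelf 𝒴)))
    (hZ : AlgSt.RepByAlgSp1 (diag (toSelf 𝒵))) (f : 𝒳 ⥤ᵇ 𝒵) (g : 𝒴 ⥤ᵇ 𝒵) :
    AlgSt.RepByAlgSp1 (diag (toSelf (fp f g))) := by
  have hW := isFibGrpd_fp h𝒳 h𝒴 h𝒵 f g
  rw [repByAlgSp1_diag_iff hW]
  intro U x V y
  have hd : AlgSt.RepByAlgSp1 (diag (fpFst f g)) :=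
    repByAlgSp1_of_cart _ _ _ (diag_fpFst_cart f g) (repByAlgSp1_diag hY hZ g)
  have hxp := (repByAlgSp1_diag_iff h𝒳).1 hX U (BasedFunctor.comp x (fpFst f g))
  obtain ⟨E, hE⟩ := (⟨_, comp_cart y x (fpFst f g) (isoWhiskerRight (fpIso y x) (fpFst f g))
    fun _ => rfl⟩ : ∃ E : fp y x ⥤ᵇ fp (compPhi y x (fpFst f g)) (diag (fpFst f g)), IsEquivOver E)
  exact (repByAlgSp_iff_of_equiv hE).2 (repByAlgSp_fp hW (isFibGrpd_fp hW hW h𝒳 _ _)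
    (diag (fpFst f g)) _ hd (hxp V (BasedFunctor.comp y (fpFst f g))))

theorem repByAlgSp_fp_overCat (h𝒵 : IsFibGrpd 𝒵.p) (hZ : AlgSt.RepByAlgSp1 (diag (toSelf 𝒵)))
    {U V : Over S} (x : overCat U ⥤ᵇ 𝒵) (y : overCat V ⥤ᵇ 𝒵) : AlgSt.RepByAlgSp (fp x y) :=
  (repByAlgSp1_diag_iff h𝒵).1 hZ V y U x

/-- A property for which algebraic spaces have atlases. -/
structure AtlasProp (P : MorphismProperty (AlgSp.Sp S)) : Prop where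
  good : Good P
  atlas : ∀ ⦃B : AlgSt.Cat S⦄, AlgSt.RepByAlgSp B → AlgSt.HasAtlas P B

theorem atlasProp_smooth : AtlasProp (S := S) (AlgSp.LocP @Smooth) :=
  ⟨good_smooth, fun _ h => (isDM_of_repByAlgSp h).1.atlas⟩

theorem atlasProp_etale : AtlasProp (S := S) AlgSp.IsEtaleMor :=
  ⟨good_etale, fun _ h => (isDM_of_repByAlgSp h).2⟩

theorem hasAtlas_of_rep {P : MorphismProperty (AlgSp.Sp S)} (hP : AtlasProp P)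
    (h𝒳 : IsFibGrpd 𝒳.p) (h𝒴 : IsFibGrpd 𝒴.p) (j : 𝒳 ⥤ᵇ 𝒴) (hj : AlgSt.RepByAlgSp1 j)
    (hY : AlgSt.HasAtlas P 𝒴) : AlgSt.HasAtlas P 𝒳 := by
  obtain ⟨V, y, hy, hys⟩ := hY
  obtain ⟨W, w, hw, hws⟩ := hP.atlas (hj V y)
  have hB : IsFibGrpd (fp y j).p := isFibGrpd_fp (isFibGrpd_overCat V) h𝒳 h𝒴 y j
  exact ⟨W, BasedFunctor.comp w (fpSnd y j),
    repByAlgSpWith_comp hP.good.bc hP.good.comp hP.good.det (isFibGrpd_overCat W) hB hw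
      (repByAlgSpWith_fpSnd P y hy),
    repByAlgSpWith_comp good_surjective.bc good_surjective.comp good_surjective.det
      (isFibGrpd_overCat W) hB hws (repByAlgSpWith_fpSnd _ y hys)⟩

theorem hasAtlas_fp {P : MorphismProperty (AlgSp.Sp S)} (hP : AtlasProp P)
    (h𝒳 : IsFibGrpd 𝒳.p) (h𝒴 : IsFibGrpd 𝒴.p) (h𝒵 : IsFibGrpd 𝒵.p)
    (hZ : AlgSt.RepByAlgSp1 (diag (toSelf 𝒵))) (f : 𝒳 ⥤ᵇ 𝒵) (g : 𝒴 ⥤ᵇ 𝒵)
    (hX : AlgSt.HasAtlas P 𝒳) (hY : AlgSt.HasAtlas P 𝒴) : AlgSt.HasAtlas P (fp f g) := by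
  obtain ⟨U, x, hx, hxs⟩ := hX
  obtain ⟨V, y, hy, hys⟩ := hY
  have hB0 := repByAlgSp_fp_overCat h𝒵 hZ (BasedFunctor.comp x f) (BasedFunctor.comp y g)
  obtain ⟨W, w, hw, hws⟩ := hP.atlas hB0
  have hB : IsFibGrpd (fp (BasedFunctor.comp x f) (BasedFunctor.comp y g)).p :=
    isFibGrpd_fp (isFibGrpd_overCat U) (isFibGrpd_overCat V) h𝒵 _ _
  have hM : IsFibGrpd (fp f (BasedFunctor.comp y g)).p :=
    isFibGrpd_fp h𝒳 (isFibGrpd_overCat V) h𝒵 _ _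
  have step : ∀ (Q : MorphismProperty (AlgSp.Sp S)), Good Q → AlgSt.RepByAlgSpWith Q w →
      AlgSt.RepByAlgSpWith Q x → AlgSt.RepByAlgSpWith Q y →
      AlgSt.RepByAlgSpWith Q (BasedFunctor.comp (BasedFunctor.comp w
        (fpMap (F := f) (G := BasedFunctor.comp y g) (F' := BasedFunctor.comp x f)
          (G' := BasedFunctor.comp y g) x (BasedFunctor.id _) (BasedFunctor.id _)
          (Iso.refl _) (Iso.refl _)))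
        (fpMap (F := f) (G := g) (F' := f) (G' := BasedFunctor.comp y g) (BasedFunctor.id 𝒳) y
          (BasedFunctor.id 𝒵) (Iso.refl _) (Iso.refl _))) := fun Q hQ h1 h2 h3 =>
    repByAlgSpWith_comp hQ.bc hQ.comp hQ.det (isFibGrpd_overCat W) hM
      (repByAlgSpWith_comp hQ.bc hQ.comp hQ.det (isFibGrpd_overCat W) hB h1
        (repByAlgSpWith_fpMap_left Q h2 f _))
      (repByAlgSpWith_fpMap_right Q h3 f g)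
  exact ⟨W, _, step P hP.good hw hx hy, step _ good_surjective hws hxs hys⟩

theorem isAlgStack_of_rep (h𝒳 : IsFibGrpd 𝒳.p) (h𝒴 : AlgSt.IsAlgStack Scheme.fppfPrecoverage 𝒴)
    (j : 𝒳 ⥤ᵇ 𝒴) (hj : AlgSt.RepByAlgSp1 j) : AlgSt.IsAlgStack Scheme.fppfPrecoverage 𝒳 :=
  ⟨isStack_of_repByAlgSp1 h𝒳 h𝒴.isStack j hj, diag_of_rep h𝒳 h𝒴.isStack.1 j hj h𝒴.diag,
    hasAtlas_of_rep atlasProp_smooth h𝒳 h𝒴.isStack.1 j hj h𝒴.atlas⟩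

theorem isAlgStack_fp {K : Precoverage Scheme.{u}} (h𝒵 : Stk.IsStack (QuotSh.J K S) 𝒵)
    (hZ : AlgSt.RepByAlgSp1 (diag (toSelf 𝒵))) (h𝒳 : AlgSt.IsAlgStack K 𝒳)
    (h𝒴 : AlgSt.IsAlgStack K 𝒴) (f : 𝒳 ⥤ᵇ 𝒵) (g : 𝒴 ⥤ᵇ 𝒵) : AlgSt.IsAlgStack K (fp f g) :=
  ⟨isStack_fp _ f g h𝒳.isStack h𝒴.isStack (isPrestack_of_isStack h𝒵),
    diag_of_fp h𝒳.isStack.1 h𝒴.isStack.1 h𝒵.1 h𝒳.diag h𝒴.diag hZ f g,
    hasAtlas_fp atlasProp_smooth h𝒳.isStack.1 h𝒴.isStack.1 h𝒵.1 hZ f g h𝒳.atlas h𝒴.atlas⟩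

theorem isDM_fp {K : Precoverage Scheme.{u}} (h𝒵 : AlgSt.IsAlgStack K 𝒵)
    (h𝒳 : AlgSt.IsDM K 𝒳) (h𝒴 : AlgSt.IsDM K 𝒴) (f : 𝒳 ⥤ᵇ 𝒵) (g : 𝒴 ⥤ᵇ 𝒵) :
    AlgSt.IsDM K (fp f g) :=
  ⟨isAlgStack_fp h𝒵.isStack h𝒵.diag h𝒳.1 h𝒴.1 f g,
    hasAtlas_fp atlasProp_etale h𝒳.1.isStack.1 h𝒴.1.isStack.1 h𝒵.isStack.1 h𝒵.diag f g h𝒳.2 h𝒴.2⟩

theorem isDM_selfOver : AlgSt.IsDM Scheme.fppfPrecoverage (selfOver (C := Over S)) :=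
  isDM_of_repByAlgSp repByAlgSp_selfOver

end Groth.Agent.StFib
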