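import Groth.Agent.StFib.SpPoints
import Groth.Agent.StFib.Fibre2

/-!
Properties of representable morphisms read on points of algebraic stacks.
-/

set_option backward.isDefEq.respectTransparency false
set_option backward.isDefEq.respectTransparency.types false
set_option linter.unusedVariables false

universe u

open CategoryTheory CategoryTheory.Limits AlgebraicGeometry Opposite FibCat Topology

namespace Groth.Agent.StFib

variable {S : Scheme.{u}} {𝒳 𝒴 𝒵 : AlgSt.Cat S}

theorem isAlgStack_of_repByAlgSp (h : AlgSt.RepByAlgSp 𝒳) :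
    AlgSt.IsAlgStack Scheme.fppfPrecoverage 𝒳 :=
  (isDM_of_repByAlgSp h).1

theorem repByAlgSp_ofSp {F : AlgSp.Sp S} (hF : AlgSp.IsAlgSpace F) : AlgSt.RepByAlgSp (AlgSt.ofSp F) :=
  ⟨⟨F, hF⟩, BasedFunctor.id _, isEquivOver_id _⟩

/-- Equivalences of algebraic stacks are homeomorphisms on points. -/
theorem isHomeomorph_points_map (h𝒴 : AlgSt.IsAlgStack Scheme.fppfPrecoverage 𝒴) {e : 𝒳 ⥤ᵇ 𝒴}
    (he : IsEquivOver e) : IsHomeomorph (AlgSt.Points.map e) := by
  obtain ⟨e', he', ⟨i⟩, ⟨j⟩⟩ := isEquivOver_symm he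
  have h𝒳 := isAlgStack_of_isEquivOver _ he' h𝒴
  have h1 := (points_map_congr i).trans points_map_id
  have h2 := (points_map_congr j).trans points_map_id
  rw [points_map_comp] at h1 h2
  have hb := points_bijective_of_isEquivOver he
  refine ⟨continuous_points_map h𝒴 e, fun W hW => ?_, hb⟩
  have : AlgSt.Points.map e '' W = AlgSt.Points.map e' ⁻¹' W := by
    ext P
    obtain ⟨Q, rfl⟩ := hb.surjective P
    have hQ : AlgSt.Points.map e' (AlgSt.Points.map e Q) = Q := by
      exact congrFun h1 Q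
    rw [hb.injective.mem_set_image, Set.mem_preimage, hQ]
  rw [this]
  exact hW.preimage (continuous_points_map h𝒳 e')

/-- A property of maps of topological spaces which only depends on the map up to homeomorphism. -/
def HomeoInv (Q : ∀ {A B : Type (u + 1)} [TopologicalSpace A] [TopologicalSpace B], (A → B) → Prop) : Prop :=
  ∀ {A B A' B' : Type (u + 1)} [TopologicalSpace A] [TopologicalSpace B] [TopologicalSpace A'] [TopologicalSpace B']
    (φ : A → B) (φ' : A' → B') (α : A → A') (β : B → B'),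
    IsHomeomorph α → IsHomeomorph β → β ∘ φ = φ' ∘ α → (Q φ ↔ Q φ')

theorem homeoInv_surjective : HomeoInv.{u} fun φ => Function.Surjective φ := by
  intro A B A' B' _ _ _ _ φ φ' α β hα hβ h
  refine ⟨fun hφ => ?_, fun hφ => ?_⟩
  · have := hβ.bijective.surjective.comp hφ
    rw [h] at this
    exact this.of_comp
  · refine Function.Surjective.of_comp_left (g := φ) (f := β) ?_ hβ.bijective.injective
    rw [h]
    exact hφ.comp hα.bijective.surjective

theorem homeoInv_injective : HomeoInv.{u} fun φ => Function.Injective φ := by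
  intro A B A' B' _ _ _ _ φ φ' α β hα hβ h
  refine ⟨fun hφ => ?_, fun hφ => ?_⟩
  · have := hβ.bijective.injective.comp hφ
    rw [h] at this
    exact this.of_comp_right hα.bijective.surjective
  · have := hφ.comp hα.bijective.injective
    rw [← h] at this
    exact this.of_comp

theorem homeoInv_isOpenMap : HomeoInv.{u} fun φ => IsOpenMap φ := by
  intro A B A' B' _ _ _ _ φ φ' α β hα hβ h
  obtain ⟨a, rfl⟩ := isHomeomorph_iff_exists_homeomorph.1 hα
  obtain ⟨b, rfl⟩ := isHomeomorph_iff_exists_homeomorph.1 hβ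
  refine ⟨fun hφ => ?_, fun hφ => ?_⟩
  · have : φ' = b ∘ φ ∘ a.symm := by
      rw [← Function.comp_assoc, h, Function.comp_assoc, a.self_comp_symm, Function.comp_id]
    exact this ▸ b.isOpenMap.comp (hφ.comp a.symm.isOpenMap)
  · have : φ = b.symm ∘ φ' ∘ a := by
      rw [← h, ← Function.comp_assoc, b.symm_comp_self, Function.id_comp]
    exact this ▸ b.symm.isOpenMap.comp (hφ.comp a.isOpenMap)

theorem homeoInv_isClosedMap : HomeoInv.{u} fun φ => IsClosedMap φ := by
  intro A B A' B' _ _ _ _ φ φ' α β hα hβ h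
  obtain ⟨a, rfl⟩ := isHomeomorph_iff_exists_homeomorph.1 hα
  obtain ⟨b, rfl⟩ := isHomeomorph_iff_exists_homeomorph.1 hβ
  refine ⟨fun hφ => ?_, fun hφ => ?_⟩
  · have : φ' = b ∘ φ ∘ a.symm := by
      rw [← Function.comp_assoc, h, Function.comp_assoc, a.self_comp_symm, Function.comp_id]
    exact this ▸ b.isClosedMap.comp (hφ.comp a.symm.isClosedMap)
  · have : φ = b.symm ∘ φ' ∘ a := by
      rw [← h, ← Function.comp_assoc, b.symm_comp_self, Function.id_comp]
    exact this ▸ b.symm.isClosedMap.comp (hφ.comp a.isClosedMap)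

theorem homeoInv_isQuotientMap : HomeoInv.{u} fun φ => IsQuotientMap φ := by
  intro A B A' B' _ _ _ _ φ φ' α β hα hβ h
  obtain ⟨a, rfl⟩ := isHomeomorph_iff_exists_homeomorph.1 hα
  obtain ⟨b, rfl⟩ := isHomeomorph_iff_exists_homeomorph.1 hβ
  refine ⟨fun hφ => ?_, fun hφ => ?_⟩
  · have : φ' = b ∘ φ ∘ a.symm := by
      rw [← Function.comp_assoc, h, Function.comp_assoc, a.self_comp_symm, Function.comp_id]
    exact this ▸ b.isQuotientMap.comp (hφ.comp a.symm.isQuotientMap)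
  · have : φ = b.symm ∘ φ' ∘ a := by
      rw [← h, ← Function.comp_assoc, b.symm_comp_self, Function.id_comp]
    exact this ▸ b.symm.isQuotientMap.comp (hφ.comp a.isQuotientMap)

theorem homeoInv_isHomeomorph : HomeoInv.{u} fun φ => IsHomeomorph φ := by
  intro A B A' B' _ _ _ _ φ φ' α β hα hβ h
  obtain ⟨a, rfl⟩ := isHomeomorph_iff_exists_homeomorph.1 hα
  obtain ⟨b, rfl⟩ := isHomeomorph_iff_exists_homeomorph.1 hβ
  refine ⟨fun hφ => ?_, fun hφ => ?_⟩
  · have : φ' = b ∘ φ ∘ a.symm := by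
      rw [← Function.comp_assoc, h, Function.comp_assoc, a.self_comp_symm, Function.comp_id]
    exact this ▸ b.isHomeomorph.comp (hφ.comp a.symm.isHomeomorph)
  · have : φ = b.symm ∘ φ' ∘ a := by
      rw [← h, ← Function.comp_assoc, b.symm_comp_self, Function.id_comp]
    exact this ▸ b.symm.isHomeomorph.comp (hφ.comp a.isHomeomorph)

variable {f : 𝒳 ⥤ᵇ 𝒴}

/-- A base change of `f` to a space, read on points. -/
theorem points_fpFst_iff_of_square (Q : ∀ {A B : Type (u + 1)} [TopologicalSpace A] [TopologicalSpace B], (A → B) → Prop)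
    (hQ : HomeoInv Q) {T : Over S} (y : overCat T ⥤ᵇ 𝒴) (A : AlgSp.Space S)
    (e : AlgSt.ofSp A.obj ⥤ᵇ fp y f) (he : IsEquivOver e) {Z Z' : AlgSp.Sp S} (hZ : AlgSp.IsAlgSpace Z)
    (g : Z ⟶ (AlgSp.yon S).obj T) (fst : Z' ⟶ A.obj) (snd : Z' ⟶ Z)
    (sq : IsPullback fst snd (AlgSt.spMapOfOver (BasedFunctor.comp e (fpFst y f))) g) :
    Q (AlgSt.Points.map (fpFst (BasedFunctor.comp (BasedFunctor.comp (AlgSt.ofSpMap g) (AlgSt.toOverCat T)) y) f)) ↔
      Q (AlgSp.Points.map snd) := by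
  let a := AlgSt.spMapOfOver (BasedFunctor.comp e (fpFst y f))
  have hZ' := Groth.Agent.AlgSp.isAlgSpace_of_isPullback' (isAlgSpace_yon T) A.property hZ sq
  have sq' := (IsPullback.map (sheafToPresheaf (AlgSp.J S) (Type (u + 1))) sq).flip
  let N : AlgSt.ofSp Z' ⥤ᵇ fp (AlgSt.ofSpMap g) (AlgSt.ofSpMap a) :=
    fpLift (Stk.ofPshMap snd.hom) (Stk.ofPshMap fst.hom) (pshSqIso sq'.w)
  have hN : IsEquivOver N := pshSq_cart sq'
  obtain ⟨ia⟩ := exists_iso_ofSpMap_toOverCat (A := A.obj) (BasedFunctor.comp e (fpFst y f))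
  have := full_of_isEquivOver (toOverCat_isEquivOver T)
  have := faithful_of_isEquivOver (toOverCat_isEquivOver T)
  let M : fp (AlgSt.ofSpMap g) (AlgSt.ofSpMap a) ⥤ᵇ
      fp (BasedFunctor.comp (AlgSt.ofSpMap g) (AlgSt.toOverCat T)) (fpFst y f) :=
    fpMap (F := BasedFunctor.comp (AlgSt.ofSpMap g) (AlgSt.toOverCat T)) (G := fpFst y f)
      (F' := AlgSt.ofSpMap g) (G' := AlgSt.ofSpMap a) (BasedFunctor.id _) e (AlgSt.toOverCat T)
      (Iso.refl _) ia.symm
  have hM : IsEquivOver M := fpMap_isEquivOver _ _ _ _ _ (isEquivOver_id _) he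
  obtain ⟨E, hE, ⟨iE⟩, -⟩ := exists_fp_of_cart _ _ _ (fpLift_self_isEquivOver y f)
    (BasedFunctor.comp (AlgSt.ofSpMap g) (AlgSt.toOverCat T))
  have hall := isEquivOver_comp (isEquivOver_comp hN hM) hE
  have hX' := isAlgStack_of_repByAlgSp (repByAlgSp_ofSp hZ')
  have hP' := isHomeomorph_points_map (isAlgStack_of_isEquivOver _ hall hX') hall
  have hZs := isHomeomorph_toSpPt hZ
  have hZs' := isHomeomorph_toSpPt hZ'
  have key :
      AlgSt.Points.map (fpFst (BasedFunctor.comp (BasedFunctor.comp (AlgSt.ofSpMap g) (AlgSt.toOverCat T)) y) f) ∘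
        AlgSt.Points.map (BasedFunctor.comp (BasedFunctor.comp N M) E) =
        AlgSt.Points.map (AlgSt.ofSpMap snd) := by
    rw [← points_map_comp]
    exact points_map_congr (isoWhiskerLeft (BasedFunctor.comp N M) iE)
  refine (hQ (AlgSt.Points.map (AlgSt.ofSpMap snd)) _ _ id hP' (.id) ?_).symm.trans
    (hQ _ _ toSpPt toSpPt hZs' hZs (funext fun P => toSpPt_map snd P))
  exact key.symm

theorem points_fpFst_overCat_iff (Q : ∀ {A B : Type (u + 1)} [TopologicalSpace A] [TopologicalSpace B], (A → B) → Prop)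
    (hQ : HomeoInv Q) {T : Over S} (y : overCat T ⥤ᵇ 𝒴) (A : AlgSp.Space S)
    (e : AlgSt.ofSp A.obj ⥤ᵇ fp y f) (he : IsEquivOver e) :
    Q (AlgSt.Points.map (fpFst y f)) ↔
      Q (AlgSp.Points.map (AlgSt.spMapOfOver (BasedFunctor.comp e (fpFst y f)))) := by
  let a := AlgSt.spMapOfOver (BasedFunctor.comp e (fpFst y f))
  have hA := isAlgStack_of_repByAlgSp (repByAlgSp_ofSp A.property)
  obtain ⟨ia⟩ := exists_iso_ofSpMap_toOverCat (A := A.obj) (BasedFunctor.comp e (fpFst y f))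
  have h1 := isHomeomorph_points_map (isAlgStack_of_isEquivOver _ he hA) he
  have h2 := isHomeomorph_points_map (isAlgStack_of_repByAlgSp (repByAlgSp_overCat T))
    (toOverCat_isEquivOver T)
  refine ((hQ (AlgSt.Points.map (AlgSt.ofSpMap a)) _ _ _ h1 h2 ?_).symm.trans
    (hQ _ _ toSpPt toSpPt (isHomeomorph_toSpPt A.property) (isHomeomorph_toSpPt (isAlgSpace_yon T))
      (funext fun P => toSpPt_map a P)))
  rw [← points_map_comp, ← points_map_comp]
  exact points_map_congr ia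

/-- A universal property on points of a representable morphism holds on the base change to an algebraic space. -/
theorem repByAlgSpWith_univ_of_points (Q : ∀ {A B : Type (u + 1)} [TopologicalSpace A] [TopologicalSpace B], (A → B) → Prop)
    (hQ : HomeoInv Q) (hf : AlgSt.RepByAlgSp1 f)
    (H : ∀ (𝒲 : AlgSt.Cat S), AlgSt.IsAlgStack Scheme.fppfPrecoverage 𝒲 → ∀ (g : 𝒲 ⥤ᵇ 𝒴),
      Q (AlgSt.Points.map (fpFst g f))) :
    AlgSt.RepByAlgSpWith (AlgSp.UnivSp fun _ _ m => Q (AlgSp.Points.map m)) f := by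
  intro T y
  obtain ⟨A, e, he⟩ := hf T y
  exact ⟨A, e, he, fun Z Z' hZ g fst snd sq => (points_fpFst_iff_of_square Q hQ y A e he hZ g fst snd sq).1
    (H _ (isAlgStack_of_repByAlgSp (repByAlgSp_ofSp hZ)) _)⟩

/-- What is used to descend a property on points along an atlas. -/
def DescendsPts (Q : ∀ {A B : Type (u + 1)} [TopologicalSpace A] [TopologicalSpace B], (A → B) → Prop) : Prop :=
  ∀ {A B A' B' : Type (u + 1)} [TopologicalSpace A] [TopologicalSpace B] [TopologicalSpace A'] [TopologicalSpace B']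
    (φ : A → B) (φ' : A' → B') (α : A' → A) (β : B' → B),
    Continuous φ → Continuous α → IsOpenQuotientMap β → β ∘ φ' = φ ∘ α →
    (∀ b a, β b = φ a → ∃ a', φ' a' = b ∧ α a' = a) → Q φ' → Q φ

theorem descendsPts_isOpenMap : DescendsPts.{u} fun φ => IsOpenMap φ := by
  intro A B A' B' _ _ _ _ φ φ' α β hφ hα hβ h hex hQ W hW
  rw [← hβ.isQuotientMap.isOpen_preimage]
  have : β ⁻¹' (φ '' W) = φ' '' (α ⁻¹' W) := by
    ext b
    constructor
    · rintro ⟨a, ha, hab⟩
      obtain ⟨a', rfl, rfl⟩ := hex b a hab.symm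
      exact ⟨a', ha, rfl⟩
    · rintro ⟨a', ha, rfl⟩
      exact ⟨α a', ha, (congrFun h a').symm⟩
  rw [this]
  exact hQ _ (hW.preimage hα)

theorem descendsPts_isClosedMap : DescendsPts.{u} fun φ => IsClosedMap φ := by
  intro A B A' B' _ _ _ _ φ φ' α β hφ hα hβ h hex hQ W hW
  rw [← hβ.isQuotientMap.isClosed_preimage]
  have : β ⁻¹' (φ '' W) = φ' '' (α ⁻¹' W) := by
    ext b
    constructor
    · rintro ⟨a, ha, hab⟩
      obtain ⟨a', rfl, rfl⟩ := hex b a hab.symm
      exact ⟨a', ha, rfl⟩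
    · rintro ⟨a', ha, rfl⟩
      exact ⟨α a', ha, (congrFun h a').symm⟩
  rw [this]
  exact hQ _ (hW.preimage hα)

theorem descendsPts_injective : DescendsPts.{u} fun φ => Function.Injective φ := by
  intro A B A' B' _ _ _ _ φ φ' α β hφ hα hβ h hex hQ a₁ a₂ h12
  obtain ⟨b, hb⟩ := hβ.surjective (φ a₁)
  obtain ⟨c₁, hc₁, rfl⟩ := hex b a₁ hb
  obtain ⟨c₂, hc₂, rfl⟩ := hex b a₂ (hb.trans h12)
  rw [hQ (hc₁.trans hc₂.symm)]

theorem descendsPts_surjective : DescendsPts.{u} fun φ => Function.Surjective φ := by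
  intro A B A' B' _ _ _ _ φ φ' α β hφ hα hβ h hex hQ b
  obtain ⟨b', rfl⟩ := hβ.surjective b
  obtain ⟨a', rfl⟩ := hQ b'
  exact ⟨α a', (congrFun h a').symm⟩

theorem descendsPts_isQuotientMap : DescendsPts.{u} fun φ => IsQuotientMap φ := by
  intro A B A' B' _ _ _ _ φ φ' α β hφ hα hβ h hex hQ
  refine IsQuotientMap.of_comp hα hφ ?_
  rw [← h]
  exact hβ.isQuotientMap.comp hQ

theorem descendsPts_isHomeomorph : DescendsPts.{u} fun φ => IsHomeomorph φ := by
  intro A B A' B' _ _ _ _ φ φ' α β hφ hα hβ h hex hQ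
  exact ⟨hφ, descendsPts_isOpenMap φ φ' α β hφ hα hβ h hex hQ.isOpenMap,
    descendsPts_injective φ φ' α β hφ hα hβ h hex hQ.bijective.injective,
    descendsPts_surjective φ φ' α β hφ hα hβ h hex hQ.bijective.surjective⟩

theorem points_of_repByAlgSpWith_univ (Q : ∀ {A B : Type (u + 1)} [TopologicalSpace A] [TopologicalSpace B], (A → B) → Prop)
    (hQ : HomeoInv Q) (hD : DescendsPts Q) (h𝒳 : AlgSt.IsAlgStack Scheme.fppfPrecoverage 𝒳)
    (h𝒴 : AlgSt.IsAlgStack Scheme.fppfPrecoverage 𝒴)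
    (hf : AlgSt.RepByAlgSpWith (AlgSp.UnivSp fun _ _ m => Q (AlgSp.Points.map m)) f) :
    ∀ (𝒲 : AlgSt.Cat S), AlgSt.IsAlgStack Scheme.fppfPrecoverage 𝒲 → ∀ (g : 𝒲 ⥤ᵇ 𝒴),
      Q (AlgSt.Points.map (fpFst g f)) := by
  intro 𝒲 h𝒲 g
  obtain ⟨U, z, hz, hzs⟩ := h𝒲.atlas
  have hB := isAlgStack_fp h𝒴.isStack h𝒴.diag h𝒲 h𝒳 g f
  have hU := isAlgStack_of_repByAlgSp (repByAlgSp_overCat U)
  obtain ⟨A, e, he, hA⟩ := hf U (BasedFunctor.comp z g)
  have h1 : Q (AlgSt.Points.map (fpFst (BasedFunctor.comp z g) f)) :=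
    (points_fpFst_overCat_iff Q hQ _ A e he).2
      (hA (isAlgSpace_yon U) (𝟙 _) (𝟙 A.obj) _ (IsPullback.of_horiz_isIso ⟨by simp⟩))
  obtain ⟨E, hE, ⟨iE⟩, -⟩ := exists_fp_of_cart _ _ _ (fpLift_self_isEquivOver g f) z
  have hzpt : IsOpenQuotientMap (AlgSt.Points.map z) := by
    refine ⟨fun P => ?_, continuous_points_map h𝒲 z, fun W hW => ?_⟩
    · obtain ⟨t, rfl⟩ := ofChart_surjective h𝒲.isStack.1 hzs P
      exact ⟨_, (ofChart_eq_map z t).symm⟩
    · have : AlgSt.Points.map z '' W =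
          AlgSt.Points.ofChart z '' (AlgSt.Points.ofChart (BasedFunctor.id _) ⁻¹' W) := by
        ext P
        constructor
        · rintro ⟨R, hR, rfl⟩
          exact ⟨ptMap R, by rwa [Set.mem_preimage, ofChart_id_ptMap],
            by rw [ofChart_eq_map, ofChart_id_ptMap]⟩
        · rintro ⟨t, ht, rfl⟩
          exact ⟨_, ht, (ofChart_eq_map z t).symm⟩
      rw [this]
      exact isOpenMap_ofChart h𝒲 (repByAlgSpWith_flat_of_smooth hz) (repByAlgSpWith_lfp_of_smooth hz) _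
        (hW.preimage (continuous_ofChart hU _))
  have hE' := isHomeomorph_points_map (isAlgStack_fp h𝒴.isStack h𝒴.diag hU h𝒳 _ f) hE
  have h2 : Q (AlgSt.Points.map (fpFst z (fpFst g f))) := by
    refine (hQ _ _ _ id hE' (.id) ?_).2 h1
    rw [Function.id_comp, ← points_map_comp]
    exact (points_map_congr iE).symm
  refine hD _ _ (AlgSt.Points.map (fpSnd z (fpFst g f))) (AlgSt.Points.map z)
    (continuous_points_map h𝒲 _) (continuous_points_map hB _) hzpt ?_ ?_ h2
  · rw [← points_map_comp, ← points_map_comp]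
    exact points_map_congr (fpIso z (fpFst g f))
  · intro b a hba
    exact exists_points_fp_of_map_eq hB.isStack.1 hU.isStack.1 h𝒲.isStack.1 (fpFst g f) z b a hba

theorem isSurjective_iff_rep (h𝒳 : AlgSt.IsAlgStack Scheme.fppfPrecoverage 𝒳)
    (h𝒴 : AlgSt.IsAlgStack Scheme.fppfPrecoverage 𝒴) (hf : AlgSt.RepByAlgSp1 f) :
    AlgSt.IsSurjective f ↔ AlgSt.RepByAlgSpWith AlgSp.IsSurjectiveMor f := by
  refine ⟨fun h T y => ?_, fun h P => ?_⟩
  · obtain ⟨A, e, he⟩ := hf T y
    exact ⟨A, e, he, (points_fpFst_overCat_iff (fun φ => Function.Surjective φ) homeoInv_surjective y A e he).1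
      (isSurjective_fpFst h𝒳.isStack.1 (isFibGrpd_overCat T) h𝒴.isStack.1 f y h)⟩
  · obtain ⟨T, -, t, y, rfl⟩ := exists_field_chart h𝒴.isStack.1 P
    obtain ⟨A, e, he, ha⟩ := h T y
    obtain ⟨r, hr⟩ := (points_fpFst_overCat_iff (fun φ => Function.Surjective φ) homeoInv_surjective y A e he).2 ha
      (AlgSt.Points.ofChart (BasedFunctor.id _) t)
    refine ⟨AlgSt.Points.map (fpSnd y f) r, ?_⟩
    rw [ofChart_eq_map, ← hr]
    exact (congrFun ((points_map_comp (fpSnd y f) f).symm.trans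
      ((points_map_congr (fpIso y f)).symm.trans (points_map_comp (fpFst y f) y))) r)

end Groth.Agent.StFib
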