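import Groth.Agent.StFib.DMFaithful
import Groth.Agent.StFib.InertiaProps
import Groth.Agent.StFib.PointsTop
import Groth.Agent.StFib.RepPoints
import Groth.Agent.StFib.LocQBasic
import Groth.Agent.StFib.DiagRep2

/-!
# Endomorphisms of a morphism to a separated DM stack trivial on a dense open
-/

set_option linter.unusedVariables false
set_option backward.isDefEq.respectTransparency false
set_option backward.isDefEq.respectTransparency.types false

universe u

open CategoryTheory CategoryTheory.Limits AlgebraicGeometry Opposite FibCat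

namespace Groth.Agent.StFib

variable {S : Scheme.{u}} {𝒳 𝒴 𝒰 𝒱 : AlgSt.Cat S}

theorem endo_id_iff {F : 𝒳 ⥤ᵇ 𝒴} (β : F ≅ F) {a b : 𝒳.obj} (k : a ≅ b) :
    (isoApp β a).hom = 𝟙 _ ↔ (isoApp β b).hom = 𝟙 _ := by
  have n := isoApp_naturality β k.hom
  refine ⟨fun h => ?_, fun h => ?_⟩
  · rw [h, Category.id_comp] at n
    rw [← cancel_epi (F.map k.hom)]
    exact n.trans (Category.comp_id _).symm
  · rw [h, Category.comp_id] at n
    rw [← cancel_mono (F.map k.hom)]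
    exact n.symm.trans (Category.id_comp _).symm

theorem isEquivOver_ofSpMap_iso {A B : AlgSp.Sp S} (ι : A ≅ B) : IsEquivOver (AlgSt.ofSpMap ι.hom) :=
  ⟨AlgSt.ofSpMap ι.inv,
    ⟨isoMk (fun a => eltIso rfl ((psh_map_id _ _).trans
        (congrArg (fun m => m.hom.app (op a.base) a.sec) ι.hom_inv_id).symm))
      (fun a => vert_eltIso _ _) (fun φ => Stk.EltObj.hom_ext ((Category.comp_id _).trans (Category.id_comp _).symm))⟩,
    ⟨isoMk (fun a => eltIso rfl ((psh_map_id _ _).trans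
        (congrArg (fun m => m.hom.app (op a.base) a.sec) ι.inv_hom_id).symm))
      (fun a => vert_eltIso _ _) (fun φ => Stk.EltObj.hom_ext ((Category.comp_id _).trans (Category.id_comp _).symm))⟩⟩

/-- The locus of a chart where an endomorphism is trivial, as a clopen subscheme. -/
theorem exists_fix_locus (h𝒴c : AlgSt.IsClosedImm (inertiaNeutral (toSelf 𝒴)))
    (h𝒴o : AlgSt.IsOpenImm (inertiaNeutral (toSelf 𝒴))) {F : 𝒳 ⥤ᵇ 𝒴}
    (β : F ≅ F) {T : Over S} (y : overCat T ⥤ᵇ 𝒳) :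
    ∃ C : Set ↥T.left, IsClosed C ∧
      (C = Set.univ → ∀ φ, (isoApp β (y.obj φ)).hom = 𝟙 _) ∧
      ∀ {T' : Over S} (h : T' ⟶ T), (∀ ψ, (isoApp β (y.obj ((AlgSt.overMap h).obj ψ))).hom = 𝟙 _) →
        Set.range h.left ⊆ C := by
  let a : overCat T ⥤ᵇ inertia (toSelf 𝒴) :=
    { toFunctor :=
        { obj := fun φ => ⟨F.obj (y.obj φ), isoApp β (y.obj φ), (vert_isoApp β (y.obj φ)).2.trans (eqToHom_refl _ _)⟩
          map := fun {φ ψ} k => ⟨F.map (y.map k), (isoApp_naturality β (y.map k)).symm⟩ }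
      w := (BasedFunctor.comp y F).w }
  obtain ⟨A, e, he, ho⟩ := h𝒴o T a
  have hc := mem_of_rep_chart (good_repWith @IsClosedImmersion).bc (good_repWith @IsClosedImmersion).det
    h𝒴c a A e he
  obtain ⟨Z, g, ι, hι, hg⟩ := exists_iso_yon_of_repWith _ ho
  have hgc : IsClosedImmersion g.left := (AlgSp.repWith_yon_map_iff _ _).1
    (hι ▸ (AlgSp.RepWith @IsClosedImmersion).cancel_left_of_respectsIso ι.hom _ |>.2 hc)
  obtain ⟨j⟩ := exists_iso_ofSpMap_toOverCat (A := A.obj) (BasedFunctor.comp e (fpFst a (inertiaNeutral _)))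
  let E0 := BasedFunctor.comp (BasedFunctor.comp (AlgSt.ofOverCat Z) (AlgSt.ofSpMap ι.hom)) e
  have hE0 : IsEquivOver E0 := isEquivOver_comp (isEquivOver_comp
    ⟨AlgSt.toOverCat _, ⟨Iso.refl _⟩, ⟨Iso.refl _⟩⟩ (isEquivOver_ofSpMap_iso ι)) he
  have j0 : BasedFunctor.comp E0 (fpFst a (inertiaNeutral _)) ≅ AlgSt.overMap g :=
    isoWhiskerLeft (BasedFunctor.comp (AlgSt.ofOverCat Z) (AlgSt.ofSpMap ι.hom)) j.symm ≪≫
      eqToIso (show BasedFunctor.comp (BasedFunctor.comp (AlgSt.ofOverCat Z) (AlgSt.ofSpMap ι.hom))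
        (BasedFunctor.comp (AlgSt.ofSpMap (AlgSt.spMapOfOver (BasedFunctor.comp e (fpFst a (inertiaNeutral _)))))
          (AlgSt.toOverCat T)) = BasedFunctor.comp (AlgSt.ofOverCat Z)
            (BasedFunctor.comp (AlgSt.ofSpMap ((AlgSp.yon S).map g)) (AlgSt.toOverCat T)) by
        rw [← hι]; rfl) ≪≫
      isoWhiskerLeft (AlgSt.ofOverCat Z) (toOverCatIso g)
  have : IsClosedImmersion g.left := hgc
  refine ⟨Set.range g.left, g.left.isClosedEmbedding.isClosed_range, fun hC => ?_, fun {T'} h hfix => ?_⟩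
  · intro φ
    have : Surjective g.left := ⟨fun v => (hC.ge (Set.mem_univ v) : v ∈ Set.range g.left)⟩
    have : IsOpenImmersion g.left := hg
    have : IsIso g.left := IsOpenImmersion.isIso g.left
    have : IsIso g := by
      have : IsIso ((Over.forget S).map g) := ‹IsIso g.left›
      exact isIso_of_reflects_iso g (Over.forget S)
    let d := BasedFunctor.comp (AlgSt.overMap (inv g)) E0
    have id' : BasedFunctor.comp d (fpFst a (inertiaNeutral _)) ≅ AlgSt.overMap (𝟙 T) :=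
      isoWhiskerLeft (AlgSt.overMap (inv g)) j0 ≪≫ overMapCompIso (inv g) g ≪≫
        eqToIso (congrArg AlgSt.overMap (IsIso.inv_hom_id g))
    let o := d.obj φ
    have k1 : o.obj.fst ≅ φ := isoApp id' φ ≪≫ Over.isoMk (Iso.refl _) ((Category.id_comp _).trans (Category.comp_id _).symm)
    let k := (a.toFunctor.mapIso k1).symm ≪≫ o.obj.iso
    have := k.hom.comm
    change (isoApp β (y.obj φ)).hom ≫ k.hom.hom = k.hom.hom ≫ 𝟙 _ at this
    have hk : IsIso k.hom.hom := inferInstanceAs (IsIso ((InertiaObj.forget).map k.hom))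
    rw [← cancel_mono k.hom.hom]
    exact this.trans ((Category.comp_id _).trans (Category.id_comp _).symm)
  · let v := BasedFunctor.comp (BasedFunctor.comp (AlgSt.overMap h) y) F
    have i : BasedFunctor.comp (AlgSt.overMap h) a ≅ BasedFunctor.comp v (inertiaNeutral (toSelf 𝒴)) :=
      isoMk (fun ψ => ⟨⟨𝟙 _, by
          change (isoApp β (y.obj ((AlgSt.overMap h).obj ψ))).hom ≫ 𝟙 _ = 𝟙 _ ≫ 𝟙 _
          rw [hfix ψ]⟩, ⟨𝟙 _, by
          change 𝟙 _ ≫ 𝟙 _ = 𝟙 _ ≫ (isoApp β (y.obj ((AlgSt.overMap h).obj ψ))).hom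
          rw [hfix ψ]⟩,
          InertiaObj.hom_ext (Category.id_comp _), InertiaObj.hom_ext (Category.id_comp _)⟩)
        (fun ψ => Vert.id (F.obj (y.obj ((AlgSt.overMap h).obj ψ))))
        (fun {_ _} k => InertiaObj.hom_ext ((Category.comp_id _).trans (Category.id_comp _).symm))
    obtain ⟨E', hE', -, ⟨j1⟩⟩ := isEquivOver_symm hE0
    let c := fpLift (AlgSt.overMap h) v i
    obtain ⟨k, ⟨ik⟩⟩ := exists_iso_overMap (BasedFunctor.comp c E')
    have : h = k ≫ g := overMap_injective (eqToIso (rfl : AlgSt.overMap h = BasedFunctor.comp c (fpFst a _)) ≪≫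
      isoWhiskerLeft c (isoWhiskerRight j1.symm (fpFst a (inertiaNeutral _))) ≪≫
      isoWhiskerLeft (BasedFunctor.comp c E') j0 ≪≫ isoWhiskerRight ik (AlgSt.overMap g) ≪≫ overMapCompIso k g)
    rintro _ ⟨t, rfl⟩
    rw [this]
    exact ⟨k.left t, (Scheme.Hom.comp_apply _ _ _).symm⟩

/-- A schematic morphism pulled back to a scheme. -/
theorem exists_scheme_fp {P : MorphismProperty Scheme.{u}} {n : 𝒰 ⥤ᵇ 𝒳}
    (hn : AlgSt.RepByAlgSpWith (AlgSp.RepWith P) n) {T : Over S} (a : overCat T ⥤ᵇ 𝒳) :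
    ∃ (Z : Over S) (g : Z ⟶ T) (E0 : overCat Z ⥤ᵇ fp a n), IsEquivOver E0 ∧
      Nonempty (BasedFunctor.comp E0 (fpFst a n) ≅ AlgSt.overMap g) ∧ P g.left := by
  obtain ⟨A, e, he, hA⟩ := hn T a
  obtain ⟨Z, g, ι, hι, hg⟩ := exists_iso_yon_of_repWith _ hA
  obtain ⟨j⟩ := exists_iso_ofSpMap_toOverCat (A := A.obj) (BasedFunctor.comp e (fpFst a n))
  refine ⟨Z, g, BasedFunctor.comp (BasedFunctor.comp (AlgSt.ofOverCat Z) (AlgSt.ofSpMap ι.hom)) e,
    isEquivOver_comp (isEquivOver_comp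
      ⟨AlgSt.toOverCat _, ⟨Iso.refl _⟩, ⟨Iso.refl _⟩⟩ (isEquivOver_ofSpMap_iso ι)) he, ⟨?_⟩, hg⟩
  exact isoWhiskerLeft (BasedFunctor.comp (AlgSt.ofOverCat Z) (AlgSt.ofSpMap ι.hom)) j.symm ≪≫
      eqToIso (show BasedFunctor.comp (BasedFunctor.comp (AlgSt.ofOverCat Z) (AlgSt.ofSpMap ι.hom))
        (BasedFunctor.comp (AlgSt.ofSpMap (AlgSt.spMapOfOver (BasedFunctor.comp e (fpFst a n))))
          (AlgSt.toOverCat T)) = BasedFunctor.comp (AlgSt.ofOverCat Z)
            (BasedFunctor.comp (AlgSt.ofSpMap ((AlgSp.yon S).map g)) (AlgSt.toOverCat T)) by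
        rw [← hι]; rfl) ≪≫
      isoWhiskerLeft (AlgSt.ofOverCat Z) (toOverCatIso g)

theorem endTrans_eq_id (h𝒳 : AlgSt.IsAlgStack Scheme.fppfPrecoverage 𝒳) (h𝒰 : IsFibGrpd 𝒰.p)
    (h𝒴c : AlgSt.IsClosedImm (inertiaNeutral (toSelf 𝒴)))
    (h𝒴o : AlgSt.IsOpenImm (inertiaNeutral (toSelf 𝒴))) {F : 𝒳 ⥤ᵇ 𝒴}
    {i : 𝒰 ⥤ᵇ 𝒳} (hi : AlgSt.IsOpenImm i) (hd : Dense (Set.range (AlgSt.Points.map i)))
    (β : F ≅ F) (hfix : ∀ u, (isoApp β (i.obj u)).hom = 𝟙 _) (a : 𝒳.obj) :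
    (isoApp β a).hom = 𝟙 _ := by
  obtain ⟨U, x, hx, hxs⟩ := h𝒳.atlas
  -- trivial on the atlas
  have hU : ∀ φ, (isoApp β (x.obj φ)).hom = 𝟙 _ := by
    obtain ⟨C, hC, huniv, hsub⟩ := exists_fix_locus h𝒴c h𝒴o β x
    obtain ⟨Z, g, E0, hE0, ⟨j0⟩, -⟩ := exists_scheme_fp hi x
    have hg : Set.range g.left ⊆ C := hsub g fun ψ => by
      let o := E0.obj ψ
      exact (endo_id_iff β (x.toFunctor.mapIso (isoApp j0 ψ).symm ≪≫ o.obj.iso)).2 (hfix o.obj.snd)
    have hW : AlgSt.Points.ofChart x ⁻¹' Set.range (AlgSt.Points.map i) ⊆ Set.range g.left := by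
      rintro t ⟨P, hP⟩
      rw [ofChart_eq_map] at hP
      obtain ⟨w, hw, -⟩ := exists_points_fp_of_map_eq h𝒰 (isFibGrpd_overCat U) h𝒳.isStack.1 i x
        (AlgSt.Points.ofChart (BasedFunctor.id _) t) P hP.symm
      obtain ⟨z, rfl⟩ := (points_bijective_of_isEquivOver hE0).2 w
      rw [← Function.comp_apply (f := AlgSt.Points.map (fpFst x i)), ← points_map_comp,
        points_map_congr j0] at hw
      obtain ⟨z', hz'⟩ : AlgSt.Points.ofChart (BasedFunctor.id _) t ∈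
          Set.range (AlgSt.Points.ofChart (AlgSt.overMap g)) := range_map_overCat (AlgSt.overMap g) ▸ ⟨z, hw⟩
      refine ⟨z', ?_⟩
      have := congrArg ptMap hz'
      rw [ptMap_ofChart_id] at this
      refine Eq.trans ?_ this
      exact ((congrArg ptMap (ofChart_overMap (BasedFunctor.id (overCat U)) g z')).trans
        (ptMap_ofChart_id _)).symm
    have hdense : Dense C := ((hd.preimage (isOpenMap_ofChart h𝒳 (repByAlgSpWith_flat_of_smooth hx)
      (repByAlgSpWith_lfp_of_smooth hx))).mono hW).mono hg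
    exact huniv (hC.closure_eq ▸ hdense.closure_eq)
  -- trivial everywhere
  obtain ⟨y, k, -⟩ := exists_overFunctor h𝒳.isStack.1 a rfl
  obtain ⟨W, p, q, ⟨l⟩, -, -, -, hq⟩ := exists_chart_fp h𝒳 x y
  obtain ⟨C, hC, huniv, hsub⟩ := exists_fix_locus h𝒴c h𝒴o β y
  have hqC := hsub q fun ψ => (endo_id_iff β (isoApp l ψ)).1 (hU _)
  have : Surjective q.left := hq hxs
  exact (endo_id_iff β k).1 (huniv (Set.univ_subset_iff.1 (q.left.surjective.range_eq ▸ hqC)) _)

end Groth.Agent.StFib
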