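import Groth.Agent.StFib.DiagCover
import Groth.Agent.StFib.Affine
import Groth.Agent.StFib.Cancel
import Groth.Agent.StFib.AlgStack
import Groth.Agent.StFib.EndTrans
import Groth.Agent.StFib.DiagConv
import Groth.Agent.AlgSpB.Art.EtaleChart
import Groth.Agent.AlgSpB.Open
import Groth.Agent.AlgSp.PointsMor
import Groth.Agent.StFib.Compact
import Groth.Agent.StFib.LocQBasic
import Groth.Agent.S10536
import Groth.Agent.S10541
import Groth.Agent.S10271
import Groth.Prelude.Def_W4stkstmodspWNA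

/-!
# Well-nigh affine stacks
-/

set_option backward.isDefEq.respectTransparency false
set_option backward.isDefEq.respectTransparency.types false
set_option linter.unusedVariables false

universe u

open CategoryTheory CategoryTheory.Limits AlgebraicGeometry Opposite FibCat

namespace Groth.Agent.StFib

variable {S : Scheme.{u}} {𝒳 : AlgSt.Cat S}

theorem rep_separated_toSelf_overCat (U : Over S) (hU : IsSeparated U.hom) :
    AlgSt.RepByAlgSpWith AlgSp.IsSeparatedMor (toSelf (overCat U)) := by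
  let T₀ : Over S := Over.mk (𝟙 S)
  let E : overCat T₀ ⥤ᵇ selfOver (C := Over S) := toSelf (overCat T₀)
  have hu : ∀ {T : Over S} (a b : T ⟶ T₀), a = b := fun a b =>
    Over.OverMorphism.ext (((Category.comp_id _).symm.trans (over_w a)).trans
      ((over_w b).symm.trans (Category.comp_id _)))
  have : E.toFunctor.Faithful := ⟨fun h => Over.OverMorphism.ext h⟩
  have : E.toFunctor.Full := ⟨fun {a b} g => ⟨Over.homMk g (hu _ _), rfl⟩⟩
  have hE : IsEquivOver E := isEquivOver_mk _ fun (T : Over S) =>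
    ⟨Over.mk (Over.homMk T.hom (Category.comp_id _) : T ⟶ T₀), Iso.refl _, Vert.id _⟩
  let h : U ⟶ T₀ := Over.homMk U.hom (Category.comp_id _)
  have h1 : AlgSt.RepByAlgSpWith AlgSp.IsSeparatedMor (AlgSt.overMap h) :=
    (repByAlgSpWith_iff_of_equiv _ (AlgSt.toOverCat U) (AlgSt.toOverCat T₀)
      (toOverCat_isEquivOver U) (toOverCat_isEquivOver T₀) (toOverCatIso h)).2
      (repByAlgSpWith_ofSpMap good_separated.bc (isAlgSpace_yon U) (isAlgSpace_yon T₀) _
        ((AlgSp.isSeparatedMor_yon_map_iff h).2 hU))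
  obtain ⟨d, hd, ⟨q⟩, -⟩ := isEquivOver_symm hE
  exact (repByAlgSpWith_iff_of_equiv _ (BasedFunctor.id _) d (isEquivOver_id _) hd
    (f := AlgSt.overMap h) (f' := toSelf (overCat U)) (isoWhiskerLeft (AlgSt.overMap h) q)).1 h1

theorem diag_toSelf_of_proper_chart (hg : IsFibGrpd 𝒳.p) (hd : AlgSt.RepByAlgSp1 (diag (toSelf 𝒳)))
    {U : Over S} (hU : IsSeparated U.hom) {x : overCat U ⥤ᵇ 𝒳}
    (h1 : AlgSt.RepByAlgSpWith (AlgSp.LocP @Flat) x)
    (h2 : AlgSt.RepByAlgSpWith (AlgSp.LocP @LocallyOfFinitePresentation) x)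
    (hxs : AlgSt.RepByAlgSpWith AlgSp.IsSurjectiveMor x)
    (h3 : AlgSt.RepByAlgSpWith AlgSp.IsProperMor x) :
    AlgSt.RepByAlgSpWith AlgSp.IsProperMor (diag (toSelf 𝒳)) := by
  obtain ⟨F, e, he⟩ := repByAlgSp_selfOver (S := S)
  have hself : IsFibGrpd (selfOver (C := Over S)).p :=
    isFibGrpd_of_isEquivOver he (Stk.isFibGrpd_ofPsh _)
  let t := toSelf 𝒳
  refine repByAlgSpWith_of_locally_lift good_proper.bc
    (fppfLocal_of_fpqc (Groth.Agent.S10536.result S)) hd
    (exists_locally_lift (isFibGrpd_fp (isFibGrpd_overCat U) (isFibGrpd_overCat U) hself _ _)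
      (isFibGrpd_fp hg hg hself t t)
      (repByAlgSpWith_compPhi _ (good_locP Groth.Agent.AlgSpCov.standard_flat) hg h1)
      (repByAlgSpWith_compPhi _ (good_locP Groth.Agent.AlgSpCov.standard_locallyOfFinitePresentation)
        hg h2)
      (repByAlgSpWith_compPhi _ good_surjective hg hxs)) ?_
  let u : fp x x ⥤ᵇ fp (BasedFunctor.comp x t) (BasedFunctor.comp x t) :=
    fpLift (fpFst x x) (fpSnd x x) (isoWhiskerRight (fpIso x x) t)
  have hcart := comp_cart x x t (isoWhiskerRight (fpIso x x) t) fun _ => rfl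
  refine (repByAlgSpWith_iff_of_equiv _ _ (BasedFunctor.id _) hcart (isEquivOver_id _)
    (f := fpFst (compPhi x x t) (diag t)) (f' := u) (Iso.refl _)).2 ?_
  let j : toSelf (overCat U) ≅ BasedFunctor.comp x t :=
    isoMk (F := toSelf (overCat U)) (G := BasedFunctor.comp x t) (fun g => eqToIso (x.w_obj g).symm)
      (fun g => vert_eqToHom (x.w_obj g).symm)
      (fun {g g'} φ => by
        change (overCat U).p.map φ ≫ eqToHom (x.w_obj g').symm =
          eqToHom (x.w_obj g).symm ≫ 𝒳.p.map (x.map φ)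
        rw [w_map]
        simp)
  refine repByAlgSpWith_cancel (Q := AlgSp.IsSeparatedMor) good_proper.bc
    (fun A B C hA hB hC a b hb hab => isProperMor_of_comp hA hB hC a b hb hab)
    (q := fpFst (BasedFunctor.comp x t) (BasedFunctor.comp x t))
    (repByAlgSpWith_fpFst _ _ (repByAlgSpWith_of_iso _ j (rep_separated_toSelf_overCat U hU))) ?_
  exact repByAlgSpWith_fpFst _ x h3

theorem wellNighAffine_props (h𝒳 : AlgSt.IsAlgStack Scheme.fppfPrecoverage 𝒳)
    (hw : AlgSt.IsWellNighAffine 𝒳) :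
    AlgSt.IsQuasiCompact 𝒳 ∧ AlgSt.IsQuasiDMOver 𝒳 ∧ AlgSt.IsSeparatedOver 𝒳 := by
  obtain ⟨U, x, hU, hx⟩ := hw
  have hs := repByAlgSpWith_mono hx fun F V m hm => hm.1.1.1
  have hf := repByAlgSpWith_mono hx fun F V m hm => hm.1.1.2
  have hfin := repByAlgSpWith_mono hx fun F V m hm => hm.1.2
  have hp := repByAlgSpWith_mono hx fun F V m hm => hm.2
  have : CompactSpace (AlgSt.Points 𝒳) :=
    (ofChart_surjective h𝒳.isStack.1 hs).compactSpace (continuous_ofChart h𝒳 x)
  refine ⟨isQuasiCompact_of_compactSpace h𝒳, ?_, ?_⟩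
  · refine diag_toSelf_of_chart Groth.Agent.AlgSpCov.standard_locallyQuasiFinite
      (fun A B C h k hh => ⟨have := hh.1; LocallyQuasiFinite.of_comp h k,
        have := hh.2; locallyOfFiniteType_of_comp h k⟩)
      (fppfLocal_of_fpqc (Groth.Agent.S10541.result S).1) h𝒳.isStack.1 h𝒳.diag hf hp hs
      (repByAlgSpWith_mono hfin fun F V m hm => Groth.Agent.AlgSpCov.locP_of_repWith
        Groth.Agent.AlgSpCov.standard_locallyQuasiFinite.etaleLocal
        (Groth.Agent.AlgSp.repWith_mono (fun {A B} g hg => (have : IsFinite g := hg;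
          ⟨inferInstance, inferInstance⟩ : (@LocallyQuasiFinite ⊓ @LocallyOfFiniteType : MorphismProperty Scheme.{u}) g))
          ((Groth.Agent.AlgSpD.isFiniteMor_iff m).1 hm)))
  · have : IsAffine U.left := hU
    exact diag_toSelf_of_proper_chart h𝒳.isStack.1 h𝒳.diag inferInstance hf hp hs
      (repByAlgSpWith_mono hfin fun F V m hm =>
        ((Groth.Agent.S10271.result (X := F) (Y := (AlgSp.ofScheme S).obj V) (ObjectProperty.homMk m)).1 hm).2)


theorem exists_affine_quotient {F : AlgSp.Sp S} (hF : AlgSp.IsAlgSpace F) {U : Over S} [IsAffine U.left]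
    (p : (AlgSp.yon S).obj U ⟶ F) (h1 : AlgSp.IsSurjectiveMor p) (h2 : AlgSp.LocP @Flat p)
    (h3 : AlgSp.IsFiniteMor p) (h4 : AlgSp.LocP @LocallyOfFinitePresentation p) :
    ∃ (M : Over S) (_ : (AlgSp.yon S).obj M ≅ F), IsAffine M.left := by
  have hr : AlgSp.Representable p := hF.representable_from_yon p
  have hflat := Groth.Agent.AlgSpCov.repWith_of_locP Groth.Agent.AlgSpCov.etaleLocal_flat (isAlgSpace_yon U) hF hr h2
  have hlfp := Groth.Agent.AlgSpCov.repWith_of_locP
    Groth.Agent.AlgSpCov.etaleLocal_locallyOfFinitePresentation (isAlgSpace_yon U) hF hr h4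
  have hfin := (Groth.Agent.AlgSpD.isFiniteMor_iff p).1 h3
  have hls := Groth.Agent.AlgSp.isLocallySurjective_of_repWith p hflat hlfp
    ((Groth.Agent.AlgSp.repWith_surjective_iff p hr).2 h1)
  let R : Over S := hr.pullback p
  let s : R ⟶ U := hr.snd p
  obtain ⟨t, ht⟩ := (AlgSp.yon S).map_surjective (hr.fst p)
  have sq : IsPullback ((AlgSp.yon S).map t) ((AlgSp.yon S).map s) p p := by
    rw [ht]; exact hr.isPullback p
  have : Flat s.left := hflat.2 _ _ _ (hr.isPullback p)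
  have : LocallyOfFinitePresentation s.left := hlfp.2 _ _ _ (hr.isPullback p)
  have : IsFinite s.left := hfin.2 _ _ _ (hr.isPullback p)
  have heqv := Groth.Agent.AlgSpB.isEqvRel_of_isPullback sq
  let G := Groth.Agent.AlgSpB.kpGrpd (Groth.Agent.AlgSp.isPullback_yπ s t heqv)
  have : IsFinite G.s := ‹IsFinite s.left›
  have : Flat G.s := ‹Flat s.left›
  have : LocallyOfFinitePresentation G.s := ‹LocallyOfFinitePresentation s.left›
  have hG : Groth.Agent.GrpdLib.OrbitsInAffines G := fun x =>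
    ⟨⊤, isAffineOpen_top U.left, fun _ _ => trivial⟩
  have : Mono G.j := Groth.Agent.AlgSpB.mono_kpGrpd_j (Groth.Agent.AlgSp.isPullback_yπ s t heqv)
  let π : U.left ⟶ Groth.Agent.GrpdLib.quot G := Groth.Agent.GrpdLib.quotMap hG
  have hw : t.left ≫ U.hom = s.left ≫ U.hom := by rw [Over.w, Over.w]
  obtain ⟨str, hstr⟩ := Cofork.IsColimit.desc' (Groth.Agent.GrpdLib.isColimitQuot hG) U.hom hw
  let M : Over S := Over.mk str
  let q : U ⟶ M := Over.homMk π hstr
  obtain ⟨-, hq2, hq3⟩ := Groth.Agent.GrpdLib.finLocFree_quotMap hG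
  have hp : IsPullback t.left s.left q.left q.left := Groth.Agent.GrpdLib.isPullback_quotMap hG
  have sqq : IsPullback ((AlgSp.yon S).map t) ((AlgSp.yon S).map s) ((AlgSp.yon S).map q)
      ((AlgSp.yon S).map q) :=
    (IsPullback.of_map (Over.forget S) (Over.OverMorphism.ext hp.w : t ≫ q = s ≫ q) hp).map _
  have : Flat q.left := hq2
  have : LocallyOfFinitePresentation q.left := hq3
  have : Surjective q.left := ⟨Groth.Agent.GrpdLib.surjective_quotMap hG⟩
  have : Sheaf.IsLocallySurjective ((AlgSp.yon S).map q) := Groth.Agent.AlgSpB.locSurj_yon q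
  obtain ⟨c₁⟩ := Groth.Agent.AlgSp.isColimit_of_isPullback ((AlgSp.yon S).map q) sqq
  obtain ⟨c₂⟩ := Groth.Agent.AlgSp.isColimit_of_isPullback p sq
  refine ⟨M, c₁.coconePointUniqueUpToIso c₂, ?_⟩
  let j : Groth.Agent.GrpdLib.InvAff G := ⟨⊤, isAffineOpen_top U.left, rfl⟩
  have htop : j.incl.opensRange = ⊤ := top_le_iff.1 fun y _ => by
    obtain ⟨x, rfl⟩ := Groth.Agent.GrpdLib.surjective_quotMap hG y
    exact ⟨j.q ⟨x, trivial⟩, (Groth.Agent.GrpdLib.quotMap_apply hG j ⟨x, trivial⟩).symm⟩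
  have : IsAffine j.Y := inferInstanceAs (IsAffine (Spec _))
  have haff : IsAffineOpen (⊤ : (Groth.Agent.GrpdLib.quot G).Opens) := htop ▸ isAffineOpen_opensRange j.incl
  have : IsAffine ((⊤ : (Groth.Agent.GrpdLib.quot G).Opens).toScheme) := haff
  exact IsAffine.of_isIso (Groth.Agent.GrpdLib.quot G).topIso.inv

theorem exists_affine_of_space (hw : AlgSt.IsWellNighAffine 𝒳) (hsp : AlgSt.RepByAlgSp 𝒳) :
    ∃ (U : Over S) (e : AlgSt.ofSch U ⥤ᵇ 𝒳), IsAffine U.left ∧ FibCat.IsEquivOver e := by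
  obtain ⟨U, x, hU, hx⟩ := hw
  have : IsAffine U.left := hU
  obtain ⟨F, e, he⟩ := hsp
  obtain ⟨d, hd, -, ⟨jd⟩⟩ := isEquivOver_symm he
  let Φ : AlgSt.ofSch U ⥤ᵇ AlgSt.ofSp F.obj := BasedFunctor.comp (AlgSt.toOverCat U) (BasedFunctor.comp x d)
  obtain ⟨k⟩ := exists_iso_pshMap (P := ((AlgSp.yon S).obj U).obj) (Q := F.obj.obj) Φ
  let p : (AlgSp.yon S).obj U ⟶ F.obj := ObjectProperty.homMk (pshMap Φ)
  have hG := ((good_surjective (S := S)).inf (good_locP Groth.Agent.AlgSpCov.standard_flat)).inf good_finite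
    |>.inf (good_locP Groth.Agent.AlgSpCov.standard_locallyOfFinitePresentation)
  have hrep : AlgSt.RepByAlgSpWith _ (AlgSt.ofSpMap p) := repByAlgSpWith_of_iso _ k
    (repByAlgSpWith_comp_isEquivOver (repByAlgSpWith_comp_equiv _ hx hd) (toOverCat_isEquivOver U))
  obtain ⟨⟨⟨h1, h2⟩, h3⟩, h4⟩ :=
    mem_of_repByAlgSpWith_ofSpMap hG.bc hG.det (isAlgSpace_yon U) F.property p hrep
  obtain ⟨M, ι, hM⟩ := exists_affine_quotient F.property p h1 h2 h3 h4
  exact ⟨M, BasedFunctor.comp (AlgSt.ofSpMap ι.hom) e, hM,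
    isEquivOver_comp (isEquivOver_ofSpMap_iso ι) he⟩

end Groth.Agent.StFib
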