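import Groth.Agent.StFib.QAffDiag
import Groth.Agent.StFib.AutRepChart
import Groth.Agent.StFib.WellNighAffine
import Groth.Agent.StFib.LocQBasic
import Groth.Agent.S10537

/-!
# Charts of stacks with quasi-affine diagonal
-/

set_option backward.isDefEq.respectTransparency false
set_option backward.isDefEq.respectTransparency.types false

universe u

open CategoryTheory CategoryTheory.Limits AlgebraicGeometry Opposite FibCat

namespace Groth.Agent.StFib.QAffChart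

variable {S : Scheme.{u}} {𝒳 𝒴 𝒵 : AlgSt.Cat S}

theorem mem_comp_affine {X Y Z : AlgSp.Sp S} (a : X ⟶ Y) (b : Y ⟶ Z)
    (ha : AlgSp.IsQuasiAffineMor a) (hb : AlgSp.IsAffineMor b) : AlgSp.IsQuasiAffineMor (a ≫ b) := by
  intro T hT g
  obtain ⟨W₁, i₁, f₁, sq₁, h₁⟩ := hb hT g
  obtain ⟨W₂, i₂, f₂, sq₂, h₂⟩ := ha h₁ f₁
  exact ⟨W₂, i₂ ≫ i₁, f₂, by rw [Functor.map_comp]; exact sq₂.paste_vert sq₁, h₂⟩

theorem mem_comp_closedImmersion {X Y Z : AlgSp.Sp S} (a : X ⟶ Y) (b : Y ⟶ Z)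
    (ha : AlgSp.RepWith @IsClosedImmersion a) (hb : AlgSp.IsQuasiAffineMor b) :
    AlgSp.IsQuasiAffineMor (a ≫ b) := by
  intro T hT g
  obtain ⟨W₁, i₁, f₁, sq₁, h₁⟩ := hb hT g
  obtain ⟨W₂, f₂, i₂, sq₂⟩ : ∃ (W : Over S) (fst : (AlgSp.yon S).obj W ⟶ X) (i : W ⟶ W₁),
      IsPullback fst ((AlgSp.yon S).map i) a f₁ :=
    ⟨ha.1.pullback f₁, ha.1.fst f₁, ha.1.snd f₁, ha.1.isPullback f₁⟩
  refine ⟨W₂, i₂ ≫ i₁, f₂, by rw [Functor.map_comp]; exact sq₂.paste_vert sq₁, ?_⟩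
  have : IsClosedImmersion i₂.left := ha.2 _ _ _ sq₂
  exact Scheme.IsQuasiAffine.of_isAffineHom i₂.left

theorem mem_of_comp {X Y Z : AlgSp.Sp S} (hX : AlgSp.IsAlgSpace X) (hY : AlgSp.IsAlgSpace Y)
    (hZ : AlgSp.IsAlgSpace Z) (a : X ⟶ Y) (b : Y ⟶ Z) (hb : AlgSp.IsSeparatedMor b)
    (hab : AlgSp.IsQuasiAffineMor (a ≫ b)) : AlgSp.IsQuasiAffineMor a := by
  have hP := Groth.Agent.AlgSp.isAlgSpace_pullback hZ hX hY (a ≫ b) b
  have h1 : AlgSp.RepWith @IsClosedImmersion (pullback.lift (𝟙 X) a (by simp) : X ⟶ pullback (a ≫ b) b) :=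
    MorphismProperty.of_isPullback (pullback_lift_diagonal_isPullback a b) hb
  have h2 := mem_comp_closedImmersion _ (pullback.snd (a ≫ b) b) h1
    (stableBC_quasiAffine hX hZ hP hY (a ≫ b) b _ (pullback.fst (a ≫ b) b) (IsPullback.of_hasPullback _ _) hab)
  rwa [pullback.lift_snd] at h2

theorem repByAlgSpWith_comp_mixed {P Q R : MorphismProperty (AlgSp.Sp S)} (hPb : StableBC P)
    (hdet : DetectedOnSchemes P)
    (hmix : ∀ ⦃X Y Z : AlgSp.Sp S⦄ (a : X ⟶ Y) (b : Y ⟶ Z), P a → Q b → R (a ≫ b))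
    (h𝒳 : IsFibGrpd 𝒳.p) (h𝒴 : IsFibGrpd 𝒴.p) {f : 𝒳 ⥤ᵇ 𝒴} {g : 𝒴 ⥤ᵇ 𝒵}
    (hf : AlgSt.RepByAlgSpWith P f) (hg : AlgSt.RepByAlgSpWith Q g) :
    AlgSt.RepByAlgSpWith R (BasedFunctor.comp f g) := by
  intro U y
  obtain ⟨A, e, he, hPa⟩ := hg U y
  obtain ⟨V, b, e₂, he₂, ⟨k⟩, hPb'⟩ :=
    exists_space_fp hPb hdet h𝒳 h𝒴 hf A (BasedFunctor.comp e (fpSnd y g))
  have : (BasedFunctor.id 𝒴).toFunctor.Full := inferInstanceAs (𝟭 _).Full
  have : (BasedFunctor.id 𝒴).toFunctor.Faithful := inferInstanceAs (𝟭 _).Faithful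
  let M := fpMap (F := fpSnd y g) (G := f) (F' := BasedFunctor.comp e (fpSnd y g)) (G' := f)
    e (BasedFunctor.id _) (BasedFunctor.id _) (Iso.refl _) (Iso.refl _)
  obtain ⟨E, hE, ⟨i⟩⟩ := exists_fp_assoc y g f
  refine ⟨V, BasedFunctor.comp (BasedFunctor.comp e₂ M) E, isEquivOver_comp (isEquivOver_comp he₂
    (fpMap_isEquivOver _ _ _ _ _ he (isEquivOver_id _))) hE, ?_⟩
  have h1 := spMapOfOver_congr (F := V.obj)
    (Iso.trans (isoWhiskerLeft (BasedFunctor.comp e₂ M) i)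
      (isoWhiskerRight k (BasedFunctor.comp e (fpFst y g))))
  rw [show AlgSt.spMapOfOver (BasedFunctor.comp (BasedFunctor.comp (BasedFunctor.comp e₂ M) E)
    (fpFst y (BasedFunctor.comp f g))) = b.hom ≫ _ from h1.trans (spMapOfOver_ofSpMap_comp b.hom _)]
  exact hmix _ _ hPb' hPa

/-- A property of a morphism can be read off the projections of all its fibres. -/
theorem repByAlgSpWith_of_fpFst {P : MorphismProperty (AlgSp.Sp S)} {f : 𝒳 ⥤ᵇ 𝒴}
    (h : ∀ (U : Over S) (y : overCat U ⥤ᵇ 𝒴), AlgSt.RepByAlgSpWith P (fpFst y f)) :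
    AlgSt.RepByAlgSpWith P f := by
  intro U y
  obtain ⟨F, eF, heF, hF⟩ := h U y U (BasedFunctor.id _)
  obtain ⟨M, hM, ⟨iM⟩, -⟩ := exists_fp_of_cart _ _ _ (fpLift_self_isEquivOver y f)
    (BasedFunctor.id (overCat U))
  refine ⟨F, BasedFunctor.comp eF M, isEquivOver_comp heF hM, ?_⟩
  have e2 := spMapOfOver_congr (F := F.obj) (isoWhiskerLeft eF iM)
  exact e2.symm ▸ hF

theorem rep_affine_toSelf_overCat [IsAffine S] (U : Over S) [IsAffine U.left] :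
    AlgSt.RepByAlgSpWith AlgSp.IsAffineMor (toSelf (overCat U)) := by
  let T₀ : Over S := Over.mk (𝟙 S)
  let E : overCat T₀ ⥤ᵇ selfOver (C := Over S) := toSelf (overCat T₀)
  have hu : ∀ {T : Over S} (a b : T ⟶ T₀), a = b := fun a b =>
    Over.OverMorphism.ext (((Category.comp_id _).symm.trans (over_w a)).trans
      ((over_w b).symm.trans (Category.comp_id _)))
  have : E.toFunctor.Faithful := ⟨fun h => Over.OverMorphism.ext h⟩
  have : E.toFunctor.Full := ⟨fun {a b} g => ⟨Over.homMk g (hu _ _), rfl⟩⟩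
  have hE : IsEquivOver E := isEquivOver_mk _ fun (T : Over S) =>
    ⟨Over.mk (Over.homMk T.hom (Category.comp_id _) : T ⟶ T₀), Iso.refl _, Vert.id _⟩
  let h : U ⟶ T₀ := Over.homMk U.hom (Category.comp_id _)
  have haff : AlgSp.IsAffineMor ((AlgSp.yon S).map h) := by
    intro Z hZ g
    obtain ⟨g', rfl⟩ := (AlgSp.yon S).map_surjective g
    refine ⟨pullback h g', pullback.snd h g', (AlgSp.yon S).map (pullback.fst h g'),
      (IsPullback.of_hasPullback h g').map _, ?_⟩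
    have : IsAffineHom h.left := by
      change IsAffineHom U.hom
      infer_instance
    have : IsAffineHom (pullback.snd h g').left :=
      MorphismProperty.of_isPullback ((IsPullback.of_hasPullback h g').map (Over.forget S)) ‹_›
    exact isAffine_of_isAffineHom (pullback.snd h g').left
  have h1 : AlgSt.RepByAlgSpWith AlgSp.IsAffineMor (AlgSt.overMap h) :=
    (repByAlgSpWith_iff_of_equiv _ (AlgSt.toOverCat U) (AlgSt.toOverCat T₀)
      (toOverCat_isEquivOver U) (toOverCat_isEquivOver T₀) (toOverCatIso h)).2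
      (repByAlgSpWith_ofSpMap good_affine.bc (isAlgSpace_yon U) (isAlgSpace_yon T₀) _ haff)
  obtain ⟨d, hd, ⟨q⟩, -⟩ := isEquivOver_symm hE
  exact (repByAlgSpWith_iff_of_equiv _ (BasedFunctor.id _) d (isEquivOver_id _) hd
    (f := AlgSt.overMap h) (f' := toSelf (overCat U)) (isoWhiskerLeft (AlgSt.overMap h) q)).1 h1

theorem exists_self_iso {U : Over S} (x : overCat U ⥤ᵇ 𝒳) :
    Nonempty (toSelf (overCat U) ≅ BasedFunctor.comp x (toSelf 𝒳)) := by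
  obtain ⟨j⟩ := exists_iso_toSelf (BasedFunctor.comp x (toSelf 𝒳))
  exact ⟨j.symm⟩

theorem isFibGrpd_selfOver : IsFibGrpd (selfOver (C := Over S)).p := by
  obtain ⟨F, e, he⟩ := repByAlgSp_selfOver (S := S)
  exact isFibGrpd_of_isEquivOver he (Stk.isFibGrpd_ofPsh _)

/-- Affine schemes map quasi-affinely to a stack with quasi-affine diagonal over an affine base. -/
theorem rep_quasiAffine_of_diag [IsAffine S] (hg : IsFibGrpd 𝒳.p)
    (hd : AlgSt.RepByAlgSpWith AlgSp.IsQuasiAffineMor (diag (toSelf 𝒳))) {V : Over S} [IsAffine V.left]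
    (x : overCat V ⥤ᵇ 𝒳) : AlgSt.RepByAlgSpWith AlgSp.IsQuasiAffineMor x := by
  refine repByAlgSpWith_of_fpFst fun U y => ?_
  let t := toSelf 𝒳
  have hcart := comp_cart y x t (isoWhiskerRight (fpIso y x) t) fun _ => rfl
  have hu := repByAlgSpWith_of_cart _ _ _ _ hcart hd
  obtain ⟨j⟩ := exists_self_iso x
  have hq : AlgSt.RepByAlgSpWith AlgSp.IsAffineMor
      (fpFst (BasedFunctor.comp y t) (BasedFunctor.comp x t)) :=
    repByAlgSpWith_fpFst _ _ (repByAlgSpWith_of_iso _ j (rep_affine_toSelf_overCat V))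
  exact repByAlgSpWith_comp_mixed stableBC_quasiAffine detected_quasiAffine
    (fun _ _ _ a b => mem_comp_affine a b) (isFibGrpd_fp (isFibGrpd_overCat U) (isFibGrpd_overCat V) hg y x)
    (isFibGrpd_fp (isFibGrpd_overCat U) (isFibGrpd_overCat V) isFibGrpd_selfOver _ _) hu hq

/-- Locality on the base, tested pointwise with varying test morphisms. -/
theorem repByAlgSpWith_of_pointwise_lift {P : MorphismProperty (AlgSp.Sp S)} (hPb : StableBC P)
    (hP : AlgSp.IsLocalOnBase AlgSp.IsFppfCover P) {f : 𝒳 ⥤ᵇ 𝒴} (hf : AlgSt.RepByAlgSp1 f)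
    (h : ∀ (U : Over S) (y : overCat U ⥤ᵇ 𝒴) (x : U.left), ∃ (V : Over S) (l : V ⟶ U),
      Flat l.left ∧ LocallyOfFinitePresentation l.left ∧ x ∈ Set.range l.left ∧
      ∃ (𝒵 : AlgSt.Cat S) (g : 𝒵 ⥤ᵇ 𝒴) (z : overCat V ⥤ᵇ 𝒵),
        Nonempty (BasedFunctor.comp z g ≅ BasedFunctor.comp (AlgSt.overMap l) y) ∧
          AlgSt.RepByAlgSpWith P (fpFst g f)) :
    AlgSt.RepByAlgSpWith P f := by
  intro U y
  obtain ⟨A, e, he⟩ := hf U y
  refine ⟨A, e, he, ?_⟩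
  choose V l hfl hfp hx hz using h U y
  have hdet := detected_of_isLocalOnBase hP
  refine (hP (fun x => (AlgSp.yon S).obj (V x)) (fun x => (AlgSp.yon S).map (l x)) (isAlgSpace_yon U)
    (fun x => isAlgSpace_yon _) ⟨fun x => ⟨?_, ?_⟩, fun t => ?_⟩ _ A.property
    (fun x => pullback _ ((AlgSp.yon S).map (l x)))
    (fun x => pullback.snd _ _) (fun x => pullback.fst _ _)
    (fun x => Groth.Agent.AlgSp.isAlgSpace_pullback (isAlgSpace_yon U) A.property (isAlgSpace_yon _) _ _)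
    (fun x => IsPullback.of_hasPullback _ _)).2 fun x => ?_
  · exact Groth.Agent.AlgSpCov.locP_of_repWith Groth.Agent.AlgSpCov.etaleLocal_flat
      ((AlgSp.repWith_yon_map_iff _ _).2 (hfl x))
  · exact Groth.Agent.AlgSpCov.locP_of_repWith
      Groth.Agent.AlgSpCov.etaleLocal_locallyOfFinitePresentation
      ((AlgSp.repWith_yon_map_iff _ _).2 (hfp x))
  · obtain ⟨x, rfl⟩ := (AlgSp.Points.schemeHomeo U).surjective t
    obtain ⟨w, hw⟩ := hx x
    exact ⟨x, AlgSp.Points.schemeHomeo (V x) w, by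
      rw [AlgSp.Points.map_yon_map_apply]
      exact congrArg _ hw⟩
  · obtain ⟨𝒵', g, z, ⟨iz⟩, hg⟩ := hz x
    exact mem_pullback_of_lift hPb hdet hg A e he (l x) z iz

theorem vert_selfOver_eq {a b : (selfOver (C := Over S)).obj} {f g : a ⟶ b} (hf : Vert f) (hg : Vert g) :
    f = g := by
  obtain ⟨e, h1⟩ := hf
  obtain ⟨e', h2⟩ := hg
  exact h1.trans h2.symm

/-- Functors into `𝒳 ×_S 𝒳` are isomorphic as soon as their two components are. -/
theorem exists_iso_fp_toSelf {𝒜 : AlgSt.Cat S} (F G : 𝒜 ⥤ᵇ fp (toSelf 𝒳) (toSelf 𝒳))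
    (i₁ : BasedFunctor.comp F (fpFst _ _) ≅ BasedFunctor.comp G (fpFst _ _))
    (i₂ : BasedFunctor.comp F (fpSnd _ _) ≅ BasedFunctor.comp G (fpSnd _ _)) : Nonempty (F ≅ G) :=
  ⟨isoMk (F := F) (G := G)
    (fun a => fpIsoMk (isoApp i₁ a) (isoApp i₂ a)
      (vert_selfOver_eq (((vert_isoApp i₁ a).map (toSelf 𝒳)).comp (vert_of_isHomLift (G.obj a).property))
        ((vert_of_isHomLift (F.obj a).property).comp ((vert_isoApp i₂ a).map (toSelf 𝒳)))))
    (fun a => vert_fp_iff.2 (vert_isoApp i₁ a))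
    (fun {a b} φ => fp_hom_ext (isoApp_naturality i₁ φ) (isoApp_naturality i₂ φ))⟩

/-- The diagonal is quasi-affine when a smooth chart has quasi-affine restrictions to affine opens. -/
theorem diag_quasiAffine_of_chart [IsAffine S] (hg : IsFibGrpd 𝒳.p)
    (hd : AlgSt.RepByAlgSp1 (diag (toSelf 𝒳))) {U : Over S} {x : overCat U ⥤ᵇ 𝒳}
    (h1 : AlgSt.RepByAlgSpWith (AlgSp.LocP @Flat) x)
    (h2 : AlgSt.RepByAlgSpWith (AlgSp.LocP @LocallyOfFinitePresentation) x)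
    (hxs : AlgSt.RepByAlgSpWith AlgSp.IsSurjectiveMor x)
    (h3 : ∀ (V : U.left.Opens), IsAffineOpen V → AlgSt.RepByAlgSpWith AlgSp.IsQuasiAffineMor
      (BasedFunctor.comp (AlgSt.overMap (Over.homMk V.ι rfl : Over.mk (V.ι ≫ U.hom) ⟶ U)) x)) :
    AlgSt.RepByAlgSpWith AlgSp.IsQuasiAffineMor (diag (toSelf 𝒳)) := by
  let t := toSelf 𝒳
  refine repByAlgSpWith_of_pointwise_lift stableBC_quasiAffine
    (fppfLocal_of_fpqc (Groth.Agent.S10537.result S)) hd fun T y pt => ?_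
  have hfg : IsFibGrpd (fp (BasedFunctor.comp x t) (BasedFunctor.comp x t)).p :=
    isFibGrpd_fp (isFibGrpd_overCat U) (isFibGrpd_overCat U) isFibGrpd_selfOver _ _
  obtain ⟨R, hR, hlift⟩ := exists_locally_lift hfg (isFibGrpd_fp hg hg isFibGrpd_selfOver t t)
    (repByAlgSpWith_compPhi _ (good_locP Groth.Agent.AlgSpCov.standard_flat) hg h1)
    (repByAlgSpWith_compPhi _ (good_locP Groth.Agent.AlgSpCov.standard_locallyOfFinitePresentation) hg h2)
    (repByAlgSpWith_compPhi _ good_surjective hg hxs) T y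
  obtain ⟨R₀, hR₀, hsub⟩ := Groth.Agent.AlgSp.exists_cover_of_mem hR
  obtain ⟨ι, W₀, c, rfl⟩ := R₀.exists_eq_ofArrows
  obtain ⟨hs, hc⟩ := (Scheme.ofArrows_mem_precoverage_iff _).1 hR₀
  obtain ⟨i, w, hw⟩ := hs pt
  let W : Over S := Over.mk (c i ≫ T.hom)
  let h₀ : W ⟶ T := Over.homMk (c i) rfl
  obtain ⟨z, ⟨iz⟩⟩ := hlift h₀ (hsub (c i) (Presieve.ofArrows.mk _))
  obtain ⟨a₁, ⟨ia₁⟩⟩ := exists_iso_overMap (BasedFunctor.comp z (fpFst _ _))
  obtain ⟨a₂, ⟨ia₂⟩⟩ := exists_iso_overMap (BasedFunctor.comp z (fpSnd _ _))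
  obtain ⟨V₁, hV₁, hw₁, -⟩ := exists_isAffineOpen_mem_and_subset (x := a₁.left w) (U := (⊤ : U.left.Opens)) trivial
  obtain ⟨V₂, hV₂, hw₂, -⟩ := exists_isAffineOpen_mem_and_subset (x := a₂.left w) (U := (⊤ : U.left.Opens)) trivial
  let O : W.left.Opens := a₁.left ⁻¹ᵁ V₁ ⊓ a₂.left ⁻¹ᵁ V₂
  let W' : Over S := Over.mk (O.ι ≫ W.hom)
  let k : W' ⟶ W := Over.homMk O.ι rfl
  let U₁ : Over S := Over.mk (V₁.ι ≫ U.hom)
  let U₂ : Over S := Over.mk (V₂.ι ≫ U.hom)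
  let l₁ : U₁ ⟶ U := Over.homMk V₁.ι rfl
  let l₂ : U₂ ⟶ U := Over.homMk V₂.ι rfl
  have hb₁ : Set.range (k ≫ a₁).left ⊆ Set.range V₁.ι := by
    rintro _ ⟨q, rfl⟩
    rw [Scheme.Opens.range_ι]
    exact (Subtype.prop q : (q.1 : W.left) ∈ O).1
  have hb₂ : Set.range (k ≫ a₂).left ⊆ Set.range V₂.ι := by
    rintro _ ⟨q, rfl⟩
    rw [Scheme.Opens.range_ι]
    exact (Subtype.prop q : (q.1 : W.left) ∈ O).2
  let b₁ : W' ⟶ U₁ := Over.homMk (IsOpenImmersion.lift V₁.ι (k ≫ a₁).left hb₁) (by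
    change IsOpenImmersion.lift V₁.ι (k ≫ a₁).left hb₁ ≫ V₁.ι ≫ U.hom = _
    rw [IsOpenImmersion.lift_fac_assoc]
    exact Over.w (k ≫ a₁))
  let b₂ : W' ⟶ U₂ := Over.homMk (IsOpenImmersion.lift V₂.ι (k ≫ a₂).left hb₂) (by
    change IsOpenImmersion.lift V₂.ι (k ≫ a₂).left hb₂ ≫ V₂.ι ≫ U.hom = _
    rw [IsOpenImmersion.lift_fac_assoc]
    exact Over.w (k ≫ a₂))
  have e₁ : b₁ ≫ l₁ = k ≫ a₁ := Over.OverMorphism.ext (IsOpenImmersion.lift_fac _ _ hb₁)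
  have e₂ : b₂ ≫ l₂ = k ≫ a₂ := Over.OverMorphism.ext (IsOpenImmersion.lift_fac _ _ hb₂)
  let x₁ := BasedFunctor.comp (AlgSt.overMap l₁) x
  let x₂ := BasedFunctor.comp (AlgSt.overMap l₂) x
  obtain ⟨j₁⟩ := exists_iso_toSelf (BasedFunctor.comp (AlgSt.overMap b₁) (BasedFunctor.comp x₁ t))
  obtain ⟨j₂⟩ := exists_iso_toSelf (BasedFunctor.comp (AlgSt.overMap b₂) (BasedFunctor.comp x₂ t))
  let z' : overCat W' ⥤ᵇ fp (BasedFunctor.comp x₁ t) (BasedFunctor.comp x₂ t) :=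
    fpLift (AlgSt.overMap b₁) (AlgSt.overMap b₂) (j₁ ≪≫ j₂.symm)
  have : Flat (k ≫ h₀).left := by
    have : Flat (c i) := (hc i).1
    exact inferInstanceAs (Flat (O.ι ≫ c i))
  have : LocallyOfFinitePresentation (k ≫ h₀).left := by
    have : LocallyOfFinitePresentation (c i) := (hc i).2
    exact inferInstanceAs (LocallyOfFinitePresentation (O.ι ≫ c i))
  refine ⟨W', k ≫ h₀, ‹_›, ‹_›, ⟨⟨w, hw₁, hw₂⟩, hw⟩, _, compPhi x₁ x₂ t, z',
    exists_iso_fp_toSelf _ _ ?_ ?_, ?_⟩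
  · have e3 : AlgSt.overMap (b₁ ≫ l₁) ≅ AlgSt.overMap (k ≫ a₁) := eqToIso (by rw [e₁])
    exact isoWhiskerRight ((overMapCompIso b₁ l₁).symm ≪≫ e3 ≪≫ overMapCompIso k a₁) x ≪≫
      isoWhiskerLeft (AlgSt.overMap k) (isoWhiskerRight ia₁.symm x) ≪≫
      isoWhiskerLeft (AlgSt.overMap k) (isoWhiskerRight iz (fpFst t t)) ≪≫
      isoWhiskerRight (overMapCompIso k h₀).symm (BasedFunctor.comp y (fpFst t t))
  · have e3 : AlgSt.overMap (b₂ ≫ l₂) ≅ AlgSt.overMap (k ≫ a₂) := eqToIso (by rw [e₂])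
    exact isoWhiskerRight ((overMapCompIso b₂ l₂).symm ≪≫ e3 ≪≫ overMapCompIso k a₂) x ≪≫
      isoWhiskerLeft (AlgSt.overMap k) (isoWhiskerRight ia₂.symm x) ≪≫
      isoWhiskerLeft (AlgSt.overMap k) (isoWhiskerRight iz (fpSnd t t)) ≪≫
      isoWhiskerRight (overMapCompIso k h₀).symm (BasedFunctor.comp y (fpSnd t t))
  · have : IsAffine U₁.left := hV₁
    have : IsAffine U₂.left := hV₂
    let u : fp x₁ x₂ ⥤ᵇ fp (BasedFunctor.comp x₁ t) (BasedFunctor.comp x₂ t) :=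
      fpLift (fpFst x₁ x₂) (fpSnd x₁ x₂) (isoWhiskerRight (fpIso x₁ x₂) t)
    have hcart := comp_cart x₁ x₂ t (isoWhiskerRight (fpIso x₁ x₂) t) fun _ => rfl
    refine (repByAlgSpWith_iff_of_equiv _ _ (BasedFunctor.id _) hcart (isEquivOver_id _)
      (f := fpFst (compPhi x₁ x₂ t) (diag t))
      (f' := u) (Iso.refl _)).2 ?_
    obtain ⟨j⟩ := exists_self_iso x₂
    refine repByAlgSpWith_cancel (Q := AlgSp.IsSeparatedMor) stableBC_quasiAffine
      (fun A B C hA hB hC a b hb hab => mem_of_comp hA hB hC a b hb hab)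
      (q := fpFst (BasedFunctor.comp x₁ t) (BasedFunctor.comp x₂ t))
      (repByAlgSpWith_fpFst _ _ (repByAlgSpWith_of_iso _ j
        (rep_separated_toSelf_overCat U₂ inferInstance))) ?_
    exact repByAlgSpWith_fpFst _ x₁ (h3 V₂ hV₂)

end Groth.Agent.StFib.QAffChart
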