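import Groth.Agent.StFib.OpenLocus

/-!
Open loci cut out open substacks: the version for categories over `(Sch/S)` in any universes.
-/

set_option autoImplicit false
set_option backward.isDefEq.respectTransparency false
set_option backward.isDefEq.respectTransparency.types false
set_option linter.unusedVariables false

universe w₁ t₁ u

open CategoryTheory CategoryTheory.Limits AlgebraicGeometry Opposite FibCat

namespace Groth.Agent.StFibU

open Groth.Agent.StFib hiding subLift fullSubFaithful fullSubFull isFibGrpd_fullSub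

variable {S : Scheme.{u}} {𝒳 : BasedCategory.{w₁, t₁} (Over S)}

local notation "K" => Scheme.fppfPrecoverage

instance fullSubFaithful (Q : 𝒳.obj → Prop) : (AlgSt.subIncl 𝒳 Q).toFunctor.Faithful :=
  inferInstanceAs (ObjectProperty.ι Q).Faithful

instance fullSubFull (Q : 𝒳.obj → Prop) : (AlgSt.subIncl 𝒳 Q).toFunctor.Full :=
  inferInstanceAs (ObjectProperty.ι Q).Full

theorem isFibGrpd_fullSub (h𝒳 : IsFibGrpd 𝒳.p) (Q : 𝒳.obj → Prop)
    (hQ : ∀ {x y : 𝒳.obj}, (y ⟶ x) → Q x → Q y) : IsFibGrpd (AlgSt.fullSub 𝒳 Q).p := by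
  refine isFibGrpd_of_fullyFaithful (AlgSt.subIncl 𝒳 Q) h𝒳 fun x {V} f => ?_
  obtain ⟨y, φ, hφ⟩ := h𝒳.exists_lift (x := x.obj) f
  refine ⟨⟨y, hQ φ x.property⟩, ObjectProperty.homMk φ, ?_⟩
  exact (BasedFunctor.isHomLift_iff (AlgSt.subIncl 𝒳 Q) f _).1 hφ

/-- A functor with values in the objects of a full subcategory. -/
def subLift {𝒲 : BasedCategory.{u, u + 1} (Over S)} {Q : 𝒳.obj → Prop} (F : 𝒲 ⥤ᵇ 𝒳)
    (hF : ∀ w, Q (F.obj w)) : 𝒲 ⥤ᵇ AlgSt.fullSub 𝒳 Q where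
  toFunctor := ObjectProperty.lift Q F.toFunctor hF
  w := F.w

/-- The pullback of the substack along a chart is the open subscheme of the chart. -/
theorem exists_equiv_fp_subIncl (Q : 𝒳.obj → Prop) (hQ : ∀ {x y : 𝒳.obj}, (y ⟶ x) → Q x → Q y)
    {U : Over S} (y : overCat U ⥤ᵇ 𝒳) (V : U.left.Opens)
    (hV : ∀ g : (overCat U).obj, Q (y.obj g) ↔ Set.range g.hom.left ⊆ (V : Set U.left)) :
    ∃ (V' : Over S) (j : V' ⟶ U) (E : overCat V' ⥤ᵇ fp y (AlgSt.subIncl 𝒳 Q)),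
      IsEquivOver E ∧ IsOpenImmersion j.left ∧
        Nonempty (BasedFunctor.comp E (fpFst y (AlgSt.subIncl 𝒳 Q)) ≅ AlgSt.overMap j) := by
  let V' : Over S := Over.mk (V.ι ≫ U.hom)
  let j : V' ⟶ U := Over.homMk V.ι rfl
  have hjQ : ∀ w : (overCat V').obj, Q ((BasedFunctor.comp (AlgSt.overMap j) y).obj w) := fun w => by
    refine (hV _).2 ?_
    rintro _ ⟨t, rfl⟩
    exact (w.hom.left t).2
  let L : overCat V' ⥤ᵇ AlgSt.fullSub 𝒳 Q := subLift (BasedFunctor.comp (AlgSt.overMap j) y) hjQ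
  let E : overCat V' ⥤ᵇ fp y (AlgSt.subIncl 𝒳 Q) := fpLift (AlgSt.overMap j) L (Iso.refl _)
  have hmono : Mono j := ⟨fun a b h => Over.OverMorphism.ext
    ((cancel_mono V.ι).1 (congrArg (fun k : _ ⟶ U => k.left) h))⟩
  have hjfull : ∀ {w w' : (overCat V').obj} (a : (AlgSt.overMap j).obj w ⟶ (AlgSt.overMap j).obj w'),
      ∃ φ : w ⟶ w', (AlgSt.overMap j).map φ = a := fun {w w'} a =>
    ⟨Over.homMk a.left ((cancel_mono j).1 (by
      rw [Category.assoc]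
      exact over_w a)), Over.OverMorphism.ext rfl⟩
  have : E.toFunctor.Faithful := ⟨fun {w w'} φ ψ h => Over.OverMorphism.ext
    (congrArg (fun k => Over.Hom.left k.hom.fst) h)⟩
  have : E.toFunctor.Full := ⟨fun {w w'} k => by
    obtain ⟨φ, hφ⟩ := hjfull k.hom.fst
    refine ⟨φ, fp_hom_ext hφ ?_⟩
    apply (AlgSt.subIncl 𝒳 Q).toFunctor.map_injective
    have hw : y.map k.hom.fst ≫ 𝟙 _ = 𝟙 _ ≫ (AlgSt.subIncl 𝒳 Q).map k.hom.snd := k.hom.w
    rw [Category.comp_id, Category.id_comp] at hw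
    rw [← hw, ← hφ]
    rfl⟩
  have hE : IsEquivOver E := isEquivOver_mk _ fun z => by
    have hQz : Q (y.obj z.obj.fst) := hQ z.obj.iso.hom z.obj.snd.property
    have hr : Set.range z.obj.fst.hom.left ⊆ (V : Set U.left) := (hV _).1 hQz
    let k : z.obj.fst.left ⟶ V' := Over.homMk (IsOpenImmersion.lift V.ι z.obj.fst.hom.left
      (hr.trans V.range_ι.symm.subset)) (by
        change _ ≫ V.ι ≫ U.hom = _
        rw [IsOpenImmersion.lift_fac_assoc]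
        exact Over.w z.obj.fst.hom)
    have hk : k ≫ j = z.obj.fst.hom := Over.OverMorphism.ext (IsOpenImmersion.lift_fac _ _ _)
    let u : (AlgSt.overMap j).obj (Over.mk k) ≅ z.obj.fst := Over.isoMk (Iso.refl _) (by
      change 𝟙 _ ≫ z.obj.fst.hom = k ≫ j
      rw [hk, Category.id_comp])
    refine ⟨Over.mk k, fpIsoMk u (ObjectProperty.isoMk Q (y.toFunctor.mapIso u ≪≫
      ⟨z.obj.iso.hom, z.obj.iso.inv, z.obj.iso.hom_inv_id, z.obj.iso.inv_hom_id⟩)) ?_, ?_⟩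
    · change y.map u.hom ≫ z.obj.iso.hom = 𝟙 _ ≫ (y.map u.hom ≫ z.obj.iso.hom)
      rw [Category.id_comp]
    · exact vert_fp_iff.2 ⟨rfl, rfl⟩
  exact ⟨V', j, E, hE, inferInstanceAs (IsOpenImmersion V.ι), ⟨Iso.refl _⟩⟩

theorem isOpenImm_subIncl (Q : 𝒳.obj → Prop)
    (hQ : ∀ {x y : 𝒳.obj}, (y ⟶ x) → Q x → Q y)
    (hloc : ∀ (U : Over S) (y : overCat U ⥤ᵇ 𝒳), ∃ V : U.left.Opens, ∀ g : (overCat U).obj,
      Q (y.obj g) ↔ Set.range g.hom.left ⊆ (V : Set U.left)) :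
    AlgSt.IsOpenImm (AlgSt.subIncl 𝒳 Q) := by
  intro U y
  obtain ⟨V, hV⟩ := hloc U y
  obtain ⟨V', j, E, hE, hP, ⟨i⟩⟩ := exists_equiv_fp_subIncl Q hQ y V hV
  refine ⟨(AlgSp.ofScheme S).obj V', BasedFunctor.comp (AlgSt.toOverCat V') E,
    isEquivOver_comp (toOverCat_isEquivOver V') hE, ?_⟩
  have he : AlgSt.spMapOfOver (BasedFunctor.comp (BasedFunctor.comp (AlgSt.toOverCat V') E)
      (fpFst y (AlgSt.subIncl 𝒳 Q))) = (AlgSp.yon S).map j :=
    (spMapOfOver_congr (isoWhiskerLeft (AlgSt.toOverCat V') i ≪≫ (toOverCatIso j).symm)).trans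
      (spMapOfOver_ofSpMap_toOverCat ((AlgSp.yon S).map j))
  rw [he]
  exact (AlgSp.repWith_yon_map_iff _ _).2 hP

theorem diag_fullSub (Q : 𝒳.obj → Prop) (hQ : ∀ {x y : 𝒳.obj}, (y ⟶ x) → Q x → Q y)
    (hd : AlgSt.RepByAlgSp1 (diag (toSelf 𝒳))) :
    AlgSt.RepByAlgSp1 (diag (toSelf (AlgSt.fullSub 𝒳 Q))) := by
  intro U z
  let j := AlgSt.subIncl 𝒳 Q
  let M : fp (toSelf (AlgSt.fullSub 𝒳 Q)) (toSelf (AlgSt.fullSub 𝒳 Q)) ⥤ᵇ
      fp (toSelf 𝒳) (toSelf 𝒳) :=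
    fpMap j j (BasedFunctor.id (selfOver (C := Over S))) (Iso.refl _) (Iso.refl _)
  have : (BasedFunctor.id (selfOver (C := Over S))).toFunctor.Faithful :=
    inferInstanceAs (𝟭 _).Faithful
  have : M.toFunctor.Faithful := fpMap_faithful _ _ _ _ _
  have : M.toFunctor.Full := fpMap_full _ _ _ _ _
  let eG : BasedFunctor.comp j (diag (toSelf 𝒳)) ≅
      BasedFunctor.comp (diag (toSelf (AlgSt.fullSub 𝒳 Q))) M :=
    isoMk (fun x => fpIsoMk (Iso.refl _) (Iso.refl _) (by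
        change (toSelf 𝒳).map (𝟙 _) ≫ _ = _ ≫ (toSelf 𝒳).map (𝟙 _)
        simp
        rfl))
      (fun x => Vert.id _)
      (fun φ => fp_hom_ext ((Category.comp_id _).trans (Category.id_comp _).symm)
        ((Category.comp_id _).trans (Category.id_comp _).symm))
  let E : fp z (diag (toSelf (AlgSt.fullSub 𝒳 Q))) ⥤ᵇ fp (BasedFunctor.comp z M) (diag (toSelf 𝒳)) :=
    fpMap (BasedFunctor.id (overCat U)) j M (Iso.refl _) eG
  have : (BasedFunctor.id (overCat U)).toFunctor.Full := inferInstanceAs (𝟭 _).Full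
  have : (BasedFunctor.id (overCat U)).toFunctor.Faithful := inferInstanceAs (𝟭 _).Faithful
  have : E.toFunctor.Faithful := fpMap_faithful _ _ _ _ _
  have : E.toFunctor.Full := fpMap_full _ _ _ _ _
  refine (repByAlgSp_iff_of_equiv (isEquivOver_mk E fun w => ?_)).2 (hd U (BasedFunctor.comp z M))
  have ha : Q w.obj.snd := hQ (fpIsoFst w.obj.iso).inv (z.obj w.obj.fst).obj.fst.property
  let x₂ : (AlgSt.fullSub 𝒳 Q).obj := ⟨w.obj.snd, ha⟩
  let i := M.toFunctor.preimageIso (w.obj.iso ≪≫ isoApp eG x₂)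
  have hi : M.map i.hom = w.obj.iso.hom ≫ (isoApp eG x₂).hom := by
    change M.toFunctor.map (M.toFunctor.preimageIso _).hom = _
    simp
  refine ⟨fpMk w.obj.fst x₂ i (Vert.of_map M ?_), fpIsoMk (Iso.refl _) (Iso.refl _) ?_, Vert.id _⟩
  · rw [hi]
    exact (vert_fp_iso w).comp (vert_isoApp eG x₂)
  · rw [fpMap_iso_hom]
    change (BasedFunctor.comp z M).map (𝟙 _) ≫ w.obj.iso.hom =
      (𝟙 _ ≫ M.map i.hom ≫ (isoApp eG x₂).inv) ≫ (diag (toSelf 𝒳)).map (𝟙 _)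
    rw [hi]
    simp
    exact ((congrArg (w.obj.iso.hom ≫ ·)
      ((isoApp eG x₂).hom_inv_id_assoc (𝟙 _))).trans (Category.comp_id _)).symm

/-- A predicate closed under pullback whose locus on every chart is open cuts out an open substack. -/
theorem isOpenSubstack_of_openLoci (h𝒳 : AlgSt.IsAlgStack K 𝒳) (Q : 𝒳.obj → Prop)
    (hQ : ∀ {x y : 𝒳.obj}, (y ⟶ x) → Q x → Q y)
    (hloc : ∀ (U : Over S) (y : overCat U ⥤ᵇ 𝒳), ∃ V : U.left.Opens, ∀ g : (overCat U).obj,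
      Q (y.obj g) ↔ Set.range g.hom.left ⊆ (V : Set U.left)) :
    AlgSt.IsOpenSubstack 𝒳 Q K := by
  refine ⟨⟨fun e h => hQ e.inv h⟩, ⟨⟨isFibGrpd_fullSub h𝒳.isStack.1 Q hQ, fun U R hR => ?_⟩,
    diag_fullSub Q hQ h𝒳.diag, ?_⟩, isOpenImm_subIncl Q hQ hloc⟩
  · refine isStackFor_of_fibres R (AlgSt.subIncl 𝒳 Q) h𝒳.isStack.1 (h𝒳.isStack.2 R hR) fun y => ?_
    obtain ⟨V, hV⟩ := hloc U y
    obtain ⟨V', j, E, hE, -, -⟩ := exists_equiv_fp_subIncl Q hQ y V hV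
    exact ((isStack_iff_of_isEquivOver _ hE).1
      (isDM_of_repByAlgSp (repByAlgSp_overCat V')).1.isStack).2 R hR
  · obtain ⟨W, x, hx, hxs⟩ := h𝒳.atlas
    obtain ⟨V, hV⟩ := hloc W x
    obtain ⟨V', j, E, hE, -, -⟩ := exists_equiv_fp_subIncl Q hQ x V hV
    exact ⟨V', BasedFunctor.comp E (fpSnd x (AlgSt.subIncl 𝒳 Q)),
      (repByAlgSpWith_iff_of_equiv _ (f := fpSnd x (AlgSt.subIncl 𝒳 Q))
        (f' := BasedFunctor.comp E (fpSnd x (AlgSt.subIncl 𝒳 Q))) E (BasedFunctor.id _) hE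
        (isEquivOver_id _) (Iso.refl _)).1
        (repByAlgSpWith_fpSnd _ x hx),
      (repByAlgSpWith_iff_of_equiv _ (f := fpSnd x (AlgSt.subIncl 𝒳 Q))
        (f' := BasedFunctor.comp E (fpSnd x (AlgSt.subIncl 𝒳 Q))) E (BasedFunctor.id _) hE
        (isEquivOver_id _) (Iso.refl _)).1
        (repByAlgSpWith_fpSnd _ x hxs)⟩

end Groth.Agent.StFibU
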