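import Groth.Agent.StFib.SmoothLocus
import Groth.Agent.GrpdLib.FppfSourceDescentScheme
import Groth.Agent.S2155

/-!
The smooth locus of a morphism of algebraic stacks under flat base change.
-/

set_option backward.isDefEq.respectTransparency false
set_option backward.isDefEq.respectTransparency.types false
set_option linter.unusedVariables false

universe u

open CategoryTheory CategoryTheory.Limits AlgebraicGeometry Opposite FibCat TopologicalSpace Topology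

namespace Groth.Agent.StFib

theorem smooth_smoothLocus_ι {A B : Scheme.{u}} (f : A ⟶ B) [LocallyOfFinitePresentation f] :
    Smooth (f.smoothLocus.ι ≫ f) := by
  rw [← Scheme.Hom.smoothLocus_eq_top_iff, ← Scheme.Hom.preimage_smoothLocus_eq]
  exact Opens.ext (Set.eq_univ_of_forall fun a => a.2)

theorem le_smoothLocus {A B : Scheme.{u}} (f : A ⟶ B) [LocallyOfFinitePresentation f] (O : A.Opens)
    [Smooth (O.ι ≫ f)] : O ≤ f.smoothLocus := fun t ht => by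
  have h : (⟨t, ht⟩ : O) ∈ (O.ι ≫ f).smoothLocus := by rw [Scheme.Hom.smoothLocus_eq_top]; trivial
  rw [← Scheme.Hom.preimage_smoothLocus_eq] at h
  exact h

/-- Smoothness on an open set descends along a flat base change of finite presentation type. -/
theorem exists_smooth_nhd_of_flat_baseChange {U V W Z : Scheme.{u}} {a : W ⟶ V} {h : U ⟶ V} {p : Z ⟶ W}
    {q : Z ⟶ U} (sq : IsPullback q p h a) [Flat a] (O : Z.Opens) (hO : Smooth (O.ι ≫ p))
    (hfp : LocallyOfFinitePresentation a ∨ LocallyOfFinitePresentation h) (t : Z) (ht : t ∈ O) :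
    ∃ E : U.Opens, q t ∈ E ∧ Smooth (E.ι ≫ h) := by
  have key : ∀ {U Z : Scheme.{u}} {h : U ⟶ V} {p : Z ⟶ W} {q : Z ⟶ U}, IsPullback q p h a →
      LocallyOfFinitePresentation h → ∀ O : Z.Opens, Smooth (O.ι ≫ p) → ∀ t ∈ O,
        ∃ E : U.Opens, q t ∈ E ∧ Smooth (E.ι ≫ h) := by
    intro U Z h p q sq hh O hO t ht
    have := hh
    have hp : LocallyOfFinitePresentation p := MorphismProperty.of_isPullback sq hh
    refine ⟨h.smoothLocus, ?_, smooth_smoothLocus_ι h⟩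
    have := le_smoothLocus p O ht
    rw [Groth.Agent.S2155.result h a p q sq (Or.inr inferInstance)] at this
    exact this
  rcases hfp with hfa | hfh
  swap
  · exact key sq hfh O hO t ht
  have hq₁ : Flat q := MorphismProperty.of_isPullback sq.flip (inferInstance : Flat a)
  have hq₂ : LocallyOfFinitePresentation q := MorphismProperty.of_isPullback sq.flip hfa
  let r := O.ι ≫ q
  let E : U.Opens := ⟨Set.range r, r.isOpenMap.isOpen_range⟩
  have : Surjective (r ∣_ E) := ⟨fun e => by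
    obtain ⟨o, ho⟩ : e.1 ∈ Set.range r := e.2
    exact ⟨⟨o, show r o ∈ E from ho ▸ e.2⟩, Subtype.ext ((morphismRestrict_base_coe r E _).trans ho)⟩⟩
  have : LocallyOfFinitePresentation ((r ∣_ E) ≫ E.ι ≫ h) := by
    rw [← Category.assoc, morphismRestrict_ι, Category.assoc, Category.assoc, sq.w,
      ← Category.assoc O.ι]
    infer_instance
  have hEh := Groth.Agent.GrpdLib.FppfSourceDescent.locallyOfFinitePresentation_of_comp_fppf (r ∣_ E) (E.ι ≫ h)
  have sqE := (isPullback_morphismRestrict q E).paste_vert sq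
  have hO' : Smooth (((q ⁻¹ᵁ E).ι ⁻¹ᵁ O).ι ≫ (q ⁻¹ᵁ E).ι ≫ p) := by
    rw [← Category.assoc, ← morphismRestrict_ι, Category.assoc]
    infer_instance
  have htE : t ∈ q ⁻¹ᵁ E := ⟨⟨t, ht⟩, rfl⟩
  obtain ⟨E', hE', hs⟩ := key sqE hEh _ hO' ⟨t, htE⟩ ht
  refine ⟨E.ι ''ᵁ E', ⟨_, hE', morphismRestrict_base_coe q E _⟩, ?_⟩
  rw [← MorphismProperty.cancel_left_of_respectsIso @Smooth (E.ι.isoImage E').hom,
    Scheme.Hom.isoImage_hom_ι_assoc]
  exact hs

variable {S : Scheme.{u}} {𝒳 𝒴 𝒵 : AlgSt.Cat S}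

local notation "K" => Scheme.fppfPrecoverage

/-- The chart of a base change built from smooth squares of the two maps. -/
theorem exists_fp_chart_square (h𝒳 : AlgSt.IsAlgStack K 𝒳)
    (h𝒴 : AlgSt.IsAlgStack K 𝒴) (h𝒵 : AlgSt.IsAlgStack K 𝒵)
    {f : 𝒳 ⥤ᵇ 𝒴} {g : 𝒵 ⥤ᵇ 𝒴} {U V W : Over S} {x : overCat U ⥤ᵇ 𝒳} {y : overCat V ⥤ᵇ 𝒴}
    {h : U ⟶ V} (α : BasedFunctor.comp x f ≅ BasedFunctor.comp (AlgSt.overMap h) y)
    (hl : AlgSt.RepByAlgSpWith (AlgSp.LocP @Smooth) (fpLift x (AlgSt.overMap h) α))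
    (hls : AlgSt.RepByAlgSpWith AlgSp.IsSurjectiveMor (fpLift x (AlgSt.overMap h) α))
    {z : overCat W ⥤ᵇ 𝒵} (hz : AlgSt.RepByAlgSpWith (AlgSp.LocP @Smooth) z)
    (hzs : AlgSt.RepByAlgSpWith AlgSp.IsSurjectiveMor z) (a : W ⟶ V)
    (j : BasedFunctor.comp (AlgSt.overMap a) y ≅ BasedFunctor.comp z g) :
    ∃ (p : overCat (pullback a h) ⥤ᵇ fp g f)
      (γ : BasedFunctor.comp p (fpFst g f) ≅ BasedFunctor.comp (AlgSt.overMap (pullback.fst a h)) z),
      AlgSt.RepByAlgSpWith (AlgSp.LocP @Smooth) p ∧ AlgSt.RepByAlgSpWith AlgSp.IsSurjectiveMor p ∧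
      AlgSt.RepByAlgSpWith (AlgSp.LocP @Smooth) (fpLift p (AlgSt.overMap (pullback.fst a h)) γ) ∧
      Nonempty (BasedFunctor.comp p (fpSnd g f) ≅ BasedFunctor.comp (AlgSt.overMap (pullback.snd a h)) x) := by
  obtain ⟨N, hN, ⟨iN1⟩, ⟨iN2⟩⟩ := exists_equiv_pullback a h
  obtain ⟨C1, hC1, ⟨iC11⟩, ⟨iC12⟩⟩ := exists_fp_congr (F := AlgSt.overMap a) (F' := AlgSt.overMap a)
    (G := AlgSt.overMap h) (G' := BasedFunctor.comp (fpLift x (AlgSt.overMap h) α) (fpSnd f y))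
    (Iso.refl _) (Iso.refl _)
  let R1 := fpMap (F := AlgSt.overMap a) (G := fpSnd f y) (F' := AlgSt.overMap a)
    (G' := BasedFunctor.comp (fpLift x (AlgSt.overMap h) α) (fpSnd f y)) (BasedFunctor.id _)
    (fpLift x (AlgSt.overMap h) α) (BasedFunctor.id _) (Iso.refl _) (Iso.refl _)
  have : (BasedFunctor.id (overCat V)).toFunctor.Full := inferInstanceAs (𝟭 _).Full
  have : (BasedFunctor.id (overCat V)).toFunctor.Faithful := inferInstanceAs (𝟭 _).Faithful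
  let Sw := fpMap (F := AlgSt.overMap a) (G := fpFst y f) (F' := AlgSt.overMap a) (G' := fpSnd f y)
    (BasedFunctor.id _) (fpSwap f y) (BasedFunctor.id _) (Iso.refl _) (Iso.refl _)
  have hSw : IsEquivOver Sw :=
    fpMap_isEquivOver _ _ _ _ _ (isEquivOver_id _) (fpSwap_isEquivOver f y)
  obtain ⟨E, hE, ⟨iE1⟩, ⟨iE2⟩⟩ := exists_fp_of_cart _ _ _ (fpLift_self_isEquivOver y f) (AlgSt.overMap a)
  obtain ⟨C2, hC2, ⟨iC21⟩, ⟨iC22⟩⟩ := exists_fp_congr (F := BasedFunctor.comp (AlgSt.overMap a) y)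
    (F' := BasedFunctor.comp z g) (G := f) (G' := f) j.symm (Iso.refl _)
  obtain ⟨E', hE', ⟨iE'⟩, ⟨iE'2⟩⟩ := exists_fp_of_cart _ _ _ (fpLift_self_isEquivOver g f) z
  obtain ⟨d, hd, -, ⟨p'⟩⟩ := isEquivOver_symm hE'
  let EQ := BasedFunctor.comp (BasedFunctor.comp Sw (BasedFunctor.comp E C2))
    (BasedFunctor.comp d (fpSwap z (fpFst g f)))
  have hEQ : IsEquivOver EQ := isEquivOver_comp (isEquivOver_comp hSw (isEquivOver_comp hE hC2))
    (isEquivOver_comp hd (fpSwap_isEquivOver _ _))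
  let NR := BasedFunctor.comp (BasedFunctor.comp N C1) R1
  let ψ : overCat (pullback a h) ⥤ᵇ fp (fpFst g f) z := BasedFunctor.comp NR EQ
  have hψ : ∀ Q : MorphismProperty (AlgSp.Sp S), Good Q →
      AlgSt.RepByAlgSpWith Q (fpLift x (AlgSt.overMap h) α) → AlgSt.RepByAlgSpWith Q ψ := fun Q hQ hq => by
    have h1 : AlgSt.RepByAlgSpWith Q NR :=
      repByAlgSpWith_comp_isEquivOver (repByAlgSpWith_fpMap_right Q hq _ _) (isEquivOver_comp hN hC1)
    obtain ⟨e, he, ⟨q⟩, -⟩ := isEquivOver_symm hEQ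
    exact (repByAlgSpWith_iff_of_equiv _ (BasedFunctor.id _) e (isEquivOver_id _) he
      (f := NR) (f' := ψ) (isoWhiskerLeft NR q)).1 h1
  let p := BasedFunctor.comp ψ (fpFst (fpFst g f) z)
  obtain ⟨γ, ⟨iγ⟩⟩ := exists_fpLift_of_functor ψ (x := p) (k := AlgSt.overMap (pullback.fst a h)) (Iso.refl _)
    (isoWhiskerLeft (BasedFunctor.comp NR (BasedFunctor.comp (BasedFunctor.comp Sw (BasedFunctor.comp E C2)) d))
        iE'.symm ≪≫
      isoWhiskerLeft (BasedFunctor.comp NR (BasedFunctor.comp Sw (BasedFunctor.comp E C2)))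
        (isoWhiskerRight p' (fpFst (BasedFunctor.comp z g) f)) ≪≫
      isoWhiskerLeft (BasedFunctor.comp NR (BasedFunctor.comp Sw E)) iC21 ≪≫
      isoWhiskerLeft (BasedFunctor.comp NR Sw) iE1 ≪≫ isoWhiskerLeft N iC11 ≪≫ iN1)
  have hmid : IsFibGrpd (fp (fpFst g f) z).p := isFibGrpd_fp
    (isFibGrpd_fp h𝒵.isStack.1 h𝒳.isStack.1 h𝒴.isStack.1 g f) (isFibGrpd_overCat W) h𝒵.isStack.1 _ _
  refine ⟨p, γ, ?_, ?_, repByAlgSpWith_of_iso _ iγ (hψ _ good_smooth hl), ⟨?_⟩⟩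
  · exact repByAlgSpWith_comp good_smooth.bc good_smooth.comp good_smooth.det (isFibGrpd_overCat _) hmid
      (hψ _ good_smooth hl) (repByAlgSpWith_fpFst _ _ hz)
  · exact repByAlgSpWith_comp good_surjective.bc good_surjective.comp good_surjective.det
      (isFibGrpd_overCat _) hmid (hψ _ good_surjective hls) (repByAlgSpWith_fpFst _ _ hzs)
  · exact isoWhiskerLeft (BasedFunctor.comp NR (BasedFunctor.comp (BasedFunctor.comp Sw (BasedFunctor.comp E C2)) d))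
        iE'2.symm ≪≫
      isoWhiskerLeft (BasedFunctor.comp NR (BasedFunctor.comp Sw (BasedFunctor.comp E C2)))
        (isoWhiskerRight p' (fpSnd (BasedFunctor.comp z g) f)) ≪≫
      isoWhiskerLeft (BasedFunctor.comp NR (BasedFunctor.comp Sw E)) iC22 ≪≫
      isoWhiskerLeft (BasedFunctor.comp NR Sw) iE2 ≪≫
      isoWhiskerRight (isoWhiskerLeft N iC12 ≪≫ iN2) x

/-- The smooth locus commutes with flat base change under a finite presentation hypothesis. -/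
theorem largest_smooth_baseChange {𝒴' : AlgSt.Cat S} (h𝒳 : AlgSt.IsAlgStack K 𝒳)
    (h𝒴 : AlgSt.IsAlgStack K 𝒴) (h𝒴' : AlgSt.IsAlgStack K 𝒴') (f : 𝒳 ⥤ᵇ 𝒴) (y : 𝒴' ⥤ᵇ 𝒴)
    (hy : AlgSt.LocQ (AlgSp.LocP @Flat) y)
    (hfp : AlgSt.LocQ (AlgSp.LocP @LocallyOfFinitePresentation) y ∨
      AlgSt.LocQ (AlgSp.LocP @LocallyOfFinitePresentation) f)
    (Q : 𝒳.obj → Prop) (hQ₁ : AlgSt.IsOpenSubstack 𝒳 Q K)
    (hQ₂ : AlgSt.LocQ (AlgSp.LocP @Smooth) (BasedFunctor.comp (AlgSt.subIncl 𝒳 Q) f))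
    (hQ₃ : ∀ Q' : 𝒳.obj → Prop, AlgSt.IsOpenSubstack 𝒳 Q' K →
      AlgSt.LocQ (AlgSp.LocP @Smooth) (BasedFunctor.comp (AlgSt.subIncl 𝒳 Q') f) → ∀ a, Q' a → Q a) :
    AlgSt.IsOpenSubstack (FibCat.fp y f) (fun b ↦ Q b.obj.snd) K ∧
      AlgSt.LocQ (AlgSp.LocP @Smooth)
        (BasedFunctor.comp (AlgSt.subIncl (FibCat.fp y f) fun b ↦ Q b.obj.snd) (FibCat.fpFst y f)) ∧
      ∀ Q' : (FibCat.fp y f).obj → Prop, AlgSt.IsOpenSubstack (FibCat.fp y f) Q' K →
        AlgSt.LocQ (AlgSp.LocP @Smooth) (BasedFunctor.comp (AlgSt.subIncl (FibCat.fp y f) Q') (FibCat.fpFst y f)) →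
        ∀ b, Q' b → Q b.obj.snd := by
  have hF : AlgSt.IsAlgStack K (fp y f) := isAlgStack_fp h𝒴.isStack h𝒴.diag h𝒴' h𝒳 y f
  let R := Set.range (AlgSt.Points.map (AlgSt.subIncl 𝒳 Q))
  have hR : IsOpen R := isOpen_range_openSubstack h𝒳 hQ₁
  have hpre : (fun b : (fp y f).obj ↦ Q b.obj.snd) = ptsProp (AlgSt.Points.map (fpSnd y f) ⁻¹' R) :=
    funext fun b => propext ((mem_openSubstack_iff h𝒳 hQ₁ _).trans
      (ptsProp_map_iff hF.isStack.1 h𝒳.isStack.1 (fpSnd y f) R b))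
  have hT' : IsOpen (AlgSt.Points.map (fpSnd y f) ⁻¹' R) := hR.preimage (continuous_points_map h𝒳 _)
  obtain ⟨V, v, hv, hvs⟩ := h𝒴.atlas
  obtain ⟨U, x, h, α, hx, hxs, hl, hls⟩ := exists_smooth_square h𝒳 h𝒴 f hv
  obtain ⟨W, z, a, β, hz, hzs, hla, -⟩ := exists_smooth_square h𝒴' h𝒴 y hv
  have ha : Flat a.left :=
    AlgSp.locP_yon_map (mem_of_locQ (isSmoothLocalST_locP smoothLocalProp_flat) h𝒴' h𝒴 hy β hv hla)
  have hlfp : LocallyOfFinitePresentation a.left ∨ LocallyOfFinitePresentation h.left := hfp.imp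
    (fun H => AlgSp.locP_yon_map (mem_of_locQ (isSmoothLocalST_locP smoothLocalProp_lfp) h𝒴' h𝒴 H β hv hla))
    (fun H => AlgSp.locP_yon_map (mem_of_locQ (isSmoothLocalST_locP smoothLocalProp_lfp) h𝒳 h𝒴 H α hv hl))
  obtain ⟨p, γ, hp, hps, hlp, ⟨jx⟩⟩ :=
    exists_fp_chart_square h𝒳 h𝒴 h𝒴' α hl hls hz (hzs hvs) a β.symm
  have hmap : ∀ t, AlgSt.Points.map (fpSnd y f) (AlgSt.Points.ofChart p t) =
      AlgSt.Points.ofChart x ((pullback.snd a h).left t) :=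
    fun t => by rw [map_ofChart, ofChart_congr jx, ofChart_overMap]
  have sq : IsPullback (pullback.snd a h).left (pullback.fst a h).left h.left a.left :=
    ((IsPullback.of_hasPullback a h).flip.map (Over.forget S))
  refine ⟨by rw [hpre]; exact isOpenSubstack_ptsProp hF hT', ?_, fun Q' hQ' hf' b hb => ?_⟩
  · rw [hpre]
    let OU : U.left.Opens := ⟨_, hR.preimage (continuous_ofChart h𝒳 x)⟩
    have hs := smooth_restrict_of_locQ h𝒳 h𝒴 α hv hl hQ₁ hQ₂ OU fun _ ht => ht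
    refine locQ_smooth_ptsProp hF γ hp hz hT' ((pullback.snd a h).left ⁻¹ᵁ OU) ?_
      (MorphismProperty.of_isPullback ((isPullback_morphismRestrict _ OU).paste_vert sq) hs)
    ext P
    constructor
    · rintro ⟨t, ht, rfl⟩
      rw [Set.mem_preimage, hmap]
      exact ht
    · intro hP
      obtain ⟨t, rfl⟩ := ofChart_surjective hF.isStack.1 hps P
      rw [Set.mem_preimage, hmap] at hP
      exact ⟨t, hP, rfl⟩
  · let O : (pullback a h).left.Opens :=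
      ⟨_, (isOpen_range_openSubstack hF hQ').preimage (continuous_ofChart hF p)⟩
    have hO := smooth_restrict_of_locQ hF h𝒴' γ hz hlp hQ' hf' O fun _ ht => ht
    refine (congrFun hpre b).mpr fun q c => ?_
    obtain ⟨t, ht⟩ := ofChart_surjective hF.isStack.1 hps (AlgSt.Points.mk q)
    have htO : t ∈ O := (ht.symm ▸ (mem_openSubstack_iff hF hQ' b).1 hb q c :
      AlgSt.Points.ofChart p t ∈ _)
    obtain ⟨E, htE, hE⟩ := exists_smooth_nhd_of_flat_baseChange sq O hO hlfp t htO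
    let T := AlgSt.Points.ofChart x '' E
    have hT : IsOpen T :=
      isOpenMap_ofChart h𝒳 (repByAlgSpWith_flat_of_smooth hx) (repByAlgSpWith_lfp_of_smooth hx) _ E.isOpen
    have hle := (openSubstack_le_iff h𝒳 (isOpenSubstack_ptsProp h𝒳 hT) hQ₁).1
      (hQ₃ _ (isOpenSubstack_ptsProp h𝒳 hT) (locQ_smooth_ptsProp h𝒳 α hx hv hT E rfl hE))
    rw [range_subIncl_ptsProp T h𝒳.isStack.1] at hle
    rw [Set.mem_preimage, ← ht, hmap]
    exact hle ⟨_, htE, rfl⟩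

end Groth.Agent.StFib
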