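import Groth.Agent.StFib.Props
import Groth.Agent.AlgSp.Sep
import Groth.Agent.AlgSp.Diag

/-!
Quasi-compact, separated, quasi-separated, proper morphisms; cancellation.
-/

set_option backward.isDefEq.respectTransparency false
set_option backward.isDefEq.respectTransparency.types false

universe u

open CategoryTheory CategoryTheory.Limits AlgebraicGeometry Opposite AlgSp

namespace Groth.Agent.StFib

variable {S : Scheme.{u}}

theorem Good.inf {P Q : MorphismProperty (Sp S)} (hP : Good P) (hQ : Good Q) : Good (P ⊓ Q) where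
  bc _ _ _ _ h1 h2 h3 h4 a b a' b' sq h :=
    ⟨hP.bc h1 h2 h3 h4 a b a' b' sq h.1, hQ.bc h1 h2 h3 h4 a b a' b' sq h.2⟩
  comp _ _ _ h1 h2 h3 a b ha hb :=
    ⟨hP.comp h1 h2 h3 a b ha.1 hb.1, hQ.comp h1 h2 h3 a b ha.2 hb.2⟩
  det _ _ hV hA b h := ⟨hP.det hV hA b fun _ p => (h p).1, hQ.det hV hA b fun _ p => (h p).2⟩

theorem good_quasiCompact : Good (S := S) IsQuasiCompactMor where
  bc _ _ _ _ _ _ _ _ _ _ _ _ sq h := Groth.Agent.AlgSp.isQuasiCompactMor_baseChange sq h
  comp _ _ _ h1 h2 h3 _ _ ha hb := Groth.Agent.AlgSp.isQuasiCompactMor_comp h1 h2 h3 ha hb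
  det _ _ hV hA b h := (Groth.Agent.AlgSp.isQuasiCompactMor_iff_affine hV hA b).2
    fun Z hZ g _ fst snd sq => h g (IsAlgSpace.yon_obj Z)
      (Groth.Agent.AlgSp.isQuasiCompactSp_yon Z) (𝟙 _)
      (sq.isoIsPullback _ _ (IsPullback.of_hasPullback b g)).hom snd
      (IsPullback.of_horiz_isIso ⟨by simp⟩)

theorem good_univClosed : Good (S := S) IsUnivClosedMor where
  bc _ _ _ _ _ _ _ _ _ _ _ _ sq h := fun _ _ hZ g _ _ sq' => h hZ _ _ _ (sq'.paste_horiz sq)
  comp X Y Z hX hY hZ' a b ha hb := (Groth.Agent.AlgSp.isUnivClosedMor_iff_affine _).2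
    fun T hT g P fst snd sq => by
      have s1 := IsPullback.of_hasPullback b g
      have hB := Groth.Agent.AlgSp.isAlgSpace_pullback hZ' hY (IsAlgSpace.yon_obj T) b g
      have h1 := hb (IsAlgSpace.yon_obj T) g _ _ s1
      have hw : (fst ≫ a) ≫ b = snd ≫ g := by rw [Category.assoc, sq.w]
      have h2 := ha hB (pullback.fst b g) fst (s1.lift _ _ hw)
        (IsPullback.of_bot (by rw [s1.lift_snd]; exact sq) (s1.lift_fst _ _ hw).symm s1)
      have e : (Points.map snd) = Points.map (pullback.snd b g) ∘ Points.map (s1.lift _ _ hw) := by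
        funext x
        rw [Function.comp_apply, ← Points.map_comp, s1.lift_snd]
      rw [e]
      exact h1.comp h2
  det V A hV hA b h := (Groth.Agent.AlgSp.isUnivClosedMor_iff_affine _).2
    fun Z hZ g _ fst snd sq => h g (IsAlgSpace.yon_obj Z) (𝟙 _)
      (sq.isoIsPullback _ _ (IsPullback.of_hasPullback b g)).hom snd
      (IsPullback.of_horiz_isIso ⟨by simp⟩)

/-- A property of diagonals given by a property of schemes. -/
theorem good_diagonal (P : MorphismProperty Scheme.{u}) [P.IsStableUnderBaseChange]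
    [P.IsMultiplicative] [IsZariskiLocalAtTarget P] :
    Good (S := S) (fun _ _ f => RepWith P (pullback.diagonal f)) where
  bc _ _ _ _ _ _ _ _ _ _ _ _ sq h := Groth.Agent.AlgSp.repWith_diagonal_baseChange sq h
  comp X Y Z _ _ _ a b ha hb := by
    change RepWith P (pullback.diagonal (a ≫ b))
    have e : pullback.diagonal (a ≫ b) = pullback.diagonal a ≫ pullback.mapDesc a a b := by
      apply pullback.hom_ext <;> simp [pullback.mapDesc]
    rw [e]
    exact (repWith_isMultiplicative P).comp_mem _ _ ha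
      (Groth.Agent.AlgSp.mapDesc_mem_of_diagonal (RepWith P) a a b hb)
  det V A hV hA b h := Groth.Agent.AlgSp.repWith_diagonal_of_affine hV fun Z hZ g Q fst snd sq =>
    Groth.Agent.AlgSp.repWith_diagonal_baseChange (f := pullback.snd b g) (p := 𝟙 _)
      (fst := (sq.isoIsPullback _ _ (IsPullback.of_hasPullback b g)).hom) (snd := snd)
      (IsPullback.of_horiz_isIso ⟨by simp⟩) (h g)

theorem good_separated : Good (S := S) IsSeparatedMor := good_diagonal @IsClosedImmersion

theorem good_quasiSeparated : Good (S := S) IsQuasiSeparatedMor := good_diagonal @QuasiCompact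

theorem good_proper : Good (S := S) IsProperMor :=
  good_separated.inf (((good_locP Groth.Agent.AlgSpCov.standard_locallyOfFiniteType).inf
    good_quasiCompact).inf good_univClosed)

theorem good_unramified : Good (S := S) (LocP (@LocallyOfFiniteType ⊓ @FormallyUnramified)) :=
  good_locP Groth.Agent.AlgSpCov.standard_unramified

theorem good_quasiFinite : Good (S := S) (LocP (@LocallyQuasiFinite ⊓ @LocallyOfFiniteType)) :=
  good_locP Groth.Agent.AlgSpCov.standard_locallyQuasiFinite

theorem good_lft : Good (S := S) (LocP @LocallyOfFiniteType) :=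
  good_locP Groth.Agent.AlgSpCov.standard_locallyOfFiniteType

end Groth.Agent.StFib
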