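import Groth.Agent.StFib.Square

/-!
2-cartesian squares with a diagonal on the right: sections, graphs, diagonals of base changes and
comparison maps of fibre products.
-/

set_option backward.isDefEq.respectTransparency false
set_option backward.isDefEq.respectTransparency.types false

universe v₇ u₇ v₆ u₆ v₅ u₅ v₄ u₄ v₃ u₃ v₂ u₂ v u

open CategoryTheory CategoryTheory.Limits FibCat

namespace Groth.Agent.StFib

variable {C : Type u} [Category.{v} C]
variable {𝒳 : BasedCategory.{v₂, u₂} C} {𝒴 : BasedCategory.{v₃, u₃} C} {𝒵 : BasedCategory.{v₄, u₄} C}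
  {𝒲 : BasedCategory.{v₅, u₅} C} {𝒯 : BasedCategory.{v₆, u₆} C}

/-- A criterion for a square to be 2-cartesian, in components. -/
theorem fpLift_isEquivOver_mk {f : 𝒳 ⥤ᵇ 𝒴} {g : 𝒵 ⥤ᵇ 𝒴} (T : 𝒲 ⥤ᵇ 𝒵) (L : 𝒲 ⥤ᵇ 𝒳)
    (e : BasedFunctor.comp T g ≅ BasedFunctor.comp L f)
    (inj : ∀ {w w' : 𝒲.obj} (φ ψ : w ⟶ w'), T.map φ = T.map ψ → L.map φ = L.map ψ → φ = ψ)
    (surj : ∀ {w w' : 𝒲.obj} (a : T.obj w ⟶ T.obj w') (b : L.obj w ⟶ L.obj w'),
      g.map a ≫ (isoApp e w').hom = (isoApp e w).hom ≫ f.map b →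
        ∃ φ : w ⟶ w', T.map φ = a ∧ L.map φ = b)
    (ess : ∀ z : (fp g f).obj, ∃ (w : 𝒲.obj) (a : T.obj w ≅ z.obj.fst) (b : L.obj w ≅ z.obj.snd),
      Vert a.hom ∧ g.map a.hom ≫ z.obj.iso.hom = (isoApp e w).hom ≫ f.map b.hom) :
    IsEquivOver (fpLift T L e) := by
  have : (fpLift T L e).toFunctor.Faithful := ⟨fun {w w'} φ ψ h =>
    inj φ ψ (congrArg (fun k => k.hom.fst) h) (congrArg (fun k => k.hom.snd) h)⟩
  have : (fpLift T L e).toFunctor.Full := ⟨fun {w w'} k => by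
    obtain ⟨φ, h1, h2⟩ := surj k.hom.fst k.hom.snd k.hom.w
    exact ⟨φ, fp_hom_ext h1 h2⟩⟩
  refine isEquivOver_mk _ fun z => ?_
  obtain ⟨w, a, b, ha, hab⟩ := ess z
  exact ⟨w, fpIsoMk a b hab, ha⟩

theorem fpIso_isoApp (F : 𝒳 ⥤ᵇ 𝒴) (G : 𝒵 ⥤ᵇ 𝒴) (x : (fp F G).obj) :
    (isoApp (fpIso F G) x).hom = x.obj.iso.hom := rfl

theorem diag_iso_hom (f : 𝒳 ⥤ᵇ 𝒴) (x : 𝒳.obj) : ((diag f).obj x).obj.iso.hom = 𝟙 (f.obj x) := rfl

theorem isoMk_isoApp {F G : 𝒳 ⥤ᵇ 𝒴} (app : ∀ a, F.obj a ≅ G.obj a) (vert nat) (a : 𝒳.obj) :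
    (isoApp (isoMk (F := F) (G := G) app vert nat) a).hom = (app a).hom := rfl

section Section

variable (f : 𝒳 ⥤ᵇ 𝒯) (s : 𝒯 ⥤ᵇ 𝒳) (e : BasedFunctor.comp s f ≅ BasedFunctor.id 𝒯)

/-- For a section `s` of `f`, the functor `x ↦ (s f x, x)` into the self fibre product. -/
def sectionPhi : 𝒳 ⥤ᵇ fp f f :=
  fpLift (BasedFunctor.comp f s) (BasedFunctor.id 𝒳) (isoWhiskerLeft f e)

theorem section_self (t : 𝒯.obj) :
    f.map (s.map (isoApp e t).hom) = (isoApp e (f.obj (s.obj t))).hom := by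
  rw [← cancel_mono (isoApp e t).hom]
  exact isoApp_naturality e (isoApp e t).hom

/-- The 2-isomorphism of the section square. -/
def sectionIso : BasedFunctor.comp s (sectionPhi f s e) ≅ BasedFunctor.comp s (diag f) :=
  isoMk (fun t => fpIsoMk (s.toFunctor.mapIso (isoApp e t)) (Iso.refl _) (by
      change f.map (s.map (isoApp e t).hom) ≫ 𝟙 _ = (isoApp e (f.obj (s.obj t))).hom ≫ f.map (𝟙 _)
      rw [section_self, Functor.map_id]; rfl))
    (fun t => (vert_isoApp e t).map s)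
    (fun {t t'} φ => fp_hom_ext
      (by
        change s.map (f.map (s.map φ)) ≫ s.map _ = s.map _ ≫ s.map φ
        rw [← Functor.map_comp, ← Functor.map_comp]
        exact congrArg _ (isoApp_naturality e φ))
      ((Category.comp_id _).trans (Category.id_comp _).symm))

/-- A section of `f` is a base change of the diagonal of `f`. -/
theorem section_cart : IsEquivOver (fpLift s s (sectionIso f s e)) := by
  refine fpLift_isEquivOver_mk _ _ _ (fun {t t'} φ ψ h _ => ?_) (fun {t t'} a b h => ?_) fun z => ?_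
  · have h1 := isoApp_naturality e φ
    have h2 := isoApp_naturality e ψ
    change f.map (s.map φ) ≫ _ = _ ≫ φ at h1
    change f.map (s.map ψ) ≫ _ = _ ≫ ψ at h2
    rw [h, h2] at h1
    exact ((cancel_epi (isoApp e t).hom).1 h1).symm
  · have h1 : s.map (f.map a) ≫ s.map (isoApp e t').hom = s.map (isoApp e t).hom ≫ b :=
      congrArg (fun k => k.hom.fst) h
    have h2 : a ≫ 𝟙 _ = 𝟙 _ ≫ b := congrArg (fun k => k.hom.snd) h
    obtain rfl : a = b := by simpa using h2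
    refine ⟨(isoApp e t).inv ≫ f.map a ≫ (isoApp e t').hom, ?_, ?_⟩ <;>
    · rw [Functor.map_comp, Functor.map_comp, h1, ← Functor.map_comp_assoc, Iso.inv_hom_id,
        Functor.map_id, Category.id_comp]
  · let u : s.obj (f.obj z.obj.fst) ≅ z.obj.snd := fpIsoFst z.obj.iso
    let v : z.obj.fst ≅ z.obj.snd := fpIsoSnd z.obj.iso
    have hu : Vert u.hom := vert_fp_iff.1 (vert_fp_iso z)
    have hv : Vert v.hom := vert_fp_snd (vert_fp_iso z)
    have hw : f.map u.hom ≫ 𝟙 _ = (isoApp e (f.obj z.obj.fst)).hom ≫ f.map v.hom :=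
      z.obj.iso.hom.hom.w
    refine ⟨f.obj z.obj.fst, u ≪≫ v.symm, u, hu.comp hv.inv, fp_hom_ext ?_ ?_⟩
    · change s.map (f.map (u.hom ≫ v.inv)) ≫ u.hom = s.map (isoApp e (f.obj z.obj.fst)).hom ≫ u.hom
      congr 2
      rw [Functor.map_comp]
      rw [Category.comp_id] at hw
      rw [hw, Category.assoc, ← Functor.map_comp, v.hom_inv_id, Functor.map_id]
      exact Category.comp_id _
    · change (u.hom ≫ v.inv) ≫ v.hom = 𝟙 _ ≫ u.hom
      simp <;> rfl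

end Section

section Graph

variable (p : 𝒳 ⥤ᵇ 𝒯) (q : 𝒴 ⥤ᵇ 𝒯) (g : 𝒳 ⥤ᵇ 𝒴)
  (e : BasedFunctor.comp (BasedFunctor.id 𝒳) p ≅ BasedFunctor.comp g q)

/-- The functor `(x, y) ↦ (g x, y)` attached to a morphism `g` over a base. -/
def graphPhi : fp p q ⥤ᵇ fp q q :=
  fpLift (BasedFunctor.comp (fpFst p q) g) (fpSnd p q)
    (isoWhiskerLeft (fpFst p q) e.symm ≪≫ fpIso p q)

/-- The 2-isomorphism of the graph square. -/
def graphIso : BasedFunctor.comp (fpLift (BasedFunctor.id 𝒳) g e) (graphPhi p q g e) ≅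
    BasedFunctor.comp g (diag q) :=
  isoMk (fun x => fpIsoMk (Iso.refl _) (Iso.refl _) (by
      change q.map (𝟙 _) ≫ 𝟙 _ = ((isoApp e x).inv ≫ (isoApp e x).hom) ≫ q.map (𝟙 _)
      rw [Iso.inv_hom_id]; simp <;> rfl))
    (fun x => Vert.id _)
    (fun φ => fp_hom_ext ((Category.comp_id _).trans (Category.id_comp _).symm)
      ((Category.comp_id _).trans (Category.id_comp _).symm))

/-- A graph is a base change of the diagonal. -/
theorem graph_cart :
    IsEquivOver (fpLift (fpLift (BasedFunctor.id 𝒳) g e) g (graphIso p q g e)) := by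
  refine fpLift_isEquivOver_mk _ _ _ (fun {x x'} φ ψ h _ => congrArg (fun k => k.hom.fst) h)
    (fun {x x'} a b h => ?_) fun z => ?_
  · have h1 : g.map a.hom.fst ≫ 𝟙 _ = 𝟙 _ ≫ b := congrArg (fun k => k.hom.fst) h
    have h2 : a.hom.snd ≫ 𝟙 _ = 𝟙 _ ≫ b := congrArg (fun k => k.hom.snd) h
    have h1' : g.map a.hom.fst = b := by simpa using h1
    have h2' : a.hom.snd = b := by simpa using h2
    exact ⟨a.hom.fst, fp_hom_ext rfl (h1'.trans h2'.symm), h1'⟩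
  · let u : g.obj z.obj.fst.obj.fst ≅ z.obj.snd := fpIsoFst z.obj.iso
    let v : z.obj.fst.obj.snd ≅ z.obj.snd := fpIsoSnd z.obj.iso
    have hw : q.map u.hom ≫ 𝟙 _ = ((isoApp e z.obj.fst.obj.fst).inv ≫ z.obj.fst.obj.iso.hom) ≫
        q.map v.hom := z.obj.iso.hom.hom.w
    refine ⟨z.obj.fst.obj.fst, fpIsoMk (Iso.refl _) (u ≪≫ v.symm) ?_, u, Vert.id _,
      fp_hom_ext ?_ ?_⟩
    · change p.map (𝟙 _) ≫ z.obj.fst.obj.iso.hom =
        (isoApp e z.obj.fst.obj.fst).hom ≫ q.map (u.hom ≫ v.inv)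
      rw [Category.comp_id] at hw
      rw [Functor.map_id, Category.id_comp, Functor.map_comp, hw]
      simp only [Category.assoc]
      rw [← Functor.map_comp, v.hom_inv_id, Functor.map_id, Category.comp_id,
        Iso.hom_inv_id_assoc]
    · change g.map (𝟙 _) ≫ u.hom = 𝟙 _ ≫ u.hom
      simp <;> rfl
    · change (u.hom ≫ v.inv) ≫ v.hom = 𝟙 _ ≫ u.hom
      simp <;> rfl

end Graph

section Comparison

variable (f : 𝒳 ⥤ᵇ 𝒵) (g : 𝒴 ⥤ᵇ 𝒵) (t : 𝒵 ⥤ᵇ 𝒯)
  (e : BasedFunctor.comp (fpFst f g) (BasedFunctor.comp f t) ≅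
    BasedFunctor.comp (fpSnd f g) (BasedFunctor.comp g t))
  (he : ∀ x, e.hom.toNatTrans.app x = t.map x.obj.iso.hom)

/-- `(x, y) ↦ (f x, g y)`. -/
def compPhi : fp (BasedFunctor.comp f t) (BasedFunctor.comp g t) ⥤ᵇ fp t t :=
  fpLift (BasedFunctor.comp (fpFst _ _) f) (BasedFunctor.comp (fpSnd _ _) g)
    (fpIso (BasedFunctor.comp f t) (BasedFunctor.comp g t))

/-- The 2-isomorphism of the comparison square. -/
def compIso : BasedFunctor.comp (fpLift (fpFst f g) (fpSnd f g) e) (compPhi f g t) ≅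
    BasedFunctor.comp (BasedFunctor.comp (fpFst f g) f) (diag t) :=
  isoMk (fun w => fpIsoMk (Iso.refl _) w.obj.iso.symm (by
      change t.map (𝟙 _) ≫ 𝟙 _ = e.hom.toNatTrans.app w ≫ t.map w.obj.iso.inv
      rw [he, ← Functor.map_comp, Iso.hom_inv_id]; simp <;> rfl))
    (fun w => Vert.id _)
    (fun {w w'} φ => fp_hom_ext ((Category.comp_id _).trans (Category.id_comp _).symm)
      (by
        change g.map φ.hom.snd ≫ w'.obj.iso.inv = w.obj.iso.inv ≫ f.map φ.hom.fst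
        exact φ.hom.w'))

/-- The comparison map of fibre products is a base change of the diagonal. -/
theorem comp_cart :
    IsEquivOver (fpLift (fpLift (fpFst f g) (fpSnd f g) e) (BasedFunctor.comp (fpFst f g) f)
      (compIso f g t e he)) := by
  refine fpLift_isEquivOver_mk _ _ _
    (fun {x x'} φ ψ h _ => fp_hom_ext (show φ.hom.fst = ψ.hom.fst from congrArg (fun k => k.hom.fst) h)
      (show φ.hom.snd = ψ.hom.snd from congrArg (fun k => k.hom.snd) h))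
    (fun {x x'} a b h => ?_) fun z => ?_
  · have h1 : f.map a.hom.fst ≫ 𝟙 _ = 𝟙 _ ≫ b := congrArg (fun k => k.hom.fst) h
    have h2 : g.map a.hom.snd ≫ x'.obj.iso.inv = x.obj.iso.inv ≫ b :=
      congrArg (fun k => k.hom.snd) h
    have h1' : f.map a.hom.fst = b := by simpa using h1
    have hw : f.map a.hom.fst ≫ x'.obj.iso.hom = x.obj.iso.hom ≫ g.map a.hom.snd := by
      rw [h1', ← Iso.inv_comp_eq, ← Category.assoc, ← h2, Category.assoc, Iso.inv_hom_id,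
        Category.comp_id]
    exact ⟨fpHom a.hom.fst a.hom.snd hw, fp_hom_ext rfl rfl, h1'⟩
  · let u : f.obj z.obj.fst.obj.fst ≅ z.obj.snd := fpIsoFst z.obj.iso
    let v : g.obj z.obj.fst.obj.snd ≅ z.obj.snd := fpIsoSnd z.obj.iso
    have hu : Vert u.hom := vert_fp_iff.1 (vert_fp_iso z)
    have hv : Vert v.hom := vert_fp_snd (vert_fp_iso z)
    have hw : t.map u.hom ≫ 𝟙 _ = z.obj.fst.obj.iso.hom ≫ t.map v.hom := z.obj.iso.hom.hom.w
    let w : (fp f g).obj :=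
      fpMk z.obj.fst.obj.fst z.obj.fst.obj.snd (u ≪≫ v.symm) (hu.comp hv.inv)
    refine ⟨w, fpIsoMk (Iso.refl _) (Iso.refl _) ?_, u, Vert.id _, fp_hom_ext ?_ ?_⟩
    · change t.map (f.map (𝟙 _)) ≫ z.obj.fst.obj.iso.hom =
        e.hom.toNatTrans.app w ≫ t.map (g.map (𝟙 w.obj.snd))
      rw [he]
      change t.map (f.map (𝟙 _)) ≫ z.obj.fst.obj.iso.hom =
        t.map (u.hom ≫ v.inv) ≫ t.map (g.map (𝟙 _))
      rw [Category.comp_id] at hw
      rw [Functor.map_comp t.toFunctor u.hom, hw]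
      simp only [Category.assoc, Functor.map_id, Category.id_comp]
      rw [← Functor.map_comp_assoc, v.hom_inv_id]
      simp
      exact (Category.comp_id _).symm
    · change f.map (𝟙 _) ≫ u.hom = 𝟙 _ ≫ u.hom
      simp <;> rfl
    · change g.map (𝟙 _) ≫ v.hom = (v.hom ≫ u.inv) ≫ u.hom
      simp <;> rfl

end Comparison

section DiagBaseChange

variable (g : 𝒵 ⥤ᵇ 𝒴) (f : 𝒳 ⥤ᵇ 𝒴)

/-- The 2-isomorphism defining `diagPhi`. -/
def diagPhiIso :
    BasedFunctor.comp (BasedFunctor.comp (fpFst (fpFst g f) (fpFst g f)) (fpSnd g f)) f ≅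
      BasedFunctor.comp (BasedFunctor.comp (fpSnd (fpFst g f) (fpFst g f)) (fpSnd g f)) f :=
  isoWhiskerLeft (fpFst (fpFst g f) (fpFst g f)) (fpIso g f).symm ≪≫
    isoWhiskerRight (fpIso (fpFst g f) (fpFst g f)) g ≪≫
      isoWhiskerLeft (fpSnd (fpFst g f) (fpFst g f)) (fpIso g f)

/-- `(𝒵 ×_𝒴 𝒳) ×_𝒵 (𝒵 ×_𝒴 𝒳) ⟶ 𝒳 ×_𝒴 𝒳`. -/
def diagPhi : fp (fpFst g f) (fpFst g f) ⥤ᵇ fp f f :=
  fpLift (BasedFunctor.comp (fpFst _ _) (fpSnd g f)) (BasedFunctor.comp (fpSnd _ _) (fpSnd g f))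
    (diagPhiIso g f)

/-- The 2-isomorphism of the square of diagonals. -/
def diagSqIso : BasedFunctor.comp (diag (fpFst g f)) (diagPhi g f) ≅
    BasedFunctor.comp (fpSnd g f) (diag f) :=
  isoMk (fun w => fpIsoMk (Iso.refl _) (Iso.refl _) (by
      change f.map (𝟙 _) ≫ 𝟙 _ =
        (w.obj.iso.inv ≫ g.map (𝟙 _) ≫ w.obj.iso.hom) ≫ f.map (𝟙 _)
      simp <;> rfl))
    (fun w => Vert.id _)
    (fun φ => fp_hom_ext ((Category.comp_id _).trans (Category.id_comp _).symm)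
      ((Category.comp_id _).trans (Category.id_comp _).symm))

/-- The diagonal of a base change is a base change of the diagonal. -/
theorem diag_fpFst_cart :
    IsEquivOver (fpLift (diag (fpFst g f)) (fpSnd g f) (diagSqIso g f)) := by
  refine fpLift_isEquivOver_mk _ _ _ (fun {w w'} φ ψ h _ => congrArg (fun k => k.hom.fst) h)
    (fun {w w'} a b h => ?_) fun z => ?_
  · have h1 : a.hom.fst.hom.snd ≫ 𝟙 _ = 𝟙 _ ≫ b := congrArg (fun k => k.hom.fst) h
    have h2 : a.hom.snd.hom.snd ≫ 𝟙 _ = 𝟙 _ ≫ b := congrArg (fun k => k.hom.snd) h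
    have h3 : a.hom.fst.hom.fst ≫ 𝟙 _ = 𝟙 _ ≫ a.hom.snd.hom.fst := a.hom.w
    have h1' : a.hom.fst.hom.snd = b := by simpa using h1
    have h2' : a.hom.snd.hom.snd = b := by simpa using h2
    have h3' : a.hom.fst.hom.fst = a.hom.snd.hom.fst := by simpa using h3
    exact ⟨a.hom.fst, fp_hom_ext rfl (fp_hom_ext h3' (h1'.trans h2'.symm)), h1'⟩
  · let P := z.obj.fst.obj.fst
    let Q := z.obj.fst.obj.snd
    let k : P.obj.fst ≅ Q.obj.fst := z.obj.fst.obj.iso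
    let u : P.obj.snd ≅ z.obj.snd := fpIsoFst z.obj.iso
    let v : Q.obj.snd ≅ z.obj.snd := fpIsoSnd z.obj.iso
    have hw : f.map u.hom ≫ 𝟙 _ =
        (P.obj.iso.inv ≫ g.map k.hom ≫ Q.obj.iso.hom) ≫ f.map v.hom := z.obj.iso.hom.hom.w
    let m : P ≅ Q := fpIsoMk k (u ≪≫ v.symm) (by
      rw [Category.comp_id] at hw
      change g.map k.hom ≫ Q.obj.iso.hom = P.obj.iso.hom ≫ f.map (u.hom ≫ v.inv)
      rw [Functor.map_comp, hw]
      simp only [Category.assoc, Iso.hom_inv_id_assoc]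
      rw [← Functor.map_comp, v.hom_inv_id]
      simp <;> rfl)
    refine ⟨P, fpIsoMk (Iso.refl _) m ?_, u, Vert.id _, fp_hom_ext ?_ ?_⟩
    · change 𝟙 _ ≫ k.hom = 𝟙 _ ≫ k.hom
      rfl
    · change 𝟙 _ ≫ u.hom = 𝟙 _ ≫ u.hom
      rfl
    · change (u.hom ≫ v.inv) ≫ v.hom = 𝟙 _ ≫ u.hom
      simp <;> rfl

end DiagBaseChange

end Groth.Agent.StFib
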