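import Groth.Agent.StFib.Basic

/-!
Categories fibred in groupoids: lifting, uniqueness, and criteria for based functors.
-/

set_option backward.isDefEq.respectTransparency false
set_option backward.isDefEq.respectTransparency.types false

universe v₆ u₆ v₅ u₅ v₄ u₄ v₃ u₃ v₂ u₂ v u

open CategoryTheory CategoryTheory.Limits FibCat

namespace Groth.Agent.StFib

variable {C : Type u} [Category.{v} C]
variable {𝒳 : BasedCategory.{v₂, u₂} C} {𝒴 : BasedCategory.{v₃, u₃} C} {𝒵 : BasedCategory.{v₄, u₄} C}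

theorem grpd_exists_fac (h : IsFibGrpd 𝒳.p) {y x z : 𝒳.obj} (φ : y ⟶ x) (ψ : z ⟶ x)
    (g : 𝒳.p.obj z ⟶ 𝒳.p.obj y) (hg : g ≫ 𝒳.p.map φ = 𝒳.p.map ψ) :
    ∃ χ : z ⟶ y, 𝒳.p.map χ = g ∧ χ ≫ φ = ψ := by
  have := h.isStronglyCartesian φ
  obtain ⟨χ, ⟨hχ, hfac⟩, -⟩ := Functor.IsStronglyCartesian.universal_property 𝒳.p (𝒳.p.map φ) φ g
    (𝒳.p.map ψ) hg.symm ψ
  exact ⟨χ, (IsHomLift.eq_of_isHomLift 𝒳.p g χ).symm, hfac⟩

theorem grpd_cancel (h : IsFibGrpd 𝒳.p) {y x z : 𝒳.obj} (φ : y ⟶ x) {χ χ' : z ⟶ y}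
    (h1 : χ ≫ φ = χ' ≫ φ) (h2 : 𝒳.p.map χ = 𝒳.p.map χ') : χ = χ' := by
  have := h.isStronglyCartesian φ
  have : 𝒳.p.IsHomLift (𝒳.p.map χ) χ' := h2 ▸ inferInstance
  exact Functor.IsStronglyCartesian.ext 𝒳.p (𝒳.p.map φ) φ (𝒳.p.map χ) h1

theorem grpd_exists_lift (h : IsFibGrpd 𝒳.p) (x : 𝒳.obj) {V : C} (f : V ⟶ 𝒳.p.obj x) :
    ∃ (y : 𝒳.obj) (e : 𝒳.p.obj y = V) (φ : y ⟶ x), 𝒳.p.map φ = eqToHom e ≫ f := by
  obtain ⟨y, φ, hφ⟩ := h.exists_lift f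
  exact ⟨y, IsHomLift.domain_eq 𝒳.p f φ, φ, by simpa using IsHomLift.fac' 𝒳.p f φ⟩

theorem grpd_isIso (h : IsFibGrpd 𝒳.p) {y x : 𝒳.obj} (φ : y ⟶ x) [IsIso (𝒳.p.map φ)] : IsIso φ :=
  have := h.isStronglyCartesian φ
  Functor.IsStronglyCartesian.isIso_of_base_isIso 𝒳.p (𝒳.p.map φ) φ

theorem Vert.isIso (h : IsFibGrpd 𝒳.p) {y x : 𝒳.obj} {φ : y ⟶ x} (hφ : Vert φ) : IsIso φ := by
  have : IsIso (𝒳.p.map φ) := by rw [hφ.2]; infer_instance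
  exact grpd_isIso h φ

/-- A morphism is a vertical one followed by any given morphism over the same base morphism. -/
theorem grpd_exists_vert_fac (h : IsFibGrpd 𝒳.p) {y z x : 𝒳.obj} (φ : y ⟶ x) (ψ : z ⟶ x)
    (e : 𝒳.p.obj z = 𝒳.p.obj y) (he : eqToHom e ≫ 𝒳.p.map φ = 𝒳.p.map ψ) :
    ∃ χ : z ≅ y, Vert χ.hom ∧ χ.hom ≫ φ = ψ := by
  obtain ⟨χ, h1, h2⟩ := grpd_exists_fac h φ ψ (eqToHom e) he
  have hv : Vert χ := ⟨e, h1⟩
  have := hv.isIso h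
  exact ⟨asIso χ, hv, h2⟩

theorem faithful_of_vert (h : IsFibGrpd 𝒳.p) (h' : IsFibGrpd 𝒴.p) (F : 𝒳 ⥤ᵇ 𝒴)
    (H : ∀ (a : 𝒳.obj) (φ : a ⟶ a), 𝒳.p.map φ = 𝟙 _ → F.map φ = 𝟙 _ → φ = 𝟙 a) :
    F.toFunctor.Faithful where
  map_injective {a b} f g hfg := by
    obtain ⟨χ, h1, h2⟩ := grpd_exists_fac h g f (𝟙 _)
      (by simpa using (map_eq_map_of_p F f g hfg).symm)
    have h3 : F.map χ = 𝟙 _ := by
      apply grpd_cancel h' (F.map g)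
      · rw [Category.id_comp, ← Functor.map_comp, h2, hfg]
      · simp [w_map, h1]
    rw [← h2, H a χ h1 h3, Category.id_comp]

theorem full_of_vert (h : IsFibGrpd 𝒳.p) (h' : IsFibGrpd 𝒴.p) (F : 𝒳 ⥤ᵇ 𝒴)
    (H : ∀ (a a' : 𝒳.obj) (β : F.obj a ⟶ F.obj a'), Vert β → ∃ α : a ⟶ a', F.map α = β) :
    F.toFunctor.Full where
  map_surjective {a b} g := by
    obtain ⟨a', e, φ, hφ⟩ := grpd_exists_lift h b
      (eqToHom (F.w_obj a).symm ≫ 𝒴.p.map g ≫ eqToHom (F.w_obj b))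
    obtain ⟨β, hβ, hfac⟩ := grpd_exists_vert_fac h' (F.map φ) g
      ((F.w_obj a).trans (e.symm.trans (F.w_obj a').symm)) (by simp [w_map, hφ])
    obtain ⟨α, hα⟩ := H a a' β.hom hβ
    exact ⟨α ≫ φ, by rw [F.toFunctor.map_comp, hα, hfac]⟩

theorem isFibGrpd_of_fullyFaithful (F : 𝒳 ⥤ᵇ 𝒴) [F.toFunctor.Full] [F.toFunctor.Faithful]
    (h' : IsFibGrpd 𝒴.p)
    (hlift : ∀ (x : 𝒳.obj) {V : C} (f : V ⟶ 𝒳.p.obj x),
      ∃ (y : 𝒳.obj) (φ : y ⟶ x), 𝒳.p.IsHomLift f φ) :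
    IsFibGrpd 𝒳.p where
  exists_lift {x V} f := hlift x f
  isStronglyCartesian {y x} φ :=
    { universal_property' := fun {z} g ψ hψ => by
        have := h'.isStronglyCartesian (F.map φ)
        have hlift' : 𝒴.p.IsHomLift (𝒳.p.map φ) (F.map φ) := inferInstance
        have : 𝒴.p.IsStronglyCartesian (𝒳.p.map φ) (F.map φ) :=
          { universal_property' := fun {z'} g' ψ' hψ' => by
              have e := IsHomLift.fac' 𝒴.p (𝒳.p.map φ) (F.map φ)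
              obtain ⟨χ, ⟨h1, h2⟩, h3⟩ := Functor.IsStronglyCartesian.universal_property 𝒴.p
                (𝒴.p.map (F.map φ)) (F.map φ) (g' ≫ eqToHom (F.w_obj y).symm)
                ((g' ≫ 𝒳.p.map φ) ≫ eqToHom (F.w_obj x).symm) (by rw [e]; simp) ψ'
              refine ⟨χ, ⟨by simpa using h1, h2⟩, fun χ' hχ' => h3 χ' ⟨?_, hχ'.2⟩⟩
              have := hχ'.1
              infer_instance }
        obtain ⟨χ, ⟨h1, h2⟩, h3⟩ := Functor.IsStronglyCartesian.universal_property 𝒴.p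
          (𝒳.p.map φ) (F.map φ) g (g ≫ 𝒳.p.map φ) rfl (F.map ψ)
        refine ⟨F.toFunctor.preimage χ, ⟨?_, F.toFunctor.map_injective (by simp [h2])⟩, ?_⟩
        · exact (BasedFunctor.isHomLift_iff F g _).1 (by simpa using h1)
        · rintro χ' ⟨h4, h5⟩
          apply F.toFunctor.map_injective
          rw [F.toFunctor.map_preimage]
          exact h3 _ ⟨inferInstance, by rw [← F.toFunctor.map_comp, h5]⟩ }

theorem isFibGrpd_of_isEquivOver {F : 𝒳 ⥤ᵇ 𝒴} (hF : IsEquivOver F) (h : IsFibGrpd 𝒳.p) :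
    IsFibGrpd 𝒴.p := by
  obtain ⟨G, hG, -, ⟨b⟩⟩ := isEquivOver_symm hF
  have := full_of_isEquivOver hG
  have := faithful_of_isEquivOver hG
  refine isFibGrpd_of_fullyFaithful G h (fun y V f => ?_)
  obtain ⟨a, φ, hφ⟩ := h.exists_lift (eqToHom rfl ≫ f ≫ eqToHom (G.w_obj y).symm)
  have : 𝒳.p.IsHomLift f φ := by simpa using hφ
  refine ⟨F.obj a, F.map φ ≫ (isoApp b y).hom, ?_⟩
  have : 𝒴.p.IsHomLift (𝟙 (𝒴.p.obj y)) (isoApp b y).hom := b.hom.isHomLift' y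
  exact IsHomLift.comp_lift_id_right' 𝒴.p f (F.map φ) (𝒴.p.obj y) _

end Groth.Agent.StFib
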