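import Groth.Agent.StFib.QC2

/-!
Charts of algebraic stacks by algebraic spaces.
-/

set_option backward.isDefEq.respectTransparency false
set_option backward.isDefEq.respectTransparency.types false
set_option linter.unusedVariables false

universe u

open CategoryTheory CategoryTheory.Limits AlgebraicGeometry Opposite FibCat TopologicalSpace Topology

namespace Groth.Agent.StFib

variable {S : Scheme.{u}} {𝒳 𝒴 : AlgSt.Cat S}

local notation "K" => Scheme.fppfPrecoverage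

/-- An etale surjective scheme chart of a space gives a smooth surjective chart. -/
theorem atlas_of_etale {X : AlgSp.Space S} {U : Over S} (p : (AlgSp.yon S).obj U ⟶ X.obj)
    (hpe : AlgSp.RepWith @Etale p) (hps : AlgSp.RepWith @Surjective p) :
    AlgSt.RepByAlgSpWith (AlgSp.LocP @Smooth) (BasedFunctor.comp (AlgSt.ofOverCat U) (AlgSt.ofSpMap p)) ∧
      AlgSt.RepByAlgSpWith AlgSp.IsSurjectiveMor (BasedFunctor.comp (AlgSt.ofOverCat U) (AlgSt.ofSpMap p)) := by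
  have := good_smooth.bc.of_respects (S := S)
  have := good_surjective.bc.of_respects (S := S)
  exact ⟨repByAlgSpWith_atlas _ _ (fun _ _ _ h => locP_smooth_of_repWith h) X.property p
      (repWith_mono' (P := @Etale) (Q := @Smooth) (fun _ _ f hf => have : Etale f := hf
        inferInstance) hpe),
    repByAlgSpWith_atlas _ _ (fun _ _ _ h => isSurjectiveMor_of_repWith h) X.property p hps⟩

theorem rep_comp_chart {Q : MorphismProperty (AlgSp.Sp S)} (hQ : Good Q) {U : Over S} {F : AlgSp.Sp S}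
    {a : overCat U ⥤ᵇ AlgSt.ofSp F} {x : AlgSt.ofSp F ⥤ᵇ 𝒳}
    (ha : AlgSt.RepByAlgSpWith Q a) (hx : AlgSt.RepByAlgSpWith Q x) :
    AlgSt.RepByAlgSpWith Q (BasedFunctor.comp a x) :=
  repByAlgSpWith_comp hQ.bc hQ.comp hQ.det (isFibGrpd_overCat U) (Stk.isFibGrpd_ofPsh _) ha hx

theorem rep_toOverCat_comp {Q : MorphismProperty (AlgSp.Sp S)} {U : Over S} {x : overCat U ⥤ᵇ 𝒳}
    (hx : AlgSt.RepByAlgSpWith Q x) : AlgSt.RepByAlgSpWith Q (BasedFunctor.comp (AlgSt.toOverCat U) x) :=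
  repByAlgSpWith_comp_isEquivOver hx (toOverCat_isEquivOver U)

section SmoothLocally

variable (P : Scheme.{u} → Prop)
  (hP : ∀ (U : Scheme.{u}) (R : Presieve U), R ∈ Scheme.precoverage @Smooth U →
    (P U ↔ ∀ ⦃V : Scheme.{u}⦄ (g : V ⟶ U), R g → P V))

include hP

theorem of_etaleLocally_yon {U : Over S} (h : AlgSp.EtaleLocally P ((AlgSp.yon S).obj U)) : P U.left := by
  obtain ⟨U', p, hpe, hps, hPU⟩ := h
  obtain ⟨k, rfl⟩ := (AlgSp.yon S).map_surjective p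
  have : Etale k.left := (AlgSp.repWith_yon_map_iff _ _).1 hpe
  have : Surjective k.left := (AlgSp.repWith_yon_map_iff _ _).1 hps
  refine (hP U.left (Presieve.ofArrows (fun _ : PUnit.{u + 1} => U'.left) fun _ => k.left)
    ((Scheme.ofArrows_mem_precoverage_iff _).2 ⟨fun t => ?_, fun _ => inferInstanceAs (Smooth k.left)⟩)).2 ?_
  · obtain ⟨w, hw⟩ := k.left.surjective t
    exact ⟨⟨⟩, w, hw⟩
  · rintro V g ⟨o⟩
    exact hPU

theorem smoothLocally_iff_forall_space (h𝒳 : AlgSt.IsAlgStack K 𝒳) :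
    AlgSt.SmoothLocally P 𝒳 ↔
      ∀ (U : AlgSp.Space S) (x : AlgSt.ofSp U.obj ⥤ᵇ 𝒳),
        AlgSt.RepByAlgSpWith (AlgSp.LocP @Smooth) x → AlgSp.EtaleLocally P U.obj := by
  refine ⟨fun H X x hx => ?_, fun H U x hx => ?_⟩
  · obtain ⟨U, p, hpe, hps⟩ := X.property.atlas
    exact ⟨U, p, hpe, hps, H U _ (rep_comp_chart good_smooth (atlas_of_etale p hpe hps).1 hx)⟩
  · exact of_etaleLocally_yon P hP (H ((AlgSp.ofScheme S).obj U) _ (rep_toOverCat_comp hx))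

theorem smoothLocally_iff_exists_space (h𝒳 : AlgSt.IsAlgStack K 𝒳) :
    AlgSt.SmoothLocally P 𝒳 ↔
      ∃ (U : AlgSp.Space S) (x : AlgSt.ofSp U.obj ⥤ᵇ 𝒳),
        AlgSt.RepByAlgSpWith (AlgSp.LocP @Smooth) x ∧ AlgSt.RepByAlgSpWith AlgSp.IsSurjectiveMor x ∧
          AlgSp.EtaleLocally P U.obj := by
  refine ⟨fun H => ?_, ?_⟩
  · obtain ⟨U, x, hx, hxs⟩ := h𝒳.atlas
    exact ⟨(AlgSp.ofScheme S).obj U, _, rep_toOverCat_comp hx, rep_toOverCat_comp hxs,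
      U, 𝟙 _, AlgSp.repWith_id _ _, AlgSp.repWith_id _ _, H U x hx⟩
  · rintro ⟨X, x, hx, hxs, U, p, hpe, hps, hU⟩
    obtain ⟨h1, h2⟩ := atlas_of_etale p hpe hps
    exact (smoothLocally_iff_exists h𝒳 P hP).2
      ⟨U, _, rep_comp_chart good_smooth h1 hx, rep_comp_chart good_surjective h2 hxs, hU⟩

theorem smoothLocally_ofSp_iff (X : AlgSp.Space S) :
    AlgSt.SmoothLocally P (AlgSt.ofSp X.obj) ↔ AlgSp.EtaleLocally P X.obj := by
  refine ⟨fun H => ?_, fun ⟨U, p, hpe, hps, hU⟩ => ?_⟩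
  · obtain ⟨U, p, hpe, hps⟩ := X.property.atlas
    exact ⟨U, p, hpe, hps, H U _ (atlas_of_etale p hpe hps).1⟩
  · exact (smoothLocally_iff_exists (isAlgStack_ofSp X.property) P hP).2
      ⟨U, _, (atlas_of_etale p hpe hps).1, (atlas_of_etale p hpe hps).2, hU⟩

theorem smoothLocally_ofSch_iff (U : Over S) : AlgSt.SmoothLocally P (AlgSt.ofSch U) ↔ P U.left :=
  (smoothLocally_ofSp_iff P hP ((AlgSp.ofScheme S).obj U)).trans
    ⟨of_etaleLocally_yon P hP, fun h => ⟨U, 𝟙 _, AlgSp.repWith_id _ _, AlgSp.repWith_id _ _, h⟩⟩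

end SmoothLocally

theorem isQuasiCompact_iff_space (h𝒳 : AlgSt.IsAlgStack K 𝒳) :
    AlgSt.IsQuasiCompact 𝒳 ↔
      ∃ (U : AlgSp.Space S) (x : AlgSt.ofSp U.obj ⥤ᵇ 𝒳), AlgSp.IsQuasiCompactSp U.obj ∧
        AlgSt.RepByAlgSpWith (AlgSp.LocP @Smooth) x ∧ AlgSt.RepByAlgSpWith AlgSp.IsSurjectiveMor x := by
  refine ⟨fun ⟨U, x, hU, hx, hxs⟩ => ?_, fun ⟨X, x, hX, hx, hxs⟩ => ?_⟩
  · exact ⟨(AlgSp.ofScheme S).obj U, _, Groth.Agent.AlgSp.isQuasiCompactSp_yon U, rep_toOverCat_comp hx,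
      rep_toOverCat_comp hxs⟩
  · exact isQuasiCompact_of_surjective (isAlgStack_ofSp X.property) h𝒳
      ((isSurjective_iff_rep (isAlgStack_ofSp X.property) h𝒳 (repByAlgSp1_of_with hxs)).2 hxs)
      ((isQuasiCompact_ofSp_iff X.property).2 hX)

theorem locQ_iff_space_square {P : MorphismProperty (AlgSp.Sp S)} (hP : AlgSp.IsSmoothLocalST P)
    {f : 𝒳 ⥤ᵇ 𝒴} :
    AlgSt.LocQ P f ↔
      ∃ (U V : AlgSp.Space S) (x : AlgSt.ofSp U.obj ⥤ᵇ 𝒳) (y : AlgSt.ofSp V.obj ⥤ᵇ 𝒴) (h : U ⟶ V)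
        (_ : BasedFunctor.comp x f ≅ BasedFunctor.comp (AlgSt.ofSpMap h.hom) y),
        AlgSt.RepByAlgSpWith (AlgSp.LocP @Smooth) x ∧ AlgSt.RepByAlgSpWith AlgSp.IsSurjectiveMor x ∧
        AlgSt.RepByAlgSpWith (AlgSp.LocP @Smooth) y ∧ P h.hom := by
  refine ⟨fun ⟨U, V, x, y, h, α, hx, hxs, hy, hh⟩ => ?_, fun ⟨U, V, x, y, h, α, hx, hxs, hy, hh⟩ => ?_⟩
  · exact ⟨(AlgSp.ofScheme S).obj U, (AlgSp.ofScheme S).obj V, BasedFunctor.comp (AlgSt.toOverCat U) x,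
      BasedFunctor.comp (AlgSt.toOverCat V) y, (AlgSp.ofScheme S).map h,
      isoWhiskerLeft (AlgSt.toOverCat U) α ≪≫ isoWhiskerRight (toOverCatIso h) y,
      rep_toOverCat_comp hx, rep_toOverCat_comp hxs, rep_toOverCat_comp hy, hh⟩
  · obtain ⟨U₀, V₀, x₀, y₀, h₀, α₀, hx₀, hxs₀, hy₀, hh₀⟩ := (locQ_ofSpMap_iff hP U V h).2 hh
    exact ⟨U₀, V₀, BasedFunctor.comp x₀ x, BasedFunctor.comp y₀ y, h₀,
      isoWhiskerLeft x₀ α ≪≫ isoWhiskerRight α₀ y,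
      rep_comp_chart good_smooth hx₀ hx, rep_comp_chart good_surjective hxs₀ hxs,
      rep_comp_chart good_smooth hy₀ hy, hh₀⟩

end Groth.Agent.StFib
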