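import Groth.Agent.StFib.QC2
import Groth.Agent.StFib.SpaceCharts
import Groth.Agent.StFib.RepProps

/-!
Open substacks and open sets of points; substacks cut out by immersions.
-/

set_option backward.isDefEq.respectTransparency false
set_option backward.isDefEq.respectTransparency.types false
set_option linter.unusedVariables false

universe u

open CategoryTheory CategoryTheory.Limits AlgebraicGeometry Opposite FibCat TopologicalSpace Topology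

namespace Groth.Agent.StFib

variable {S : Scheme.{u}} {𝒳 𝒴 𝒲 : AlgSt.Cat S}

local notation "K" => Scheme.fppfPrecoverage

/-- The objects all of whose points lie in a set of points. -/
def ptsProp (T : Set (AlgSt.Points 𝒳)) : 𝒳.obj → Prop := fun x =>
  ∀ (p : AlgSt.FPt 𝒳), (p.obj ⟶ x) → AlgSt.Points.mk p ∈ T

theorem ptsProp_of_hom {T : Set (AlgSt.Points 𝒳)} {x y : 𝒳.obj} (a : y ⟶ x) (h : ptsProp T x) : ptsProp T y :=
  fun p b => h p (b ≫ a)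

theorem isClosedUnderIso_ptsProp (T : Set (AlgSt.Points 𝒳)) :
    ObjectProperty.IsClosedUnderIsomorphisms (ptsProp T) :=
  ⟨fun e h => ptsProp_of_hom e.inv h⟩

theorem ptsProp_chart_iff (h𝒳 : IsFibGrpd 𝒳.p) {U : Over S} (y : overCat U ⥤ᵇ 𝒳) (g : (overCat U).obj)
    (T : Set (AlgSt.Points 𝒳)) :
    ptsProp T (y.obj g) ↔ ∀ t : ↥g.left.left, AlgSt.Points.ofChart y (g.hom.left t) ∈ T := by
  refine ⟨fun h t => ?_, fun h p a => ?_⟩
  · have := h ⟨↥(g.left.left.residueField t), g.left.left.fromSpecResidueField t ≫ g.left.hom,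
        y.obj ((AlgSt.overMap g.hom).obj (Over.mk (Over.homMk (g.left.left.fromSpecResidueField t) rfl :
          Over.mk (g.left.left.fromSpecResidueField t ≫ g.left.hom) ⟶ g.left))), y.w_obj _⟩
      (y.map (Over.homMk (Over.homMk (g.left.left.fromSpecResidueField t) rfl) rfl))
    rw [← ofChart_overMap y g.hom t]
    exact this
  · let d : Over.mk p.str ⟶ g.left := eqToHom p.lies.symm ≫ 𝒳.p.map a ≫ eqToHom (y.w_obj g)
    let g' : (overCat U).obj := Over.mk (d ≫ g.hom)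
    let κ : g' ⟶ g := Over.homMk d rfl
    obtain ⟨χ, -, -⟩ := grpd_exists_vert_fac h𝒳 (y.map κ) a (p.lies.trans (y.w_obj g').symm)
      (by rw [w_map, show (overCat U).p.map κ = d from rfl]; simp [d])
    let q : AlgSt.FPt (overCat U) := ⟨p.K, p.str, g', rfl⟩
    have hq : AlgSt.Points.mk p = AlgSt.Points.map y (AlgSt.Points.mk q) :=
      AlgSt.Points.sound ⟨p, 𝟙 _, χ.hom, trivial⟩
    rw [hq, ← ofChart_id_ptOf q, ← ofChart_eq_map]
    have := h (d.left (IsLocalRing.closedPoint p.K))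
    convert this using 2
    exact (ptOf_eq q (IsLocalRing.closedPoint p.K)).trans (Scheme.Hom.comp_apply _ _ _)

theorem range_subIncl_ptsProp (T : Set (AlgSt.Points 𝒳)) (h𝒳 : IsFibGrpd 𝒳.p) :
    Set.range (AlgSt.Points.map (AlgSt.subIncl 𝒳 (ptsProp T))) = T := by
  ext P
  refine ⟨?_, fun hP => ?_⟩
  · rintro ⟨R, rfl⟩
    obtain ⟨r, rfl⟩ := AlgSt.Points.mk_surjective R
    exact r.obj.property (r.map (AlgSt.subIncl 𝒳 (ptsProp T))) (𝟙 _)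
  · obtain ⟨p, rfl⟩ := AlgSt.Points.mk_surjective P
    have hp : ptsProp T p.obj := fun q a => (AlgSt.Points.sound ⟨q, 𝟙 _, a, trivial⟩ :
      AlgSt.Points.mk q = AlgSt.Points.mk p) ▸ hP
    exact ⟨AlgSt.Points.mk ⟨p.K, p.str, ⟨p.obj, hp⟩, p.lies⟩, rfl⟩

instance fullSubFaithful (Q : 𝒳.obj → Prop) : (AlgSt.subIncl 𝒳 Q).toFunctor.Faithful :=
  inferInstanceAs (ObjectProperty.ι Q).Faithful

instance fullSubFull (Q : 𝒳.obj → Prop) : (AlgSt.subIncl 𝒳 Q).toFunctor.Full :=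
  inferInstanceAs (ObjectProperty.ι Q).Full

theorem isFibGrpd_fullSub (h𝒳 : IsFibGrpd 𝒳.p) (Q : 𝒳.obj → Prop)
    (hQ : ∀ {x y : 𝒳.obj}, (y ⟶ x) → Q x → Q y) : IsFibGrpd (AlgSt.fullSub 𝒳 Q).p := by
  refine isFibGrpd_of_fullyFaithful (AlgSt.subIncl 𝒳 Q) h𝒳 fun x {V} f => ?_
  obtain ⟨y, φ, hφ⟩ := h𝒳.exists_lift (x := x.obj) f
  refine ⟨⟨y, hQ φ x.property⟩, ObjectProperty.homMk φ, ?_⟩
  exact (BasedFunctor.isHomLift_iff (AlgSt.subIncl 𝒳 Q) f _).1 hφ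

/-- A functor with values in the objects of a full subcategory. -/
def subLift {Q : 𝒳.obj → Prop} (F : 𝒲 ⥤ᵇ 𝒳) (hF : ∀ w, Q (F.obj w)) : 𝒲 ⥤ᵇ AlgSt.fullSub 𝒳 Q where
  toFunctor := ObjectProperty.lift Q F.toFunctor hF
  w := F.w

theorem isOpenImm_subIncl_ptsProp (h𝒳 : AlgSt.IsAlgStack K 𝒳) {T : Set (AlgSt.Points 𝒳)} (hT : IsOpen T) :
    AlgSt.IsOpenImm (AlgSt.subIncl 𝒳 (ptsProp T)) := by
  intro U y
  let Q := ptsProp T
  let V : U.left.Opens := ⟨AlgSt.Points.ofChart y ⁻¹' T, hT.preimage (continuous_ofChart h𝒳 y)⟩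
  let V' : Over S := Over.mk (V.ι ≫ U.hom)
  let j : V' ⟶ U := Over.homMk V.ι rfl
  have hjQ : ∀ w : (overCat V').obj, Q ((BasedFunctor.comp (AlgSt.overMap j) y).obj w) := fun w => by
    refine (ptsProp_chart_iff h𝒳.isStack.1 y _ T).2 fun t => ?_
    exact (w.hom.left t).2
  let L : overCat V' ⥤ᵇ AlgSt.fullSub 𝒳 Q := subLift (BasedFunctor.comp (AlgSt.overMap j) y) hjQ
  let E : overCat V' ⥤ᵇ fp y (AlgSt.subIncl 𝒳 Q) := fpLift (AlgSt.overMap j) L (Iso.refl _)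
  have hmono : Mono j := ⟨fun a b h => Over.OverMorphism.ext
    ((cancel_mono V.ι).1 (congrArg (fun k : _ ⟶ U => k.left) h))⟩
  have hjfull : ∀ {w w' : (overCat V').obj} (a : (AlgSt.overMap j).obj w ⟶ (AlgSt.overMap j).obj w'),
      ∃ φ : w ⟶ w', (AlgSt.overMap j).map φ = a := fun {w w'} a =>
    ⟨Over.homMk a.left ((cancel_mono j).1 (by
      rw [Category.assoc]
      exact over_w a)), Over.OverMorphism.ext rfl⟩
  have : E.toFunctor.Faithful := ⟨fun {w w'} φ ψ h => Over.OverMorphism.ext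
    (congrArg (fun k => Over.Hom.left k.hom.fst) h)⟩
  have : E.toFunctor.Full := ⟨fun {w w'} k => by
    obtain ⟨φ, hφ⟩ := hjfull k.hom.fst
    refine ⟨φ, fp_hom_ext hφ ?_⟩
    apply (AlgSt.subIncl 𝒳 Q).toFunctor.map_injective
    have hw : y.map k.hom.fst ≫ 𝟙 _ = 𝟙 _ ≫ (AlgSt.subIncl 𝒳 Q).map k.hom.snd := k.hom.w
    rw [Category.comp_id, Category.id_comp] at hw
    rw [← hw, ← hφ]
    rfl⟩
  have hE : IsEquivOver E := isEquivOver_mk _ fun z => by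
    have hQz : Q (y.obj z.obj.fst) := ptsProp_of_hom z.obj.iso.hom z.obj.snd.property
    have hr : Set.range z.obj.fst.hom.left ⊆ (V : Set U.left) := by
      rintro _ ⟨t, rfl⟩
      exact (ptsProp_chart_iff h𝒳.isStack.1 y _ T).1 hQz t
    let k : z.obj.fst.left ⟶ V' := Over.homMk (IsOpenImmersion.lift V.ι z.obj.fst.hom.left
      (hr.trans V.range_ι.symm.subset)) (by
        change _ ≫ V.ι ≫ U.hom = _
        rw [IsOpenImmersion.lift_fac_assoc]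
        exact Over.w z.obj.fst.hom)
    have hk : k ≫ j = z.obj.fst.hom := Over.OverMorphism.ext (IsOpenImmersion.lift_fac _ _ _)
    let u : (AlgSt.overMap j).obj (Over.mk k) ≅ z.obj.fst := Over.isoMk (Iso.refl _) (by
      change 𝟙 _ ≫ z.obj.fst.hom = k ≫ j
      rw [hk, Category.id_comp])
    refine ⟨Over.mk k, fpIsoMk u (ObjectProperty.isoMk Q (y.toFunctor.mapIso u ≪≫
      ⟨z.obj.iso.hom, z.obj.iso.inv, z.obj.iso.hom_inv_id, z.obj.iso.inv_hom_id⟩)) ?_, ?_⟩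
    · change y.map u.hom ≫ z.obj.iso.hom = 𝟙 _ ≫ (y.map u.hom ≫ z.obj.iso.hom)
      rw [Category.id_comp]
    · exact vert_fp_iff.2 ⟨rfl, rfl⟩
  refine ⟨(AlgSp.ofScheme S).obj V', BasedFunctor.comp (AlgSt.toOverCat V') E,
    isEquivOver_comp (toOverCat_isEquivOver V') hE, ?_⟩
  have he : AlgSt.spMapOfOver (BasedFunctor.comp (BasedFunctor.comp (AlgSt.toOverCat V') E)
      (fpFst y (AlgSt.subIncl 𝒳 Q))) = (AlgSp.yon S).map j :=
    (spMapOfOver_congr (toOverCatIso j).symm).trans (spMapOfOver_ofSpMap_toOverCat ((AlgSp.yon S).map j))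
  rw [he]
  exact (AlgSp.repWith_yon_map_iff _ _).2 (inferInstanceAs (IsOpenImmersion V.ι))

theorem isOpenSubstack_ptsProp (h𝒳 : AlgSt.IsAlgStack K 𝒳) {T : Set (AlgSt.Points 𝒳)} (hT : IsOpen T) :
    AlgSt.IsOpenSubstack 𝒳 (ptsProp T) K :=
  ⟨isClosedUnderIso_ptsProp T,
    isAlgStack_of_rep (isFibGrpd_fullSub h𝒳.isStack.1 _ ptsProp_of_hom) h𝒳 (AlgSt.subIncl 𝒳 (ptsProp T))
      (repByAlgSp1_of_with (isOpenImm_subIncl_ptsProp h𝒳 hT)),
    isOpenImm_subIncl_ptsProp h𝒳 hT⟩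

/-- An object whose points lie in an open substack belongs to it. -/
theorem mem_openSubstack_iff (h𝒳 : AlgSt.IsAlgStack K 𝒳) {Q : 𝒳.obj → Prop}
    (hQ : AlgSt.IsOpenSubstack 𝒳 Q K) (x : 𝒳.obj) :
    Q x ↔ ptsProp (Set.range (AlgSt.Points.map (AlgSt.subIncl 𝒳 Q))) x := by
  obtain ⟨hiso, hA, hi⟩ := hQ
  refine ⟨fun hx p a => ?_, fun hx => ?_⟩
  · obtain ⟨q, eq', b, hb⟩ := grpd_exists_lift hA.isStack.1 ⟨x, hx⟩ (eqToHom p.lies.symm ≫ 𝒳.p.map a)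
    obtain ⟨χ, -, -⟩ := grpd_exists_vert_fac h𝒳.isStack.1 ((AlgSt.subIncl 𝒳 Q).map b) a
      (p.lies.trans eq'.symm) (by
        rw [show 𝒳.p.map ((AlgSt.subIncl 𝒳 Q).map b) = eqToHom eq' ≫ eqToHom p.lies.symm ≫ 𝒳.p.map a from hb]
        simp)
    exact ⟨AlgSt.Points.mk ⟨p.K, p.str, ⟨p.obj, ObjectProperty.prop_of_iso Q χ.symm q.property⟩, p.lies⟩, rfl⟩
  · obtain ⟨y, i, hiv⟩ := exists_overFunctor h𝒳.isStack.1 x (rfl : 𝒳.p.obj x = 𝒳.p.obj x)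
    obtain ⟨A, e, he, ha⟩ := hi _ y
    let U := 𝒳.p.obj x
    obtain ⟨V, g, ι, hι, hg⟩ := exists_iso_yon_of_repWith @IsOpenImmersion ha
    have hyx : ptsProp (Set.range (AlgSt.Points.map (AlgSt.subIncl 𝒳 Q))) (y.obj (Over.mk (𝟙 U))) :=
      ptsProp_of_hom i.hom hx
    have hsurj : Function.Surjective (AlgSt.Points.map (fpFst y (AlgSt.subIncl 𝒳 Q))) := fun P => by
      obtain ⟨t, rfl⟩ := ofChart_id_surjective P
      obtain ⟨R, hR⟩ := (ptsProp_chart_iff h𝒳.isStack.1 y _ _).1 hyx t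
      obtain ⟨w, hw, -⟩ := exists_points_fp_of_map_eq hA.isStack.1 (isFibGrpd_overCat U) h𝒳.isStack.1
        (AlgSt.subIncl 𝒳 Q) y (AlgSt.Points.ofChart (BasedFunctor.id _) t) R (by
          rw [← ofChart_eq_map, hR]; rfl)
      exact ⟨w, hw⟩
    have hsA := (points_fpFst_overCat_iff (fun φ => Function.Surjective φ) homeoInv_surjective y A e he).1 hsurj
    have : IsOpenImmersion g.left := hg
    have : Surjective g.left := ⟨fun t => by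
      obtain ⟨a, ha'⟩ := hsA (AlgSp.Points.schemeHomeo U t)
      obtain ⟨v, rfl⟩ : ∃ v, AlgSp.Points.map ι.hom (AlgSp.Points.schemeHomeo V v) = a := by
        refine ⟨(AlgSp.Points.schemeHomeo V).symm (AlgSp.Points.map ι.inv a), ?_⟩
        rw [Homeomorph.apply_symm_apply, ← AlgSp.Points.map_comp, ι.inv_hom_id, AlgSp.Points.map_id]
      refine ⟨v, (AlgSp.Points.schemeHomeo U).injective ?_⟩
      rw [← ha', ← AlgSp.Points.map_comp, hι]
      exact (AlgSp.Points.map_yon_map_apply _ _).symm⟩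
    have : IsIso g.left := (isIso_iff_isOpenImmersion_and_epi_base g.left).2 ⟨inferInstance,
      (TopCat.epi_iff_surjective g.left.base).2 g.left.surjective⟩
    have : IsIso ((Over.forget S).map g) := ‹IsIso g.left›
    have : IsIso g := isIso_of_reflects_iso g (Over.forget S)
    let z := (BasedFunctor.comp (AlgSt.ofOverCat U) (BasedFunctor.comp (AlgSt.ofSpMap ((AlgSp.yon S).map (inv g) ≫ ι.hom)) e)).obj
      (Over.mk (𝟙 U))
    let s := (AlgSp.yon S).map (inv g) ≫ ι.hom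
    have hs : s ≫ AlgSt.spMapOfOver (BasedFunctor.comp e (fpFst y (AlgSt.subIncl 𝒳 Q))) = 𝟙 _ := by
      rw [Category.assoc, hι, ← Functor.map_comp, IsIso.inv_hom_id, CategoryTheory.Functor.map_id]
    obtain ⟨ia⟩ := exists_iso_ofSpMap_toOverCat (A := A.obj) (BasedFunctor.comp e (fpFst y (AlgSt.subIncl 𝒳 Q)))
    let J : BasedFunctor.comp (BasedFunctor.comp (AlgSt.ofOverCat U) (BasedFunctor.comp (AlgSt.ofSpMap s) e))
        (fpFst y (AlgSt.subIncl 𝒳 Q)) ≅ BasedFunctor.comp (AlgSt.ofOverCat U)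
          (BasedFunctor.comp (AlgSt.ofSpMap (s ≫ AlgSt.spMapOfOver (BasedFunctor.comp e (fpFst y (AlgSt.subIncl 𝒳 Q)))))
            (AlgSt.toOverCat U)) :=
      isoWhiskerLeft (BasedFunctor.comp (AlgSt.ofOverCat U) (AlgSt.ofSpMap s)) ia.symm
    let v := isoApp J (Over.mk (𝟙 U))
    have hobj : (BasedFunctor.comp (AlgSt.ofOverCat U) (BasedFunctor.comp (AlgSt.ofSpMap (s ≫
        AlgSt.spMapOfOver (BasedFunctor.comp e (fpFst y (AlgSt.subIncl 𝒳 Q))))) (AlgSt.toOverCat U))).obj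
          (Over.mk (𝟙 U)) = Over.mk (𝟙 U) := by
      rw [hs]
      rfl
    exact ObjectProperty.prop_of_iso Q
      (z.obj.iso.symm ≪≫ y.toFunctor.mapIso (v ≪≫ eqToIso hobj) ≪≫ i) z.obj.snd.property

theorem openSubstack_le_iff (h𝒳 : AlgSt.IsAlgStack K 𝒳) {Q Q' : 𝒳.obj → Prop}
    (hQ : AlgSt.IsOpenSubstack 𝒳 Q K) (hQ' : AlgSt.IsOpenSubstack 𝒳 Q' K) :
    (∀ y, Q y → Q' y) ↔ Set.range (AlgSt.Points.map (AlgSt.subIncl 𝒳 Q)) ⊆
      Set.range (AlgSt.Points.map (AlgSt.subIncl 𝒳 Q')) := by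
  refine ⟨fun h => ?_, fun h y hy => ?_⟩
  · rintro _ ⟨R, rfl⟩
    obtain ⟨r, rfl⟩ := AlgSt.Points.mk_surjective R
    exact ⟨AlgSt.Points.mk ⟨r.K, r.str, ⟨r.obj.obj, h _ r.obj.property⟩, r.lies⟩, rfl⟩
  · exact (mem_openSubstack_iff h𝒳 hQ' y).2 fun p a => h ((mem_openSubstack_iff h𝒳 hQ y).1 hy p a)

theorem bijOn_openSubstack (h𝒳 : AlgSt.IsAlgStack K 𝒳) :
    Set.BijOn (fun Q : 𝒳.obj → Prop => Set.range (AlgSt.Points.map (AlgSt.subIncl 𝒳 Q)))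
      {Q | AlgSt.IsOpenSubstack 𝒳 Q K} {T | IsOpen T} :=
  ⟨fun Q hQ => isOpen_range_openSubstack h𝒳 hQ,
    fun Q hQ Q' hQ' h => funext fun y => propext
      ⟨(openSubstack_le_iff h𝒳 hQ hQ').2 h.subset y, (openSubstack_le_iff h𝒳 hQ' hQ).2 h.symm.subset y⟩,
    fun T hT => ⟨ptsProp T, isOpenSubstack_ptsProp h𝒳 hT, range_subIncl_ptsProp T h𝒳.isStack.1⟩⟩

theorem exists_openSubstack_union (h𝒳 : AlgSt.IsAlgStack K 𝒳) {ι : Type*} (Q : ι → 𝒳.obj → Prop)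
    (hQ : ∀ i, AlgSt.IsOpenSubstack 𝒳 (Q i) K) :
    ∃ Q' : 𝒳.obj → Prop, AlgSt.IsOpenSubstack 𝒳 Q' K ∧ (∀ i y, Q i y → Q' y) ∧
      Set.range (AlgSt.Points.map (AlgSt.subIncl 𝒳 Q')) =
        ⋃ i, Set.range (AlgSt.Points.map (AlgSt.subIncl 𝒳 (Q i))) := by
  have h := isOpenSubstack_ptsProp h𝒳 (isOpen_iUnion fun i => isOpen_range_openSubstack h𝒳 (hQ i))
  refine ⟨_, h, fun i => (openSubstack_le_iff h𝒳 (hQ i) h).2 ?_, range_subIncl_ptsProp _ h𝒳.isStack.1⟩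
  rw [range_subIncl_ptsProp _ h𝒳.isStack.1]
  exact Set.subset_iUnion (fun i => Set.range (AlgSt.Points.map (AlgSt.subIncl 𝒳 (Q i)))) i

theorem exists_openImm_image_chart (h𝒳 : AlgSt.IsAlgStack K 𝒳) (U : AlgSp.Space S) (u : AlgSt.ofSp U.obj ⥤ᵇ 𝒳)
    (hu₁ : AlgSt.RepByAlgSpWith (AlgSp.LocP @Smooth) u) (V : AlgSp.Space S) (j : V ⟶ U)
    (hj : AlgSp.RepWith @IsOpenImmersion j.hom) :
    ∃ (𝒴 : AlgSt.Cat S) (i : 𝒴 ⥤ᵇ 𝒳) (g : AlgSt.ofSp V.obj ⥤ᵇ 𝒴),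
      AlgSt.IsAlgStack K 𝒴 ∧ AlgSt.IsOpenImm i ∧
        AlgSt.RepByAlgSpWith (AlgSp.LocP @Smooth) g ∧ AlgSt.RepByAlgSpWith AlgSp.IsSurjectiveMor g ∧
          Nonempty (BasedFunctor.comp g i ≅ BasedFunctor.comp (AlgSt.ofSpMap j.hom) u) := by
  have hV := isAlgStack_ofSp V.property
  have hU := isAlgStack_ofSp U.property
  let c := BasedFunctor.comp (AlgSt.ofSpMap j.hom) u
  have hjs : AlgSp.LocP @Smooth j.hom := Groth.Agent.AlgSpCov.locP_of_repWith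
    Groth.Agent.AlgSpCov.standard_smooth.etaleLocal (Groth.Agent.AlgSp.repWith_mono
      (fun g hg => (have : IsOpenImmersion g := hg; inferInstance : Smooth g)) hj)
  have hc : AlgSt.RepByAlgSpWith (AlgSp.LocP @Smooth) c :=
    repByAlgSpWith_comp good_smooth.bc good_smooth.comp good_smooth.det (Stk.isFibGrpd_ofPsh _) hU.isStack.1
      (repByAlgSpWith_ofSpMap good_smooth.bc V.property U.property j.hom hjs) hu₁
  let T := Set.range (AlgSt.Points.map c)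
  have hT : IsOpen T := (isOpenMap_points_map_space h𝒳 (repByAlgSpWith_flat_of_smooth hc)
    (repByAlgSpWith_lfp_of_smooth hc)).isOpen_range
  have hcT : ∀ w, ptsProp T (c.obj w) := fun w p a => by
    let d : Over.mk p.str ⟶ (AlgSt.ofSp V.obj).p.obj w :=
      eqToHom p.lies.symm ≫ 𝒳.p.map a ≫ eqToHom (c.w_obj w)
    obtain ⟨w', ew, b, hb⟩ := grpd_exists_lift (Stk.isFibGrpd_ofPsh V.obj.obj) w d
    obtain ⟨χ, -, -⟩ := grpd_exists_vert_fac h𝒳.isStack.1 (c.map b) a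
      (p.lies.trans ((c.w_obj w').trans ew).symm) (by rw [w_map, hb]; simp [d])
    exact ⟨AlgSt.Points.mk ⟨p.K, p.str, w', ew⟩,
      (AlgSt.Points.sound ⟨p, 𝟙 _, χ.hom, trivial⟩ :
        AlgSt.Points.mk p = AlgSt.Points.map c (AlgSt.Points.mk ⟨p.K, p.str, w', ew⟩)).symm⟩
  obtain ⟨hiso, hA, hi⟩ := isOpenSubstack_ptsProp h𝒳 hT
  let g := subLift c hcT
  let i := AlgSt.subIncl 𝒳 (ptsProp T)
  have hcart : IsEquivOver (fpLift (F := i) (G := BasedFunctor.comp g i) g (BasedFunctor.id _)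
      (Iso.refl _)) := by
    refine fpLift_isEquivOver_mk _ _ _ (fun φ ψ _ h => h) (fun {w w'} a b h => ⟨b, ?_, rfl⟩) fun z => ?_
    · apply i.toFunctor.map_injective
      change i.map a ≫ 𝟙 _ = 𝟙 _ ≫ i.map (g.map b) at h
      simpa using h.symm
    · let a : g.obj z.obj.snd ≅ z.obj.fst := i.toFunctor.preimageIso z.obj.iso.symm
      have ha : i.map a.hom = z.obj.iso.inv := i.toFunctor.map_preimage _
      refine ⟨z.obj.snd, a, Iso.refl _, Vert.of_map i (by rw [ha]; exact (vert_fp_iso z).inv), ?_⟩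
      rw [ha, Iso.inv_hom_id]
      change 𝟙 _ = 𝟙 _ ≫ i.map (g.map (𝟙 z.obj.snd))
      simp <;> rfl
  have hgs : AlgSt.RepByAlgSpWith (AlgSp.LocP @Smooth) g := repByAlgSpWith_of_cart _ _ _ _ hcart hc
  refine ⟨_, i, g, hA, hi, hgs, (isSurjective_iff_rep hV hA (repByAlgSp1_of_with hgs)).1 fun P => ?_, ⟨Iso.refl _⟩⟩
  obtain ⟨R, hR⟩ : AlgSt.Points.map i P ∈ T :=
    (range_subIncl_ptsProp T h𝒳.isStack.1).subset ⟨P, rfl⟩
  refine ⟨R, points_map_injective_of_isMono hA.isStack.1 h𝒳.isStack.1 i ?_ ?_⟩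
  · exact repByAlgSpWith_mono hi fun F V m hm => Groth.Agent.AlgSp.mono_of_repWith
      (fun f hf => (have : IsOpenImmersion f := hf; inferInstance : Mono f)) m hm
  · exact ((points_map_comp g i).symm ▸ rfl : AlgSt.Points.map i (AlgSt.Points.map g R) =
      AlgSt.Points.map (BasedFunctor.comp g i) R).trans hR

/-! ## The substack cut out by an immersion -/

theorem exists_unique_locClosed_image {𝒵 : AlgSt.Cat S} (h𝒵 : AlgSt.IsAlgStack K 𝒵)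
    (h𝒳 : AlgSt.IsAlgStack K 𝒳) (i : 𝒵 ⥤ᵇ 𝒳) (hi : AlgSt.IsImm i) :
    ∃ Q : 𝒳.obj → Prop,
      (AlgSt.IsLocClosedSubstack 𝒳 Q K ∧
        (∃ i' : 𝒵 ⥤ᵇ AlgSt.fullSub 𝒳 Q, IsEquivOver i' ∧
          Nonempty (BasedFunctor.comp i' (AlgSt.subIncl 𝒳 Q) ≅ i)) ∧
        (AlgSt.IsClosedImm i → AlgSt.IsClosedSubstack 𝒳 Q K) ∧
        (AlgSt.IsOpenImm i → AlgSt.IsOpenSubstack 𝒳 Q K)) ∧
      ∀ Q' : 𝒳.obj → Prop, AlgSt.IsLocClosedSubstack 𝒳 Q' K →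
        (∃ i' : 𝒵 ⥤ᵇ AlgSt.fullSub 𝒳 Q', IsEquivOver i' ∧
          Nonempty (BasedFunctor.comp i' (AlgSt.subIncl 𝒳 Q') ≅ i)) → Q' = Q := by
  obtain ⟨hfull, hfaith⟩ := fullyFaithful_of_isMono h𝒵.isStack.1 h𝒳.isStack.1 i
    (repByAlgSpWith_mono hi fun F V m hm => Groth.Agent.AlgSp.mono_of_repWith
      (fun f hf => (have : IsImmersion f := hf; inferInstance : Mono f)) m hm)
  let Q : 𝒳.obj → Prop := fun x => ∃ z, Nonempty (i.obj z ≅ x)
  have hQ : ObjectProperty.IsClosedUnderIsomorphisms Q := ⟨fun e ⟨z, ⟨f⟩⟩ => ⟨z, ⟨f ≪≫ e⟩⟩⟩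
  let i' : 𝒵 ⥤ᵇ AlgSt.fullSub 𝒳 Q := subLift i fun z => ⟨z, ⟨Iso.refl _⟩⟩
  have : i'.toFunctor.Full := inferInstanceAs (ObjectProperty.lift Q i.toFunctor _).Full
  have : i'.toFunctor.Faithful := inferInstanceAs (ObjectProperty.lift Q i.toFunctor _).Faithful
  have hi' : IsEquivOver i' := isEquivOver_mk _ fun x => by
    obtain ⟨z, ⟨φ⟩⟩ := x.property
    let d : 𝒳.p.obj x.obj ⟶ 𝒵.p.obj z := 𝒳.p.map φ.inv ≫ eqToHom (i.w_obj z)
    obtain ⟨z', ez, ζ, hζ⟩ := grpd_exists_lift h𝒵.isStack.1 z d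
    obtain ⟨χ, hχ, -⟩ := grpd_exists_vert_fac h𝒳.isStack.1 φ.inv (i.map ζ) ((i.w_obj z').trans ez)
      (by rw [w_map, hζ]; simp [d])
    exact ⟨z', ObjectProperty.isoMk Q χ, ⟨hχ.base_eq, hχ.2⟩⟩
  have hA := isAlgStack_of_isEquivOver K hi' h𝒵
  have key : ∀ R : MorphismProperty (AlgSp.Sp S), AlgSt.RepByAlgSpWith R i →
      AlgSt.RepByAlgSpWith R (AlgSt.subIncl 𝒳 Q) := fun R hR =>
    (repByAlgSpWith_iff_of_equiv R (f := AlgSt.subIncl 𝒳 Q) (f' := i) i' (BasedFunctor.id 𝒳) hi'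
      (isEquivOver_id _) (Iso.refl _)).2 hR
  refine ⟨Q, ⟨⟨hQ, hA, key _ hi⟩, ⟨i', hi', ⟨Iso.refl _⟩⟩, fun h => ⟨hQ, hA, key _ h⟩,
    fun h => ⟨hQ, hA, key _ h⟩⟩, fun Q' hQ' ⟨j, hj, ⟨φ⟩⟩ => funext fun x => propext ⟨fun hx => ?_, ?_⟩⟩
  · obtain ⟨z, e, -⟩ := exists_vert_iso_of_isEquivOver hj ⟨x, hx⟩
    exact ⟨z, ⟨(isoApp φ z).symm ≪≫ (AlgSt.subIncl 𝒳 Q').toFunctor.mapIso e⟩⟩
  · rintro ⟨z, ⟨e⟩⟩
    have := hQ'.1
    exact ObjectProperty.prop_of_iso Q' ((isoApp φ z) ≪≫ e) (j.obj z).property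

end Groth.Agent.StFib
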