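import Groth.Prelude.Def_FibCat2

/-!
Categories over a base category: elementary calculus of based functors, based 2-isomorphisms and
equivalences over the base.
-/

set_option backward.isDefEq.respectTransparency false
set_option backward.isDefEq.respectTransparency.types false

universe v₆ u₆ v₅ u₅ v₄ u₄ v₃ u₃ v₂ u₂ v u

open CategoryTheory CategoryTheory.Limits

namespace Groth.Agent.StFib

variable {C : Type u} [Category.{v} C]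
variable {𝒳 : BasedCategory.{v₂, u₂} C} {𝒴 : BasedCategory.{v₃, u₃} C} {𝒵 : BasedCategory.{v₄, u₄} C}

/-- The image in the base of `F φ`. -/
theorem w_map (F : 𝒳 ⥤ᵇ 𝒴) {a b : 𝒳.obj} (φ : a ⟶ b) :
    𝒴.p.map (F.map φ) = eqToHom (F.w_obj a) ≫ 𝒳.p.map φ ≫ eqToHom (F.w_obj b).symm :=
  Functor.congr_hom F.w φ

theorem map_eq_map_of_p (F : 𝒳 ⥤ᵇ 𝒴) {a b : 𝒳.obj} (φ ψ : a ⟶ b) (h : F.map φ = F.map ψ) :
    𝒳.p.map φ = 𝒳.p.map ψ := by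
  have h' := congrArg 𝒴.p.map h
  rw [w_map, w_map] at h'
  simpa [eqToHom_comp_iff, comp_eqToHom_iff] using h'

/-- `φ` lies over an identity. -/
def Vert {a b : 𝒳.obj} (φ : a ⟶ b) : Prop := ∃ h : 𝒳.p.obj a = 𝒳.p.obj b, 𝒳.p.map φ = eqToHom h

theorem Vert.base_eq {a b : 𝒳.obj} {φ : a ⟶ b} (h : Vert φ) : 𝒳.p.obj a = 𝒳.p.obj b := h.1

theorem vert_iff {a b : 𝒳.obj} {φ : a ⟶ b} :
    Vert φ ↔ 𝒳.p.IsHomLift (𝟙 (𝒳.p.obj a)) φ := by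
  constructor
  · rintro ⟨h, e⟩
    exact IsHomLift.of_fac' 𝒳.p _ _ rfl h.symm (by simp [e])
  · intro h
    exact ⟨(IsHomLift.codomain_eq 𝒳.p (𝟙 (𝒳.p.obj a)) φ).symm,
      by simpa using IsHomLift.fac' 𝒳.p (𝟙 (𝒳.p.obj a)) φ⟩

theorem vert_of_isHomLift {R : C} {a b : 𝒳.obj} {φ : a ⟶ b} (h : 𝒳.p.IsHomLift (𝟙 R) φ) :
    Vert φ := by
  have ha := IsHomLift.domain_eq 𝒳.p (𝟙 R) φ
  subst ha
  exact vert_iff.2 h

theorem Vert.isHomLift {R : C} {a b : 𝒳.obj} {φ : a ⟶ b} (h : Vert φ) (ha : 𝒳.p.obj a = R) :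
    𝒳.p.IsHomLift (𝟙 R) φ := by
  subst ha
  exact vert_iff.1 h

theorem Vert.id (a : 𝒳.obj) : Vert (𝟙 a) := ⟨rfl, by simp⟩

theorem vert_eqToHom {a b : 𝒳.obj} (h : a = b) : Vert (eqToHom h) :=
  ⟨congrArg 𝒳.p.obj h, eqToHom_map _ _⟩

theorem Vert.comp {a b c : 𝒳.obj} {φ : a ⟶ b} {ψ : b ⟶ c} (h : Vert φ) (h' : Vert ψ) :
    Vert (φ ≫ ψ) :=
  ⟨h.1.trans h'.1, by rw [Functor.map_comp, h.2, h'.2, eqToHom_trans]⟩

theorem Vert.inv {a b : 𝒳.obj} {φ : a ≅ b} (h : Vert φ.hom) : Vert φ.inv := by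
  refine ⟨h.1.symm, ?_⟩
  have := (𝒳.p.mapIso φ).inv_hom_id
  simp only [Functor.mapIso_inv, Functor.mapIso_hom, h.2] at this
  rw [comp_eqToHom_iff] at this
  simpa using this

theorem Vert.of_comp_left {a b c : 𝒳.obj} {φ : a ⟶ b} {ψ : b ⟶ c} (h : Vert (φ ≫ ψ))
    (h' : Vert φ) : Vert ψ := by
  refine ⟨h'.1.symm.trans h.1, ?_⟩
  have := h.2
  rw [Functor.map_comp, h'.2, eqToHom_comp_iff] at this
  simpa using this

theorem Vert.of_comp_right {a b c : 𝒳.obj} {φ : a ⟶ b} {ψ : b ⟶ c} (h : Vert (φ ≫ ψ))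
    (h' : Vert ψ) : Vert φ := by
  refine ⟨h.1.trans h'.1.symm, ?_⟩
  have := h.2
  rw [Functor.map_comp, h'.2, comp_eqToHom_iff] at this
  simpa using this

theorem Vert.map (F : 𝒳 ⥤ᵇ 𝒴) {a b : 𝒳.obj} {φ : a ⟶ b} (h : Vert φ) : Vert (F.map φ) :=
  ⟨(F.w_obj a).trans (h.1.trans (F.w_obj b).symm), by simp [w_map, h.2]⟩

theorem Vert.of_map (F : 𝒳 ⥤ᵇ 𝒴) {a b : 𝒳.obj} {φ : a ⟶ b} (h : Vert (F.map φ)) : Vert φ := by
  refine ⟨(F.w_obj a).symm.trans (h.1.trans (F.w_obj b)), ?_⟩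
  have := h.2
  rw [w_map, eqToHom_comp_iff, comp_eqToHom_iff] at this
  simpa using this

/-- The component of a based natural isomorphism. -/
abbrev isoApp {F G : 𝒳 ⥤ᵇ 𝒴} (e : F ≅ G) (a : 𝒳.obj) : F.obj a ≅ G.obj a :=
  ((BasedNatTrans.forgetful _ _).mapIso e).app a

theorem vert_app {F G : 𝒳 ⥤ᵇ 𝒴} (e : F ⟶ G) (a : 𝒳.obj) : Vert (e.toNatTrans.app a) :=
  vert_of_isHomLift (e.isHomLift' a)

theorem vert_isoApp {F G : 𝒳 ⥤ᵇ 𝒴} (e : F ≅ G) (a : 𝒳.obj) : Vert (isoApp e a).hom :=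
  vert_app e.hom a

theorem vert_isoApp_inv {F G : 𝒳 ⥤ᵇ 𝒴} (e : F ≅ G) (a : 𝒳.obj) : Vert (isoApp e a).inv :=
  (vert_isoApp e a).inv

theorem isoApp_naturality {F G : 𝒳 ⥤ᵇ 𝒴} (e : F ≅ G) {a b : 𝒳.obj} (φ : a ⟶ b) :
    F.map φ ≫ (isoApp e b).hom = (isoApp e a).hom ≫ G.map φ :=
  e.hom.toNatTrans.naturality φ

/-- Constructor for based natural isomorphisms. -/
def isoMk {F G : 𝒳 ⥤ᵇ 𝒴} (app : ∀ a, F.obj a ≅ G.obj a) (vert : ∀ a, Vert (app a).hom)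
    (nat : ∀ {a b : 𝒳.obj} (φ : a ⟶ b), F.map φ ≫ (app b).hom = (app a).hom ≫ G.map φ) :
    F ≅ G :=
  BasedNatIso.mkNatIso (NatIso.ofComponents app nat)
    (fun a => (vert a).isHomLift (F.w_obj a))

@[simp] theorem isoMk_app {F G : 𝒳 ⥤ᵇ 𝒴} (app : ∀ a, F.obj a ≅ G.obj a) (vert nat) (a : 𝒳.obj) :
    (isoMk (F := F) (G := G) app vert nat).hom.toNatTrans.app a = (app a).hom := rfl

/-- Left whiskering of a 2-isomorphism. -/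
def isoWhiskerLeft (K : 𝒳 ⥤ᵇ 𝒴) {F G : 𝒴 ⥤ᵇ 𝒵} (e : F ≅ G) :
    BasedFunctor.comp K F ≅ BasedFunctor.comp K G :=
  isoMk (fun a => isoApp e (K.obj a)) (fun _ => vert_isoApp e _)
    (fun φ => isoApp_naturality e (K.map φ))

/-- Right whiskering of a 2-isomorphism. -/
def isoWhiskerRight {F G : 𝒳 ⥤ᵇ 𝒴} (e : F ≅ G) (H : 𝒴 ⥤ᵇ 𝒵) :
    BasedFunctor.comp F H ≅ BasedFunctor.comp G H :=
  isoMk (fun a => H.toFunctor.mapIso (isoApp e a)) (fun _ => (vert_isoApp e _).map H)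
    (fun {a b} φ => by
      change H.map (F.map φ) ≫ H.map _ = H.map _ ≫ H.map (G.map φ)
      rw [← Functor.map_comp, ← Functor.map_comp]
      exact congrArg _ (isoApp_naturality e φ))

section EquivOver

open FibCat

theorem isEquivOver_id (𝒳 : BasedCategory.{v₂, u₂} C) : IsEquivOver (BasedFunctor.id 𝒳) :=
  ⟨BasedFunctor.id 𝒳, ⟨Iso.refl _⟩, ⟨Iso.refl _⟩⟩

theorem isEquivOver_symm {F : 𝒳 ⥤ᵇ 𝒴} (h : IsEquivOver F) :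
    ∃ G : 𝒴 ⥤ᵇ 𝒳, IsEquivOver G ∧ Nonempty (BasedFunctor.comp F G ≅ BasedFunctor.id 𝒳) ∧
      Nonempty (BasedFunctor.comp G F ≅ BasedFunctor.id 𝒴) := by
  obtain ⟨G, h1, h2⟩ := h
  exact ⟨G, ⟨F, h2, h1⟩, h1, h2⟩

theorem isEquivOver_comp {F : 𝒳 ⥤ᵇ 𝒴} {G : 𝒴 ⥤ᵇ 𝒵} (hF : IsEquivOver F) (hG : IsEquivOver G) :
    IsEquivOver (BasedFunctor.comp F G) := by
  obtain ⟨F', ⟨a⟩, ⟨b⟩⟩ := hF
  obtain ⟨G', ⟨c⟩, ⟨d⟩⟩ := hG
  exact ⟨BasedFunctor.comp G' F',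
    ⟨isoWhiskerLeft F (isoWhiskerRight c F') ≪≫ a⟩,
    ⟨isoWhiskerLeft G' (isoWhiskerRight b G) ≪≫ d⟩⟩

theorem isEquivOver_of_iso {F F' : 𝒳 ⥤ᵇ 𝒴} (hF : IsEquivOver F) (e : F ≅ F') : IsEquivOver F' := by
  obtain ⟨G, ⟨a⟩, ⟨b⟩⟩ := hF
  exact ⟨G, ⟨isoWhiskerRight e.symm G ≪≫ a⟩, ⟨isoWhiskerLeft G e.symm ≪≫ b⟩⟩

theorem isEquivalence_of_isEquivOver {F : 𝒳 ⥤ᵇ 𝒴} (h : IsEquivOver F) :
    F.toFunctor.IsEquivalence := by
  obtain ⟨G, ⟨a⟩, ⟨b⟩⟩ := h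
  exact (CategoryTheory.Equivalence.mk F.toFunctor G.toFunctor
    ((BasedNatTrans.forgetful _ _).mapIso a).symm
    ((BasedNatTrans.forgetful _ _).mapIso b)).isEquivalence_functor

theorem full_of_isEquivOver {F : 𝒳 ⥤ᵇ 𝒴} (h : IsEquivOver F) : F.toFunctor.Full :=
  have := isEquivalence_of_isEquivOver h
  inferInstance

theorem faithful_of_isEquivOver {F : 𝒳 ⥤ᵇ 𝒴} (h : IsEquivOver F) : F.toFunctor.Faithful :=
  have := isEquivalence_of_isEquivOver h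
  inferInstance

theorem exists_vert_iso_of_isEquivOver {F : 𝒳 ⥤ᵇ 𝒴} (h : IsEquivOver F) (y : 𝒴.obj) :
    ∃ (x : 𝒳.obj) (e : F.obj x ≅ y), Vert e.hom := by
  obtain ⟨G, -, ⟨b⟩⟩ := h
  exact ⟨G.obj y, isoApp b y, vert_isoApp b y⟩

/-- A fully faithful functor over `C` that is essentially surjective with vertical isomorphisms
is an equivalence over `C`. -/
theorem isEquivOver_mk (F : 𝒳 ⥤ᵇ 𝒴) [F.toFunctor.Full] [F.toFunctor.Faithful]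
    (h : ∀ y : 𝒴.obj, ∃ (x : 𝒳.obj) (e : F.obj x ≅ y), Vert e.hom) : IsEquivOver F := by
  choose g e he using h
  have hb : ∀ y, 𝒳.p.obj (g y) = 𝒴.p.obj y := fun y => (F.w_obj _).symm.trans (he y).base_eq
  let G₀ : 𝒴.obj ⥤ 𝒳.obj :=
    { obj := g
      map := fun {y y'} φ => F.toFunctor.preimage ((e y).hom ≫ φ ≫ (e y').inv)
      map_id := fun y => F.toFunctor.map_injective (by simp)
      map_comp := fun φ ψ => F.toFunctor.map_injective (by simp) }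
  have hG : ∀ {y y' : 𝒴.obj} (φ : y ⟶ y'),
      F.toFunctor.map (G₀.map φ) = (e y).hom ≫ φ ≫ (e y').inv :=
    fun φ => F.toFunctor.map_preimage _
  have hw : ∀ {y y' : 𝒴.obj} (φ : y ⟶ y'),
      𝒳.p.map (G₀.map φ) = eqToHom (hb y) ≫ 𝒴.p.map φ ≫ eqToHom (hb y').symm := by
    intro y y' φ
    have h1 := congrArg 𝒴.p.map (hG φ)
    simp only [Functor.map_comp, (he y).2, (he y').inv.2] at h1
    rw [w_map, eqToHom_comp_iff, comp_eqToHom_iff] at h1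
    simpa using h1
  let G : 𝒴 ⥤ᵇ 𝒳 := ⟨G₀, Functor.ext hb fun _ _ φ => hw φ⟩
  refine ⟨G, ⟨isoMk (fun a => F.toFunctor.preimageIso (e (F.obj a))) (fun a => ?_) ?_⟩,
    ⟨isoMk e he ?_⟩⟩
  · exact Vert.of_map F (by simpa using he (F.obj a))
  · intro a b φ
    apply F.toFunctor.map_injective
    change F.toFunctor.map (G₀.map (F.map φ) ≫ _) = F.toFunctor.map (_ ≫ φ)
    simp [hG]
  · intro a b φ
    change F.toFunctor.map (G₀.map φ) ≫ _ = _ ≫ φ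
    simp [hG]

theorem isEquivOver_of_comp_iso {F : 𝒳 ⥤ᵇ 𝒴} {G : 𝒴 ⥤ᵇ 𝒵} {H : 𝒳 ⥤ᵇ 𝒵} (hG : IsEquivOver G)
    (hH : IsEquivOver H) (e : BasedFunctor.comp F G ≅ H) : IsEquivOver F := by
  obtain ⟨G', hG', ⟨c⟩, -⟩ := isEquivOver_symm hG
  exact isEquivOver_of_iso (isEquivOver_comp hH hG')
    (isoWhiskerRight e.symm G' ≪≫ isoWhiskerLeft F c)

end EquivOver

end Groth.Agent.StFib
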