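import Groth.Agent.StFib.RepPsh
import Groth.Agent.StFib.Diag

/-!
Base change of a representable morphism along an algebraic space; the diagonal criterion.
-/

set_option backward.isDefEq.respectTransparency false
set_option backward.isDefEq.respectTransparency.types false

universe v₄ u₄ v₃ u₃ v₂ u₂ v u

open CategoryTheory CategoryTheory.Limits AlgebraicGeometry Opposite FibCat

namespace Groth.Agent.StFib

section Setoid

variable {C : Type u} [Category.{v} C]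
variable {𝒳 : BasedCategory.{v₂, u₂} C} {𝒴 : BasedCategory.{v₃, u₃} C} {𝒮 : BasedCategory.{v₄, u₄} C}

theorem isFibSetoid_fp (F : 𝒳 ⥤ᵇ 𝒮) (G : 𝒴 ⥤ᵇ 𝒮) (h𝒳 : IsFibSetoid 𝒳.p)
    (h𝒴 : IsFibGrpd 𝒴.p) (h𝒮 : IsFibGrpd 𝒮.p) [G.toFunctor.Faithful] :
    IsFibSetoid (fp F G).p := by
  refine isFibSetoid_of_vert_unique (isFibGrpd_fp h𝒳.1 h𝒴 h𝒮 F G) fun {a b} φ ψ hφ hψ => ?_
  have h1 : φ.hom.fst = ψ.hom.fst :=
    vert_unique_of_isFibSetoid h𝒳 (vert_fp_iff.1 hφ) (vert_fp_iff.1 hψ)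
  refine fp_hom_ext h1 (G.toFunctor.map_injective ((cancel_epi a.obj.iso.hom).1 ?_))
  exact φ.hom.w.symm.trans ((congrArg (fun m => F.map m ≫ b.obj.iso.hom) h1).trans ψ.hom.w)

end Setoid

variable {S : Scheme.{u}} {𝒳 𝒴 𝒵 : AlgSt.Cat S}

/-- A base change along an algebraic space of a representable morphism is an algebraic space. -/
theorem repByAlgSp_fp (h𝒳 : IsFibGrpd 𝒳.p) (h𝒴 : IsFibGrpd 𝒴.p) (f : 𝒳 ⥤ᵇ 𝒴) (g : 𝒵 ⥤ᵇ 𝒴)
    (hf : AlgSt.RepByAlgSp1 f) (hZ : AlgSt.RepByAlgSp 𝒵) : AlgSt.RepByAlgSp (fp g f) := by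
  have := faithful_of_repByAlgSp1 h𝒳 h𝒴 f hf
  have hW : IsFibSetoid (fp g f).p :=
    isFibSetoid_fp g f (isFibSetoid_of_repByAlgSp hZ) h𝒳 h𝒴
  obtain ⟨A, eA, heA⟩ := hZ
  obtain ⟨d, hd, -, ⟨j⟩⟩ := isEquivOver_symm heA
  obtain ⟨t, ht, -, -⟩ := isEquivOver_symm (toClassPsh_isEquivOver hW)
  let Φ := BasedFunctor.comp t (BasedFunctor.comp (fpFst g f) d)
  obtain ⟨k⟩ := exists_iso_pshMap (P := classPsh (fp g f) hW.1) (Q := A.obj.obj) Φ
  have h1 := repByAlgSpWith_fpFst (⊤ : MorphismProperty (AlgSp.Sp S)) g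
    (repByAlgSp1_iff_with_top.1 hf)
  have ek : BasedFunctor.comp (Stk.ofPshMap (pshMap Φ)) eA ≅ BasedFunctor.comp t (fpFst g f) :=
    Iso.trans (isoWhiskerRight k.symm eA) (isoWhiskerLeft (BasedFunctor.comp t (fpFst g f)) j)
  have h2 : AlgSt.RepByAlgSp1 (Stk.ofPshMap (pshMap Φ)) :=
    repByAlgSp1_iff_with_top.2 ((repByAlgSpWith_iff_of_equiv _ t eA ht heA ek).1 h1)
  have h3 := isAlgSpaceP_of_repBySp _ ((repBySp_iff _).2 h2)
    ((AlgSp.isAlgSpaceP_obj_iff A.obj).2 A.property)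
  exact repByAlgSp_of_equiv ht (repByAlgSp_ofPsh h3)

/-- Testing representability on algebraic spaces. -/
theorem repByAlgSp1_of_forall_overCat (h𝒳 : IsFibGrpd 𝒳.p)
    (H : ∀ (U : Over S) (x : overCat U ⥤ᵇ 𝒳), AlgSt.RepByAlgSp1 x) (hY : AlgSt.RepByAlgSp 𝒴)
    (x : 𝒴 ⥤ᵇ 𝒳) : AlgSt.RepByAlgSp1 x := fun U y =>
  repByAlgSp_of_equiv (fpSwap_isEquivOver x y)
    (repByAlgSp_fp (isFibGrpd_overCat U) h𝒳 y x (H U y) hY)

/-- The identity category over `(Sch/S)` is the slice over `S`. -/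
theorem repByAlgSp_selfOver : AlgSt.RepByAlgSp (selfOver (C := Over S)) := by
  let U : Over S := Over.mk (𝟙 S)
  let E : overCat U ⥤ᵇ selfOver (C := Over S) := toSelf (overCat U)
  have hu : ∀ {T : Over S} (a b : T ⟶ U), a = b := fun a b =>
    Over.OverMorphism.ext (((Category.comp_id _).symm.trans (over_w a)).trans
      ((over_w b).symm.trans (Category.comp_id _)))
  have : E.toFunctor.Faithful := ⟨fun h => Over.OverMorphism.ext h⟩
  have : E.toFunctor.Full := ⟨fun {a b} g => ⟨Over.homMk g (hu _ _), rfl⟩⟩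
  have hE : IsEquivOver E :=
    isEquivOver_mk _ fun (T : Over S) => ⟨Over.mk (Over.homMk T.hom (Category.comp_id _) : T ⟶ U),
      Iso.refl _, Vert.id _⟩
  exact repByAlgSp_of_equiv hE (repByAlgSp_overCat U)

/-- The comparison square attached to two morphisms and a structure map. -/
theorem exists_fp_comparison (f : 𝒵 ⥤ᵇ 𝒳) (g : 𝒴 ⥤ᵇ 𝒳) (t : 𝒳 ⥤ᵇ selfOver (C := Over S)) :
    ∃ E : fp f g ⥤ᵇ fp (compPhi f g t) (diag t), IsEquivOver E :=
  ⟨_, comp_cart f g t (isoWhiskerRight (fpIso f g) t) fun _ => rfl⟩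

theorem repByAlgSp1_diag_iff (h𝒳 : IsFibGrpd 𝒳.p) :
    AlgSt.RepByAlgSp1 (diag (toSelf 𝒳)) ↔
      ∀ (U : Over S) (x : overCat U ⥤ᵇ 𝒳), AlgSt.RepByAlgSp1 x := by
  have hself : IsFibGrpd (selfOver (C := Over S)).p := by
    obtain ⟨F, e, he⟩ := repByAlgSp_selfOver (S := S)
    exact isFibGrpd_of_isEquivOver he (Stk.isFibGrpd_ofPsh _)
  have hB : ∀ {U V : Over S} (x : overCat U ⥤ᵇ 𝒳) (y : overCat V ⥤ᵇ 𝒳), AlgSt.RepByAlgSp
      (fp (BasedFunctor.comp x (toSelf 𝒳)) (BasedFunctor.comp y (toSelf 𝒳))) := fun x y =>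
    repByAlgSp_fp (isFibGrpd_overCat _) hself _ _
      (repByAlgSp1_of_repByAlgSp (repByAlgSp_overCat _) repByAlgSp_selfOver _)
      (repByAlgSp_overCat _)
  constructor
  · intro hd U x V y
    obtain ⟨E, hE⟩ := exists_fp_comparison y x (toSelf 𝒳)
    exact (repByAlgSp_iff_of_equiv hE).2
      (repByAlgSp_fp h𝒳 (isFibGrpd_fp h𝒳 h𝒳 hself _ _) _ _ hd (hB y x))
  · intro H U z
    let t := toSelf 𝒳
    let x : overCat U ⥤ᵇ 𝒳 := BasedFunctor.comp z (fpFst t t)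
    let y : overCat U ⥤ᵇ 𝒳 := BasedFunctor.comp z (fpSnd t t)
    let s : overCat U ⥤ᵇ fp (BasedFunctor.comp x t) (BasedFunctor.comp y t) :=
      fpLift (BasedFunctor.id _) (BasedFunctor.id _) (isoWhiskerLeft z (fpIso t t))
    obtain ⟨E, hE⟩ := exists_fp_comparison x y t
    have hW := (repByAlgSp_iff_of_equiv hE).1 (H U y U x)
    have hBg : IsFibGrpd (fp (BasedFunctor.comp x t) (BasedFunctor.comp y t)).p :=
      isFibGrpd_fp (isFibGrpd_overCat U) (isFibGrpd_overCat U) hself _ _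
    have hWg : IsFibGrpd (fp (compPhi x y t) (diag t)).p :=
      isFibGrpd_fp hBg h𝒳 (isFibGrpd_fp h𝒳 h𝒳 hself _ _) _ _
    have h1 := repByAlgSp_fp hWg hBg (fpFst (compPhi x y t) (diag t)) s
      (repByAlgSp1_of_repByAlgSp hW (hB x y) _) (repByAlgSp_overCat U)
    have h2 := repByAlgSp_of_equiv (fpPaste_isEquivOver (compPhi x y t) (diag t) s) h1
    obtain ⟨E', hE', -⟩ := exists_fp_congr (F := BasedFunctor.comp s (compPhi x y t)) (F' := z)
      (G := diag t) (G' := diag t) (Iso.refl z) (Iso.refl _)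
    exact repByAlgSp_of_equiv hE' h2

end Groth.Agent.StFib
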