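import Groth.Agent.StFib.DescBase

/-!
Criteria for a representable morphism to have a property local on the base.
-/

set_option backward.isDefEq.respectTransparency false
set_option backward.isDefEq.respectTransparency.types false

universe u

open CategoryTheory CategoryTheory.Limits AlgebraicGeometry Opposite FibCat

namespace Groth.Agent.StFib

variable {S : Scheme.{u}} {𝒳 𝒴 𝒵 : AlgSt.Cat S} {f : 𝒳 ⥤ᵇ 𝒴}
  {P : MorphismProperty (AlgSp.Sp S)}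

theorem repByAlgSpWith_iff_fpFst_cover (hPb : StableBC P)
    (hP : AlgSp.IsLocalOnBase AlgSp.IsFppfCover P) (h𝒴 : IsFibGrpd 𝒴.p) (h𝒵 : IsFibGrpd 𝒵.p)
    (hf : AlgSt.RepByAlgSp1 f) {z : 𝒵 ⥤ᵇ 𝒴}
    (hz₁ : AlgSt.RepByAlgSpWith (AlgSp.LocP @Flat) z)
    (hz₂ : AlgSt.RepByAlgSpWith (AlgSp.LocP @LocallyOfFinitePresentation) z)
    (hz₃ : AlgSt.RepByAlgSpWith AlgSp.IsSurjectiveMor z) :
    AlgSt.RepByAlgSpWith P f ↔ AlgSt.RepByAlgSpWith P (fpFst z f) :=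
  ⟨fun h => repByAlgSpWith_fpFst P z h, fun h => repByAlgSpWith_of_locally_lift hPb hP hf
    (exists_locally_lift h𝒵 h𝒴 hz₁ hz₂ hz₃) h⟩

theorem repByAlgSpWith_fpFst_of_space (hPb : StableBC P) {Z V : AlgSp.Space S}
    {z : AlgSt.ofSp Z.obj ⥤ᵇ 𝒴} (a : V ⟶ Z) (e : AlgSt.ofSp V.obj ⥤ᵇ fp z f) (he : IsEquivOver e)
    (i : BasedFunctor.comp e (fpFst z f) ≅ AlgSt.ofSpMap a.hom) (ha : P a.hom) :
    AlgSt.RepByAlgSpWith P (fpFst z f) :=
  (repByAlgSpWith_iff_of_equiv P e (BasedFunctor.id _) he (isEquivOver_id _)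
    (f := fpFst z f) (f' := AlgSt.ofSpMap a.hom) i.symm).2
      (repByAlgSpWith_ofSpMap hPb V.property Z.property a.hom ha)

theorem repByAlgSpWith_iff_forall_space (hPb : StableBC P)
    (hP : AlgSp.IsLocalOnBase AlgSp.IsFppfCover P) (h𝒳 : IsFibGrpd 𝒳.p) (h𝒴 : IsFibGrpd 𝒴.p) :
    AlgSt.RepByAlgSpWith P f ↔
      ∀ (Z : AlgSp.Space S) (z : AlgSt.ofSp Z.obj ⥤ᵇ 𝒴),
        ∃ (V : AlgSp.Space S) (a : V ⟶ Z) (e : AlgSt.ofSp V.obj ⥤ᵇ fp z f),
          IsEquivOver e ∧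
            Nonempty (BasedFunctor.comp e (fpFst z f) ≅ AlgSt.ofSpMap a.hom) ∧ P a.hom := by
  refine ⟨fun h Z z => exists_space_fp hPb (detected_of_isLocalOnBase hP) h𝒳 h𝒴 h Z z, fun H U y => ?_⟩
  obtain ⟨V, a, e, he, ⟨i⟩, ha⟩ := H ⟨(AlgSp.yon S).obj U, isAlgSpace_yon U⟩
    (BasedFunctor.comp (AlgSt.toOverCat U) y)
  have : (BasedFunctor.id 𝒴).toFunctor.Full := inferInstanceAs (𝟭 _).Full
  have : (BasedFunctor.id 𝒴).toFunctor.Faithful := inferInstanceAs (𝟭 _).Faithful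
  let M : fp (BasedFunctor.comp (AlgSt.toOverCat U) y) f ⥤ᵇ fp y f :=
    fpMap (F := y) (G := f) (F' := BasedFunctor.comp (AlgSt.toOverCat U) y) (G' := f)
      (AlgSt.toOverCat U) (BasedFunctor.id _) (BasedFunctor.id _) (Iso.refl _) (Iso.refl _)
  refine ⟨V, BasedFunctor.comp e M, isEquivOver_comp he
    (fpMap_isEquivOver _ _ _ _ _ (toOverCat_isEquivOver U) (isEquivOver_id _)), ?_⟩
  have h1 : AlgSt.spMapOfOver (F := V.obj) (BasedFunctor.comp (BasedFunctor.comp e M) (fpFst y f)) =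
      AlgSt.spMapOfOver (F := V.obj) (BasedFunctor.comp (AlgSt.ofSpMap a.hom) (AlgSt.toOverCat U)) :=
    spMapOfOver_congr (isoWhiskerRight i (AlgSt.toOverCat U))
  have h2 : AlgSt.spMapOfOver (F := V.obj)
      (BasedFunctor.comp (AlgSt.ofSpMap a.hom) (AlgSt.toOverCat U)) = a.hom := by
    ext W x
    exact congrArg ULift.up (Category.id_comp _)
  exact (h1.trans h2).symm ▸ ha

end Groth.Agent.StFib
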