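import Groth.Agent.StFib.DiagConv

/-!
Properties of representable morphisms which are local on the base can be tested after a covering of the base.
-/

set_option backward.isDefEq.respectTransparency false
set_option backward.isDefEq.respectTransparency.types false

universe u

open CategoryTheory CategoryTheory.Limits AlgebraicGeometry Opposite FibCat

namespace Groth.Agent.StFib

variable {S : Scheme.{u}} {𝒳 𝒴 𝒵 : AlgSt.Cat S}

/-- A map of schemes as a map of slices. -/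
theorem exists_iso_overMap {U V : Over S} (F : overCat U ⥤ᵇ overCat V) :
    ∃ a : U ⟶ V, Nonempty (F ≅ AlgSt.overMap a) := by
  let x₀ : Over V := F.obj (Over.mk (𝟙 U))
  have hF : Over.left x₀ = U := F.w_obj _
  let a : U ⟶ V := eqToHom hF.symm ≫ x₀.hom
  obtain ⟨α, -⟩ := exists_overIso (isFibGrpd_overCat V) F (AlgSt.overMap a)
    (Over.isoMk (eqToIso hF) (by
      change eqToHom hF ≫ (𝟙 U ≫ a) = x₀.hom
      simp [a]))
    ⟨hF, rfl⟩
  exact ⟨a, ⟨α⟩⟩

/-- The functor of a map of schemes is compatible with the slices. -/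
def toOverCatIso {U V : Over S} (h : V ⟶ U) :
    BasedFunctor.comp (AlgSt.ofSpMap ((AlgSp.yon S).map h)) (AlgSt.toOverCat U) ≅
      BasedFunctor.comp (AlgSt.toOverCat V) (AlgSt.overMap h) :=
  isoMk (fun _ => Iso.refl _) (fun _ => Vert.id _)
    (fun φ => (Category.comp_id _).trans
      (Eq.trans (Over.OverMorphism.ext rfl) (Category.id_comp _).symm))

theorem mem_scheme_of_overMap {P : MorphismProperty Scheme.{u}} (hP : Groth.Agent.AlgSpCov.Standard P)
    {U V : Over S} {h : V ⟶ U} (hh : AlgSt.RepByAlgSpWith (AlgSp.LocP P) (AlgSt.overMap h)) :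
    P h.left := by
  have hg := good_locP (S := S) hP
  have h1 : AlgSt.RepByAlgSpWith (AlgSp.LocP P) (AlgSt.ofSpMap ((AlgSp.yon S).map h)) :=
    (repByAlgSpWith_iff_of_equiv _ (AlgSt.toOverCat V) (AlgSt.toOverCat U)
      (toOverCat_isEquivOver V) (toOverCat_isEquivOver U) (toOverCatIso h)).1 hh
  have h2 := mem_of_repByAlgSpWith_ofSpMap hg.bc hg.det (isAlgSpace_yon V) (isAlgSpace_yon U) _ h1
  exact h2 (𝟙 _) (𝟙 _) h (AlgSp.repWith_id _ _) (AlgSp.repWith_id _ _) (by simp)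

theorem surjective_of_overMap {U V : Over S} {h : V ⟶ U}
    (hh : AlgSt.RepByAlgSpWith AlgSp.IsSurjectiveMor (AlgSt.overMap h)) : Surjective h.left := by
  have h1 : AlgSt.RepByAlgSpWith AlgSp.IsSurjectiveMor (AlgSt.ofSpMap ((AlgSp.yon S).map h)) :=
    (repByAlgSpWith_iff_of_equiv _ (AlgSt.toOverCat V) (AlgSt.toOverCat U)
      (toOverCat_isEquivOver V) (toOverCat_isEquivOver U) (toOverCatIso h)).1 hh
  have h2 := mem_of_repByAlgSpWith_ofSpMap good_surjective.bc good_surjective.det (isAlgSpace_yon V)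
    (isAlgSpace_yon U) _ h1
  refine ⟨fun x => ?_⟩
  obtain ⟨p, hp⟩ := h2 (AlgSp.Points.schemeHomeo U x)
  obtain ⟨v, rfl⟩ := (AlgSp.Points.schemeHomeo V).surjective p
  rw [AlgSp.Points.map_yon_map_apply] at hp
  exact ⟨v, (AlgSp.Points.schemeHomeo U).injective hp⟩

variable {f : 𝒳 ⥤ᵇ 𝒴} {g : 𝒵 ⥤ᵇ 𝒴}

theorem mem_pullback_of_lift {P : MorphismProperty (AlgSp.Sp S)} (hPb : StableBC P)
    (hdet : DetectedOnSchemes P) (h' : AlgSt.RepByAlgSpWith P (fpFst g f))
    {U : Over S} {y : overCat U ⥤ᵇ 𝒴} (A : AlgSp.Space S) (e : AlgSt.ofSp A.obj ⥤ᵇ fp y f)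
    (he : IsEquivOver e) {V : Over S} (h : V ⟶ U) (z : overCat V ⥤ᵇ 𝒵)
    (i : BasedFunctor.comp z g ≅ BasedFunctor.comp (AlgSt.overMap h) y) :
    P (pullback.snd (AlgSt.spMapOfOver (BasedFunctor.comp e (fpFst y f))) ((AlgSp.yon S).map h)) := by
  let a := AlgSt.spMapOfOver (BasedFunctor.comp e (fpFst y f))
  let p := (AlgSp.yon S).map h
  have hA' := Groth.Agent.AlgSp.isAlgSpace_pullback (isAlgSpace_yon U) A.property (isAlgSpace_yon V) a p
  refine mem_of_repByAlgSpWith_ofSpMap hPb hdet hA' (isAlgSpace_yon V) _ ?_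
  have sq := (IsPullback.map (sheafToPresheaf (AlgSp.J S) (Type (u + 1)))
    (IsPullback.of_hasPullback a p)).flip
  let N : AlgSt.ofSp (pullback a p) ⥤ᵇ fp (AlgSt.ofSpMap p) (AlgSt.ofSpMap a) :=
    fpLift (Stk.ofPshMap (pullback.snd a p).hom) (Stk.ofPshMap (pullback.fst a p).hom) (pshSqIso sq.w)
  have hN : IsEquivOver N := pshSq_cart sq
  refine (repByAlgSpWith_iff_of_equiv P N (BasedFunctor.id _) hN (isEquivOver_id _)
    (f := fpFst (AlgSt.ofSpMap p) (AlgSt.ofSpMap a)) (Iso.refl _)).1 ?_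
  -- the base change of `fpFst y f` along `h`
  obtain ⟨ia⟩ := exists_iso_ofSpMap_toOverCat (A := A.obj) (BasedFunctor.comp e (fpFst y f))
  have := full_of_isEquivOver (toOverCat_isEquivOver U)
  have := faithful_of_isEquivOver (toOverCat_isEquivOver U)
  let M : fp (AlgSt.ofSpMap p) (AlgSt.ofSpMap a) ⥤ᵇ fp (AlgSt.overMap h) (fpFst y f) :=
    fpMap (F := AlgSt.overMap h) (G := fpFst y f) (F' := AlgSt.ofSpMap p) (G' := AlgSt.ofSpMap a)
      (AlgSt.toOverCat V) e (AlgSt.toOverCat U) (toOverCatIso h).symm ia.symm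
  have hM : IsEquivOver M := fpMap_isEquivOver _ _ _ _ _ (toOverCat_isEquivOver V) he
  refine (repByAlgSpWith_iff_of_equiv P M (AlgSt.toOverCat V) hM (toOverCat_isEquivOver V)
    (f := fpFst (AlgSt.overMap h) (fpFst y f)) (Iso.refl _)).1 ?_
  -- compare with the base change of `fpFst g f` along `z`
  obtain ⟨E, hE, ⟨iE⟩, -⟩ := exists_fp_of_cart _ _ _ (fpLift_self_isEquivOver y f) (AlgSt.overMap h)
  refine (repByAlgSpWith_iff_of_equiv P E (BasedFunctor.id _) hE (isEquivOver_id _)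
    (f := fpFst (BasedFunctor.comp (AlgSt.overMap h) y) f)
    (f' := fpFst (AlgSt.overMap h) (fpFst y f)) iE.symm).1 ?_
  obtain ⟨E₂, hE₂, ⟨iE₂⟩, -⟩ := exists_fp_congr (F' := BasedFunctor.comp (AlgSt.overMap h) y)
    (G' := f) i.symm (Iso.refl f)
  refine repByAlgSpWith_of_forall P (f := fpFst g f) h' fun T t => ?_
  obtain ⟨E₁, hE₁, ⟨iE₁⟩, -⟩ := exists_fp_of_cart _ _ _ (fpLift_self_isEquivOver g f) z
  obtain ⟨d, hd, -, ⟨j⟩⟩ := isEquivOver_symm (isEquivOver_comp hE₁ hE₂)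
  let i' : BasedFunctor.comp d (fpFst z (fpFst g f)) ≅
      fpFst (BasedFunctor.comp (AlgSt.overMap h) y) f :=
    isoWhiskerLeft d (iE₁.symm ≪≫ isoWhiskerLeft E₁ iE₂.symm) ≪≫
      isoWhiskerRight j (fpFst (BasedFunctor.comp (AlgSt.overMap h) y) f)
  obtain ⟨E₃, hE₃, ⟨iE₃⟩, -⟩ := exists_fp_of_cart _ _ _ (fpLift_self_isEquivOver z (fpFst g f)) t
  have : (BasedFunctor.id (overCat V)).toFunctor.Full := inferInstanceAs (𝟭 _).Full
  have : (BasedFunctor.id (overCat V)).toFunctor.Faithful := inferInstanceAs (𝟭 _).Faithful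
  exact ⟨BasedFunctor.comp t z, BasedFunctor.comp
      (fpMap (F := t) (G := fpFst z (fpFst g f)) (F' := t)
        (G' := fpFst (BasedFunctor.comp (AlgSt.overMap h) y) f) (BasedFunctor.id _) d
        (BasedFunctor.id _) (Iso.refl _) i') E₃,
    isEquivOver_comp (fpMap_isEquivOver _ _ _ _ _ (isEquivOver_id _) hd) hE₃,
    ⟨isoWhiskerLeft _ iE₃⟩⟩

theorem repByAlgSpWith_of_locally_lift {P : MorphismProperty (AlgSp.Sp S)} (hPb : StableBC P)
    (hP : AlgSp.IsLocalOnBase AlgSp.IsFppfCover P) (hf : AlgSt.RepByAlgSp1 f)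
    (hg : ∀ (U : Over S) (y : overCat U ⥤ᵇ 𝒴), ∃ R ∈ AlgSp.J S U,
      ∀ ⦃V : Over S⦄ (h : V ⟶ U), R.arrows h →
        ∃ z : overCat V ⥤ᵇ 𝒵, Nonempty (BasedFunctor.comp z g ≅ BasedFunctor.comp (AlgSt.overMap h) y))
    (h' : AlgSt.RepByAlgSpWith P (fpFst g f)) : AlgSt.RepByAlgSpWith P f := by
  intro U y
  obtain ⟨A, e, he⟩ := hf U y
  refine ⟨A, e, he, ?_⟩
  obtain ⟨R, hR, hz⟩ := hg U y
  obtain ⟨R₀, hR₀, hsub⟩ := Groth.Agent.AlgSp.exists_cover_of_mem hR
  obtain ⟨ι, W, c, rfl⟩ := R₀.exists_eq_ofArrows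
  obtain ⟨hs, hc⟩ := (Scheme.ofArrows_mem_precoverage_iff _).1 hR₀
  choose i hi using hs
  have hdet := detected_of_isLocalOnBase hP
  let V : ↥U.left → Over S := fun x => Over.mk (c (i x) ≫ U.hom)
  let l : ∀ x, V x ⟶ U := fun x => Over.homMk (c (i x)) rfl
  refine (hP (fun x => (AlgSp.yon S).obj (V x)) (fun x => (AlgSp.yon S).map (l x)) (isAlgSpace_yon U)
    (fun x => isAlgSpace_yon _) ⟨fun x => ⟨?_, ?_⟩, fun t => ?_⟩ _ A.property
    (fun x => pullback _ ((AlgSp.yon S).map (l x)))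
    (fun x => pullback.snd _ _) (fun x => pullback.fst _ _)
    (fun x => Groth.Agent.AlgSp.isAlgSpace_pullback (isAlgSpace_yon U) A.property (isAlgSpace_yon _) _ _)
    (fun x => IsPullback.of_hasPullback _ _)).2 fun x => ?_
  · exact Groth.Agent.AlgSpCov.locP_of_repWith Groth.Agent.AlgSpCov.etaleLocal_flat
      ((AlgSp.repWith_yon_map_iff _ _).2 (hc (i x)).1)
  · exact Groth.Agent.AlgSpCov.locP_of_repWith
      Groth.Agent.AlgSpCov.etaleLocal_locallyOfFinitePresentation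
      ((AlgSp.repWith_yon_map_iff _ _).2 (hc (i x)).2)
  · obtain ⟨x, rfl⟩ := (AlgSp.Points.schemeHomeo U).surjective t
    obtain ⟨w, hw⟩ := hi x
    exact ⟨x, AlgSp.Points.schemeHomeo (V x) w, by
      rw [AlgSp.Points.map_yon_map_apply]
      exact congrArg _ hw⟩
  · obtain ⟨z, ⟨iz⟩⟩ := hz (l x) (hsub (c (i x)) (Presieve.ofArrows.mk _))
    exact mem_pullback_of_lift hPb hdet h' A e he (l x) z iz

/-- A flat surjective locally finitely presented morphism has sections fppf locally on the base. -/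
theorem exists_locally_lift {z : 𝒵 ⥤ᵇ 𝒴} (h𝒵 : IsFibGrpd 𝒵.p) (h𝒴 : IsFibGrpd 𝒴.p)
    (hz₁ : AlgSt.RepByAlgSpWith (AlgSp.LocP @Flat) z)
    (hz₂ : AlgSt.RepByAlgSpWith (AlgSp.LocP @LocallyOfFinitePresentation) z)
    (hz₃ : AlgSt.RepByAlgSpWith AlgSp.IsSurjectiveMor z) (U : Over S) (y : overCat U ⥤ᵇ 𝒴) :
    ∃ R ∈ AlgSp.J S U, ∀ ⦃V : Over S⦄ (h : V ⟶ U), R.arrows h →
      ∃ t : overCat V ⥤ᵇ 𝒵, Nonempty (BasedFunctor.comp t z ≅ BasedFunctor.comp (AlgSt.overMap h) y) := by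
  obtain ⟨W, w, hw, hws⟩ := atlasProp_smooth.atlas (repByAlgSp1_of_with hz₁ U y)
  have hM : IsFibGrpd (fp y z).p := isFibGrpd_fp (isFibGrpd_overCat U) h𝒵 h𝒴 y z
  have step : ∀ Q : MorphismProperty (AlgSp.Sp S), Good Q → AlgSt.RepByAlgSpWith Q w →
      AlgSt.RepByAlgSpWith Q z → AlgSt.RepByAlgSpWith Q (BasedFunctor.comp w (fpFst y z)) :=
    fun Q hQ h1 h2 => repByAlgSpWith_comp hQ.bc hQ.comp hQ.det (isFibGrpd_overCat W) hM h1
      (repByAlgSpWith_fpFst Q y h2)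
  obtain ⟨c, ⟨ic⟩⟩ := exists_iso_overMap (BasedFunctor.comp w (fpFst y z))
  have h1 := step _ (good_locP Groth.Agent.AlgSpCov.standard_flat) (repByAlgSpWith_mono hw
    fun F V m hm A B a b k ha hb e => have : Smooth k.left := hm a b k ha hb e; inferInstance) hz₁
  have h2 := step _ (good_locP Groth.Agent.AlgSpCov.standard_locallyOfFinitePresentation)
    (repByAlgSpWith_mono hw
      fun F V m hm A B a b k ha hb e => have : Smooth k.left := hm a b k ha hb e; inferInstance) hz₂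
  have h3 := step _ good_surjective hws hz₃
  have := mem_scheme_of_overMap Groth.Agent.AlgSpCov.standard_flat (repByAlgSpWith_of_iso _ ic h1)
  have := mem_scheme_of_overMap Groth.Agent.AlgSpCov.standard_locallyOfFinitePresentation
    (repByAlgSpWith_of_iso _ ic h2)
  have := surjective_of_overMap (repByAlgSpWith_of_iso _ ic h3)
  let T : Sieve U := Sieve.generate (Presieve.singleton c)
  refine ⟨T, Groth.Agent.AlgSp.mem_of_fppf c (Sieve.le_generate _ _ _ (Presieve.singleton_self c)),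
    fun V h hh => ?_⟩
  obtain ⟨V', k, c', hc', rfl⟩ := hh
  cases hc'
  have io : AlgSt.overMap (k ≫ c) ≅ BasedFunctor.comp (AlgSt.overMap k) (AlgSt.overMap c) :=
    isoMk (fun x => Over.isoMk (Iso.refl _) (by
        change 𝟙 _ ≫ ((x.hom ≫ k) ≫ c) = x.hom ≫ k ≫ c
        simp))
      (fun x => Vert.id _)
      (fun φ => Over.OverMorphism.ext ((Category.comp_id _).trans (Category.id_comp _).symm))
  exact ⟨BasedFunctor.comp (BasedFunctor.comp (AlgSt.overMap k) w) (fpSnd y z),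
    ⟨isoWhiskerLeft (BasedFunctor.comp (AlgSt.overMap k) w) (fpIso y z).symm ≪≫
      isoWhiskerRight (isoWhiskerLeft (AlgSt.overMap k) ic ≪≫ io.symm) y⟩⟩

end Groth.Agent.StFib
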