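import Groth.Agent.StFib.PointsTop
import Groth.Agent.AlgSpB.Points
import Groth.Agent.StFib.AlgStack

/-!
Points of the category of a sheaf agree with the points of the sheaf.
-/

set_option backward.isDefEq.respectTransparency false
set_option backward.isDefEq.respectTransparency.types false
set_option linter.unusedVariables false

universe u

open CategoryTheory CategoryTheory.Limits AlgebraicGeometry Opposite FibCat

namespace Groth.Agent.StFib

variable {S : Scheme.{u}} {F G : AlgSp.Sp S}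

theorem spFpt_base (p : AlgSt.FPt (AlgSt.ofSp F)) : p.obj.base = Over.mk p.str := p.lies

/-- The field point of a sheaf underlying a field point of its category. -/
noncomputable def spFieldPt (p : AlgSt.FPt (AlgSt.ofSp F)) : AlgSp.FieldPt F :=
  ⟨p.K, p.str, F.obj.map (eqToHom (spFpt_base p).symm).op p.obj.sec⟩

theorem spFieldPt_map {r p : AlgSt.FPt (AlgSt.ofSp F)} (a : r.obj ⟶ p.obj) :
    F.obj.map (eqToHom (spFpt_base r).symm ≫ a.hom ≫ eqToHom (spFpt_base p)).op (spFieldPt p).val =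
      (spFieldPt r).val := by
  change F.obj.map _ (F.obj.map _ p.obj.sec) = F.obj.map _ r.obj.sec
  rw [← a.map_sec]
  simp only [← Functor.map_comp_apply, ← op_comp]
  simp only [Category.assoc, eqToHom_trans, eqToHom_refl, Category.comp_id]

theorem spFieldPt_rel {p q : AlgSt.FPt (AlgSt.ofSp F)} (h : AlgSt.FPt.Rel p q) :
    AlgSp.FieldPt.Rel (spFieldPt p) (spFieldPt q) := by
  obtain ⟨r, a, b, -⟩ := h
  exact ⟨r.K, r.field, r.str, eqToHom (spFpt_base r).symm ≫ a.hom ≫ eqToHom (spFpt_base p),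
    eqToHom (spFpt_base r).symm ≫ b.hom ≫ eqToHom (spFpt_base q),
    (spFieldPt_map a).trans (spFieldPt_map b).symm⟩

/-- `|ofSp F| → |F|`. -/
noncomputable def toSpPt : AlgSt.Points (AlgSt.ofSp F) → AlgSp.Points F :=
  Quot.lift (fun p => AlgSp.Points.mk (spFieldPt p)) fun _ _ h => AlgSp.Points.sound (spFieldPt_rel h)

theorem toSpPt_mk (p : AlgSt.FPt (AlgSt.ofSp F)) :
    toSpPt (AlgSt.Points.mk p) = AlgSp.Points.mk (spFieldPt p) := rfl

/-- The field point of the category of a sheaf defined by a field point of the sheaf. -/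
noncomputable def stFPt (q : AlgSp.FieldPt F) : AlgSt.FPt (AlgSt.ofSp F) :=
  { K := q.K, str := q.str, obj := ⟨Over.mk q.str, q.val⟩, lies := rfl }

theorem toSpPt_bijective : Function.Bijective (toSpPt (F := F)) := by
  constructor
  · intro P Q h
    obtain ⟨p, rfl⟩ := AlgSt.Points.mk_surjective P
    obtain ⟨q, rfl⟩ := AlgSt.Points.mk_surjective Q
    obtain ⟨Ω, _, w, a, b, hab⟩ := AlgSp.Points.mk_eq_mk_iff.1 h
    have key : ∀ (s : AlgSt.FPt (AlgSt.ofSp F)) (c : Over.mk w ⟶ Over.mk s.str),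
        F.obj.map (c ≫ eqToHom (spFpt_base s).symm).op s.obj.sec = F.obj.map c.op (spFieldPt s).val :=
      fun s c => by
        change _ = F.obj.map _ (F.obj.map _ s.obj.sec)
        rw [← Functor.map_comp_apply]
        rfl
    refine AlgSt.Points.sound ⟨⟨Ω, w, ⟨Over.mk w, F.obj.map a.op (spFieldPt p).val⟩, rfl⟩,
      ⟨a ≫ eqToHom (spFpt_base p).symm, key p a⟩,
      ⟨b ≫ eqToHom (spFpt_base q).symm, (key q b).trans hab.symm⟩, trivial⟩
  · intro Q
    obtain ⟨q, rfl⟩ := AlgSp.Points.mk_surjective Q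
    refine ⟨AlgSt.Points.mk (stFPt q), congrArg AlgSp.Points.mk ?_⟩
    change AlgSp.FieldPt.mk q.K q.str (F.obj.map _ q.val) = q
    exact congrArg (AlgSp.FieldPt.mk q.K q.str) (psh_map_id _ _)

theorem toSpPt_map (f : F ⟶ G) (P : AlgSt.Points (AlgSt.ofSp F)) :
    toSpPt (AlgSt.Points.map (AlgSt.ofSpMap f) P) = AlgSp.Points.map f (toSpPt P) := by
  obtain ⟨p, rfl⟩ := AlgSt.Points.mk_surjective P
  refine congrArg AlgSp.Points.mk ?_
  change AlgSp.FieldPt.mk p.K p.str (G.obj.map _ (f.hom.app _ p.obj.sec)) =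
    AlgSp.FieldPt.mk p.K p.str (f.hom.app _ (F.obj.map _ p.obj.sec))
  rw [NatTrans.naturality_apply]

theorem toSpPt_ofChart {U : Over S} (a : (AlgSp.yon S).obj U ⟶ F) (t : ↥U.left) :
    toSpPt (AlgSt.Points.ofChart (BasedFunctor.comp (AlgSt.ofOverCat U) (AlgSt.ofSpMap a)) t) =
      AlgSp.Points.ofPt a t := by
  refine congrArg AlgSp.Points.mk ?_
  change AlgSp.FieldPt.mk _ _ (F.obj.map _ _) = AlgSp.FieldPt.ofPt a t
  exact congrArg (AlgSp.FieldPt.mk _ _) (psh_map_id _ _)

theorem isHomeomorph_toSpPt (hF : AlgSp.IsAlgSpace F) : IsHomeomorph (toSpPt (F := F)) := by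
  obtain ⟨U, a, hae, has⟩ := hF.atlas
  let w := BasedFunctor.comp (AlgSt.ofOverCat U) (AlgSt.ofSpMap a)
  have hw : AlgSt.RepByAlgSpWith (AlgSp.LocP @Smooth) w :=
    repByAlgSpWith_atlas _ _ (fun _ _ _ h => locP_smooth_of_repWith h) hF a
      (repWith_mono' (P := @Etale) (Q := @Smooth) (fun _ _ f hf => have : Etale f := hf
        inferInstance) hae)
  have hws : AlgSt.RepByAlgSpWith AlgSp.IsSurjectiveMor w :=
    repByAlgSpWith_atlas _ _ (fun _ _ _ h => isSurjectiveMor_of_repWith h) hF a has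
  have hX : AlgSt.IsAlgStack Scheme.fppfPrecoverage (AlgSt.ofSp F) :=
    (isDM_of_repByAlgSp (𝒳 := AlgSt.ofSp F) ⟨⟨F, hF⟩, BasedFunctor.id _, isEquivOver_id _⟩).1
  have hq : IsOpenQuotientMap (AlgSt.Points.ofChart w) :=
    ⟨ofChart_surjective hX.isStack.1 hws, continuous_ofChart hX w,
      isOpenMap_ofChart hX (repByAlgSpWith_flat_of_smooth hw) (repByAlgSpWith_lfp_of_smooth hw)⟩
  have hq' := Groth.Agent.AlgSpB.isOpenQuotientMap_ofPt hae has
  have he : toSpPt (F := F) ∘ AlgSt.Points.ofChart w = AlgSp.Points.ofPt a :=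
    funext fun t => toSpPt_ofChart a t
  refine ⟨?_, ?_, toSpPt_bijective⟩
  · rw [← hq.continuous_comp_iff, he]
    exact hq'.continuous
  · intro W hW
    have h1 : AlgSp.Points.ofPt a '' (AlgSt.Points.ofChart w ⁻¹' W) = toSpPt '' W := by
      rw [← he, Set.image_comp, Set.image_preimage_eq _ hq.surjective]
    rw [← h1]
    exact hq'.isOpenMap _ (hW.preimage hq.continuous)

end Groth.Agent.StFib
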