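import Groth.Agent.StFib.OpenSub

/-!
A predicate closed under pullback whose locus on every chart is open cuts out an open substack.
-/

set_option backward.isDefEq.respectTransparency false
set_option backward.isDefEq.respectTransparency.types false
set_option linter.unusedVariables false

universe u

open CategoryTheory CategoryTheory.Limits AlgebraicGeometry Opposite FibCat TopologicalSpace Topology

namespace Groth.Agent.StFib

variable {S : Scheme.{u}} {𝒳 : AlgSt.Cat S}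

local notation "K" => Scheme.fppfPrecoverage

theorem repByAlgSpWith_subIncl_of_openLoci (P : MorphismProperty Scheme.{u})
    [P.IsStableUnderBaseChange] (Q : 𝒳.obj → Prop)
    (hQ : ∀ {x y : 𝒳.obj}, (y ⟶ x) → Q x → Q y)
    (hloc : ∀ (U : Over S) (y : overCat U ⥤ᵇ 𝒳), ∃ V : U.left.Opens, P V.ι ∧ ∀ g : (overCat U).obj,
      Q (y.obj g) ↔ Set.range g.hom.left ⊆ (V : Set U.left)) :
    AlgSt.RepByAlgSpWith (AlgSp.RepWith P) (AlgSt.subIncl 𝒳 Q) := by
  intro U y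
  obtain ⟨V, hP, hV⟩ := hloc U y
  let V' : Over S := Over.mk (V.ι ≫ U.hom)
  let j : V' ⟶ U := Over.homMk V.ι rfl
  have hjQ : ∀ w : (overCat V').obj, Q ((BasedFunctor.comp (AlgSt.overMap j) y).obj w) := fun w => by
    refine (hV _).2 ?_
    rintro _ ⟨t, rfl⟩
    exact (w.hom.left t).2
  let L : overCat V' ⥤ᵇ AlgSt.fullSub 𝒳 Q := subLift (BasedFunctor.comp (AlgSt.overMap j) y) hjQ
  let E : overCat V' ⥤ᵇ fp y (AlgSt.subIncl 𝒳 Q) := fpLift (AlgSt.overMap j) L (Iso.refl _)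
  have hmono : Mono j := ⟨fun a b h => Over.OverMorphism.ext
    ((cancel_mono V.ι).1 (congrArg (fun k : _ ⟶ U => k.left) h))⟩
  have hjfull : ∀ {w w' : (overCat V').obj} (a : (AlgSt.overMap j).obj w ⟶ (AlgSt.overMap j).obj w'),
      ∃ φ : w ⟶ w', (AlgSt.overMap j).map φ = a := fun {w w'} a =>
    ⟨Over.homMk a.left ((cancel_mono j).1 (by
      rw [Category.assoc]
      exact over_w a)), Over.OverMorphism.ext rfl⟩
  have : E.toFunctor.Faithful := ⟨fun {w w'} φ ψ h => Over.OverMorphism.ext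
    (congrArg (fun k => Over.Hom.left k.hom.fst) h)⟩
  have : E.toFunctor.Full := ⟨fun {w w'} k => by
    obtain ⟨φ, hφ⟩ := hjfull k.hom.fst
    refine ⟨φ, fp_hom_ext hφ ?_⟩
    apply (AlgSt.subIncl 𝒳 Q).toFunctor.map_injective
    have hw : y.map k.hom.fst ≫ 𝟙 _ = 𝟙 _ ≫ (AlgSt.subIncl 𝒳 Q).map k.hom.snd := k.hom.w
    rw [Category.comp_id, Category.id_comp] at hw
    rw [← hw, ← hφ]
    rfl⟩
  have hE : IsEquivOver E := isEquivOver_mk _ fun z => by
    have hQz : Q (y.obj z.obj.fst) := hQ z.obj.iso.hom z.obj.snd.property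
    have hr : Set.range z.obj.fst.hom.left ⊆ (V : Set U.left) := (hV _).1 hQz
    let k : z.obj.fst.left ⟶ V' := Over.homMk (IsOpenImmersion.lift V.ι z.obj.fst.hom.left
      (hr.trans V.range_ι.symm.subset)) (by
        change _ ≫ V.ι ≫ U.hom = _
        rw [IsOpenImmersion.lift_fac_assoc]
        exact Over.w z.obj.fst.hom)
    have hk : k ≫ j = z.obj.fst.hom := Over.OverMorphism.ext (IsOpenImmersion.lift_fac _ _ _)
    let u : (AlgSt.overMap j).obj (Over.mk k) ≅ z.obj.fst := Over.isoMk (Iso.refl _) (by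
      change 𝟙 _ ≫ z.obj.fst.hom = k ≫ j
      rw [hk, Category.id_comp])
    refine ⟨Over.mk k, fpIsoMk u (ObjectProperty.isoMk Q (y.toFunctor.mapIso u ≪≫
      ⟨z.obj.iso.hom, z.obj.iso.inv, z.obj.iso.hom_inv_id, z.obj.iso.inv_hom_id⟩)) ?_, ?_⟩
    · change y.map u.hom ≫ z.obj.iso.hom = 𝟙 _ ≫ (y.map u.hom ≫ z.obj.iso.hom)
      rw [Category.id_comp]
    · exact vert_fp_iff.2 ⟨rfl, rfl⟩
  refine ⟨(AlgSp.ofScheme S).obj V', BasedFunctor.comp (AlgSt.toOverCat V') E,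
    isEquivOver_comp (toOverCat_isEquivOver V') hE, ?_⟩
  have he : AlgSt.spMapOfOver (BasedFunctor.comp (BasedFunctor.comp (AlgSt.toOverCat V') E)
      (fpFst y (AlgSt.subIncl 𝒳 Q))) = (AlgSp.yon S).map j :=
    (spMapOfOver_congr (toOverCatIso j).symm).trans (spMapOfOver_ofSpMap_toOverCat ((AlgSp.yon S).map j))
  rw [he]
  exact (AlgSp.repWith_yon_map_iff _ _).2 hP

theorem isOpenImm_subIncl_of_openLoci (Q : 𝒳.obj → Prop)
    (hQ : ∀ {x y : 𝒳.obj}, (y ⟶ x) → Q x → Q y)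
    (hloc : ∀ (U : Over S) (y : overCat U ⥤ᵇ 𝒳), ∃ V : U.left.Opens, ∀ g : (overCat U).obj,
      Q (y.obj g) ↔ Set.range g.hom.left ⊆ (V : Set U.left)) :
    AlgSt.IsOpenImm (AlgSt.subIncl 𝒳 Q) :=
  repByAlgSpWith_subIncl_of_openLoci @IsOpenImmersion Q hQ fun U y => by
    obtain ⟨V, hV⟩ := hloc U y
    exact ⟨V, inferInstance, hV⟩

/-- A predicate closed under pullback whose locus on every chart is open cuts out an open substack. -/
theorem isOpenSubstack_of_openLoci (h𝒳 : AlgSt.IsAlgStack K 𝒳) (Q : 𝒳.obj → Prop)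
    (hQ : ∀ {x y : 𝒳.obj}, (y ⟶ x) → Q x → Q y)
    (hloc : ∀ (U : Over S) (y : overCat U ⥤ᵇ 𝒳), ∃ V : U.left.Opens, ∀ g : (overCat U).obj,
      Q (y.obj g) ↔ Set.range g.hom.left ⊆ (V : Set U.left)) :
    AlgSt.IsOpenSubstack 𝒳 Q K :=
  ⟨⟨fun e h => hQ e.inv h⟩,
    isAlgStack_of_rep (isFibGrpd_fullSub h𝒳.isStack.1 _ hQ) h𝒳 (AlgSt.subIncl 𝒳 Q)
      (repByAlgSp1_of_with (isOpenImm_subIncl_of_openLoci Q hQ hloc)),
    isOpenImm_subIncl_of_openLoci Q hQ hloc⟩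

end Groth.Agent.StFib
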