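import Groth.Agent.StFib.SpaceCharts
import Groth.Agent.StFib.DiagConv

/-!
Properties local on the source descend along representable covers.
-/

set_option backward.isDefEq.respectTransparency false
set_option backward.isDefEq.respectTransparency.types false
set_option linter.unusedVariables false

universe u

open CategoryTheory CategoryTheory.Limits AlgebraicGeometry Opposite FibCat TopologicalSpace Topology

namespace Groth.Agent.StFib

variable {S : Scheme.{u}} {𝒳 𝒴 𝒵 : AlgSt.Cat S}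

/-- Every space representing a base change of a representable morphism with `P` has `P`. -/
theorem mem_of_rep_chart {P : MorphismProperty (AlgSp.Sp S)} (hPb : StableBC P) (hdet : DetectedOnSchemes P)
    {f : 𝒳 ⥤ᵇ 𝒴} (hf : AlgSt.RepByAlgSpWith P f) {T : Over S} (t : overCat T ⥤ᵇ 𝒴) (A : AlgSp.Space S)
    (e : AlgSt.ofSp A.obj ⥤ᵇ fp t f) (he : IsEquivOver e) :
    P (AlgSt.spMapOfOver (BasedFunctor.comp e (fpFst t f))) := by
  obtain ⟨i⟩ := exists_iso_ofSpMap_toOverCat (A := A.obj) (BasedFunctor.comp e (fpFst t f))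
  exact mem_of_repByAlgSpWith_ofSpMap hPb hdet A.property (isAlgSpace_yon T) _
    ((repByAlgSpWith_iff_of_equiv P e (AlgSt.toOverCat T) he (toOverCat_isEquivOver T) i).1
      (repByAlgSpWith_fpFst P t hf))

theorem repByAlgSpWith_inf {P Q : MorphismProperty (AlgSp.Sp S)} (h𝒳 : IsFibGrpd 𝒳.p) (h𝒴 : IsFibGrpd 𝒴.p)
    (hP : Good P) (hQ : Good Q) {f : 𝒳 ⥤ᵇ 𝒴} (hf : AlgSt.RepByAlgSpWith P f) (hg : AlgSt.RepByAlgSpWith Q f) :
    AlgSt.RepByAlgSpWith (P ⊓ Q) f := fun T t => by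
  obtain ⟨A, e, he, -⟩ := hf T t
  exact ⟨A, e, he, mem_of_rep_chart hP.bc hP.det hf t A e he, mem_of_rep_chart hQ.bc hQ.det hg t A e he⟩

theorem repByAlgSpWith_of_comp_cover {P C : MorphismProperty (AlgSp.Sp S)} (hPb : StableBC P)
    (hdet : DetectedOnSchemes P) (hC : Good C)
    (hloc : ∀ ⦃V A B : AlgSp.Sp S⦄, AlgSp.IsAlgSpace V → AlgSp.IsAlgSpace A → AlgSp.IsAlgSpace B →
      ∀ (b : V ⟶ A) (a : A ⟶ B), C b → AlgSp.IsSurjectiveMor b → P (b ≫ a) → P a)
    (h𝒳 : IsFibGrpd 𝒳.p) (h𝒴 : IsFibGrpd 𝒴.p) {x : 𝒳 ⥤ᵇ 𝒴} {y : 𝒴 ⥤ᵇ 𝒵} (hy : AlgSt.RepByAlgSp1 y)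
    (hx : AlgSt.RepByAlgSpWith C x) (hxs : AlgSt.RepByAlgSpWith AlgSp.IsSurjectiveMor x)
    (h : AlgSt.RepByAlgSpWith P (BasedFunctor.comp x y)) : AlgSt.RepByAlgSpWith P y := by
  intro T t
  obtain ⟨A, e, he⟩ := hy T t
  refine ⟨A, e, he, ?_⟩
  let z := BasedFunctor.comp e (fpSnd t y)
  obtain ⟨V, b, e', he', ⟨k⟩, hb⟩ := exists_space_fp hC.bc hC.det h𝒳 h𝒴 hx A z
  have hbs : AlgSp.IsSurjectiveMor b.hom :=
    mem_of_repByAlgSpWith_ofSpMap good_surjective.bc good_surjective.det V.property A.property b.hom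
      ((repByAlgSpWith_iff_of_equiv _ e' (BasedFunctor.id _) he' (isEquivOver_id _)
        (f := fpFst z x) (f' := AlgSt.ofSpMap b.hom) k.symm).1 (repByAlgSpWith_fpFst _ z hxs))
  have : (BasedFunctor.id 𝒴).toFunctor.Full := inferInstanceAs (𝟭 _).Full
  have : (BasedFunctor.id 𝒴).toFunctor.Faithful := inferInstanceAs (𝟭 _).Faithful
  let M := fpMap (F := fpSnd t y) (G := x) (F' := z) (G' := x)
    e (BasedFunctor.id _) (BasedFunctor.id _) (Iso.refl _) (Iso.refl _)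
  obtain ⟨E, hE, ⟨i⟩⟩ := exists_fp_assoc t y x
  have hall : IsEquivOver (BasedFunctor.comp (BasedFunctor.comp e' M) E) := isEquivOver_comp
    (isEquivOver_comp he' (fpMap_isEquivOver _ _ _ _ _ he (isEquivOver_id _))) hE
  have h1 := spMapOfOver_congr (F := V.obj)
    (Iso.trans (isoWhiskerLeft (BasedFunctor.comp e' M) i)
      (isoWhiskerRight k (BasedFunctor.comp e (fpFst t y))))
  have h2 := mem_of_rep_chart hPb hdet h t V _ hall
  rw [show AlgSt.spMapOfOver (BasedFunctor.comp (BasedFunctor.comp (BasedFunctor.comp e' M) E)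
    (fpFst t (BasedFunctor.comp x y))) = b.hom ≫ _ from h1.trans (spMapOfOver_ofSpMap_comp b.hom _)] at h2
  exact hloc V.property A.property (isAlgSpace_yon T) b.hom _ hb hbs h2

end Groth.Agent.StFib
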