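import Groth.Agent.StFib.Test
import Groth.Agent.AlgSpCov.Listed
import Groth.Agent.AlgSp.PointsMor
import Groth.Agent.AlgSp.QCMor

/-!
The standard properties of morphisms of algebraic spaces, as used for representable morphisms of stacks.
-/

set_option backward.isDefEq.respectTransparency false
set_option backward.isDefEq.respectTransparency.types false

universe u

open CategoryTheory CategoryTheory.Limits AlgebraicGeometry Opposite AlgSp

namespace Groth.Agent.StFib

variable {S : Scheme.{u}}

/-- The properties of morphisms of algebraic spaces needed to manipulate representable morphisms. -/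
structure Good (P : MorphismProperty (Sp S)) : Prop where
  bc : StableBC P
  comp : StableComp P
  det : DetectedOnSchemes P

theorem detected_locP (P : MorphismProperty Scheme.{u}) : DetectedOnSchemes (S := S) (LocP P) := by
  intro V A _ _ b h U' V' a β hh ha hb w
  obtain ⟨m, hm, -, hm2⟩ :=
    Groth.Agent.AlgSpCov.etale_toPullback ha hb w (IsPullback.of_hasPullback b β)
  exact h β m (𝟙 _) hh hm (repWith_id _ _) (hm2.trans (Category.comp_id _).symm)

theorem good_locP {P : MorphismProperty Scheme.{u}} (hP : Groth.Agent.AlgSpCov.Standard P) :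
    Good (S := S) (LocP P) := by
  have := hP.bc
  have := hP.comp
  exact
    { bc := fun X₁ Y₁ _ _ hX hY _ _ a b a' b' sq h =>
        Groth.Agent.AlgSpCov.locP_baseChange hP.etaleLocal hX hY sq h
      comp := fun X Y Z _ hY hZ a b ha hb =>
        Groth.Agent.AlgSpCov.locP_comp hP.etaleLocal hY hZ ha hb
      det := detected_locP P }

theorem good_smooth : Good (S := S) (LocP @Smooth) := good_locP Groth.Agent.AlgSpCov.standard_smooth

theorem good_surjective : Good (S := S) IsSurjectiveMor where
  bc _ _ _ _ _ _ _ _ _ _ _ _ sq h := Groth.Agent.AlgSp.surjective_map_of_isPullback sq h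
  comp X Y Z _ _ _ a b ha hb x := by
    obtain ⟨y, rfl⟩ := hb x
    obtain ⟨z, rfl⟩ := ha y
    exact ⟨z, Points.map_comp a b z⟩
  det V A _ hA b h x := by
    obtain ⟨U, p, -, hps⟩ := hA.atlas
    obtain ⟨u, rfl⟩ := Groth.Agent.AlgSpB.surjective_ofPt hps x
    obtain ⟨z, hz⟩ := h p (Points.schemeHomeo U u)
    refine ⟨Points.map (pullback.fst b p) z, ?_⟩
    rw [← Points.map_comp, pullback.condition, Points.map_comp, hz]
    exact (Points.map_ofPt p (𝟙 _) u).trans (congrArg (Points.ofPt · u) (Category.id_comp p))

theorem good_etale : Good (S := S) IsEtaleMor := by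
  have h := good_locP (S := S) Groth.Agent.AlgSpCov.standard_etale
  have key : ∀ {X Y : Sp S} (hX : IsAlgSpace X) (hY : IsAlgSpace Y) (f : X ⟶ Y),
      IsEtaleMor f ↔ LocP @Etale f := fun hX hY f =>
    Groth.Agent.AlgSpCov.isEtaleMor_iff_locP_etale hX hY
  exact
    { bc := fun X₁ Y₁ X₂ Y₂ h1 h2 h3 h4 a b a' b' sq ha =>
        (key h3 h4 a').2 (h.bc h1 h2 h3 h4 a b a' b' sq ((key h1 h2 a).1 ha))
      comp := fun X Y Z hX hY hZ a b ha hb =>
        (key hX hZ _).2 (h.comp hX hY hZ a b ((key hX hY a).1 ha) ((key hY hZ b).1 hb))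
      det := fun V A hV hA b hb => (key hV hA b).2 (h.det hV hA b fun U p =>
        (key (Groth.Agent.AlgSp.isAlgSpace_pullback hA hV (isAlgSpace_yon U) b p) (isAlgSpace_yon U)
          _).1 (hb p)) }

theorem good_repWith (P : MorphismProperty Scheme.{u}) [P.IsStableUnderBaseChange] [P.IsMultiplicative] :
    Good (S := S) (RepWith P) :=
  ⟨stableBC_of_isStableUnderBaseChange _, stableComp_of_isStableUnderComposition _, detected_repWith P⟩

theorem good_mono : Good (S := S) (MorphismProperty.monomorphisms (Sp S)) :=
  ⟨stableBC_of_isStableUnderBaseChange _, stableComp_of_isStableUnderComposition _,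
    detected_monomorphisms⟩

end Groth.Agent.StFib
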