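import Groth.Prelude.Def_AlgSpCov
import Groth.Agent.StFib.AlgStack
import Groth.Agent.AlgSpB.Points

/-!
Testing properties of representable morphisms on algebraic spaces; composition.
-/

set_option backward.isDefEq.respectTransparency false
set_option backward.isDefEq.respectTransparency.types false

universe u

open CategoryTheory CategoryTheory.Limits AlgebraicGeometry Opposite FibCat

namespace Groth.Agent.StFib

variable {S : Scheme.{u}}

/-- The property on algebraic spaces, extended by `True` elsewhere. -/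
def Restr (P : MorphismProperty (AlgSp.Sp S)) : MorphismProperty (AlgSp.Sp S) :=
  fun F G f => AlgSp.IsAlgSpace F → AlgSp.IsAlgSpace G → P f

/-- Stability under base change between algebraic spaces. -/
def StableBC (P : MorphismProperty (AlgSp.Sp S)) : Prop :=
  ∀ ⦃X₁ Y₁ X₂ Y₂ : AlgSp.Sp S⦄, AlgSp.IsAlgSpace X₁ → AlgSp.IsAlgSpace Y₁ → AlgSp.IsAlgSpace X₂ →
    AlgSp.IsAlgSpace Y₂ → ∀ (a : X₁ ⟶ Y₁) (b : Y₂ ⟶ Y₁) (a' : X₂ ⟶ Y₂) (b' : X₂ ⟶ X₁),
      IsPullback b' a' a b → P a → P a'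

/-- Stability under composition between algebraic spaces. -/
def StableComp (P : MorphismProperty (AlgSp.Sp S)) : Prop :=
  ∀ ⦃X Y Z : AlgSp.Sp S⦄, AlgSp.IsAlgSpace X → AlgSp.IsAlgSpace Y → AlgSp.IsAlgSpace Z →
    ∀ (a : X ⟶ Y) (b : Y ⟶ Z), P a → P b → P (a ≫ b)

/-- A morphism of algebraic spaces has the property as soon as its base changes to schemes have. -/
def DetectedOnSchemes (P : MorphismProperty (AlgSp.Sp S)) : Prop :=
  ∀ ⦃V A : AlgSp.Sp S⦄, AlgSp.IsAlgSpace V → AlgSp.IsAlgSpace A → ∀ b : V ⟶ A,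
    (∀ ⦃U : Over S⦄ (p : (AlgSp.yon S).obj U ⟶ A), P (pullback.snd b p)) → P b

theorem StableBC.of_respects {P : MorphismProperty (AlgSp.Sp S)} (h : StableBC P) :
    (Restr P).RespectsIso :=
  MorphismProperty.RespectsIso.mk _
    (fun {X Y Z} e f hf hX hZ => h (hX.of_iso e) hZ hX hZ f (𝟙 Z) (e.hom ≫ f) e.hom
      (IsPullback.of_horiz_isIso ⟨by simp⟩) (hf (hX.of_iso e) hZ))
    (fun {A B D} e f hf hX hZ => h hX (hZ.of_iso e.symm) hX hZ f e.inv (f ≫ e.hom) (𝟙 A)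
      (IsPullback.of_horiz_isIso ⟨by simp⟩) (hf hX (hZ.of_iso e.symm)))

/-- Properties of representable morphisms have values on algebraic spaces. -/
theorem repByAlgSpWith_restr {P : MorphismProperty (AlgSp.Sp S)} {𝒳 𝒴 : AlgSt.Cat S} {f : 𝒳 ⥤ᵇ 𝒴}
    (hf : AlgSt.RepByAlgSpWith P f) : AlgSt.RepByAlgSpWith (Restr P) f :=
  repByAlgSpWith_mono hf fun _ _ _ h _ _ => h

theorem spMapOfOver_ofSpMap_comp {V A : AlgSp.Sp S} (b : V ⟶ A) {U : Over S}
    (Φ : AlgSt.ofSp A ⥤ᵇ overCat U) :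
    AlgSt.spMapOfOver (BasedFunctor.comp (AlgSt.ofSpMap b) Φ) = b ≫ AlgSt.spMapOfOver Φ := by
  apply ObjectProperty.hom_ext
  ext T x
  rfl

variable {𝒳 𝒴 𝒵 : AlgSt.Cat S}

/-- A representable morphism with `P` has `P` after base change to every algebraic space. -/
theorem exists_space_fp {P : MorphismProperty (AlgSp.Sp S)} (hPb : StableBC P)
    (hdet : DetectedOnSchemes P) (h𝒳 : IsFibGrpd 𝒳.p) (h𝒴 : IsFibGrpd 𝒴.p) {f : 𝒳 ⥤ᵇ 𝒴}
    (hf : AlgSt.RepByAlgSpWith P f) (A : AlgSp.Space S) (z : AlgSt.ofSp A.obj ⥤ᵇ 𝒴) :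
    ∃ (V : AlgSp.Space S) (b : V ⟶ A) (e : AlgSt.ofSp V.obj ⥤ᵇ fp z f),
      IsEquivOver e ∧ Nonempty (BasedFunctor.comp e (fpFst z f) ≅ AlgSt.ofSpMap b.hom) ∧ P b.hom := by
  have := hPb.of_respects
  obtain ⟨V, e, he⟩ := repByAlgSp_fp h𝒳 h𝒴 f z (repByAlgSp1_of_with hf)
    ⟨A, BasedFunctor.id _, isEquivOver_id _⟩
  obtain ⟨k⟩ := exists_iso_pshMap (P := V.obj.obj) (Q := A.obj.obj)
    (BasedFunctor.comp e (fpFst z f))
  let b : V.obj ⟶ A.obj := ObjectProperty.homMk (pshMap (BasedFunctor.comp e (fpFst z f)))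
  refine ⟨V, ObjectProperty.homMk b, e, he, ⟨k⟩, hdet V.property A.property b fun U p => ?_⟩
  have h1 : AlgSt.RepByAlgSpWith (Restr P) (AlgSt.ofSpMap b) :=
    (repByAlgSpWith_iff_of_equiv _ e (BasedFunctor.id _) he (isEquivOver_id _)
      (f' := AlgSt.ofSpMap b) (f := fpFst z f) k.symm).1
        (repByAlgSpWith_fpFst _ z (repByAlgSpWith_restr hf))
  obtain ⟨hX, hR⟩ := (AlgSp.repBySpWith_hom_iff _ b).1 ((repBySpWith_iff _ b.hom).2 h1) p _ _
    (IsPullback.of_hasPullback b p)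
  exact hR hX (isAlgSpace_yon U)

/-- Rebracketing `(𝒰 ×_𝒵 𝒴) ×_𝒴 𝒳 ≅ 𝒰 ×_𝒵 𝒳`. -/
theorem exists_fp_assoc {𝒰 : AlgSt.Cat S} (y : 𝒰 ⥤ᵇ 𝒵) (g : 𝒴 ⥤ᵇ 𝒵) (f : 𝒳 ⥤ᵇ 𝒴) :
    ∃ E : fp (fpSnd y g) f ⥤ᵇ fp y (BasedFunctor.comp f g), IsEquivOver E ∧
      Nonempty (BasedFunctor.comp E (fpFst y (BasedFunctor.comp f g)) ≅
        BasedFunctor.comp (fpFst (fpSnd y g) f) (fpFst y g)) := by
  have : (BasedFunctor.id 𝒴).toFunctor.Full := inferInstanceAs (𝟭 _).Full
  have : (BasedFunctor.id 𝒴).toFunctor.Faithful := inferInstanceAs (𝟭 _).Faithful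
  refine ⟨BasedFunctor.comp (BasedFunctor.comp (fpSwap (fpSnd y g) f)
    (fpMap (F := f) (G := fpFst g y) (F' := f) (G' := fpSnd y g) (BasedFunctor.id _) (fpSwap y g)
      (BasedFunctor.id _) (Iso.refl _) (Iso.refl _)))
    (BasedFunctor.comp (fpPaste g y f) (fpSwap (BasedFunctor.comp f g) y)),
    isEquivOver_comp (isEquivOver_comp (fpSwap_isEquivOver _ _)
      (fpMap_isEquivOver _ _ _ _ _ (isEquivOver_id _) (fpSwap_isEquivOver _ _)))
      (isEquivOver_comp (fpPaste_isEquivOver g y f) (fpSwap_isEquivOver _ _)),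
    ⟨Iso.refl _⟩⟩

/-- Composition of representable morphisms with `P`. -/
theorem repByAlgSpWith_comp {P : MorphismProperty (AlgSp.Sp S)} (hPb : StableBC P)
    (hPc : StableComp P) (hdet : DetectedOnSchemes P) (h𝒳 : IsFibGrpd 𝒳.p) (h𝒴 : IsFibGrpd 𝒴.p)
    {f : 𝒳 ⥤ᵇ 𝒴} {g : 𝒴 ⥤ᵇ 𝒵} (hf : AlgSt.RepByAlgSpWith P f) (hg : AlgSt.RepByAlgSpWith P g) :
    AlgSt.RepByAlgSpWith P (BasedFunctor.comp f g) := by
  intro U y
  obtain ⟨A, e, he, hPa⟩ := hg U y
  obtain ⟨V, b, e₂, he₂, ⟨k⟩, hPb'⟩ :=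
    exists_space_fp hPb hdet h𝒳 h𝒴 hf A (BasedFunctor.comp e (fpSnd y g))
  have : (BasedFunctor.id 𝒴).toFunctor.Full := inferInstanceAs (𝟭 _).Full
  have : (BasedFunctor.id 𝒴).toFunctor.Faithful := inferInstanceAs (𝟭 _).Faithful
  let M := fpMap (F := fpSnd y g) (G := f) (F' := BasedFunctor.comp e (fpSnd y g)) (G' := f)
    e (BasedFunctor.id _) (BasedFunctor.id _) (Iso.refl _) (Iso.refl _)
  obtain ⟨E, hE, ⟨i⟩⟩ := exists_fp_assoc y g f
  refine ⟨V, BasedFunctor.comp (BasedFunctor.comp e₂ M) E, isEquivOver_comp (isEquivOver_comp he₂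
    (fpMap_isEquivOver _ _ _ _ _ he (isEquivOver_id _))) hE, ?_⟩
  have h1 := spMapOfOver_congr (F := V.obj)
    (Iso.trans (isoWhiskerLeft (BasedFunctor.comp e₂ M) i)
      (isoWhiskerRight k (BasedFunctor.comp e (fpFst y g))))
  rw [show AlgSt.spMapOfOver (BasedFunctor.comp (BasedFunctor.comp (BasedFunctor.comp e₂ M) E)
    (fpFst y (BasedFunctor.comp f g))) = b.hom ≫ _ from h1.trans (spMapOfOver_ofSpMap_comp b.hom _)]
  exact hPc V.property A.property (isAlgSpace_yon U) _ _ hPb' hPa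

/-- Properties local on the base in the fppf topology are detected on schemes. -/
theorem detected_of_isLocalOnBase {P : MorphismProperty (AlgSp.Sp S)}
    (hP : AlgSp.IsLocalOnBase AlgSp.IsFppfCover P) : DetectedOnSchemes P := by
  intro V A hV hA b h
  obtain ⟨U, p, hpe, hps⟩ := hA.atlas
  refine (hP (ι := PUnit.{u + 1}) (fun _ => (AlgSp.yon S).obj U) (fun _ => p) hA
    (fun _ => isAlgSpace_yon U) ⟨fun _ => ⟨?_, ?_⟩, fun x => ⟨⟨⟩, ?_⟩⟩ b hV
    (fun _ => pullback b p) (fun _ => pullback.snd b p) (fun _ => pullback.fst b p)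
    (fun _ => Groth.Agent.AlgSp.isAlgSpace_pullback hA hV (isAlgSpace_yon U) b p)
    (fun _ => IsPullback.of_hasPullback b p)).2 fun _ => h p
  · exact locP_of_repWith (P := @Flat)
      (fun _ _ f hf => (have : Etale f := hf; inferInstance : Flat f))
      (repWith_mono' (fun _ _ f hf => (have : Etale f := hf; inferInstance : Flat f)) hpe)
  · exact locP_of_repWith (P := @LocallyOfFinitePresentation)
      (fun _ _ f hf => (have : Etale f := hf; inferInstance : LocallyOfFinitePresentation f))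
      (repWith_mono'
        (fun _ _ f hf => (have : Etale f := hf; inferInstance : LocallyOfFinitePresentation f)) hpe)
  · obtain ⟨u, rfl⟩ := Groth.Agent.AlgSpB.surjective_ofPt hps x
    exact ⟨AlgSp.Points.ofPt (𝟙 _) u, by rw [AlgSp.Points.map_ofPt, Category.id_comp]⟩

theorem detected_repWith (P : MorphismProperty Scheme.{u}) :
    DetectedOnSchemes (S := S) (AlgSp.RepWith P) := by
  intro V A _ _ b h
  refine ⟨fun U p => ?_, fun U W p fst snd sq => ?_⟩
  · obtain ⟨W, g, ι, hι, -⟩ := exists_iso_yon_of_repWith P (h p)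
    exact ⟨W, g, ι.hom ≫ pullback.fst b p,
      (IsPullback.of_hasPullback b p).of_iso ι.symm (Iso.refl _) (Iso.refl _) (Iso.refl _)
        (by simp) (by simp [← hι]) (by simp) (by simp)⟩
  · refine (h p).2 (𝟙 _) (IsPullback.of_hasPullback b p |>.lift fst ((AlgSp.yon S).map snd) sq.w) snd ?_
    have : IsIso ((IsPullback.of_hasPullback b p).lift fst ((AlgSp.yon S).map snd) sq.w) :=
      ⟨sq.lift (pullback.fst b p) (pullback.snd b p) pullback.condition,
        by apply sq.hom_ext <;> simp, by apply pullback.hom_ext <;> simp⟩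
    exact IsPullback.of_horiz_isIso ⟨by simp⟩

theorem detected_monomorphisms :
    DetectedOnSchemes (S := S) (MorphismProperty.monomorphisms _) := by
  intro V A _ _ b h
  refine Groth.Agent.AlgSp.mono_of_yon b fun U t₁ t₂ w => ?_
  have hm : Mono (pullback.snd b (t₁ ≫ b)) := h _
  have e : pullback.lift t₁ (𝟙 _) (Category.id_comp _).symm =
      pullback.lift t₂ (𝟙 _) (w.symm.trans (Category.id_comp _).symm) := by
    rw [← cancel_mono (pullback.snd b (t₁ ≫ b))]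
    simp
  simpa using congrArg (· ≫ pullback.fst b (t₁ ≫ b)) e

theorem stableBC_of_isStableUnderBaseChange (P : MorphismProperty (AlgSp.Sp S))
    [P.IsStableUnderBaseChange] : StableBC P :=
  fun _ _ _ _ _ _ _ _ _ _ _ _ sq h => P.of_isPullback sq h

theorem stableComp_of_isStableUnderComposition (P : MorphismProperty (AlgSp.Sp S))
    [P.IsStableUnderComposition] : StableComp P :=
  fun _ _ _ _ _ _ a b ha hb => P.comp_mem a b ha hb

end Groth.Agent.StFib
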