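import Groth.Agent.StFib.DiagComp

/-!
# Diagonals and equivalences, in any universes
-/

set_option backward.isDefEq.respectTransparency false
set_option backward.isDefEq.respectTransparency.types false

universe v₄ u₄ v₃ u₃ v₂ u₂ u

open CategoryTheory CategoryTheory.Limits AlgebraicGeometry Opposite FibCat

namespace Groth.Agent.StFib

variable {S : Scheme.{u}} {𝒳 : BasedCategory.{v₂, u₂} (Over S)} {𝒴 : BasedCategory.{v₃, u₃} (Over S)}
  {𝒜 : BasedCategory.{v₄, u₄} (Over S)}

/-- Diagonals are compatible with equivalences of the source. -/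
theorem diag_iff_of_equiv_source' (P : MorphismProperty (AlgSp.Sp S)) 
    {f : 𝒳 ⥤ᵇ 𝒴} {f' : 𝒜 ⥤ᵇ 𝒴} (E : 𝒜 ⥤ᵇ 𝒳) (hE : IsEquivOver E)
    (i : BasedFunctor.comp E f ≅ f') :
    AlgSt.RepByAlgSpWith P (diag f) ↔ AlgSt.RepByAlgSpWith P (diag f') := by
  have : (BasedFunctor.id 𝒴).toFunctor.Full := inferInstanceAs (𝟭 _).Full
  have : (BasedFunctor.id 𝒴).toFunctor.Faithful := inferInstanceAs (𝟭 _).Faithful
  refine repByAlgSpWith_iff_of_equiv P E
    (fpMap (F := f) (G := f) (F' := f') (G' := f') E E (BasedFunctor.id 𝒴) i i) hE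
    (fpMap_isEquivOver _ _ _ _ _ hE hE) ?_
  exact isoMk (fun x => fpIsoMk (Iso.refl _) (Iso.refl _) (by
      change f.map (𝟙 (E.obj x)) ≫ 𝟙 _ =
        ((isoApp i x).hom ≫ 𝟙 _ ≫ (isoApp i x).inv) ≫ f.map (𝟙 (E.obj x))
      simp
      exact (congrArg (fun t => t.toNatTrans.app x) i.hom_inv_id).symm.trans
        (congrArg ((isoApp i x).hom ≫ ·) (Category.comp_id _).symm)))
    (fun x => Vert.id _)
    (fun φ => fp_hom_ext ((Category.comp_id _).trans (Category.id_comp _).symm)
      ((Category.comp_id _).trans (Category.id_comp _).symm))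

end Groth.Agent.StFib
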