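import Groth.Agent.StFib.SpTorsorDiag
import Groth.Agent.StFib.Props

/-!
# The diagonal of a quotient stack, general case
-/

set_option linter.unusedVariables false
set_option backward.isDefEq.respectTransparency false
set_option backward.isDefEq.respectTransparency.types false
set_option maxHeartbeats 1600000

universe u

open CategoryTheory CategoryTheory.Limits AlgebraicGeometry Opposite MonoidalCategory CartesianMonoidalCategory
  MonObj FibCat

namespace Groth.Agent.StFib.SpTors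

open Groth.Agent.AlgSp (yEquiv yEquiv_map yEquiv_comp hom_ext_yon)

variable {S : Scheme.{u}} {B : AlgSp.Sp S} {G : Over B} [GrpObj G]

local notation "K" => Scheme.fppfPrecoverage

/-- The diagonal of a quotient stack has every good property of the group and of the diagonal of the space. -/
theorem repByAlgSpWith_diag {X : Over B} {aX : AlgSp.GAction G X}
    {P : MorphismProperty (AlgSp.Sp S)} (hgood : Good P) (hloc : AlgSp.IsLocalOnBase AlgSp.IsFppfCover P)
    (hB : AlgSp.IsAlgSpace B) (hG : AlgSp.IsAlgSpace G.left) (hP : P G.hom)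
    (hX : AlgSp.IsAlgSpace X.left) (hXX : AlgSp.IsAlgSpace (X.left ⨯ X.left))
    (hΔ : P (prod.lift (𝟙 X.left) (𝟙 X.left))) :
    AlgSt.RepByAlgSpWith P (diag (toSelf (AlgSt.SpQuotSt K G aX))) := by
  intro U z
  let x₁ : overCat U ⥤ᵇ AlgSt.SpQuotSt K G aX := BasedFunctor.comp z (fpFst _ _)
  let x₂ : overCat U ⥤ᵇ AlgSt.SpQuotSt K G aX := BasedFunctor.comp z (fpSnd _ _)
  obtain ⟨e, he, hk⟩ := Isom.exists_fp_diag (𝒳 := AlgSt.SpQuotSt K G aX) isFibGrpd morGlue' z
  let πI : isom x₁ x₂ ⟶ (AlgSp.yon S).obj U :=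
    AlgSt.spMapOfOver (BasedFunctor.comp e (fpFst z (diag (toSelf (AlgSt.SpQuotSt K G aX)))))
  have hπ : ∀ {W : Over S} (x : (AlgSp.yon S).obj W ⟶ isom x₁ x₂),
      x ≫ πI = (AlgSp.yon S).map (yEquiv x : Isom.Pt x₁ x₂ W).k := fun {W} x => by
    apply yEquiv.injective
    apply ULift.ext
    exact (hk ⟨W, yEquiv x⟩).trans (Category.id_comp _).symm
  let eU : (AlgSp.yon S).obj (chartObj x₁).base ≅ (AlgSp.yon S).obj U :=
    (AlgSp.yon S).mapIso (eqToIso (x₁.w_obj (Over.mk (𝟙 U))))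
  obtain ⟨J₀, V, f, s, hs, hcov⟩ := exists_cover_secs (chartObj x₁)
  let f' : ∀ i, V i ⟶ U := fun i => f i ≫ eqToHom (x₁.w_obj (Over.mk (𝟙 U)))
  have hs' : ∀ i, s i ≫ chartπ x₁ = (AlgSp.yon S).map (f' i) := fun i => by
    rw [chartπ, ← Category.assoc, hs, ← Functor.map_comp]
  choose top hsq using fun i => isom_k πI hπ (f' i) (s i) (hs' i)
  let l₂ := prod.lift (chartπ x₂) (chartObj x₂).φ.left
  let l₁ : ∀ i, _ := fun i => prod.lift ((AlgSp.yon S).map (f' i)) (s i ≫ (chartObj x₁).φ.left)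
  have hbc := hgood.bc
  have hA₂ : AlgSp.IsAlgSpace (chartObj x₂).P.left := isAlgSpace_torsor hB hG _
  have hP₂ : P (chartπ x₂) := by
    have sq : IsPullback (𝟙 _) (chartπ x₂) (chartObj x₂).π.left
        ((AlgSp.yon S).map (eqToHom (x₂.w_obj (Over.mk (𝟙 U))).symm)) :=
      IsPullback.of_horiz_isIso ⟨by
        rw [Category.id_comp, chartπ, Category.assoc, ← Functor.map_comp, eqToHom_trans, eqToHom_refl,
          CategoryTheory.Functor.map_id]
        exact (Category.comp_id _).symm⟩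
    exact hbc hA₂ (isAlgSpace_yon _) hA₂ (isAlgSpace_yon _) _ _ _ _ sq (prop_torsor hbc hloc hB hG hP (chartObj x₂))
  have hpiece : ∀ i, AlgSp.IsAlgSpace (pullback l₂ (l₁ i)) ∧ P (pullback.snd l₂ (l₁ i)) := fun i => by
    let yf := (AlgSp.yon S).map (f' i)
    let Q := pullback (chartπ x₂) yf
    have hQ : AlgSp.IsAlgSpace Q := Groth.Agent.AlgSp.isAlgSpace_pullback (isAlgSpace_yon U) hA₂ (isAlgSpace_yon _) _ _
    let t : Q ⟶ X.left ⨯ X.left := prod.lift (pullback.fst (chartπ x₂) yf ≫ (chartObj x₂).φ.left)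
      (pullback.snd (chartπ x₂) yf ≫ s i ≫ (chartObj x₁).φ.left)
    have c := pullback.condition (f := l₂) (g := l₁ i)
    have c1 : pullback.fst l₂ (l₁ i) ≫ chartπ x₂ = pullback.snd l₂ (l₁ i) ≫ yf := by
      simpa [l₂, l₁, yf] using congrArg (· ≫ prod.fst) c
    have c2 : pullback.fst l₂ (l₁ i) ≫ (chartObj x₂).φ.left =
        pullback.snd l₂ (l₁ i) ≫ s i ≫ (chartObj x₁).φ.left := by
      simpa [l₂, l₁] using congrArg (· ≫ prod.snd) c
    let j : pullback l₂ (l₁ i) ⟶ Q := pullback.lift _ _ c1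
    have hj1 : j ≫ pullback.fst (chartπ x₂) yf = pullback.fst l₂ (l₁ i) := pullback.lift_fst _ _ _
    have hj2 : j ≫ pullback.snd (chartπ x₂) yf = pullback.snd l₂ (l₁ i) := pullback.lift_snd _ _ _
    have sq : IsPullback (pullback.fst l₂ (l₁ i) ≫ (chartObj x₂).φ.left) j (prod.lift (𝟙 _) (𝟙 _)) t := by
      refine Glue.isPullback_of_points (prod.hom_ext ?_ ?_) fun W p q hpq => ?_
      · simp only [t, Category.assoc, prod.lift_fst, Category.comp_id]
        rw [reassoc_of% hj1]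
      · simp only [t, Category.assoc, prod.lift_snd, Category.comp_id]
        rw [c2, reassoc_of% hj2]
      · have e1 : p = q ≫ pullback.fst (chartπ x₂) yf ≫ (chartObj x₂).φ.left := by
          simpa [t] using congrArg (· ≫ prod.fst) hpq
        have e2 : p = q ≫ pullback.snd (chartπ x₂) yf ≫ s i ≫ (chartObj x₁).φ.left := by
          simpa [t] using congrArg (· ≫ prod.snd) hpq
        have hw : (q ≫ pullback.fst (chartπ x₂) yf) ≫ l₂ = (q ≫ pullback.snd (chartπ x₂) yf) ≫ l₁ i :=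
          prod.hom_ext (by simp [l₂, l₁, yf, pullback.condition])
            (by simp only [l₂, l₁, Category.assoc, prod.lift_snd]; exact e1.symm.trans e2)
        refine ⟨pullback.lift _ _ hw, ⟨?_, pullback.hom_ext ?_ ?_⟩, fun l hl => pullback.hom_ext ?_ ?_⟩
        · rw [reassoc_of% (pullback.lift_fst _ _ hw)]; exact e1.symm
        · rw [Category.assoc, hj1, pullback.lift_fst]
        · rw [Category.assoc, hj2, pullback.lift_snd]
        · rw [pullback.lift_fst, ← hl.2, Category.assoc, hj1]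
        · rw [pullback.lift_snd, ← hl.2, Category.assoc, hj2]
    have hR : AlgSp.IsAlgSpace (pullback l₂ (l₁ i)) := Groth.Agent.AlgSp.isAlgSpace_of_isPullback' hXX hX hQ sq
    refine ⟨hR, ?_⟩
    rw [← hj2]
    exact hgood.comp hR hQ (isAlgSpace_yon _) _ _ (hbc hX hXX hR hQ _ _ _ _ sq hΔ)
      (hbc hA₂ (isAlgSpace_yon _) hQ (isAlgSpace_yon _) _ _ _ _ (IsPullback.of_hasPullback (chartπ x₂) yf) hP₂)
  have hpieces : ∀ i, AlgSp.IsAlgSpace (pullback l₂ (l₁ i)) := fun i => (hpiece i).1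
  have hsq' : ∀ i, IsPullback (top i) (pullback.snd l₂ (l₁ i)) (πI ≫ eU.inv) ((AlgSp.yon S).map (f i)) := fun i =>
    (hsq i).of_iso (Iso.refl _) (Iso.refl _) (Iso.refl _) eU.symm ((Category.comp_id _).trans (Category.id_comp _).symm)
      ((Category.comp_id _).trans (Category.id_comp _).symm) (Category.id_comp _).symm (by
        simp only [Iso.refl_hom, Category.id_comp]
        change (AlgSp.yon S).map (f i ≫ eqToHom _) ≫ eU.inv = _
        rw [Functor.map_comp, Category.assoc]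
        exact (congrArg (_ ≫ ·) eU.hom_inv_id).trans (Category.comp_id _))
  have hI : AlgSp.IsAlgSpace (isom x₁ x₂) :=
    Groth.Agent.AlgSpB.Art.isAlgSpace_of_fppfCover (isAlgSpace_yon _)
      (fun i => (AlgSp.yon S).obj (V i)) (fun i => isAlgSpace_yon _) (fun i => (AlgSp.yon S).map (f i))
      (fun i => (hcov.1 i).1) (fun i => (hcov.1 i).2) hcov.2 (πI ≫ eU.inv)
      (fun i => (hpieces i).of_iso (hsq' i).isoPullback)
  refine ⟨⟨isom x₁ x₂, hI⟩, e, he, ?_⟩
  have h1 : P (πI ≫ eU.inv) :=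
    (hloc (fun i => (AlgSp.yon S).obj (V i)) _ (isAlgSpace_yon _) (fun i => isAlgSpace_yon _) hcov (πI ≫ eU.inv) hI
      _ (fun i => pullback.snd l₂ (l₁ i)) top hpieces hsq').2 fun i => (hpiece i).2
  have sq : IsPullback (𝟙 _) πI (πI ≫ eU.inv) eU.inv := IsPullback.of_horiz_isIso ⟨Category.id_comp _⟩
  exact hbc hI (isAlgSpace_yon _) hI (isAlgSpace_yon _) _ _ _ _ sq h1

end Groth.Agent.StFib.SpTors
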