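import Groth.Agent.StFib.QuotEtale
import Groth.Agent.StFib.SpTorsorDiagGen
import Groth.Agent.StFib.DiagTransfer

/-!
# The diagonal of a quotient stack under a smooth affine group
-/

set_option linter.unusedVariables false
set_option backward.isDefEq.respectTransparency false
set_option backward.isDefEq.respectTransparency.types false

universe u

open CategoryTheory CategoryTheory.Limits AlgebraicGeometry Opposite MonoidalCategory CartesianMonoidalCategory
  MonObj FibCat

namespace Groth.Agent.StFib.QuotEt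

variable {S : Scheme.{u}} {G X : Over S} [GrpObj G] {aX : AlgGrp.Action G X}

theorem exists_prod_iso (X : Over S) :
    ∃ i : (AlgSp.yon S).obj (X ⊗ X) ≅ (AlgSp.yon S).obj X ⨯ (AlgSp.yon S).obj X,
      (AlgSp.yon S).map (lift (𝟙 X) (𝟙 X)) ≫ i.hom = prod.lift (𝟙 _) (𝟙 _) := by
  let yX := (AlgSp.yon S).obj X
  let c : (AlgSp.yon S).obj (X ⊗ X) ⟶ yX ⨯ yX :=
    prod.lift ((AlgSp.yon S).map (fst X X)) ((AlgSp.yon S).map (snd X X))
  have hb : ∀ {W : Over S} (p q : (AlgSp.yon S).obj W ⟶ yX), ∃! l : (AlgSp.yon S).obj W ⟶ (AlgSp.yon S).obj (X ⊗ X),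
      l ≫ c = prod.lift p q := by
    intro W p q
    obtain ⟨p', rfl⟩ := (AlgSp.yon S).map_surjective p
    obtain ⟨q', rfl⟩ := (AlgSp.yon S).map_surjective q
    refine ⟨(AlgSp.yon S).map (lift p' q'), prod.hom_ext ?_ ?_, fun l hl => ?_⟩
    · simp only [c, Category.assoc, prod.lift_fst, ← Functor.map_comp, lift_fst]
    · simp only [c, Category.assoc, prod.lift_snd, ← Functor.map_comp, lift_snd]
    · obtain ⟨l', rfl⟩ := (AlgSp.yon S).map_surjective l
      have h1 := congrArg (· ≫ prod.fst) hl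
      have h2 := congrArg (· ≫ prod.snd) hl
      simp only [c, Category.assoc, prod.lift_fst, prod.lift_snd, ← Functor.map_comp] at h1 h2
      exact congrArg _ (CartesianMonoidalCategory.hom_ext _ _
        (((AlgSp.yon S).map_injective h1).trans (lift_fst _ _).symm)
        (((AlgSp.yon S).map_injective h2).trans (lift_snd _ _).symm))
  choose l hl hu using fun (W : Over S) (r : (AlgSp.yon S).obj W ⟶ yX ⨯ yX) => hb (r ≫ prod.fst) (r ≫ prod.snd)
  have hl' : ∀ W r, l W r ≫ c = r := fun W r => (hl W r).trans (prod.hom_ext (by simp) (by simp))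
  obtain ⟨d, hd⟩ := Glue.exists_hom l fun {V W} g r => (hu W _ _ (by
    change ((AlgSp.yon S).map g ≫ l V r) ≫ c = _
    rw [Category.assoc, hl']
    exact prod.hom_ext (by simp) (by simp))).symm
  refine ⟨⟨c, d, Groth.Agent.AlgSp.hom_ext_yon fun W r => ?_, Groth.Agent.AlgSp.hom_ext_yon fun W r => ?_⟩, ?_⟩
  · rw [← Category.assoc, hd, Category.comp_id]
    exact (hu W (r ≫ c) r (prod.hom_ext (by simp) (by simp))).symm
  · rw [← Category.assoc, hd, hl', Category.comp_id]
  · refine prod.hom_ext ?_ ?_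
    · change ((AlgSp.yon S).map (lift (𝟙 X) (𝟙 X)) ≫ c) ≫ prod.fst = _
      simp only [c, Category.assoc, prod.lift_fst, ← Functor.map_comp, lift_fst]
      exact (AlgSp.yon S).map_id X
    · change ((AlgSp.yon S).map (lift (𝟙 X) (𝟙 X)) ≫ c) ≫ prod.snd = _
      simp only [c, Category.assoc, prod.lift_snd, ← Functor.map_comp, lift_snd]
      exact (AlgSp.yon S).map_id X

theorem repByAlgSpWith_diag [IsAffineHom G.hom] [Smooth G.hom] (hX : IsAffineHom (pullback.diagonal X.hom)) :
    AlgSt.RepByAlgSpWith AlgSp.IsAffineMor (diag (toSelf (AlgSt.QuotSt Scheme.etalePrecoverage G aX))) := by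
  obtain ⟨i, hi⟩ := exists_prod_iso X
  have hXX : AlgSp.IsAlgSpace ((AlgSp.yon S).obj X ⨯ (AlgSp.yon S).obj X) := (AlgSp.IsAlgSpace.yon_obj _).of_iso i
  have h0 : AlgSp.IsAffineMor ((AlgSp.yon S).map (lift (𝟙 X) (𝟙 X))) := by
    refine (Groth.Agent.AlgSp.isAffineMor_iff _).2 ((AlgSp.repWith_yon_map_iff _ _).2 ?_)
    have e : (lift (𝟙 X) (𝟙 X) : X ⟶ X ⊗ X).left = pullback.diagonal X.hom := by
      apply pullback.hom_ext
      · rw [pullback.diagonal_fst]
        exact congrArg CommaMorphism.left (lift_fst (𝟙 X) (𝟙 X))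
      · rw [pullback.diagonal_snd]
        exact congrArg CommaMorphism.left (lift_snd (𝟙 X) (𝟙 X))
    rw [e]
    exact hX
  have hΔ : AlgSp.IsAffineMor (prod.lift (𝟙 ((AlgSp.yon S).obj X)) (𝟙 ((AlgSp.yon S).obj X))) :=
    good_affine.bc (AlgSp.IsAlgSpace.yon_obj X) (AlgSp.IsAlgSpace.yon_obj _) (AlgSp.IsAlgSpace.yon_obj X) hXX
      _ i.inv _ (𝟙 _) (IsPullback.of_horiz_isIso ⟨by
        rw [Category.id_comp, ← hi, Category.assoc, i.hom_inv_id, Category.comp_id]⟩) h0
  have key := SpTors.repByAlgSpWith_diag (S := S) (G := (QuotBr.toH S).obj G) (X := (QuotBr.toH S).obj X)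
    (aX := QuotBr.actH aX) good_affine QuotBr.fppfLocal_affine QuotBr.isAlgSpace_hS (QuotBr.isAlgSpace_toH G)
    QuotBr.isAffineMor_hom (AlgSp.IsAlgSpace.yon_obj _) hXX hΔ
  have hE : IsEquivOver (BasedFunctor.comp (F aX) (QuotBr.E aX)) := isEquivOver_comp isEquivOver_F QuotBr.isEquivOver_E
  exact (diag_iff_of_equiv_source' _ (f' := toSelf (AlgSt.QuotSt Scheme.etalePrecoverage G aX)) _ hE (Iso.refl _)).1 key

end Groth.Agent.StFib.QuotEt
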