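import Groth.Agent.StFib.SliceCover
import Groth.Agent.AlgSpB.Bootstrap
import Groth.Agent.AlgSpB.EtaleSheaf
import Groth.Agent.AlgSpCov.Listed
import Groth.Agent.AlgSpCov.Covers
import Groth.Agent.AlgSpCov.FpqcBase
import Groth.Agent.AlgSp.PointsMor

/-!
# A sheaf with a smooth surjective chart is an algebraic space
-/

set_option autoImplicit false
set_option linter.unusedVariables false
set_option backward.isDefEq.respectTransparency false
set_option backward.isDefEq.respectTransparency.types false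

universe u

open CategoryTheory CategoryTheory.Limits AlgebraicGeometry Opposite

namespace Groth.Agent.StFib.Slice

open _root_.AlgSp

variable {S : Scheme.{u}}

/-- Sections of an etale scheme over the dual numbers are determined by their value at the closed point. -/
theorem existsUnique_section {K : Type u} [Field K] {O : Scheme.{u}} (e : O ⟶ dualPt K) [Etale e]
    (σ₀ : Spec (CommRingCat.of K) ⟶ O) (h : σ₀ ≫ e = incl K) :
    ∃! σ : dualPt K ⟶ O, incl K ≫ σ = σ₀ ∧ σ ≫ e = 𝟙 _ := by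
  obtain ⟨_, ⟨W, (hW : IsAffineOpen W), rfl⟩, hxW, -⟩ := O.isBasis_affineOpens.exists_subset_of_mem_open
    (Set.mem_univ (σ₀ (IsLocalRing.closedPoint K))) isOpen_univ
  have hr₀ : Set.range σ₀ ⊆ Set.range hW.fromSpec := by
    rw [hW.range_fromSpec]
    rintro _ ⟨q, rfl⟩
    rw [Subsingleton.elim (α := PrimeSpectrum K) q (IsLocalRing.closedPoint K)]
    exact hxW
  let E := CommRingCat.of (TrivSqZeroExt K K)
  let ψ : E ⟶ Γ(O, W) := Spec.preimage (hW.fromSpec ≫ e)
  have hψ : Spec.map ψ = hW.fromSpec ≫ e := Spec.map_preimage _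
  have : Etale (Spec.map ψ) := hψ ▸ inferInstance
  have hψe : ψ.hom.Etale := (HasRingHomProperty.Spec_iff (P := @Etale)).1 this
  let m₀ := IsOpenImmersion.lift hW.fromSpec σ₀ hr₀
  have hm₀ : m₀ ≫ hW.fromSpec = σ₀ := IsOpenImmersion.lift_fac _ _ _
  let φ := Spec.preimage m₀
  let ε : E ⟶ CommRingCat.of K := CommRingCat.ofHom (TrivSqZeroExt.fstHom K K K).toRingHom
  have hφ : ψ ≫ φ = ε := Spec.map_injective (by rw [Spec.map_comp, hψ, Spec.map_preimage, reassoc_of% hm₀, h])
  let := ψ.hom.toAlgebra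
  have : Algebra.Etale (TrivSqZeroExt K K) Γ(O, W) := hψe
  let : Algebra (TrivSqZeroExt K K) K := ε.hom.toAlgebra
  let f₀ : Γ(O, W) →ₐ[TrivSqZeroExt K K] K := { φ.hom with commutes' := fun r => congr($hφ r) }
  let g₀ : TrivSqZeroExt K K →ₐ[TrivSqZeroExt K K] K := Algebra.ofId _ _
  have hgs : Function.Surjective g₀ := fun k => ⟨TrivSqZeroExt.inl k, TrivSqZeroExt.fst_inl K k⟩
  have hgn : IsNilpotent (RingHom.ker (g₀ : TrivSqZeroExt K K →+* K)) := ⟨2, by
    refine le_bot_iff.1 ?_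
    rw [Submodule.pow_succ, Submodule.pow_one]
    refine Ideal.mul_le.2 fun x hx y hy => ?_
    rw [RingHom.mem_ker] at hx hy
    change TrivSqZeroExt.fst x = 0 at hx
    change TrivSqZeroExt.fst y = 0 at hy
    rw [Ideal.mem_bot]
    ext <;> simp [hx, hy]⟩
  let lft := Algebra.FormallySmooth.liftOfSurjective f₀ g₀ hgs hgn
  refine ⟨Spec.map (CommRingCat.ofHom lft.toRingHom) ≫ hW.fromSpec, ⟨?_, ?_⟩, fun σ hσ => ?_⟩
  · rw [← hm₀, ← Category.assoc, ← Spec.map_comp]
    congr 1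
    rw [← Spec.map_preimage m₀]
    congr 1
    exact CommRingCat.hom_ext (RingHom.ext fun x =>
      Algebra.FormallySmooth.liftOfSurjective_apply f₀ g₀ hgs hgn x)
  · rw [Category.assoc, ← hψ, ← Spec.map_comp, ← Spec.map_id]
    congr 1
    exact CommRingCat.hom_ext (RingHom.ext lft.commutes)
  · have hr : Set.range σ ⊆ Set.range hW.fromSpec := range_subset_of_incl σ (by rw [hσ.1]; exact hr₀)
    let m := IsOpenImmersion.lift hW.fromSpec σ hr
    have hm : m ≫ hW.fromSpec = σ := IsOpenImmersion.lift_fac _ _ _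
    let χ := Spec.preimage m
    have hχ : Spec.map χ ≫ hW.fromSpec = σ := by rw [Spec.map_preimage, hm]
    have hχψ : ψ ≫ χ = 𝟙 _ := Spec.map_injective (by
      rw [Spec.map_comp, hψ, reassoc_of% hχ, hσ.2, Spec.map_id])
    let lft' : Γ(O, W) →ₐ[TrivSqZeroExt K K] TrivSqZeroExt K K :=
      { χ.hom with commutes' := fun r => congr($hχψ r) }
    have hlφ : χ ≫ ε = φ := Spec.map_injective (by
      rw [← cancel_mono hW.fromSpec, Spec.map_comp, Category.assoc, hχ, hσ.1, Spec.map_preimage, hm₀])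
    have : lft' = lft := Algebra.FormallyUnramified.lift_unique' g₀ hgn lft' lft (AlgHom.ext fun x =>
      (congr($hlφ x)).trans (Algebra.FormallySmooth.liftOfSurjective_apply f₀ g₀ hgs hgn x).symm)
    rw [← hχ, ← this]
    rfl

variable {F : PSp S} {U V : Over S} {R : Sp S} (p : (pyon S).obj U ⟶ F) {fR gR : R ⟶ (yon S).obj U}

/-- The relation defined by a chart of a sheaf has corresponding tangent vectors. -/
theorem tangentRel_of_chart (sq : IsPullback fR.hom gR.hom p p) {a : (yon S).obj V ⟶ R} (ha : RepWith @Etale a)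
    {t s : V ⟶ U} (ht : (yon S).map t = a ≫ fR) (hs : (yon S).map s = a ≫ gR) :
    TangentRel s.left t.left := by
  intro K _ v₁ v₂ hv δ₁ hδ₁
  have key : ∀ {T : Over S} (z : T ⟶ V), (pyon S).map (z ≫ t) ≫ p = (pyon S).map (z ≫ s) ≫ p := by
    intro T z
    have h1 : (pyon S).map t = a.hom ≫ fR.hom := congrArg (fun k => k.hom) ht
    have h2 : (pyon S).map s = a.hom ≫ gR.hom := congrArg (fun k => k.hom) hs
    rw [Functor.map_comp, Functor.map_comp, h1, h2, Category.assoc, Category.assoc, Category.assoc,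
      Category.assoc, sq.w]
  have hvV : v₁ ≫ V.hom = v₂ ≫ V.hom := by rw [← Over.w t, reassoc_of% hv]
  let X₀ : Over S := Over.mk (v₂ ≫ V.hom)
  let X : Over S := Over.mk (retr K ≫ v₂ ≫ V.hom)
  let ρ : X ⟶ X₀ := Over.homMk (retr K) rfl
  let i₀ : X₀ ⟶ X := Over.homMk (incl K) (incl_retr_assoc K _)
  let v₁' : X₀ ⟶ V := Over.homMk v₁ hvV
  let v₂' : X₀ ⟶ V := Over.homMk v₂ rfl
  have hv' : v₁' ≫ t = v₂' ≫ t := Over.OverMorphism.ext hv
  let δ₁' : X ⟶ V := Over.homMk δ₁ (by
    rw [← Over.w s, reassoc_of% hδ₁.2, Over.w s, hvV]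
    rfl)
  have hδs : δ₁' ≫ s = ρ ≫ v₁' ≫ s := Over.OverMorphism.ext hδ₁.2
  let w : X ⟶ U := δ₁' ≫ t
  let c : X ⟶ U := ρ ≫ v₂' ≫ s
  have hwc : (pyon S).map w ≫ p = (pyon S).map c ≫ p := by
    rw [key δ₁', hδs, Functor.map_comp, Functor.map_comp _ ρ (v₂' ≫ s), Category.assoc, Category.assoc,
      ← key v₁', ← key v₂', hv']
  let r : (yon S).obj X ⟶ R := ObjectProperty.homMk (sq.lift _ _ hwc)
  have hr₁ : r ≫ fR = (yon S).map w := ObjectProperty.hom_ext _ (sq.lift_fst _ _ hwc)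
  have hr₂ : r ≫ gR = (yon S).map c := ObjectProperty.hom_ext _ (sq.lift_snd _ _ hwc)
  obtain ⟨O, e, fst, hO⟩ := ha.1 r
  have hmem : Etale e.left := ha.2 r fst e hO
  have hi : incl K ≫ δ₁ = v₁ := hδ₁.1
  have hw0 : i₀ ≫ w = v₂' ≫ t := by
    rw [← hv']
    exact Over.OverMorphism.ext (by simp [w, i₀, δ₁', v₁', reassoc_of% hi])
  have hc0 : i₀ ≫ c = v₂' ≫ s := Over.OverMorphism.ext (by simp [c, i₀, ρ, incl_retr_assoc])
  have hσ₀ : (yon S).map v₂' ≫ a = (yon S).map i₀ ≫ r := by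
    refine ObjectProperty.hom_ext _ (sq.hom_ext ?_ ?_)
    · refine congrArg (fun k => k.hom) (?_ : ((yon S).map v₂' ≫ a) ≫ fR = ((yon S).map i₀ ≫ r) ≫ fR)
      rw [Category.assoc, ← ht, Category.assoc, hr₁, ← Functor.map_comp, ← Functor.map_comp, hw0]
    · refine congrArg (fun k => k.hom) (?_ : ((yon S).map v₂' ≫ a) ≫ gR = ((yon S).map i₀ ≫ r) ≫ gR)
      rw [Category.assoc, ← hs, Category.assoc, hr₂, ← Functor.map_comp, ← Functor.map_comp, hc0]
  obtain ⟨σ₀, hσ₀'⟩ := (yon S).map_surjective (hO.lift _ _ hσ₀)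
  obtain ⟨fst, rfl⟩ := (yon S).map_surjective fst
  have hσe : σ₀ ≫ e = i₀ := (yon S).map_injective (by rw [Functor.map_comp, hσ₀']; exact hO.lift_snd _ _ _)
  have hσf : σ₀ ≫ fst = v₂' := (yon S).map_injective (by rw [Functor.map_comp, hσ₀']; exact hO.lift_fst _ _ _)
  obtain ⟨σ, ⟨hσ₁, hσ₂⟩, huniq⟩ := existsUnique_section e.left σ₀.left (congrArg (fun k => k.left) hσe)
  let σ' : X ⟶ O := Over.homMk σ (by rw [← Over.w e, reassoc_of% hσ₂])
  have hσ'e : σ' ≫ e = 𝟙 X := Over.OverMorphism.ext hσ₂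
  have hσ'i : i₀ ≫ σ' = σ₀ := Over.OverMorphism.ext hσ₁
  have hσ'a : (yon S).map (σ' ≫ fst) ≫ a = r := by
    rw [Functor.map_comp, Category.assoc, hO.w, ← Category.assoc, ← Functor.map_comp, hσ'e]
    simp
  let δ₂ := σ' ≫ fst
  have h2t : δ₂ ≫ t = w := (yon S).map_injective (by rw [Functor.map_comp, ht, ← Category.assoc, hσ'a, hr₁])
  have h2s : δ₂ ≫ s = c := (yon S).map_injective (by rw [Functor.map_comp, hs, ← Category.assoc, hσ'a, hr₂])
  have h2i : i₀ ≫ δ₂ = v₂' := by rw [← Category.assoc, hσ'i, hσf]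
  refine ⟨δ₂.left, ⟨⟨congrArg (fun k => k.left) h2i, congrArg (fun k => k.left) h2s⟩,
    congrArg (fun k => k.left) h2t⟩, fun δ hδ => ?_⟩
  let δ' : X ⟶ V := Over.homMk δ (by
    rw [← Over.w s, reassoc_of% hδ.1.2, Over.w s]
    rfl)
  have hδ'a : (yon S).map δ' ≫ a = r := by
    refine ObjectProperty.hom_ext _ (sq.hom_ext ?_ ?_)
    · refine congrArg (fun k => k.hom) (?_ : ((yon S).map δ' ≫ a) ≫ fR = r ≫ fR)
      rw [Category.assoc, ← ht, hr₁, ← Functor.map_comp]
      exact congrArg (yon S).map (Over.OverMorphism.ext hδ.2)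
    · refine congrArg (fun k => k.hom) (?_ : ((yon S).map δ' ≫ a) ≫ gR = r ≫ gR)
      rw [Category.assoc, ← hs, hr₂, ← Functor.map_comp]
      exact congrArg (yon S).map (Over.OverMorphism.ext hδ.1.2)
  obtain ⟨τ, hτ⟩ := (yon S).map_surjective (hO.lift ((yon S).map δ') (𝟙 _) (by rw [hδ'a, Category.id_comp]))
  have hτe : τ ≫ e = 𝟙 X := (yon S).map_injective (by
    rw [Functor.map_comp, hτ, hO.lift_snd, CategoryTheory.Functor.map_id])
  have hτf : τ ≫ fst = δ' := (yon S).map_injective (by rw [Functor.map_comp, hτ, hO.lift_fst])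
  have hτi : i₀ ≫ τ = σ₀ := by
    refine (yon S).map_injective ((hO.hom_ext ?_ ?_))
    · rw [← Functor.map_comp, ← Functor.map_comp, hσf, Category.assoc, hτf]
      exact congrArg (yon S).map (Over.OverMorphism.ext hδ.1.1)
    · rw [← Functor.map_comp, ← Functor.map_comp, hσe, Category.assoc, hτe, Category.comp_id]
  have : τ.left = σ := huniq τ.left ⟨congrArg (fun k => k.left) hτi, congrArg (fun k => k.left) hτe⟩
  rw [show δ = τ.left ≫ fst.left from congrArg (fun k => k.left) hτf.symm, this]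
  rfl

/-- Smooth surjective maps of schemes are fppf coverings. -/
theorem isFpqcCover_single {Z T : Over S} (r : Z ⟶ T) [Smooth r.left] [Surjective r.left] :
    IsFpqcCover (fun _ : PUnit.{u + 1} => (yon S).obj Z) fun _ => (yon S).map r := by
  refine AlgSpCov.isFpqcCover_of_isFppfCover (IsAlgSpace.yon_obj T) (fun _ => IsAlgSpace.yon_obj Z)
    ⟨fun _ => ⟨AlgSpCov.locP_of_repWith AlgSpCov.etaleLocal_flat ((repWith_yon_map_iff _ _).2 inferInstance),
      AlgSpCov.locP_of_repWith AlgSpCov.etaleLocal_locallyOfFinitePresentation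
        ((repWith_yon_map_iff _ _).2 inferInstance)⟩, fun x => ?_⟩
  obtain ⟨z, hz⟩ := (Groth.Agent.AlgSp.surjective_map_iff_of_schemes r).2 r.left.surjective x
  exact ⟨PUnit.unit, z, hz⟩

theorem surjective_map_atlas {X : Sp S} {W : Over S} {q : (yon S).obj W ⟶ X} (hqs : RepWith @Surjective q) :
    Function.Surjective (Points.map q) :=
  (Groth.Agent.AlgSp.repWith_surjective_iff q hqs.1).1 hqs

theorem surjective_of_yon {Z T : Over S} (r : Z ⟶ T) (h : Function.Surjective (Points.map ((yon S).map r))) :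
    Surjective r.left :=
  ⟨(Groth.Agent.AlgSp.surjective_map_iff_of_schemes r).1 h⟩

/-- A chart from a scheme which is smooth and surjective can be replaced by an etale one. -/
theorem exists_etale_chart {F : PSp S} {U : Over S} (p : (pyon S).obj U ⟶ F)
    (hp : RepBySpWith (IsSurjectiveMor ⊓ LocP @Smooth) p) :
    ∃ (U' : Over S) (π : (pyon S).obj U' ⟶ F), RepBySpWith (IsSurjectiveMor ⊓ IsEtaleMor) π := by
  have sq0 := IsPullback.of_hasPullback p p
  obtain ⟨hR, hRA, hgs, hgsm⟩ := hp p _ _ sq0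
  obtain ⟨hR', hRA', hfs, hfsm0⟩ := hp p _ _ sq0.flip
  let R : Sp S := ⟨_, hR⟩
  let fR : R ⟶ (yon S).obj U := ObjectProperty.homMk (pullback.fst p p)
  let gR : R ⟶ (yon S).obj U := ObjectProperty.homMk (pullback.snd p p)
  obtain ⟨V, a, ha, has⟩ := hRA.atlas
  obtain ⟨t, ht⟩ := (yon S).map_surjective (a ≫ fR)
  obtain ⟨s, hs⟩ := (yon S).map_surjective (a ≫ gR)
  have hss : Smooth s.left := hgsm a (𝟙 _) s ha (repWith_id _ U) (by rw [Category.comp_id]; exact hs.symm)
  have hts : Smooth t.left := hfsm0 a (𝟙 _) t ha (repWith_id _ U) (by rw [Category.comp_id]; exact ht.symm)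
  have : Surjective s.left := surjective_of_yon s (by
    rw [hs]
    intro x
    obtain ⟨y, rfl⟩ := hgs x
    obtain ⟨z, rfl⟩ := surjective_map_atlas has y
    exact ⟨z, Points.map_comp _ _ _⟩)
  obtain ⟨U'', q₀, hqe, hqs⟩ := exists_slice U.hom s.left t.left (by rw [Over.w s, Over.w t])
    (tangentRel_of_chart p sq0 ha ht hs)
  let U' : Over S := Over.mk (q₀ ≫ U.hom)
  let q : U' ⟶ U := Over.homMk q₀ rfl
  refine ⟨U', (pyon S).map q ≫ p, fun T ξ F' fst snd sq => ?_⟩
  -- the base change of the slice to the chart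
  let R' := pullback fR ((yon S).map q)
  let g' : R' ⟶ (yon S).obj U := pullback.fst fR ((yon S).map q) ≫ gR
  have hR' : IsAlgSpace R' :=
    Groth.Agent.AlgSp.isAlgSpace_pullback (IsAlgSpace.yon_obj U) hRA (IsAlgSpace.yon_obj U') _ _
  have sqR' : IsPullback (pullback.snd fR ((yon S).map q)).hom g'.hom ((pyon S).map q ≫ p) p :=
    (((IsPullback.of_hasPullback fR ((yon S).map q)).flip).map (sheafToPresheaf (J S) (Type (u + 1)))).paste_vert
      sq0
  let N₀ := pullback t.left q₀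
  let N : Over S := Over.mk (pullback.fst t.left q₀ ≫ V.hom)
  let n₁ : N ⟶ V := Over.homMk (pullback.fst t.left q₀) rfl
  let n₂ : N ⟶ U' := Over.homMk (pullback.snd t.left q₀) (by
    change _ ≫ q₀ ≫ U.hom = pullback.fst _ _ ≫ V.hom
    rw [← Category.assoc, ← pullback.condition, Category.assoc, Over.w t])
  have hN : IsPullback n₁ n₂ t q := IsPullback.of_map (Over.forget S)
    (Over.OverMorphism.ext pullback.condition) (IsPullback.of_hasPullback t.left q₀)
  let a' : (yon S).obj N ⟶ R' := pullback.lift ((yon S).map n₁ ≫ a) ((yon S).map n₂)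
    (by rw [Category.assoc, ← ht, ← Functor.map_comp, ← Functor.map_comp, hN.w])
  have hsqa : IsPullback ((yon S).map n₁) a' a (pullback.fst fR ((yon S).map q)) := by
    refine IsPullback.of_bot ?_ (pullback.lift_fst _ _ _).symm (IsPullback.of_hasPullback fR ((yon S).map q))
    rw [pullback.lift_snd, ← ht]
    exact hN.map (yon S)
  have ha' : RepWith @Etale a' := MorphismProperty.of_isPullback hsqa ha
  have has' : RepWith @Surjective a' := MorphismProperty.of_isPullback hsqa has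
  have hcomm : a' ≫ g' = (yon S).map (n₁ ≫ s) := by
    rw [pullback.lift_fst_assoc, Category.assoc, ← hs, Functor.map_comp]
  have hg'e : LocP @Etale g' := AlgSpCov.locP_of_one_chart AlgSpCov.etaleLocal_etale (fun _ _ _ h => h)
    (IsAlgSpace.yon_obj U) (V := U) ha' has' (repWith_id _ U) (by rw [Category.comp_id]; exact hcomm) hqe
  have hg's : Function.Surjective (Points.map g') := by
    intro x
    obtain ⟨z, hz⟩ := (Groth.Agent.AlgSp.surjective_map_iff_of_schemes (n₁ ≫ s)).2 hqs.surj x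
    exact ⟨Points.map a' z, by rw [← Points.map_comp, hcomm, hz]⟩
  -- the pullback along `ξ`
  have sq1 := IsPullback.of_hasPullback p ξ
  obtain ⟨h1, hA1, hs1, hsm1⟩ := hp ξ _ _ sq1
  let P1 : Sp S := ⟨_, h1⟩
  let f1 : P1 ⟶ (yon S).obj U := ObjectProperty.homMk (pullback.fst p ξ)
  let g1 : P1 ⟶ (yon S).obj T := ObjectProperty.homMk (pullback.snd p ξ)
  let l1 : F' ⟶ pullback p ξ := sq1.lift (fst ≫ (pyon S).map q) snd (by rw [Category.assoc]; exact sq.w)
  have sq2 : IsPullback fst l1 ((pyon S).map q) (pullback.fst p ξ) := by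
    refine IsPullback.of_bot ?_ (sq1.lift_fst _ _ _).symm sq1
    rw [sq1.lift_snd]
    exact sq
  have hA' : IsAlgSpaceP F' := AlgSpB.isAlgSpaceP_of_isPullback
    ((isAlgSpaceP_obj_iff _).2 (IsAlgSpace.yon_obj U')) ((isAlgSpaceP_obj_iff P1).2 hA1)
    ((isAlgSpaceP_obj_iff _).2 (IsAlgSpace.yon_obj U)) sq2
  obtain ⟨h', hA''⟩ := hA'
  let P2 : Sp S := ⟨F', h'⟩
  let g2 : P2 ⟶ (yon S).obj T := ObjectProperty.homMk snd
  let f2 : P2 ⟶ (yon S).obj U' := ObjectProperty.homMk fst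
  -- a smooth surjective scheme over `T` lifting `ξ`
  obtain ⟨Z, c, hc, hcs⟩ := hA1.atlas
  obtain ⟨r, hr⟩ := (yon S).map_surjective (c ≫ g1)
  obtain ⟨uZ, huZ⟩ := (yon S).map_surjective (c ≫ f1)
  have : Smooth r.left := hsm1 c (𝟙 _) r hc (repWith_id _ T) (by rw [Category.comp_id]; exact hr.symm)
  have : Surjective r.left := surjective_of_yon r (by
    rw [hr]
    intro x
    obtain ⟨y, rfl⟩ := hs1 x
    obtain ⟨z, rfl⟩ := surjective_map_atlas hcs y
    exact ⟨z, Points.map_comp _ _ _⟩)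
  have huξ : (pyon S).map uZ ≫ p = (pyon S).map r ≫ ξ := by
    rw [show (pyon S).map uZ = c.hom ≫ f1.hom from congrArg (fun k => k.hom) huZ,
      show (pyon S).map r = c.hom ≫ g1.hom from congrArg (fun k => k.hom) hr, Category.assoc, Category.assoc]
    exact congrArg (c.hom ≫ ·) sq1.w
  have sqZ := IsPullback.of_hasPullback g2 ((yon S).map r)
  let pZ := pullback.snd g2 ((yon S).map r)
  have sqZ' : IsPullback ((pullback.fst g2 ((yon S).map r)).hom ≫ fst) pZ.hom ((pyon S).map q ≫ p)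
      ((pyon S).map uZ ≫ p) := by
    rw [huξ]
    exact (sqZ.map (sheafToPresheaf (J S) (Type (u + 1)))).paste_horiz sq
  let lZ := sqR'.lift ((pullback.fst g2 ((yon S).map r)).hom ≫ fst) (pZ.hom ≫ (pyon S).map uZ)
    (by rw [Category.assoc]; exact sqZ'.w)
  let lZ' : pullback g2 ((yon S).map r) ⟶ R' := ObjectProperty.homMk lZ
  have sqb : IsPullback lZ' pZ g' ((yon S).map uZ) := by
    refine IsPullback.of_map_of_faithful (sheafToPresheaf (J S) (Type (u + 1))) ?_
    refine IsPullback.of_right ?_ (sqR'.lift_snd _ _ _) sqR'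
    change IsPullback (lZ ≫ _) pZ.hom _ _
    erw [sqR'.lift_fst]
    exact sqZ'
  have hPZ : IsAlgSpace (pullback g2 ((yon S).map r)) :=
    Groth.Agent.AlgSp.isAlgSpace_pullback (IsAlgSpace.yon_obj T) hA'' (IsAlgSpace.yon_obj Z) _ _
  have hpZ : LocP @Etale pZ :=
    AlgSpCov.locP_baseChange AlgSpCov.etaleLocal_etale hR' (IsAlgSpace.yon_obj U) sqb hg'e
  refine ⟨h', hA'', ?_, ?_⟩
  · intro x
    obtain ⟨z, rfl⟩ := (Groth.Agent.AlgSp.surjective_map_iff_of_schemes r).2 r.left.surjective x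
    obtain ⟨y, rfl⟩ := Groth.Agent.AlgSp.surjective_map_of_isPullback sqb hg's z
    refine ⟨Points.map (pullback.fst g2 ((yon S).map r)) y, ?_⟩
    rw [← Points.map_comp, ← Points.map_comp]
    exact congrArg (fun k => Points.map k y) sqZ.w
  · refine (AlgSpCov.isEtaleMor_iff_locP_etale hA'' (IsAlgSpace.yon_obj T)).2
      (AlgSpCov.locP_of_fpqc AlgSpCov.etaleLocal_etale (fun _ => IsAlgSpace.yon_obj Z) (isFpqcCover_single r)
        (fun _ : PUnit.{u + 1} => hPZ) (fun _ => sqZ) fun _ => hpZ)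

/-- An etale sheaf with a smooth surjective chart from an algebraic space is an algebraic space. -/
theorem isAlgSpaceP_of_smooth_chart (F : PSp S) (h1 : Presheaf.IsSheaf (QuotSh.J Scheme.etalePrecoverage S) F)
    (X : Space S) (p : X.obj.obj ⟶ F) (hp : RepBySpWith (IsSurjectiveMor ⊓ LocP @Smooth) p) :
    IsAlgSpaceP F := by
  obtain ⟨W, q, hq, hqs⟩ := X.property.atlas
  have hp' : RepBySpWith (IsSurjectiveMor ⊓ LocP @Smooth) (q.hom ≫ p : (pyon S).obj W ⟶ F) := by
    intro T ξ F' fst snd sq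
    have sq1 := IsPullback.of_hasPullback p ξ
    obtain ⟨h1', hA1, hs1, hsm1⟩ := hp ξ _ _ sq1
    let P1 : Sp S := ⟨_, h1'⟩
    let g1 : P1 ⟶ (yon S).obj T := ObjectProperty.homMk (pullback.snd p ξ)
    let f1 : P1 ⟶ X.obj := ObjectProperty.homMk (pullback.fst p ξ)
    let l1 : F' ⟶ pullback p ξ := sq1.lift (fst ≫ q.hom) snd (by rw [Category.assoc]; exact sq.w)
    have sq2 : IsPullback fst l1 q.hom (pullback.fst p ξ) := by
      refine IsPullback.of_bot ?_ (sq1.lift_fst _ _ _).symm sq1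
      rw [sq1.lift_snd]
      exact sq
    obtain ⟨h', hA''⟩ := AlgSpB.isAlgSpaceP_of_isPullback ((isAlgSpaceP_obj_iff _).2 (IsAlgSpace.yon_obj W))
      ((isAlgSpaceP_obj_iff P1).2 hA1) ((isAlgSpaceP_obj_iff _).2 X.property) sq2
    let P2 : Sp S := ⟨F', h'⟩
    let l : P2 ⟶ P1 := ObjectProperty.homMk l1
    have sql : IsPullback (ObjectProperty.homMk fst : P2 ⟶ (yon S).obj W) l q f1 :=
      IsPullback.of_map_of_faithful (sheafToPresheaf (J S) (Type (u + 1))) sq2
    have hl : RepWith @Smooth l :=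
      MorphismProperty.of_isPullback sql (Groth.Agent.AlgSp.repWith_mono (fun f hf => AlgSpCov.etale_le_smooth _ _ _ hf) hq)
    have hls : Function.Surjective (Points.map l) :=
      Groth.Agent.AlgSp.surjective_map_of_isPullback sql (surjective_map_atlas hqs)
    have hsnd : (ObjectProperty.homMk snd : P2 ⟶ (yon S).obj T) = l ≫ g1 :=
      ObjectProperty.hom_ext _ (sq1.lift_snd _ _ _).symm
    refine ⟨h', hA'', ?_, ?_⟩
    · rw [hsnd]
      change Function.Surjective (Points.map (l ≫ g1))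
      intro x
      obtain ⟨y, rfl⟩ := hs1 x
      obtain ⟨z, rfl⟩ := hls y
      exact ⟨z, Points.map_comp _ _ _⟩
    · rw [hsnd]
      exact AlgSpCov.locP_comp AlgSpCov.etaleLocal_smooth hA1 (IsAlgSpace.yon_obj T)
        (AlgSpCov.locP_of_repWith AlgSpCov.etaleLocal_smooth hl) hsm1
  obtain ⟨U', π, hπ⟩ := exists_etale_chart _ hp'
  obtain ⟨hc, he⟩ := AlgSpB.atlas_comp (𝟙 ((yon S).obj U')) (repWith_id _ U') (repWith_id _ U') π hπ
  exact AlgSpB.isAlgSpaceP_of_etaleSheaf F h1 U' _ hc he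

end Groth.Agent.StFib.Slice
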