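import Groth.Agent.StFib.Fibre2
import Groth.Agent.StFib.Props2

/-!
Properties of diagonals of composites.
-/

set_option backward.isDefEq.respectTransparency false
set_option backward.isDefEq.respectTransparency.types false

universe u

open CategoryTheory CategoryTheory.Limits AlgebraicGeometry Opposite FibCat

namespace Groth.Agent.StFib

variable {S : Scheme.{u}} {𝒳 𝒴 𝒵 : AlgSt.Cat S}

theorem diag_comp_mem {P : MorphismProperty (AlgSp.Sp S)} (hP : Good P) (h𝒳 : IsFibGrpd 𝒳.p)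
    (h𝒴 : IsFibGrpd 𝒴.p) {f : 𝒳 ⥤ᵇ 𝒴} {g : 𝒴 ⥤ᵇ 𝒵} (hf : AlgSt.RepByAlgSpWith P (diag f))
    (hg : AlgSt.RepByAlgSpWith P (diag g)) :
    AlgSt.RepByAlgSpWith P (diag (BasedFunctor.comp f g)) := by
  obtain ⟨q, ⟨i⟩, hq⟩ := exists_diag_comp f g
  exact repByAlgSpWith_of_iso P i (repByAlgSpWith_comp hP.bc hP.comp hP.det h𝒳
    (isFibGrpd_fp h𝒳 h𝒳 h𝒴 f f) hf (hq P hg))

/-- If the diagonal of a composite has `P` and `P` cancels, the diagonal of the first map has `P`. -/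
theorem diag_of_comp_mem {P Q : MorphismProperty (AlgSp.Sp S)} (hPb : StableBC P)
    (hcancel : ∀ ⦃X Y Z : AlgSp.Sp S⦄, AlgSp.IsAlgSpace X → AlgSp.IsAlgSpace Y → AlgSp.IsAlgSpace Z →
      ∀ (a : X ⟶ Y) (b : Y ⟶ Z), Q b → P (a ≫ b) → P a)
    {f : 𝒳 ⥤ᵇ 𝒴} {g : 𝒴 ⥤ᵇ 𝒵} (hg : AlgSt.RepByAlgSpWith Q (diag g))
    (hfg : AlgSt.RepByAlgSpWith P (diag (BasedFunctor.comp f g))) :
    AlgSt.RepByAlgSpWith P (diag f) := by
  obtain ⟨q, ⟨i⟩, hq⟩ := exists_diag_comp f g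
  exact repByAlgSpWith_cancel hPb hcancel (hq Q hg) (repByAlgSpWith_of_iso P i.symm hfg)

theorem detected_of_isLocalOnBase_et {P : MorphismProperty (AlgSp.Sp S)}
    (hP : AlgSp.IsLocalOnBase AlgSp.IsEtCover P) : DetectedOnSchemes P := by
  intro V A hV hA b h
  obtain ⟨U, p, hpe, hps⟩ := hA.atlas
  refine (hP (ι := PUnit.{u + 1}) (fun _ => (AlgSp.yon S).obj U) (fun _ => p) hA
    (fun _ => isAlgSpace_yon U) ⟨fun _ => isEtaleMor_of_repWith hpe, fun x => ⟨⟨⟩, ?_⟩⟩ b hV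
    (fun _ => pullback b p) (fun _ => pullback.snd b p) (fun _ => pullback.fst b p)
    (fun _ => Groth.Agent.AlgSp.isAlgSpace_pullback hA hV (isAlgSpace_yon U) b p)
    (fun _ => IsPullback.of_hasPullback b p)).2 fun _ => h p
  obtain ⟨u, rfl⟩ := Groth.Agent.AlgSpB.surjective_ofPt hps x
  exact ⟨AlgSp.Points.ofPt (𝟙 _) u, by rw [AlgSp.Points.map_ofPt, Category.id_comp]⟩

end Groth.Agent.StFib
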