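import Groth.Agent.StFib.DiagComp

/-!
The diagonal of a morphism representable by algebraic spaces.
-/

set_option backward.isDefEq.respectTransparency false
set_option backward.isDefEq.respectTransparency.types false

universe u

open CategoryTheory CategoryTheory.Limits AlgebraicGeometry Opposite FibCat

namespace Groth.Agent.StFib

variable {S : Scheme.{u}} {𝒳 𝒴 : AlgSt.Cat S}

/-- Properties of a diagonal can be tested after base change to schemes. -/
theorem diag_of_forall (P : MorphismProperty (AlgSp.Sp S)) (f : 𝒳 ⥤ᵇ 𝒴)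
    (h : ∀ (T : Over S) (y : overCat T ⥤ᵇ 𝒴), AlgSt.RepByAlgSpWith P (diag (fpFst y f))) :
    AlgSt.RepByAlgSpWith P (diag f) := by
  intro U z
  let a : overCat U ⥤ᵇ 𝒳 := BasedFunctor.comp z (fpFst f f)
  let b : overCat U ⥤ᵇ 𝒳 := BasedFunctor.comp z (fpSnd f f)
  let y : overCat U ⥤ᵇ 𝒴 := BasedFunctor.comp a f
  let sa : overCat U ⥤ᵇ fp y f := fpLift (BasedFunctor.id _) a (Iso.refl _)
  let sb : overCat U ⥤ᵇ fp y f := fpLift (BasedFunctor.id _) b (isoWhiskerLeft z (fpIso f f))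
  let z' : overCat U ⥤ᵇ fp (fpFst y f) (fpFst y f) := fpLift sa sb (Iso.refl _)
  have i0 : z ≅ BasedFunctor.comp z' (diagPhi y f) :=
    isoMk (F := z) (G := BasedFunctor.comp z' (diagPhi y f))
      (fun (x : (overCat U).obj) => fpIsoMk (Iso.refl _) (Iso.refl _) (by
        change f.map (Iso.refl (z.obj x).obj.fst).hom ≫
            (𝟙 _ ≫ y.map (CategoryStruct.id (obj := (overCat U).obj) x) ≫ (z.obj x).obj.iso.hom) = _
        simp <;> exact Category.id_comp ((z.obj x).obj.iso.hom)))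
      (fun x => Vert.id _)
      (fun {g g' : (overCat U).obj} (φ : g ⟶ g') => fp_hom_ext (F := f) (G := f)
        (show (z.map φ).hom.fst ≫ 𝟙 (z.obj g').obj.fst = 𝟙 (z.obj g).obj.fst ≫ (z.map φ).hom.fst by simp)
        (show (z.map φ).hom.snd ≫ 𝟙 (z.obj g').obj.snd = 𝟙 (z.obj g).obj.snd ≫ (z.map φ).hom.snd by simp))
  obtain ⟨F, e, he, hP⟩ := h U y U z'
  obtain ⟨E, hE, ⟨iE⟩, -⟩ := exists_fp_of_cart _ _ _ (diag_fpFst_cart y f) z'
  obtain ⟨E₂, hE₂, ⟨iE₂⟩, -⟩ := exists_fp_congr (F := BasedFunctor.comp z' (diagPhi y f)) (F' := z)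
    (G := diag f) (G' := diag f) i0 (Iso.refl _)
  refine ⟨F, BasedFunctor.comp e (BasedFunctor.comp E E₂),
    isEquivOver_comp he (isEquivOver_comp hE hE₂), ?_⟩
  exact (spMapOfOver_congr (F := F.obj)
    (isoWhiskerLeft e (Iso.trans (isoWhiskerLeft E iE₂) iE))).symm ▸ hP

/-- Diagonals are compatible with equivalences of the source. -/
theorem diag_iff_of_equiv_source (P : MorphismProperty (AlgSp.Sp S)) {𝒜 : AlgSt.Cat S}
    {f : 𝒳 ⥤ᵇ 𝒴} {f' : 𝒜 ⥤ᵇ 𝒴} (E : 𝒜 ⥤ᵇ 𝒳) (hE : IsEquivOver E)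
    (i : BasedFunctor.comp E f ≅ f') :
    AlgSt.RepByAlgSpWith P (diag f) ↔ AlgSt.RepByAlgSpWith P (diag f') := by
  have : (BasedFunctor.id 𝒴).toFunctor.Full := inferInstanceAs (𝟭 _).Full
  have : (BasedFunctor.id 𝒴).toFunctor.Faithful := inferInstanceAs (𝟭 _).Faithful
  refine repByAlgSpWith_iff_of_equiv P E
    (fpMap (F := f) (G := f) (F' := f') (G' := f') E E (BasedFunctor.id 𝒴) i i) hE
    (fpMap_isEquivOver _ _ _ _ _ hE hE) ?_
  exact isoMk (fun x => fpIsoMk (Iso.refl _) (Iso.refl _) (by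
      change f.map (𝟙 (E.obj x)) ≫ 𝟙 _ =
        ((isoApp i x).hom ≫ 𝟙 _ ≫ (isoApp i x).inv) ≫ f.map (𝟙 (E.obj x))
      simp
      exact (congrArg (fun t => t.toNatTrans.app x) i.hom_inv_id).symm.trans
        (congrArg ((isoApp i x).hom ≫ ·) (Category.comp_id _).symm)))
    (fun x => Vert.id _)
    (fun φ => fp_hom_ext ((Category.comp_id _).trans (Category.id_comp _).symm)
      ((Category.comp_id _).trans (Category.id_comp _).symm))

/-- Diagonals are compatible with equivalences of the target. -/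
theorem diag_iff_of_equiv_target (P : MorphismProperty (AlgSp.Sp S)) {𝒜 : AlgSt.Cat S}
    (f : 𝒳 ⥤ᵇ 𝒴) (E : 𝒴 ⥤ᵇ 𝒜) (hE : IsEquivOver E) :
    AlgSt.RepByAlgSpWith P (diag f) ↔ AlgSt.RepByAlgSpWith P (diag (BasedFunctor.comp f E)) := by
  have := full_of_isEquivOver hE
  have := faithful_of_isEquivOver hE
  refine (repByAlgSpWith_iff_of_equiv P (BasedFunctor.id _)
    (fpMap (F := BasedFunctor.comp f E) (G := BasedFunctor.comp f E) (F' := f) (G' := f)
      (BasedFunctor.id 𝒳) (BasedFunctor.id 𝒳) E (Iso.refl _) (Iso.refl _))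
    (isEquivOver_id _) (fpMap_isEquivOver _ _ _ _ _ (isEquivOver_id _) (isEquivOver_id _)) ?_).symm
  exact isoMk (fun x => fpIsoMk (Iso.refl _) (Iso.refl _) (by
      change E.map (f.map (𝟙 x)) ≫ 𝟙 _ =
        (𝟙 _ ≫ E.map (𝟙 (f.obj x)) ≫ 𝟙 _) ≫ E.map (f.map (𝟙 x))
      simp))
    (fun x => Vert.id _)
    (fun φ => fp_hom_ext ((Category.comp_id _).trans (Category.id_comp _).symm)
      ((Category.comp_id _).trans (Category.id_comp _).symm))

/-- The diagonal of the functor of a map of sheaves is the functor of its diagonal. -/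
theorem diag_ofSpMap_iff (P : MorphismProperty (AlgSp.Sp S)) {A B : AlgSp.Sp S} (a : A ⟶ B) :
    AlgSt.RepByAlgSpWith P (diag (AlgSt.ofSpMap a)) ↔
      AlgSt.RepByAlgSpWith P (AlgSt.ofSpMap (pullback.diagonal a)) := by
  have sq := IsPullback.map (sheafToPresheaf (AlgSp.J S) (Type (u + 1)))
    (IsPullback.of_hasPullback a a)
  let N : AlgSt.ofSp (pullback a a) ⥤ᵇ fp (AlgSt.ofSpMap a) (AlgSt.ofSpMap a) :=
    fpLift (Stk.ofPshMap (pullback.fst a a).hom) (Stk.ofPshMap (pullback.snd a a).hom) (pshSqIso sq.w)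
  refine repByAlgSpWith_iff_of_equiv P (BasedFunctor.id _) N (isEquivOver_id _) (pshSq_cart sq) ?_
  exact isoMk (fun z => fpIsoMk
      (eltIso rfl ((psh_map_id _ _).trans
        (congrArg (fun m => m.hom.app (op z.base) z.sec) (pullback.diagonal_fst a)).symm))
      (eltIso rfl ((psh_map_id _ _).trans
        (congrArg (fun m => m.hom.app (op z.base) z.sec) (pullback.diagonal_snd a)).symm))
      (Stk.EltObj.hom_ext rfl))
    (fun z => ⟨rfl, rfl⟩)
    (fun φ => fp_hom_ext (Stk.EltObj.hom_ext ((Category.comp_id _).trans (Category.id_comp _).symm))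
      (Stk.EltObj.hom_ext ((Category.comp_id _).trans (Category.id_comp _).symm)))

/-- A map of algebraic spaces with `P` gives a functor with `P`. -/
theorem repByAlgSpWith_ofSpMap {P : MorphismProperty (AlgSp.Sp S)} (hPb : StableBC P)
    {A B : AlgSp.Sp S} (hA : AlgSp.IsAlgSpace A) (hB : AlgSp.IsAlgSpace B) (b : A ⟶ B) (hb : P b) :
    AlgSt.RepByAlgSpWith P (AlgSt.ofSpMap b) := by
  have := hPb.of_respects
  refine repByAlgSpWith_mono (P := Restr P) ((repBySpWith_iff _ b.hom).1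
    ((AlgSp.repBySpWith_hom_iff _ b).2 fun V ξ F' fst snd sq =>
      have hF' := Groth.Agent.AlgSp.isAlgSpace_of_isPullback' hB hA (isAlgSpace_yon V) sq
      ⟨hF', fun _ _ => hPb hA hB hF' (isAlgSpace_yon V) b ξ snd fst sq hb⟩))
    fun F U m h => h F.property (isAlgSpace_yon U)

/-- The diagonal of a representable morphism is described by the diagonals of its base changes. -/
theorem diag_of_rep_mem {P Q : MorphismProperty (AlgSp.Sp S)} (hPb : StableBC P)
    (hd : ∀ ⦃A : AlgSp.Sp S⦄ ⦃U : Over S⦄, AlgSp.IsAlgSpace A →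
      ∀ a : A ⟶ (AlgSp.yon S).obj U, Q a → P (pullback.diagonal a))
    {f : 𝒳 ⥤ᵇ 𝒴} (hf : AlgSt.RepByAlgSpWith Q f) : AlgSt.RepByAlgSpWith P (diag f) := by
  refine diag_of_forall P f fun T y => ?_
  obtain ⟨A, e, he, hQ⟩ := hf T y
  let a := AlgSt.spMapOfOver (BasedFunctor.comp e (fpFst y f))
  have h1 := repByAlgSpWith_ofSpMap hPb A.property
    (Groth.Agent.AlgSp.isAlgSpace_pullback (isAlgSpace_yon T) A.property A.property a a)
    (pullback.diagonal a) (hd A.property a hQ)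
  obtain ⟨d, hd', -, ⟨j⟩⟩ := isEquivOver_symm (toOverCat_isEquivOver T)
  obtain ⟨k⟩ := exists_iso_pshMap (P := A.obj.obj) (Q := ((AlgSp.yon S).obj T).obj)
    (BasedFunctor.comp (BasedFunctor.comp e (fpFst y f)) d)
  have ha : pshMap (P := A.obj.obj) (Q := ((AlgSp.yon S).obj T).obj)
      (BasedFunctor.comp (BasedFunctor.comp e (fpFst y f)) d) = a.hom := by
    have h := congrArg (fun m => m.hom) (spMapOfOver_congr (F := A.obj)
      (Iso.trans (isoWhiskerRight k.symm (AlgSt.toOverCat T))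
        (isoWhiskerLeft (BasedFunctor.comp e (fpFst y f)) j)))
    refine Eq.trans ?_ h
    ext W x
    exact (congrArg ULift.up (Category.id_comp _)).symm
  rw [ha] at k
  refine (diag_iff_of_equiv_source P e he (Iso.refl _)).2 ?_
  exact repByAlgSpWith_diag_of_iso P
    (Iso.trans (isoWhiskerRight k.symm (AlgSt.toOverCat T))
      (isoWhiskerLeft (BasedFunctor.comp e (fpFst y f)) j))
    ((diag_iff_of_equiv_target P (AlgSt.ofSpMap a) _ (toOverCat_isEquivOver T)).1
      ((diag_ofSpMap_iff P a).2 h1))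

end Groth.Agent.StFib
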