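import Groth.Agent.StFib.ProdMap
import Groth.Agent.StFib.DiagRep
import Groth.Agent.StFib.DiagComp

/-!
Diagonals of the maps of 2-fibre products induced by maps of the factors.
-/

set_option backward.isDefEq.respectTransparency false
set_option backward.isDefEq.respectTransparency.types false
set_option linter.unusedVariables false

universe u

open CategoryTheory CategoryTheory.Limits AlgebraicGeometry Opposite FibCat

namespace Groth.Agent.StFib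

variable {S : Scheme.{u}} {𝒳 𝒳' 𝒴 𝒴' 𝒵 : AlgSt.Cat S}

/-- The pasting comparison of `fpMap_left`. -/
def fpMapLeftIso (x : 𝒳' ⥤ᵇ 𝒳) (f : 𝒳 ⥤ᵇ 𝒵) (g : 𝒴 ⥤ᵇ 𝒵) :
    fpSnd x (fpFst f g) ≅ BasedFunctor.comp (fpPaste f g x)
      (fpMap (F := f) (G := g) (F' := BasedFunctor.comp x f) (G' := g) x (BasedFunctor.id 𝒴)
        (BasedFunctor.id 𝒵) (Iso.refl _) (Iso.refl _)) :=
  isoMk
    (fun z => fpIsoMk z.obj.iso.symm (Iso.refl _) (by
      change f.map z.obj.iso.inv ≫ (𝟙 _ ≫ (f.map z.obj.iso.hom ≫ z.obj.snd.obj.iso.hom) ≫ 𝟙 _) =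
        z.obj.snd.obj.iso.hom ≫ g.map (𝟙 _)
      simp only [Category.id_comp, CategoryTheory.Functor.map_id, Category.comp_id]
      rw [← Functor.map_comp_assoc, Iso.inv_hom_id, CategoryTheory.Functor.map_id, Category.id_comp]))
    (fun z => vert_fp_iff.2 (vert_fp_iso z).inv)
    (fun φ => fp_hom_ext φ.hom.w'.symm.symm ((Category.comp_id _).trans (Category.id_comp _).symm))

theorem diag_fpFst_mem (P : MorphismProperty (AlgSp.Sp S)) {f : 𝒳 ⥤ᵇ 𝒴} (g : 𝒵 ⥤ᵇ 𝒴)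
    (hf : AlgSt.RepByAlgSpWith P (diag f)) : AlgSt.RepByAlgSpWith P (diag (fpFst g f)) :=
  repByAlgSpWith_of_cart P _ _ _ (diag_fpFst_cart g f) hf

theorem diag_fpMap_left (P : MorphismProperty (AlgSp.Sp S)) {x : 𝒳' ⥤ᵇ 𝒳}
    (hx : AlgSt.RepByAlgSpWith P (diag x)) (f : 𝒳 ⥤ᵇ 𝒵) (g : 𝒴 ⥤ᵇ 𝒵) :
    AlgSt.RepByAlgSpWith P (diag (fpMap (F := f) (G := g) (F' := BasedFunctor.comp x f) (G' := g) x
      (BasedFunctor.id 𝒴) (BasedFunctor.id 𝒵) (Iso.refl _) (Iso.refl _))) :=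
  (diag_iff_of_equiv_source P (fpPaste f g x) (fpPaste_isEquivOver f g x) (fpMapLeftIso x f g).symm).2
    ((diag_iff_of_equiv_source P (f := fpFst (fpFst f g) x) (fpSwap x (fpFst f g))
      (fpSwap_isEquivOver _ _) (Iso.refl (fpSnd x (fpFst f g)))).1 (diag_fpFst_mem P (fpFst f g) hx))

theorem diag_fpMap_right (P : MorphismProperty (AlgSp.Sp S)) {y : 𝒴' ⥤ᵇ 𝒴}
    (hy : AlgSt.RepByAlgSpWith P (diag y)) (f : 𝒳 ⥤ᵇ 𝒵) (g : 𝒴 ⥤ᵇ 𝒵) :
    AlgSt.RepByAlgSpWith P (diag (fpMap (F := f) (G := g) (F' := f) (G' := BasedFunctor.comp y g)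
      (BasedFunctor.id 𝒳) y (BasedFunctor.id 𝒵) (Iso.refl _) (Iso.refl _))) := by
  refine (diag_iff_of_equiv_target P _ (fpSwap f g) (fpSwap_isEquivOver f g)).2 ?_
  refine (diag_iff_of_equiv_source P (fpSwap f (BasedFunctor.comp y g)) (fpSwap_isEquivOver _ _) ?_).1
    (diag_fpMap_left P hy g f)
  refine isoMk (fun z => fpIsoMk (Iso.refl _) (Iso.refl _) ?_) (fun z => Vert.id _)
    (fun φ => fp_hom_ext ((Category.comp_id _).trans (Category.id_comp _).symm)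
      ((Category.comp_id _).trans (Category.id_comp _).symm))
  change g.map (𝟙 _) ≫ ((𝟙 _ ≫ z.obj.iso.inv) ≫ 𝟙 _) = (𝟙 _ ≫ z.obj.iso.inv ≫ 𝟙 _) ≫ f.map (𝟙 _)
  simp <;> rfl

theorem diag_fpLift_map_mem {P : MorphismProperty (AlgSp.Sp S)} (hP : Good P) (h𝒳 : IsFibGrpd 𝒳.p)
    (h𝒴 : IsFibGrpd 𝒴.p) (h𝒳' : IsFibGrpd 𝒳'.p) (h𝒵 : IsFibGrpd 𝒵.p) {p' : 𝒳' ⥤ᵇ 𝒵} {q' : 𝒴' ⥤ᵇ 𝒵}
    {f : 𝒳 ⥤ᵇ 𝒳'} {g : 𝒴 ⥤ᵇ 𝒴'}
    (e : BasedFunctor.comp (BasedFunctor.comp (fpFst (BasedFunctor.comp f p') (BasedFunctor.comp g q')) f) p' ≅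
      BasedFunctor.comp (BasedFunctor.comp (fpSnd (BasedFunctor.comp f p') (BasedFunctor.comp g q')) g) q')
    (he : ∀ x, e.hom.toNatTrans.app x = x.obj.iso.hom)
    (hf : AlgSt.RepByAlgSpWith P (diag f)) (hg : AlgSt.RepByAlgSpWith P (diag g)) :
    AlgSt.RepByAlgSpWith P (diag (fpLift (BasedFunctor.comp (fpFst (BasedFunctor.comp f p')
      (BasedFunctor.comp g q')) f) (BasedFunctor.comp (fpSnd (BasedFunctor.comp f p') (BasedFunctor.comp g q')) g) e)) := by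
  refine repByAlgSpWith_diag_of_iso P ?_ (diag_comp_mem hP (isFibGrpd_fp h𝒳 h𝒴 h𝒵 _ _)
    (isFibGrpd_fp h𝒳' h𝒴 h𝒵 _ _) (diag_fpMap_left P hf p' (BasedFunctor.comp g q'))
    (diag_fpMap_right P hg p' q'))
  refine isoMk (fun w => fpIsoMk (Iso.refl _) (Iso.refl _) ?_) (fun w => Vert.id _)
    (fun φ => fp_hom_ext ((Category.comp_id _).trans (Category.id_comp _).symm)
      ((Category.comp_id _).trans (Category.id_comp _).symm))
  change p'.map (𝟙 _) ≫ e.hom.toNatTrans.app w = (𝟙 _ ≫ (𝟙 _ ≫ w.obj.iso.hom ≫ 𝟙 _) ≫ 𝟙 _) ≫ q'.map (𝟙 _)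
  rw [he]
  simp
  exact (Category.comp_id _).symm

end Groth.Agent.StFib
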