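import Groth.Agent.StFib.LocQSquares
import Groth.Agent.Thick.FlatCancel
import Groth.Agent.S12442

/-!
Descent and cancellation for properties read on smooth chart squares.
-/

set_option backward.isDefEq.respectTransparency false
set_option backward.isDefEq.respectTransparency.types false
set_option linter.unusedVariables false

universe u

open CategoryTheory CategoryTheory.Limits AlgebraicGeometry Opposite FibCat

namespace Groth.Agent.StFib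

variable {S : Scheme.{u}} {𝒳 𝒴 𝒵 : AlgSt.Cat S}

theorem scheme_mem_of_locP {Q : MorphismProperty Scheme.{u}} {U V : Over S} {h : U ⟶ V}
    (hh : AlgSp.LocP Q ((AlgSp.yon S).map h)) : Q h.left :=
  hh (𝟙 _) (𝟙 _) h (AlgSp.repWith_id _ _) (AlgSp.repWith_id _ _) (by simp)

theorem locP_of_scheme_mem {Q : MorphismProperty Scheme.{u}} (hQ : SmoothLocalProp Q) {U V : Over S}
    {h : U ⟶ V} (hh : Q h.left) : AlgSp.LocP Q ((AlgSp.yon S).map h) :=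
  have := hQ.standard.bc
  Groth.Agent.AlgSpCov.locP_of_repWith hQ.standard.etaleLocal ((AlgSp.repWith_yon_map_iff _ _).2 hh)

theorem surjective_of_square (h𝒳 : AlgSt.IsAlgStack Scheme.fppfPrecoverage 𝒳)
    (h𝒴 : AlgSt.IsAlgStack Scheme.fppfPrecoverage 𝒴) {f : 𝒳 ⥤ᵇ 𝒴} (hfs : AlgSt.IsSurjective f)
    {U V : Over S} {x : overCat U ⥤ᵇ 𝒳} {y : overCat V ⥤ᵇ 𝒴} {h : U ⟶ V}
    (α : BasedFunctor.comp x f ≅ BasedFunctor.comp (AlgSt.overMap h) y)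
    (hls : AlgSt.RepByAlgSpWith AlgSp.IsSurjectiveMor (fpLift x (AlgSt.overMap h) α)) :
    Surjective h.left := by
  refine ⟨fun v => ?_⟩
  obtain ⟨p, hp⟩ := hfs (AlgSt.Points.ofChart y v)
  obtain ⟨r, -, hr⟩ := exists_points_fp_of_map_eq (isFibGrpd_overCat V) h𝒳.isStack.1 h𝒴.isStack.1
    y f p (AlgSt.Points.ofChart (BasedFunctor.id _) v) (hp.trans (ofChart_eq_map y v))
  obtain ⟨u, rfl⟩ := ofChart_surjective (isFibGrpd_fp h𝒳.isStack.1 (isFibGrpd_overCat V)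
    h𝒴.isStack.1 f y) hls r
  refine ⟨u, ?_⟩
  have := congrArg ptMap hr
  rw [ptMap_ofChart_id] at this
  exact ((congrArg ptMap (ofChart_overMap (BasedFunctor.id (overCat V)) h u)).trans
    (ptMap_ofChart_id _)).symm.trans this

theorem locQ_descend (P : MorphismProperty (AlgSp.Sp S)) (hP : AlgSp.IsSmoothLocalST P)
    (Q : MorphismProperty Scheme.{u})
    (hdesc : ∀ {U V Z : Over S} (a : Z ⟶ V) (h : U ⟶ V), Q a.left → Surjective a.left →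
      P ((AlgSp.yon S).map (pullback.fst a h)) → P ((AlgSp.yon S).map h))
    (h𝒳 : AlgSt.IsAlgStack Scheme.fppfPrecoverage 𝒳) (h𝒴 : AlgSt.IsAlgStack Scheme.fppfPrecoverage 𝒴)
    (h𝒵 : AlgSt.IsAlgStack Scheme.fppfPrecoverage 𝒵) {f : 𝒳 ⥤ᵇ 𝒴} {z : 𝒵 ⥤ᵇ 𝒴}
    (hzQ : ∀ {U V : Over S} {x : overCat U ⥤ᵇ 𝒵} {y : overCat V ⥤ᵇ 𝒴} {h : U ⟶ V}
      (α : BasedFunctor.comp x z ≅ BasedFunctor.comp (AlgSt.overMap h) y),
      AlgSt.RepByAlgSpWith (AlgSp.LocP @Smooth) y →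
      AlgSt.RepByAlgSpWith (AlgSp.LocP @Smooth) (fpLift x (AlgSt.overMap h) α) → Q h.left)
    (hzs : AlgSt.IsSurjective z) (hQ : AlgSt.LocQ P (fpFst z f)) : AlgSt.LocQ P f := by
  obtain ⟨V, y, hy, hys⟩ := h𝒴.atlas
  obtain ⟨U, x, h, α, hx, hxs, hl, -⟩ := exists_smooth_square h𝒳 h𝒴 f hy
  obtain ⟨Z, z₀, a, β, hz₀, -, hlz, hlzs⟩ := exists_smooth_square h𝒵 h𝒴 z hy
  exact ⟨U, V, x, y, h, α, hx, hxs hys, hy, hdesc a h (hzQ β hy hlz)
    (surjective_of_square h𝒵 h𝒴 hzs β hlzs)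
    (exists_baseChange_square h𝒳 h𝒴 h𝒵 α hl hz₀ a β.symm hP hQ)⟩

theorem locQ_of_fppf (P : MorphismProperty (AlgSp.Sp S)) (hP : AlgSp.IsSmoothLocalST P)
    (hP₂ : AlgSp.IsLocalOnBase AlgSp.IsFppfCover P)
    (h𝒳 : AlgSt.IsAlgStack Scheme.fppfPrecoverage 𝒳) (h𝒴 : AlgSt.IsAlgStack Scheme.fppfPrecoverage 𝒴)
    (h𝒵 : AlgSt.IsAlgStack Scheme.fppfPrecoverage 𝒵) {f : 𝒳 ⥤ᵇ 𝒴} {z : 𝒵 ⥤ᵇ 𝒴}
    (hz₁ : AlgSt.LocQ (AlgSp.LocP @Flat) z) (hz₂ : AlgSt.LocQ (AlgSp.LocP @LocallyOfFinitePresentation) z)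
    (hz₃ : AlgSt.IsSurjective z) (hQ : AlgSt.LocQ P (fpFst z f)) : AlgSt.LocQ P f := by
  refine locQ_descend P hP (fun _ _ m => Flat m ∧ LocallyOfFinitePresentation m) (fun {U V Z} a h ha hs hp => ?_)
    h𝒳 h𝒴 h𝒵
    (fun α hy hl => ⟨scheme_mem_of_locP (mem_of_locQ (isSmoothLocalST_locP smoothLocalProp_flat) h𝒵 h𝒴 hz₁ α hy hl),
      scheme_mem_of_locP (mem_of_locQ (isSmoothLocalST_locP smoothLocalProp_lfp) h𝒵 h𝒴 hz₂ α hy hl)⟩) hz₃ hQ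
  refine (hP₂ (ι := PUnit.{u + 1}) (fun _ => (AlgSp.yon S).obj Z) (fun _ => (AlgSp.yon S).map a)
    (isAlgSpace_yon V) (fun _ => isAlgSpace_yon Z)
    ⟨fun _ => ⟨locP_of_scheme_mem smoothLocalProp_flat ha.1, locP_of_scheme_mem smoothLocalProp_lfp ha.2⟩,
      fun p => ⟨⟨⟩, ?_⟩⟩
    ((AlgSp.yon S).map h) (isAlgSpace_yon U) (fun _ => (AlgSp.yon S).obj (pullback a h))
    (fun _ => (AlgSp.yon S).map (pullback.fst a h)) (fun _ => (AlgSp.yon S).map (pullback.snd a h))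
    (fun _ => isAlgSpace_yon _)
    (fun _ => (IsPullback.of_hasPullback a h).flip.map (AlgSp.yon S))).2 fun _ => hp
  obtain ⟨v, rfl⟩ := (AlgSp.Points.schemeHomeo V).surjective p
  obtain ⟨t, rfl⟩ := hs.surj v
  exact ⟨AlgSp.Points.schemeHomeo Z t, AlgSp.Points.map_yon_map_apply _ _⟩

theorem locQ_flat_descend
    (h𝒳 : AlgSt.IsAlgStack Scheme.fppfPrecoverage 𝒳) (h𝒴 : AlgSt.IsAlgStack Scheme.fppfPrecoverage 𝒴)
    (h𝒵 : AlgSt.IsAlgStack Scheme.fppfPrecoverage 𝒵) {f : 𝒳 ⥤ᵇ 𝒴} {z : 𝒵 ⥤ᵇ 𝒴}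
    (hz₁ : AlgSt.LocQ (AlgSp.LocP @Flat) z) (hz₂ : AlgSt.IsSurjective z)
    (hQ : AlgSt.LocQ (AlgSp.LocP @Flat) (fpFst z f)) : AlgSt.LocQ (AlgSp.LocP @Flat) f := by
  refine locQ_descend _ (isSmoothLocalST_locP smoothLocalProp_flat) @Flat (fun {U V Z} a h ha hs hp => ?_)
    h𝒳 h𝒴 h𝒵
    (fun α hy hl => scheme_mem_of_locP
      (mem_of_locQ (isSmoothLocalST_locP smoothLocalProp_flat) h𝒵 h𝒴 hz₁ α hy hl)) hz₂ hQ
  refine locP_of_scheme_mem smoothLocalProp_flat ?_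
  have : Flat (pullback.fst a h).left := scheme_mem_of_locP hp
  have sq := (IsPullback.of_hasPullback a h).map (Over.forget S)
  have : Flat a.left := ha
  have : Flat (pullback.snd a h).left := MorphismProperty.of_isPullback (P := @Flat) sq ha
  have : Surjective (pullback.snd a h).left := MorphismProperty.of_isPullback (P := @Surjective) sq hs
  have : Flat ((pullback.snd a h).left ≫ h.left) := by
    rw [← Over.comp_left, ← pullback.condition, Over.comp_left]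
    infer_instance
  exact Groth.Agent.Thick.FlatCancel.flat_of_comp (pullback.snd a h).left h.left

theorem locQ_lft_of_comp {f : 𝒳 ⥤ᵇ 𝒴} {g : 𝒴 ⥤ᵇ 𝒵}
    (h𝒳 : AlgSt.IsAlgStack Scheme.fppfPrecoverage 𝒳) (h𝒴 : AlgSt.IsAlgStack Scheme.fppfPrecoverage 𝒴)
    (h𝒵 : AlgSt.IsAlgStack Scheme.fppfPrecoverage 𝒵)
    (hfg : AlgSt.LocQ (AlgSp.LocP @LocallyOfFiniteType) (BasedFunctor.comp f g)) :
    AlgSt.LocQ (AlgSp.LocP @LocallyOfFiniteType) f := by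
  obtain ⟨W, z, hz, hzs⟩ := h𝒵.atlas
  obtain ⟨U, V, x, y, h₁, h₂, α, β, hx, hxs, hy, hys, -, -, -, h12⟩ :=
    exists_comp_square h𝒳 h𝒴 h𝒵 f g hz hzs
  refine ⟨U, V, x, y, h₁, α, hx, hxs, hy, locP_of_scheme_mem smoothLocalProp_lft ?_⟩
  have h := scheme_mem_of_locP (h12 _ (isSmoothLocalST_locP smoothLocalProp_lft) hfg)
  have : LocallyOfFiniteType (h₁.left ≫ h₂.left) := h
  exact locallyOfFiniteType_of_comp h₁.left h₂.left

theorem locQ_lfp_of_comp {f : 𝒳 ⥤ᵇ 𝒴} {g : 𝒴 ⥤ᵇ 𝒵}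
    (h𝒳 : AlgSt.IsAlgStack Scheme.fppfPrecoverage 𝒳) (h𝒴 : AlgSt.IsAlgStack Scheme.fppfPrecoverage 𝒴)
    (h𝒵 : AlgSt.IsAlgStack Scheme.fppfPrecoverage 𝒵)
    (hfg : AlgSt.LocQ (AlgSp.LocP @LocallyOfFinitePresentation) (BasedFunctor.comp f g))
    (hg : AlgSt.LocQ (AlgSp.LocP @LocallyOfFiniteType) g) :
    AlgSt.LocQ (AlgSp.LocP @LocallyOfFinitePresentation) f := by
  obtain ⟨W, z, hz, hzs⟩ := h𝒵.atlas
  obtain ⟨U, V, x, y, h₁, h₂, α, β, hx, hxs, hy, hys, -, -, h2, h12⟩ :=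
    exists_comp_square h𝒳 h𝒴 h𝒵 f g hz hzs
  refine ⟨U, V, x, y, h₁, α, hx, hxs, hy, locP_of_scheme_mem smoothLocalProp_lfp ?_⟩
  have h := scheme_mem_of_locP (h12 _ (isSmoothLocalST_locP smoothLocalProp_lfp) hfg)
  have : LocallyOfFinitePresentation (h₁.left ≫ h₂.left) := h
  have : LocallyOfFiniteType h₂.left :=
    scheme_mem_of_locP (h2 _ (isSmoothLocalST_locP smoothLocalProp_lft) hg)
  exact Groth.Agent.S12442.result h₁.left h₂.left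

theorem locQ_flat_of_comp {f : 𝒳 ⥤ᵇ 𝒴} {g : 𝒴 ⥤ᵇ 𝒵}
    (h𝒳 : AlgSt.IsAlgStack Scheme.fppfPrecoverage 𝒳) (h𝒴 : AlgSt.IsAlgStack Scheme.fppfPrecoverage 𝒴)
    (h𝒵 : AlgSt.IsAlgStack Scheme.fppfPrecoverage 𝒵)
    (hf₁ : AlgSt.LocQ (AlgSp.LocP @Flat) f) (hf₂ : AlgSt.IsSurjective f)
    (hfg : AlgSt.LocQ (AlgSp.LocP @Flat) (BasedFunctor.comp f g)) :
    AlgSt.LocQ (AlgSp.LocP @Flat) g := by
  obtain ⟨W, z, hz, hzs⟩ := h𝒵.atlas
  obtain ⟨U, V, x, y, h₁, h₂, α, β, hx, hxs, hy, hys, hsur, h1, -, h12⟩ :=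
    exists_comp_square h𝒳 h𝒴 h𝒵 f g hz hzs
  refine ⟨V, W, y, z, h₂, β, hy, hys, hz, locP_of_scheme_mem smoothLocalProp_flat ?_⟩
  have : Flat h₁.left := scheme_mem_of_locP (h1 _ (isSmoothLocalST_locP smoothLocalProp_flat) hf₁)
  have : Flat (h₁.left ≫ h₂.left) :=
    scheme_mem_of_locP (h12 _ (isSmoothLocalST_locP smoothLocalProp_flat) hfg)
  have := hsur hf₂
  exact Groth.Agent.Thick.FlatCancel.flat_of_comp h₁.left h₂.left

theorem isOpenMor_of_locQ {f : 𝒳 ⥤ᵇ 𝒴}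
    (h𝒳 : AlgSt.IsAlgStack Scheme.fppfPrecoverage 𝒳) (h𝒴 : AlgSt.IsAlgStack Scheme.fppfPrecoverage 𝒴)
    (h1 : AlgSt.LocQ (AlgSp.LocP @Flat) f) (h2 : AlgSt.LocQ (AlgSp.LocP @LocallyOfFinitePresentation) f) :
    AlgSt.IsOpenMor f := by
  obtain ⟨V, y, hy, hys⟩ := h𝒴.atlas
  obtain ⟨U, x, h, α, hx, hxs, hl, -⟩ := exists_smooth_square h𝒳 h𝒴 f hy
  have : Flat h.left :=
    scheme_mem_of_locP (mem_of_locQ (isSmoothLocalST_locP smoothLocalProp_flat) h𝒳 h𝒴 h1 α hy hl)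
  have : LocallyOfFinitePresentation h.left :=
    scheme_mem_of_locP (mem_of_locQ (isSmoothLocalST_locP smoothLocalProp_lfp) h𝒳 h𝒴 h2 α hy hl)
  intro Ω hΩ
  have he : AlgSt.Points.map f '' Ω =
      AlgSt.Points.ofChart y '' (h.left '' (AlgSt.Points.ofChart x ⁻¹' Ω)) := by
    ext P
    constructor
    · rintro ⟨R, hR, rfl⟩
      obtain ⟨u, rfl⟩ := ofChart_surjective h𝒳.isStack.1 (hxs hys) R
      exact ⟨h.left u, ⟨u, hR, rfl⟩, by rw [map_ofChart, ofChart_congr α, ofChart_overMap]⟩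
    · rintro ⟨v, ⟨u, hu, rfl⟩, rfl⟩
      exact ⟨_, hu, by rw [map_ofChart, ofChart_congr α, ofChart_overMap]⟩
  rw [he]
  exact isOpenMap_ofChart h𝒴 (repByAlgSpWith_flat_of_smooth hy) (repByAlgSpWith_lfp_of_smooth hy) _
    (h.left.isOpenMap _ (hΩ.preimage (continuous_ofChart h𝒳 x)))

theorem exists_locally_lift_locQ (h𝒴 : AlgSt.IsAlgStack Scheme.fppfPrecoverage 𝒴)
    (h𝒵 : AlgSt.IsAlgStack Scheme.fppfPrecoverage 𝒵) {z : 𝒵 ⥤ᵇ 𝒴}
    (hz₁ : AlgSt.LocQ (AlgSp.LocP @Flat) z) (hz₂ : AlgSt.LocQ (AlgSp.LocP @LocallyOfFinitePresentation) z)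
    (hz₃ : AlgSt.IsSurjective z) (U : Over S) (y : overCat U ⥤ᵇ 𝒴) :
    ∃ R ∈ AlgSp.J S U, ∀ ⦃V : Over S⦄ (h : V ⟶ U), R.arrows h →
      ∃ t : overCat V ⥤ᵇ 𝒵, Nonempty (BasedFunctor.comp t z ≅ BasedFunctor.comp (AlgSt.overMap h) y) := by
  obtain ⟨V₀, y₀, hy₀, hys₀⟩ := h𝒴.atlas
  obtain ⟨Z, x₀, c, β, -, -, hlz, hlzs⟩ := exists_smooth_square h𝒵 h𝒴 z hy₀
  have : Flat c.left :=
    scheme_mem_of_locP (mem_of_locQ (isSmoothLocalST_locP smoothLocalProp_flat) h𝒵 h𝒴 hz₁ β hy₀ hlz)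
  have : LocallyOfFinitePresentation c.left :=
    scheme_mem_of_locP (mem_of_locQ (isSmoothLocalST_locP smoothLocalProp_lfp) h𝒵 h𝒴 hz₂ β hy₀ hlz)
  have : Surjective c.left := surjective_of_square h𝒵 h𝒴 hz₃ β hlzs
  obtain ⟨W, a, b, ⟨i⟩, -, hb1, hb2, hb3⟩ := exists_chart_fp h𝒴 y₀ y
  have := hb1 (repByAlgSpWith_flat_of_smooth hy₀)
  have := hb2 (repByAlgSpWith_lfp_of_smooth hy₀)
  have := hb3 hys₀
  have sq := (IsPullback.of_hasPullback a c).flip.map (Over.forget S)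
  have : Flat (pullback.fst a c).left := MorphismProperty.of_isPullback (P := @Flat) sq ‹Flat c.left›
  have : LocallyOfFinitePresentation (pullback.fst a c).left :=
    MorphismProperty.of_isPullback (P := @LocallyOfFinitePresentation) sq ‹LocallyOfFinitePresentation c.left›
  have : Surjective (pullback.fst a c).left :=
    MorphismProperty.of_isPullback (P := @Surjective) sq ‹Surjective c.left›
  let e : pullback a c ⟶ U := pullback.fst a c ≫ b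
  have : Flat e.left := inferInstanceAs (Flat ((pullback.fst a c).left ≫ b.left))
  have : LocallyOfFinitePresentation e.left :=
    inferInstanceAs (LocallyOfFinitePresentation ((pullback.fst a c).left ≫ b.left))
  have : Surjective e.left := inferInstanceAs (Surjective ((pullback.fst a c).left ≫ b.left))
  refine ⟨Sieve.generate (Presieve.singleton e),
    Groth.Agent.AlgSp.mem_of_fppf e (Sieve.le_generate _ _ _ (Presieve.singleton_self e)),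
    fun V h hh => ?_⟩
  obtain ⟨V', k, e', he', rfl⟩ := hh
  cases he'
  refine ⟨BasedFunctor.comp (AlgSt.overMap (k ≫ pullback.snd a c)) x₀, ⟨?_⟩⟩
  exact isoWhiskerLeft (AlgSt.overMap (k ≫ pullback.snd a c)) β ≪≫
    isoWhiskerRight ((overMapCompIso (k ≫ pullback.snd a c) c).symm ≪≫
      eqToIso (congrArg AlgSt.overMap (show (k ≫ pullback.snd a c) ≫ c = (k ≫ pullback.fst a c) ≫ a by
        rw [Category.assoc, ← pullback.condition, Category.assoc])) ≪≫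
      overMapCompIso (k ≫ pullback.fst a c) a) y₀ ≪≫
    isoWhiskerLeft (AlgSt.overMap (k ≫ pullback.fst a c)) i ≪≫
    isoWhiskerRight ((overMapCompIso (k ≫ pullback.fst a c) b).symm ≪≫
      eqToIso (congrArg AlgSt.overMap (Category.assoc k (pullback.fst a c) b))) y

theorem locQ_lft_of_imm {f : 𝒳 ⥤ᵇ 𝒴} (h𝒳 : AlgSt.IsAlgStack Scheme.fppfPrecoverage 𝒳)
    (h𝒴 : AlgSt.IsAlgStack Scheme.fppfPrecoverage 𝒴) (hf : AlgSt.IsImm f) :
    AlgSt.LocQ (AlgSp.LocP @LocallyOfFiniteType) f :=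
  locQ_of_repByAlgSpWith (isSmoothLocalST_locP smoothLocalProp_lft) h𝒳 h𝒴
    (repByAlgSpWith_mono hf fun F V m hm => Groth.Agent.AlgSpCov.locP_of_repWith
      Groth.Agent.AlgSpCov.etaleLocal_locallyOfFiniteType (Groth.Agent.AlgSp.repWith_mono
        (fun g hg => (have : IsImmersion g := hg; inferInstance : LocallyOfFiniteType g)) hm))

theorem locQ_lfp_of_openImm {f : 𝒳 ⥤ᵇ 𝒴} (h𝒳 : AlgSt.IsAlgStack Scheme.fppfPrecoverage 𝒳)
    (h𝒴 : AlgSt.IsAlgStack Scheme.fppfPrecoverage 𝒴) (hf : AlgSt.IsOpenImm f) :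
    AlgSt.LocQ (AlgSp.LocP @LocallyOfFinitePresentation) f :=
  locQ_of_repByAlgSpWith (isSmoothLocalST_locP smoothLocalProp_lfp) h𝒳 h𝒴
    (repByAlgSpWith_mono hf fun F V m hm => Groth.Agent.AlgSpCov.locP_of_repWith
      Groth.Agent.AlgSpCov.etaleLocal_locallyOfFinitePresentation (Groth.Agent.AlgSp.repWith_mono
        (fun g hg => (have : IsOpenImmersion g := hg; inferInstance : LocallyOfFinitePresentation g)) hm))

end Groth.Agent.StFib
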