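import Groth.Agent.StFib.Props
import Groth.Agent.StFib.Fibre2
import Groth.Agent.StFib.DiagLft

/-!
Products of categories fibred in groupoids over the base category.
-/

set_option backward.isDefEq.respectTransparency false
set_option backward.isDefEq.respectTransparency.types false
set_option linter.unusedVariables false

universe u

open CategoryTheory CategoryTheory.Limits AlgebraicGeometry Opposite FibCat

namespace Groth.Agent.StFib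

variable {S : Scheme.{u}} {𝒳₁ 𝒳₂ 𝒴₁ 𝒴₂ 𝒲 : AlgSt.Cat S}

/-- Vertical parallel morphisms of the base category are equal. -/
theorem selfOver_vert_eq {x y : (selfOver (C := Over S)).obj} {a b : x ⟶ y} (ha : Vert a) (hb : Vert b) :
    a = b := by
  obtain ⟨_, h1⟩ := ha
  obtain ⟨_, h2⟩ := hb
  exact h1.trans h2.symm

/-- Functors into a product over the base are determined by their components. -/
theorem exists_iso_of_fp_selfOver {t : 𝒳₁ ⥤ᵇ selfOver (C := Over S)} {t' : 𝒳₂ ⥤ᵇ selfOver (C := Over S)}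
    {F G : 𝒲 ⥤ᵇ fp t t'} (i : BasedFunctor.comp F (fpFst t t') ≅ BasedFunctor.comp G (fpFst t t'))
    (j : BasedFunctor.comp F (fpSnd t t') ≅ BasedFunctor.comp G (fpSnd t t')) : Nonempty (F ≅ G) := by
  refine ⟨isoMk (fun w => fpIsoMk (isoApp i w) (isoApp j w) (selfOver_vert_eq ?_ ?_)) (fun w => ?_)
    (fun φ => fp_hom_ext (isoApp_naturality i φ) (isoApp_naturality j φ))⟩
  · exact ((vert_isoApp i w).map t).comp (vert_fp_iso (G.obj w))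
  · exact (vert_fp_iso (F.obj w)).comp ((vert_isoApp j w).map t')
  · exact vert_fp_iff.2 (vert_isoApp i w)

theorem repByAlgSpWith_prodMap {P : MorphismProperty (AlgSp.Sp S)} (hPb : StableBC P) (hPc : StableComp P)
    (hdet : DetectedOnSchemes P) (h𝒳₁ : IsFibGrpd 𝒳₁.p) (h𝒳₂ : IsFibGrpd 𝒳₂.p) (h𝒴₁ : IsFibGrpd 𝒴₁.p)
    (h𝒴₂ : IsFibGrpd 𝒴₂.p) (f₁ : 𝒳₁ ⥤ᵇ 𝒴₁) (f₂ : 𝒳₂ ⥤ᵇ 𝒴₂) (hf₁ : AlgSt.RepByAlgSpWith P f₁)
    (hf₂ : AlgSt.RepByAlgSpWith P f₂)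
    (e : BasedFunctor.comp (BasedFunctor.comp (fpFst (toSelf 𝒳₁) (toSelf 𝒳₂)) f₁) (toSelf 𝒴₁) ≅
      BasedFunctor.comp (BasedFunctor.comp (fpSnd (toSelf 𝒳₁) (toSelf 𝒳₂)) f₂) (toSelf 𝒴₂)) :
    AlgSt.RepByAlgSpWith P (fpLift (BasedFunctor.comp (fpFst (toSelf 𝒳₁) (toSelf 𝒳₂)) f₁)
      (BasedFunctor.comp (fpSnd (toSelf 𝒳₁) (toSelf 𝒳₂)) f₂) e) := by
  obtain ⟨F₀, e₀, he₀⟩ := repByAlgSp_selfOver (S := S)
  have hself : IsFibGrpd (selfOver (C := Over S)).p := isFibGrpd_of_isEquivOver he₀ (Stk.isFibGrpd_ofPsh _)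
  obtain ⟨i₁⟩ := exists_iso_toSelf (BasedFunctor.comp f₁ (toSelf 𝒴₁))
  obtain ⟨i₂⟩ := exists_iso_toSelf (BasedFunctor.comp f₂ (toSelf 𝒴₂))
  obtain ⟨E, hE, ⟨j₁⟩, ⟨j₂⟩⟩ := exists_fp_congr i₁ i₂
  have h1 := repByAlgSpWith_fpMap_left P hf₁ (toSelf 𝒴₁) (BasedFunctor.comp f₂ (toSelf 𝒴₂))
  have h2 := repByAlgSpWith_fpMap_right P hf₂ (toSelf 𝒴₁) (toSelf 𝒴₂)
  have h3 := repByAlgSpWith_comp hPb hPc hdet (isFibGrpd_fp h𝒳₁ h𝒳₂ hself _ _)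
    (isFibGrpd_fp h𝒴₁ h𝒳₂ hself _ _) h1 h2
  obtain ⟨k⟩ := exists_iso_of_fp_selfOver
    (F := BasedFunctor.comp (BasedFunctor.id _) (fpLift (BasedFunctor.comp (fpFst (toSelf 𝒳₁) (toSelf 𝒳₂)) f₁)
      (BasedFunctor.comp (fpSnd (toSelf 𝒳₁) (toSelf 𝒳₂)) f₂) e))
    (G := BasedFunctor.comp E (BasedFunctor.comp (fpMap (F := toSelf 𝒴₁) (G := BasedFunctor.comp f₂ (toSelf 𝒴₂))
      (F' := BasedFunctor.comp f₁ (toSelf 𝒴₁)) (G' := BasedFunctor.comp f₂ (toSelf 𝒴₂)) f₁ (BasedFunctor.id _)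
      (BasedFunctor.id _) (Iso.refl _) (Iso.refl _))
      (fpMap (F := toSelf 𝒴₁) (G := toSelf 𝒴₂) (F' := toSelf 𝒴₁) (G' := BasedFunctor.comp f₂ (toSelf 𝒴₂))
        (BasedFunctor.id _) f₂ (BasedFunctor.id _) (Iso.refl _) (Iso.refl _))))
    (isoWhiskerRight j₁.symm f₁) (isoWhiskerRight j₂.symm f₂)
  exact (repByAlgSpWith_iff_of_equiv P E (BasedFunctor.id _) hE (isEquivOver_id _) k).1 h3

end Groth.Agent.StFib
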