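import Groth.Agent.StFib.Compact
import Groth.Agent.StFib.LocQDescent
import Groth.Agent.StFib.ProdMap
import Groth.Agent.StFib.DiagMap
import Groth.Agent.AlgSp.QCMor

/-!
Quasi-compact morphisms of algebraic stacks.
-/

set_option backward.isDefEq.respectTransparency false
set_option backward.isDefEq.respectTransparency.types false
set_option linter.unusedVariables false

universe u

open CategoryTheory CategoryTheory.Limits AlgebraicGeometry Opposite FibCat TopologicalSpace Topology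

namespace Groth.Agent.StFib

variable {S : Scheme.{u}} {𝒳 𝒴 𝒵 𝒲 : AlgSt.Cat S}

local notation "K" => Scheme.fppfPrecoverage

theorem isAlgStack_overCat (U : Over S) : AlgSt.IsAlgStack K (overCat U) :=
  isAlgStack_of_repByAlgSp (repByAlgSp_overCat U)

theorem isAlgStack_ofSp {F : AlgSp.Sp S} (hF : AlgSp.IsAlgSpace F) : AlgSt.IsAlgStack K (AlgSt.ofSp F) :=
  isAlgStack_of_repByAlgSp (repByAlgSp_ofSp hF)

theorem isQuasiCompact_iff_compactSpace (h : AlgSt.IsAlgStack K 𝒳) :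
    AlgSt.IsQuasiCompact 𝒳 ↔ CompactSpace (AlgSt.Points 𝒳) :=
  ⟨compactSpace_points h, fun _ => isQuasiCompact_of_compactSpace h⟩

theorem isQuasiCompact_overCat (U : Over S) [CompactSpace U.left] : AlgSt.IsQuasiCompact (overCat U) := by
  have h := isAlgStack_overCat U
  have : CompactSpace (AlgSt.Points (overCat U)) :=
    (ofChart_id_surjective (U := U)).compactSpace (continuous_ofChart h (BasedFunctor.id _))
  exact isQuasiCompact_of_compactSpace h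

theorem isQuasiCompact_of_chart (h : AlgSt.IsAlgStack K 𝒳) {U : Over S} [CompactSpace U.left]
    (x : overCat U ⥤ᵇ 𝒳) (hx : AlgSt.RepByAlgSpWith AlgSp.IsSurjectiveMor x) : AlgSt.IsQuasiCompact 𝒳 := by
  have : CompactSpace (AlgSt.Points 𝒳) :=
    (ofChart_surjective h.isStack.1 hx).compactSpace (continuous_ofChart h x)
  exact isQuasiCompact_of_compactSpace h

theorem isQuasiCompact_ofSp_iff {F : AlgSp.Sp S} (hF : AlgSp.IsAlgSpace F) :
    AlgSt.IsQuasiCompact (AlgSt.ofSp F) ↔ AlgSp.IsQuasiCompactSp F := by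
  rw [isQuasiCompact_iff_compactSpace (isAlgStack_ofSp hF), Groth.Agent.AlgSp.isQuasiCompactSp_iff hF]
  have hh := (isHomeomorph_toSpPt hF).homeomorph
  exact ⟨fun _ => hh.compactSpace, fun _ => hh.symm.compactSpace⟩

/-- The product over the base of two quasi-compact schemes. -/
theorem isQuasiCompact_prod_overCat [QuasiSeparatedSpace S] (U V : Over S) [CompactSpace U.left]
    [CompactSpace V.left] : AlgSt.IsQuasiCompact (fp (toSelf (overCat U)) (toSelf (overCat V))) := by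
  let O : Over S := Over.mk (𝟙 S)
  let h : U ⟶ O := Over.homMk U.hom (Category.comp_id _)
  let k : V ⟶ O := Over.homMk V.hom (Category.comp_id _)
  have : CompactSpace (pullback h k : Over S).left := by
    have : QuasiCompact V.hom := inferInstance
    have : CompactSpace ↥(pullback U.hom V.hom) := inferInstance
    have : QuasiCompact k.left := inferInstanceAs (QuasiCompact V.hom)
    have : CompactSpace ↥(pullback h.left k.left) := inferInstance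
    have : CompactSpace ↥(pullback ((Over.forget S).map h) ((Over.forget S).map k)) :=
      inferInstanceAs (CompactSpace ↥(pullback h.left k.left))
    exact (PreservesPullback.iso (Over.forget S) h k).symm.schemeIsoToHomeo.compactSpace
  obtain ⟨N, hN, -, -⟩ := exists_equiv_pullback h k
  have hu : ∀ {T : Over S} (a b : T ⟶ O), a = b := fun a b =>
    Over.OverMorphism.ext (((Category.comp_id _).symm.trans (Over.w a)).trans
      ((Over.w b).symm.trans (Category.comp_id _)))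
  have : (toSelf (overCat O)).toFunctor.Faithful := ⟨fun h => Over.OverMorphism.ext h⟩
  have : (toSelf (overCat O)).toFunctor.Full := ⟨fun {a b} g => ⟨Over.homMk g (hu _ _), rfl⟩⟩
  obtain ⟨i₁⟩ := exists_iso_toSelf (BasedFunctor.comp (AlgSt.overMap h) (toSelf (overCat O)))
  obtain ⟨i₂⟩ := exists_iso_toSelf (BasedFunctor.comp (AlgSt.overMap k) (toSelf (overCat O)))
  exact isQuasiCompact_of_equiv (isEquivOver_comp hN
    (fpMap_isEquivOver (F := toSelf (overCat U)) (G := toSelf (overCat V)) (F' := AlgSt.overMap h)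
      (G' := AlgSt.overMap k) (BasedFunctor.id _) (BasedFunctor.id _) (toSelf (overCat O)) i₁.symm i₂.symm
      (isEquivOver_id _) (isEquivOver_id _))) (isQuasiCompact_overCat _)

theorem isAlgStack_selfOver : AlgSt.IsAlgStack K (selfOver (C := Over S)) :=
  isAlgStack_of_repByAlgSp repByAlgSp_selfOver

theorem isAlgStack_prod (h𝒳 : AlgSt.IsAlgStack K 𝒳) (h𝒴 : AlgSt.IsAlgStack K 𝒴) :
    AlgSt.IsAlgStack K (fp (toSelf 𝒳) (toSelf 𝒴)) :=
  isAlgStack_fp isAlgStack_selfOver.isStack isAlgStack_selfOver.diag h𝒳 h𝒴 _ _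

/-- Surjectivity of the map of 2-fibre products of surjective maps of the factors. -/
theorem isSurjective_fpMap {𝒳' 𝒴' : AlgSt.Cat S} (h𝒳 : IsFibGrpd 𝒳.p) (h𝒴 : IsFibGrpd 𝒴.p) (h𝒵 : IsFibGrpd 𝒵.p)
    (h𝒳' : IsFibGrpd 𝒳'.p) (h𝒴' : IsFibGrpd 𝒴'.p) {x : 𝒳' ⥤ᵇ 𝒳} {y : 𝒴' ⥤ᵇ 𝒴}
    (hx : AlgSt.IsSurjective x) (hy : AlgSt.IsSurjective y) (f : 𝒳 ⥤ᵇ 𝒵) (g : 𝒴 ⥤ᵇ 𝒵) :
    AlgSt.IsSurjective (BasedFunctor.comp
      (fpMap (F := f) (G := BasedFunctor.comp y g) (F' := BasedFunctor.comp x f) (G' := BasedFunctor.comp y g) x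
        (BasedFunctor.id 𝒴') (BasedFunctor.id 𝒵) (Iso.refl _) (Iso.refl _))
      (fpMap (F := f) (G := g) (F' := f) (G' := BasedFunctor.comp y g) (BasedFunctor.id 𝒳) y
        (BasedFunctor.id 𝒵) (Iso.refl _) (Iso.refl _))) := by
  have key : ∀ {𝒜 ℬ ℬ' : AlgSt.Cat S}, IsFibGrpd 𝒜.p → IsFibGrpd ℬ.p → IsFibGrpd ℬ'.p →
      ∀ (b : ℬ' ⥤ᵇ ℬ) (f : ℬ ⥤ᵇ 𝒵) (g : 𝒜 ⥤ᵇ 𝒵), AlgSt.IsSurjective b → AlgSt.IsSurjective
        (fpMap (F := f) (G := g) (F' := BasedFunctor.comp b f) (G' := g) b (BasedFunctor.id 𝒜)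
          (BasedFunctor.id 𝒵) (Iso.refl _) (Iso.refl _)) := by
    intro 𝒜 ℬ ℬ' h𝒜 hℬ hℬ' b f g hb P
    obtain ⟨Q, hQ⟩ := isSurjective_fpFst hℬ' (isFibGrpd_fp hℬ h𝒜 h𝒵 f g) hℬ b (fpFst f g) hb P
    refine ⟨AlgSt.Points.map (BasedFunctor.comp (fpSwap (fpFst f g) b) (fpPaste f g b)) Q, ?_⟩
    refine Eq.trans ?_ hQ
    refine congrFun ((points_map_comp _ _).symm.trans (points_map_congr ?_)) Q
    exact isoWhiskerLeft (fpSwap (fpFst f g) b) (fpMapLeftIso b f g).symm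
  intro P
  have hy' : AlgSt.IsSurjective (fpMap (F := f) (G := g) (F' := f) (G' := BasedFunctor.comp y g)
      (BasedFunctor.id 𝒳) y (BasedFunctor.id 𝒵) (Iso.refl _) (Iso.refl _)) := by
    intro P
    obtain ⟨R, hR⟩ := (points_bijective_of_isEquivOver (fpSwap_isEquivOver g f)).surjective P
    obtain ⟨Q, hQ⟩ := key h𝒳 h𝒴 h𝒴' y g f hy R
    refine ⟨AlgSt.Points.map (fpSwap (BasedFunctor.comp y g) f) Q, ?_⟩
    rw [← hR, ← hQ]
    have i : BasedFunctor.comp (fpSwap (BasedFunctor.comp y g) f)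
        (fpMap (F := f) (G := g) (F' := f) (G' := BasedFunctor.comp y g) (BasedFunctor.id 𝒳) y
          (BasedFunctor.id 𝒵) (Iso.refl _) (Iso.refl _)) ≅
        BasedFunctor.comp (fpMap (F := g) (G := f) (F' := BasedFunctor.comp y g) (G' := f) y
          (BasedFunctor.id 𝒳) (BasedFunctor.id 𝒵) (Iso.refl _) (Iso.refl _)) (fpSwap g f) := by
      refine isoMk (fun z => fpIsoMk (Iso.refl _) (Iso.refl _) ?_) (fun z => Vert.id _)
        (fun φ => fp_hom_ext ((Category.comp_id _).trans (Category.id_comp _).symm)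
          ((Category.comp_id _).trans (Category.id_comp _).symm))
      change f.map (𝟙 _) ≫ ((𝟙 _ ≫ z.obj.iso.inv) ≫ 𝟙 _) = (𝟙 _ ≫ z.obj.iso.inv ≫ 𝟙 _) ≫ g.map (𝟙 _)
      simp
      exact (Category.comp_id _).symm
    exact congrFun ((points_map_comp _ _).symm.trans ((points_map_congr i).trans (points_map_comp _ _))) Q
  obtain ⟨Q, hQ⟩ := hy' P
  obtain ⟨R, hR⟩ := key h𝒴' h𝒳 h𝒳' x f (BasedFunctor.comp y g) hx Q
  exact ⟨R, by rw [points_map_comp, Function.comp_apply, hR, hQ]⟩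

/-- The product over a quasi-separated base of two quasi-compact algebraic stacks is quasi-compact. -/
theorem isQuasiCompact_prod [QuasiSeparatedSpace S] (h𝒳 : AlgSt.IsAlgStack K 𝒳) (h𝒴 : AlgSt.IsAlgStack K 𝒴)
    (hx : AlgSt.IsQuasiCompact 𝒳) (hy : AlgSt.IsQuasiCompact 𝒴) :
    AlgSt.IsQuasiCompact (fp (toSelf 𝒳) (toSelf 𝒴)) := by
  obtain ⟨U, x, hU, -, hxs⟩ := hx
  obtain ⟨V, y, hV, -, hys⟩ := hy
  obtain ⟨i₁⟩ := exists_iso_toSelf (BasedFunctor.comp x (toSelf 𝒳))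
  obtain ⟨i₂⟩ := exists_iso_toSelf (BasedFunctor.comp y (toSelf 𝒴))
  obtain ⟨E, hE, -, -⟩ := exists_fp_congr i₁ i₂
  have hs := isSurjective_fpMap h𝒳.isStack.1 h𝒴.isStack.1 isAlgStack_selfOver.isStack.1
    (isFibGrpd_overCat U) (isFibGrpd_overCat V)
    ((isSurjective_iff_rep (isAlgStack_overCat U) h𝒳 (repByAlgSp1_of_with hxs)).2 hxs)
    ((isSurjective_iff_rep (isAlgStack_overCat V) h𝒴 (repByAlgSp1_of_with hys)).2 hys)
    (toSelf 𝒳) (toSelf 𝒴)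
  exact isQuasiCompact_of_surjective
    (isAlgStack_fp isAlgStack_selfOver.isStack isAlgStack_selfOver.diag (isAlgStack_overCat U)
      (isAlgStack_overCat V) _ _)
    (isAlgStack_prod h𝒳 h𝒴) hs (isQuasiCompact_of_equiv hE (isQuasiCompact_prod_overCat U V))

/-! ## Quasi-compact morphisms -/

theorem isQuasiCompactMor_of_cart {f : 𝒳 ⥤ᵇ 𝒴} {g : 𝒵 ⥤ᵇ 𝒴} (T : 𝒲 ⥤ᵇ 𝒵) (L : 𝒲 ⥤ᵇ 𝒳)
    (e : BasedFunctor.comp T g ≅ BasedFunctor.comp L f) (h : IsEquivOver (fpLift T L e))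
    (hf : AlgSt.IsQuasiCompactMor K f) : AlgSt.IsQuasiCompactMor K T := by
  intro 𝒱 h𝒱 hq y
  obtain ⟨E, hE, -, -⟩ := exists_fp_of_cart T L e h y
  obtain ⟨E', hE', -, -⟩ := isEquivOver_symm hE
  exact isQuasiCompact_of_equiv hE' (hf 𝒱 h𝒱 hq _)

theorem isQuasiCompactMor_of_iso {f f' : 𝒳 ⥤ᵇ 𝒴} (i : f ≅ f') (hf : AlgSt.IsQuasiCompactMor K f) :
    AlgSt.IsQuasiCompactMor K f' := by
  intro 𝒱 h𝒱 hq y
  obtain ⟨E, hE, -, -⟩ := exists_fp_congr (Iso.refl y) i.symm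
  exact isQuasiCompact_of_equiv hE (hf 𝒱 h𝒱 hq _)

theorem isQuasiCompactMor_fpSnd (f : 𝒳 ⥤ᵇ 𝒴) (g : 𝒵 ⥤ᵇ 𝒴) (hg : AlgSt.IsQuasiCompactMor K g) :
    AlgSt.IsQuasiCompactMor K (fpSnd g f) :=
  isQuasiCompactMor_of_cart _ _ _ (isEquivOver_of_iso (fpSwap_isEquivOver g f) (Iso.refl _)) hg

theorem isQuasiCompactMor_comp (h𝒴 : AlgSt.IsAlgStack K 𝒴) (h𝒵 : AlgSt.IsAlgStack K 𝒵)
    {f : 𝒳 ⥤ᵇ 𝒴} {g : 𝒴 ⥤ᵇ 𝒵} (hf : AlgSt.IsQuasiCompactMor K f) (hg : AlgSt.IsQuasiCompactMor K g) :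
    AlgSt.IsQuasiCompactMor K (BasedFunctor.comp f g) := by
  intro 𝒱 h𝒱 hq y
  obtain ⟨E, hE, -⟩ := exists_fp_assoc y g f
  exact isQuasiCompact_of_equiv hE
    (hf _ (isAlgStack_fp h𝒵.isStack h𝒵.diag h𝒱 h𝒴 y g) (hg 𝒱 h𝒱 hq y) _)

theorem isQuasiCompactMor_of_surjective (h𝒳 : AlgSt.IsAlgStack K 𝒳) (h𝒴 : AlgSt.IsAlgStack K 𝒴)
    (h𝒵 : AlgSt.IsAlgStack K 𝒵) {f : 𝒳 ⥤ᵇ 𝒴} {g : 𝒴 ⥤ᵇ 𝒵} (hf : AlgSt.IsSurjective f)
    (hfg : AlgSt.IsQuasiCompactMor K (BasedFunctor.comp f g)) : AlgSt.IsQuasiCompactMor K g := by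
  intro 𝒱 h𝒱 hq y
  have hB := isAlgStack_fp h𝒵.isStack h𝒵.diag h𝒱 h𝒴 y g
  obtain ⟨E, hE, -⟩ := exists_fp_assoc y g f
  obtain ⟨E', hE', -, -⟩ := isEquivOver_symm hE
  exact isQuasiCompact_of_surjective (isAlgStack_fp h𝒴.isStack h𝒴.diag hB h𝒳 _ _) hB
    (isSurjective_fpFst h𝒳.isStack.1 hB.isStack.1 h𝒴.isStack.1 f (fpSnd y g) hf)
    (isQuasiCompact_of_equiv hE' (hfg 𝒱 h𝒱 hq y))

theorem isQuasiCompactMor_of_rep (h𝒳 : AlgSt.IsAlgStack K 𝒳) (h𝒴 : AlgSt.IsAlgStack K 𝒴) {f : 𝒳 ⥤ᵇ 𝒴}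
    (hf : AlgSt.RepByAlgSpWith AlgSp.IsQuasiCompactMor f) : AlgSt.IsQuasiCompactMor K f := by
  intro 𝒱 h𝒱 hq y
  obtain ⟨U, z, hU, -, hzs⟩ := hq
  obtain ⟨A, e, he, hA⟩ := hf U (BasedFunctor.comp z y)
  have hc : AlgSp.IsQuasiCompactSp A.obj := hA (AlgSp.IsAlgSpace.yon_obj U)
    (Groth.Agent.AlgSp.isQuasiCompactSp_yon U) (𝟙 _) (𝟙 A.obj) (AlgSt.spMapOfOver (BasedFunctor.comp e (fpFst (BasedFunctor.comp z y) f))) (IsPullback.of_horiz_isIso ⟨by simp⟩)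
  obtain ⟨E, hE, -, -⟩ := exists_fp_of_cart _ _ _ (fpLift_self_isEquivOver y f) z
  obtain ⟨E', hE', -, -⟩ := isEquivOver_symm hE
  have hB := isAlgStack_fp h𝒴.isStack h𝒴.diag h𝒱 h𝒳 y f
  refine isQuasiCompact_of_surjective
    (isAlgStack_fp h𝒱.isStack h𝒱.diag (isAlgStack_overCat U) hB z (fpFst y f)) hB
    (f := fpSnd z (fpFst y f)) ?_
    (isQuasiCompact_of_equiv hE' (isQuasiCompact_of_equiv he ((isQuasiCompact_ofSp_iff A.property).2 hc)))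
  intro P
  obtain ⟨R, hR⟩ := isSurjective_fpFst (isFibGrpd_overCat U) hB.isStack.1 h𝒱.isStack.1 z (fpFst y f)
    ((isSurjective_iff_rep (isAlgStack_overCat U) h𝒱 (repByAlgSp1_of_with hzs)).2 hzs) P
  exact ⟨AlgSt.Points.map (fpSwap (fpFst y f) z) R, Eq.trans
    (congrFun (points_map_comp (fpSwap (fpFst y f) z) (fpSnd z (fpFst y f))).symm R) hR⟩

theorem repByAlgSpWith_of_isQuasiCompactMor (h𝒳 : AlgSt.IsAlgStack K 𝒳) (h𝒴 : AlgSt.IsAlgStack K 𝒴)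
    {f : 𝒳 ⥤ᵇ 𝒴} (hr : AlgSt.RepByAlgSp1 f) (hf : AlgSt.IsQuasiCompactMor K f) :
    AlgSt.RepByAlgSpWith AlgSp.IsQuasiCompactMor f := by
  intro T y
  obtain ⟨A, e, he⟩ := hr T y
  refine ⟨A, e, he, fun Z Z' hZ hZc g fst snd sq => ?_⟩
  have hQ : HomeoInv.{u} fun {A B} _ _ _ => CompactSpace A := fun φ φ' α β hα _ _ =>
    ⟨fun _ => hα.homeomorph.compactSpace, fun _ => hα.homeomorph.symm.compactSpace⟩
  let w := BasedFunctor.comp (BasedFunctor.comp (AlgSt.ofSpMap g) (AlgSt.toOverCat T)) y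
  have hB := isAlgStack_fp h𝒴.isStack h𝒴.diag (isAlgStack_ofSp hZ) h𝒳 w f
  exact (Groth.Agent.AlgSp.isQuasiCompactSp_iff
    (Groth.Agent.AlgSp.isAlgSpace_of_isPullback' (isAlgSpace_yon T) A.property hZ sq)).2
      ((points_fpFst_iff_of_square (fun {A B} _ _ _ => CompactSpace A) hQ y A e he hZ g fst snd sq).1
        (compactSpace_points hB (hf _ (isAlgStack_ofSp hZ) ((isQuasiCompact_ofSp_iff hZ).2 hZc) w)))

end Groth.Agent.StFib
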