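import Groth.Agent.StFib.SliceSheaf
import Groth.Agent.StFib.QC
import Groth.Agent.StFib.SourceLocal
import Groth.Agent.StkLib.Psh

/-!
# Stacks in setoids with a smooth atlas are algebraic spaces
-/

set_option linter.unusedVariables false
set_option backward.isDefEq.respectTransparency false
set_option backward.isDefEq.respectTransparency.types false

universe u

open CategoryTheory CategoryTheory.Limits AlgebraicGeometry Opposite FibCat

namespace Groth.Agent.StFib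

variable {S : Scheme.{u}} {𝒳 𝒴 : AlgSt.Cat S}

theorem etJ_le_fppf : AlgSpB.etJ S ≤ QuotSh.J Scheme.fppfPrecoverage S := AlgSpB.etJ_le

theorem etJ_le_etale : AlgSpB.etJ S ≤ QuotSh.J Scheme.etalePrecoverage S := le_rfl

theorem isSheaf_etale_classPsh {J : GrothendieckTopology (Over S)} (hJ : AlgSpB.etJ S ≤ J)
    (hs : IsFibSetoid 𝒳.p) (hst : Stk.IsStack J 𝒳) :
    Presheaf.IsSheaf (QuotSh.J Scheme.etalePrecoverage S) (classPsh 𝒳 hs.1) :=
  (isSheaf_iff_isSheaf_of_type _ _).2 (Presieve.isSheaf_of_le _ hJ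
    ((Groth.Agent.StkLib.isStack_ofPsh_iff J).1
      ((isStack_iff_of_isEquivOver J (toClassPsh_isEquivOver hs)).1 hst)))

/-- A stack in setoids for a topology finer than the etale one with a smooth surjective atlas is an
algebraic space. -/
theorem repByAlgSp_of_setoid {J : GrothendieckTopology (Over S)} (hJ : AlgSpB.etJ S ≤ J)
    (hs : IsFibSetoid 𝒳.p) (hst : Stk.IsStack J 𝒳) (hat : AlgSt.HasAtlas (AlgSp.LocP @Smooth) 𝒳) :
    AlgSt.RepByAlgSp 𝒳 := by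
  obtain ⟨U, x, hsm, hsu⟩ := hat
  let R : MorphismProperty (AlgSp.Sp S) := AlgSp.IsSurjectiveMor ⊓ AlgSp.LocP @Smooth
  have := (Good.inf (good_surjective (S := S)) good_smooth).bc.of_respects
  have hx : AlgSt.RepByAlgSpWith R x :=
    repByAlgSpWith_inf (isFibGrpd_overCat U) hs.1 good_surjective good_smooth hsu hsm
  have hE := toClassPsh_isEquivOver hs
  let Φ := BasedFunctor.comp (AlgSt.toOverCat U) (BasedFunctor.comp x (toClassPsh hs.1))
  obtain ⟨k⟩ := exists_iso_pshMap Φ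
  have ha' : AlgSp.RepBySpWith (Restr R) (pshMap Φ) := (repBySpWith_iff (Restr R) _).2
    ((repByAlgSpWith_iff_of_equiv (Restr R) (f := BasedFunctor.comp x (toClassPsh hs.1))
      (f' := Stk.ofPshMap (pshMap Φ)) (AlgSt.toOverCat U)
      (BasedFunctor.id _) (toOverCat_isEquivOver U) (isEquivOver_id _) k.symm).1
      (repByAlgSpWith_comp_equiv (Restr R) (repByAlgSpWith_restr hx) hE))
  have ha : AlgSp.RepBySpWith R (pshMap Φ) := fun T ξ F' fst snd sq =>
    let ⟨h, hA, hQ⟩ := ha' ξ fst snd sq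
    ⟨h, hA, hQ hA (isAlgSpace_yon T)⟩
  have hP : AlgSp.IsAlgSpaceP (classPsh 𝒳 hs.1) := Slice.isAlgSpaceP_of_smooth_chart _
    (isSheaf_etale_classPsh hJ hs hst) ⟨(AlgSp.yon S).obj U, isAlgSpace_yon U⟩ (pshMap Φ) ha
  exact (repByAlgSp_iff_of_equiv hE).2 (repByAlgSp_ofPsh hP)

/-- An algebraic stack is a stack in setoids iff it is an algebraic space. -/
theorem isFibSetoid_iff_repByAlgSp {K : Precoverage Scheme.{u}} (hK : AlgSpB.etJ S ≤ QuotSh.J K S)
    (h𝒳 : AlgSt.IsAlgStack K 𝒳) : IsFibSetoid 𝒳.p ↔ AlgSt.RepByAlgSp 𝒳 :=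
  ⟨fun h => repByAlgSp_of_setoid hK h h𝒳.isStack h𝒳.atlas, isFibSetoid_of_repByAlgSp⟩

theorem isFibSetoid_overCat (U : Over S) : IsFibSetoid (overCat U).p :=
  isFibSetoid_of_repByAlgSp (repByAlgSp_overCat U)

/-- A faithful morphism to a stack with representable diagonal is representable by algebraic spaces. -/
theorem repByAlgSp1_of_faithful {K : Precoverage Scheme.{u}} (hK : AlgSpB.etJ S ≤ QuotSh.J K S)
    (hover : ∀ U : Over S, Stk.IsStack (QuotSh.J K S) (overCat U))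
    (h𝒳 : AlgSt.IsAlgStack K 𝒳) (h𝒴 : Stk.IsStack (QuotSh.J K S) 𝒴)
    (hd : AlgSt.RepByAlgSp1 (diag (toSelf 𝒴))) (f : 𝒳 ⥤ᵇ 𝒴) [f.toFunctor.Faithful] :
    AlgSt.RepByAlgSp1 f := by
  intro U y
  refine repByAlgSp_of_setoid hK (isFibSetoid_fp y f (isFibSetoid_overCat U) h𝒳.isStack.1 h𝒴.1)
    (isStack_fp _ y f (hover U) h𝒳.isStack (isPrestack_of_isStack h𝒴)) ?_
  exact hasAtlas_fp atlasProp_smooth (isFibGrpd_overCat U) h𝒳.isStack.1 h𝒴.1 hd y f
    (isAlgStack_overCat U).atlas h𝒳.atlas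

theorem isStack_anti {J J' : GrothendieckTopology (Over S)} (h : J ≤ J') (h' : Stk.IsStack J' 𝒳) :
    Stk.IsStack J 𝒳 :=
  ⟨h'.1, fun U R hR => h'.2 R (h U hR)⟩

theorem isStack_overCat_etale (U : Over S) :
    Stk.IsStack (QuotSh.J Scheme.etalePrecoverage S) (overCat U) :=
  isStack_anti AlgSpB.etJ_le (isAlgStack_overCat U).isStack

theorem isStack_overCat_fppf (U : Over S) :
    Stk.IsStack (QuotSh.J Scheme.fppfPrecoverage S) (overCat U) :=
  (isAlgStack_overCat U).isStack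

theorem faithful_iff_repByAlgSp1 (h𝒳 : AlgSt.IsAlgStack Scheme.fppfPrecoverage 𝒳)
    (h𝒴 : AlgSt.IsAlgStack Scheme.fppfPrecoverage 𝒴) (f : 𝒳 ⥤ᵇ 𝒴) :
    f.toFunctor.Faithful ↔ AlgSt.RepByAlgSp1 f :=
  ⟨fun _ => repByAlgSp1_of_faithful etJ_le_fppf isStack_overCat_fppf h𝒳 h𝒴.isStack h𝒴.diag f,
    fun h => faithful_of_repByAlgSp1 h𝒳.isStack.1 h𝒴.isStack.1 f h⟩

end Groth.Agent.StFib

namespace Groth.Agent.StFib

variable {S : Scheme.{u}} {𝒳 𝒴 : AlgSt.Cat S}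

theorem faithful_of_overCat {U : Over S} (y : overCat U ⥤ᵇ 𝒳) : y.toFunctor.Faithful := ⟨fun {a b} φ ψ h => by
  have h1 : (overCat U).p.map φ = (overCat U).p.map ψ := by
    have := congrArg 𝒳.p.map h
    rw [w_map, w_map] at this
    rwa [cancel_epi, cancel_mono] at this
  exact Over.OverMorphism.ext h1⟩

theorem isAlgStack_repByAlgSp_atlas {X : AlgSt.Cat S} (h : AlgSt.RepByAlgSp X) :
    AlgSt.HasAtlas (AlgSp.LocP @Smooth) X := (isDM_of_repByAlgSp h).1.atlas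

theorem repByAlgSp1_top {f : 𝒳 ⥤ᵇ 𝒴} (h : AlgSt.RepByAlgSp1 f) :
    AlgSt.RepByAlgSpWith (⊤ : MorphismProperty (AlgSp.Sp S)) f := repByAlgSp1_iff_with_top.1 h

/-- A stack with a smooth surjective atlas has representable diagonal. -/
theorem diag_of_atlas {J : GrothendieckTopology (Over S)} (hJ : AlgSpB.etJ S ≤ J)
    (hover : ∀ U : Over S, Stk.IsStack J (overCat U)) (hst : Stk.IsStack J 𝒳)
    (hat : AlgSt.HasAtlas (AlgSp.LocP @Smooth) 𝒳) : AlgSt.RepByAlgSp1 (diag (toSelf 𝒳)) := by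
  refine (repByAlgSp1_diag_iff hst.1).2 fun U y U' y' => ?_
  obtain ⟨W, x, hsm, hsu⟩ := hat
  have hxr := repByAlgSp1_of_with hsm
  have hA : AlgSt.RepByAlgSp (fp y x) := hxr U y
  have hAg : IsFibGrpd (fp y x).p := isFibGrpd_fp (isFibGrpd_overCat U) (isFibGrpd_overCat W) hst.1 y x
  let q := BasedFunctor.comp (fpFst y x) y
  have hq : AlgSt.RepByAlgSpWith (⊤ : MorphismProperty (AlgSp.Sp S)) q :=
    repByAlgSpWith_of_iso _ (fpIso y x).symm (repByAlgSpWith_comp (fun _ _ _ _ _ _ _ _ _ _ _ _ _ _ => trivial)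
      (fun _ _ _ _ _ _ _ _ _ _ => trivial) (fun _ _ _ _ _ _ => trivial) hAg (isFibGrpd_overCat W)
      (repByAlgSp1_top (repByAlgSp1_of_repByAlgSp hA (repByAlgSp_overCat W) (fpSnd y x))) (repByAlgSp1_top hxr))
  obtain ⟨E, hE, -⟩ := exists_fp_assoc y' y (fpFst y x)
  have hJ' : AlgSt.RepByAlgSp (fp (fpSnd y' y) (fpFst y x)) :=
    (repByAlgSp_iff_of_equiv hE).2 (repByAlgSp1_of_with hq U' y')
  have hIg : IsFibGrpd (fp y' y).p := isFibGrpd_fp (isFibGrpd_overCat U') (isFibGrpd_overCat U) hst.1 y' y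
  obtain ⟨Z, z, hz, hzs⟩ := isAlgStack_repByAlgSp_atlas hJ'
  have hJg : IsFibGrpd (fp (fpSnd y' y) (fpFst y x)).p :=
    isFibGrpd_fp hIg hAg (isFibGrpd_overCat U) _ _
  have := faithful_of_overCat y
  refine repByAlgSp_of_setoid hJ (isFibSetoid_fp y' y (isFibSetoid_overCat U') (isFibGrpd_overCat U) hst.1)
    (isStack_fp _ y' y (hover U') (hover U) (isPrestack_of_isStack hst))
    ⟨Z, BasedFunctor.comp z (fpFst (fpSnd y' y) (fpFst y x)), ?_, ?_⟩
  · exact repByAlgSpWith_comp good_smooth.bc good_smooth.comp good_smooth.det (isFibGrpd_overCat Z) hJg hz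
      (repByAlgSpWith_fpFst _ _ (repByAlgSpWith_fpFst _ y hsm))
  · exact repByAlgSpWith_comp good_surjective.bc good_surjective.comp good_surjective.det (isFibGrpd_overCat Z) hJg
      hzs (repByAlgSpWith_fpFst _ _ (repByAlgSpWith_fpFst _ y hsu))

/-- A stack with a smooth surjective map from an algebraic space is algebraic. -/
theorem hasAtlas_of_space {𝒰 : AlgSt.Cat S} (hU : AlgSt.RepByAlgSp 𝒰) (h𝒳 : IsFibGrpd 𝒳.p) (u : 𝒰 ⥤ᵇ 𝒳)
    (hsm : AlgSt.RepByAlgSpWith (AlgSp.LocP @Smooth) u) (hsu : AlgSt.RepByAlgSpWith AlgSp.IsSurjectiveMor u) :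
    AlgSt.HasAtlas (AlgSp.LocP @Smooth) 𝒳 := by
  obtain ⟨W, w, hw, hws⟩ := isAlgStack_repByAlgSp_atlas hU
  have hUg : IsFibGrpd 𝒰.p := (isFibSetoid_of_repByAlgSp hU).1
  exact ⟨W, BasedFunctor.comp w u,
    repByAlgSpWith_comp good_smooth.bc good_smooth.comp good_smooth.det (isFibGrpd_overCat W) hUg hw hsm,
    repByAlgSpWith_comp good_surjective.bc good_surjective.comp good_surjective.det (isFibGrpd_overCat W) hUg hws hsu⟩

theorem isAlgStack_of_atlas_fppf (hst : Stk.IsStack (QuotSh.J Scheme.fppfPrecoverage S) 𝒳)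
    (hat : AlgSt.HasAtlas (AlgSp.LocP @Smooth) 𝒳) : AlgSt.IsAlgStack Scheme.fppfPrecoverage 𝒳 :=
  ⟨hst, diag_of_atlas etJ_le_fppf isStack_overCat_fppf hst hat, hat⟩

theorem isAlgStack_of_atlas_etale (hst : Stk.IsStack (QuotSh.J Scheme.etalePrecoverage S) 𝒳)
    (hat : AlgSt.HasAtlas (AlgSp.LocP @Smooth) 𝒳) : AlgSt.IsAlgStack Scheme.etalePrecoverage 𝒳 :=
  ⟨hst, diag_of_atlas etJ_le_etale isStack_overCat_etale hst hat, hat⟩

end Groth.Agent.StFib
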