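import Groth.Agent.StFib.AlgStack

/-!
The source of a morphism representable by algebraic spaces to a stack is a stack.
-/

set_option backward.isDefEq.respectTransparency false
set_option backward.isDefEq.respectTransparency.types false

universe v₃ u₃ v₂ u₂ v u

open CategoryTheory CategoryTheory.Limits Opposite FibCat

namespace Groth.Agent.StFib

section General

variable {C : Type u} [Category.{v} C] {𝒳 : BasedCategory.{v₂, u₂} C} {𝒴 : BasedCategory.{v₃, u₃} C}

/-- Every 2-morphism into a category fibred in groupoids is invertible. -/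
theorem isIso_based (h : IsFibGrpd 𝒴.p) {F G : 𝒳 ⥤ᵇ 𝒴} (β : F ⟶ G) : IsIso β := by
  have : ∀ a, IsIso (β.toNatTrans.app a) := fun a => (vert_app β a).isIso h
  have e : β = (isoMk (fun a => asIso (β.toNatTrans.app a)) (fun a => vert_app β a)
      (fun φ => β.toNatTrans.naturality φ)).hom := based_hom_ext fun a => rfl
  rw [e]
  infer_instance

/-- Descent along a faithful morphism to a stack all of whose fibres are stacks. -/
theorem isStackFor_of_fibres {U : C} (R : Sieve U) (j : 𝒳 ⥤ᵇ 𝒴) [j.toFunctor.Faithful]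
    (h𝒴 : IsFibGrpd 𝒴.p) (hY : Stk.IsStackFor R 𝒴) (hW : ∀ y : overCat U ⥤ᵇ 𝒴, Stk.IsStackFor R (fp y j)) :
    Stk.IsStackFor R 𝒳 := by
  have : (Stk.resSieve R 𝒴).IsEquivalence := hY
  have : (Stk.resSieve R 𝒳).Faithful := ⟨fun {K K'} {α β} h => by
    have h1 : (postComp _ j).map α = (postComp _ j).map β :=
      (Stk.resSieve R 𝒴).map_injective (based_hom_ext fun a =>
        congrArg (fun m => j.map m) (congrArg (fun t => t.toNatTrans.app a) h))
    exact based_hom_ext fun a => j.toFunctor.map_injective (congrArg (fun t => t.toNatTrans.app a) h1)⟩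
  have : (Stk.resSieve R 𝒳).Full := ⟨fun {K K'} γ => by
    obtain ⟨β, hβ⟩ := (Stk.resSieve R 𝒴).map_surjective
      (X := BasedFunctor.comp K j) (Y := BasedFunctor.comp K' j) ((postComp _ j).map γ)
    let y : overCat U ⥤ᵇ 𝒴 := BasedFunctor.comp K' j
    have : (Stk.resSieve R (fp y j)).IsEquivalence := hW y
    have := isIso_based h𝒴 β
    let e : BasedFunctor.comp (BasedFunctor.id (overCat U)) y ≅ BasedFunctor.comp K j :=
      (asIso β).symm
    let s : overCat U ⥤ᵇ fp y j := fpLift (BasedFunctor.id _) K e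
    let s' : overCat U ⥤ᵇ fp y j := fpLift (BasedFunctor.id _) K' (Iso.refl _)
    have hc : ∀ a : (Stk.sieveCat R).obj, e.hom.toNatTrans.app ((Stk.sieveIncl R).obj a) ≫
        j.map (γ.toNatTrans.app a) = 𝟙 _ := fun a => by
      have e1 : β.toNatTrans.app ((Stk.sieveIncl R).obj a) = j.map (γ.toNatTrans.app a) :=
        congrArg (fun t => t.toNatTrans.app a) hβ
      rw [← e1]
      exact congrArg (fun t => t.toNatTrans.app ((Stk.sieveIncl R).obj a)) (asIso β).inv_hom_id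
    let t : (Stk.resSieve R (fp y j)).obj s ⟶ (Stk.resSieve R (fp y j)).obj s' :=
      { toNatTrans :=
          { app := fun a => fpHom (𝟙 _) (γ.toNatTrans.app a)
              ((congrArg (· ≫ 𝟙 _) (y.toFunctor.map_id _)).trans
                ((Category.id_comp _).trans (hc a).symm))
            naturality := fun a b φ => fp_hom_ext
              ((Category.comp_id _).trans (Category.id_comp _).symm) (γ.toNatTrans.naturality φ) }
        isHomLift' := fun a => Vert.isHomLift (vert_fp_iff.2 (Vert.id _)) rfl }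
    obtain ⟨δ, hδ⟩ := (Stk.resSieve R (fp y j)).map_surjective t
    exact ⟨(postComp _ (fpSnd y j)).map δ, based_hom_ext fun a =>
      congrArg (fun t => (t.toNatTrans.app a).hom.snd) hδ⟩⟩
  have : (Stk.resSieve R 𝒳).EssSurj := ⟨fun L => by
    let y := (Stk.resSieve R 𝒴).objPreimage (BasedFunctor.comp L j)
    let i : BasedFunctor.comp (Stk.sieveIncl R) y ≅ BasedFunctor.comp L j :=
      (Stk.resSieve R 𝒴).objObjPreimageIso _
    have : (Stk.resSieve R (fp y j)).IsEquivalence := hW y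
    let L' : Stk.sieveCat R ⥤ᵇ fp y j := fpLift (Stk.sieveIncl R) L i
    let k : BasedFunctor.comp (Stk.sieveIncl R) ((Stk.resSieve R (fp y j)).objPreimage L') ≅ L' :=
      (Stk.resSieve R (fp y j)).objObjPreimageIso L'
    exact ⟨BasedFunctor.comp ((Stk.resSieve R (fp y j)).objPreimage L') (fpSnd y j),
      ⟨isoWhiskerRight k (fpSnd y j)⟩⟩⟩
  exact { }

end General

section Spaces

open AlgebraicGeometry

variable {S : Scheme.{u}} {𝒳 𝒴 𝒵 : AlgSt.Cat S}

theorem isStack_of_repByAlgSp1 (h𝒳 : IsFibGrpd 𝒳.p)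
    (h𝒴 : Stk.IsStack (QuotSh.J Scheme.fppfPrecoverage S) 𝒴) (j : 𝒳 ⥤ᵇ 𝒴)
    (hj : AlgSt.RepByAlgSp1 j) : Stk.IsStack (QuotSh.J Scheme.fppfPrecoverage S) 𝒳 := by
  have := faithful_of_repByAlgSp1 h𝒳 h𝒴.1 j hj
  exact ⟨h𝒳, fun U R hR => isStackFor_of_fibres R j h𝒴.1 (h𝒴.2 R hR) fun y =>
    (isDM_of_repByAlgSp (hj U y)).1.isStack.2 R hR⟩

theorem isStack_fp_of_repByAlgSp1 (h𝒳 : IsFibGrpd 𝒳.p) (h𝒵 : IsFibGrpd 𝒵.p)
    (h𝒴 : Stk.IsStack (QuotSh.J Scheme.fppfPrecoverage S) 𝒴) (f : 𝒳 ⥤ᵇ 𝒵) (g : 𝒴 ⥤ᵇ 𝒵)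
    (hf : AlgSt.RepByAlgSp1 f) : Stk.IsStack (QuotSh.J Scheme.fppfPrecoverage S) (fp f g) :=
  (isStack_iff_of_isEquivOver _ (fpSwap_isEquivOver g f)).1
    (isStack_of_repByAlgSp1 (isFibGrpd_fp h𝒴.1 h𝒳 h𝒵 g f) h𝒴 (fpFst g f)
      (repByAlgSp1_iff_with_top.2 (repByAlgSpWith_fpFst _ g (repByAlgSp1_iff_with_top.1 hf))))

end Spaces

end Groth.Agent.StFib
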