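import Groth.Agent.StFib.StackSpace
import Groth.Agent.StFib.RepProps

/-!
# Trivial inertia, faithfulness, fully faithful functors are monomorphisms
-/

set_option linter.unusedVariables false
set_option backward.isDefEq.respectTransparency false
set_option backward.isDefEq.respectTransparency.types false

universe v u

open CategoryTheory CategoryTheory.Limits AlgebraicGeometry Opposite FibCat

namespace Groth.Agent.StFib

variable {S : Scheme.{u}} {𝒳 𝒴 : AlgSt.Cat S}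

theorem faithful_iff_trivial_aut (h : IsFibGrpd 𝒳.p) (h' : IsFibGrpd 𝒴.p) (f : 𝒳 ⥤ᵇ 𝒴) :
    f.toFunctor.Faithful ↔
      ∀ (a : 𝒳.obj) (φ : a ⟶ a), 𝒳.p.map φ = 𝟙 (𝒳.p.obj a) → f.map φ = 𝟙 (f.obj a) → φ = 𝟙 a :=
  ⟨fun _ a φ _ h2 => f.toFunctor.map_injective (h2.trans (f.toFunctor.map_id a).symm),
    fun H => faithful_of_vert h h' f H⟩

theorem isEquivOver_inertiaToBase_iff (h : IsFibGrpd 𝒳.p) (f : 𝒳 ⥤ᵇ 𝒴) :
    IsEquivOver (inertiaToBase f) ↔
      ∀ (a : 𝒳.obj) (φ : a ⟶ a), 𝒳.p.map φ = 𝟙 (𝒳.p.obj a) → f.map φ = 𝟙 (f.obj a) → φ = 𝟙 a := by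
  constructor
  · intro he a φ hp hf
    have hv : Vert φ := ⟨rfl, by simpa using hp⟩
    have := hv.isIso h
    have := full_of_isEquivOver he
    obtain ⟨k, hk⟩ := (inertiaToBase f).toFunctor.map_surjective
      (X := (⟨a, asIso φ, hf⟩ : InertiaObj f)) (Y := (⟨a, Iso.refl a, f.map_id a⟩ : InertiaObj f)) (𝟙 a)
    have hk' : k.hom = 𝟙 a := hk
    simpa [hk'] using k.comm
  · intro H
    have haut : ∀ x : InertiaObj f, x.aut.hom = 𝟙 x.pt := fun x => H _ _ (by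
      have := w_map f x.aut.hom
      rw [x.map_aut, CategoryTheory.Functor.map_id] at this
      rw [← cancel_epi (eqToHom (f.w_obj x.pt)), ← cancel_mono (eqToHom (f.w_obj x.pt).symm)]
      simpa using this.symm) x.map_aut
    have : (inertiaToBase f).toFunctor.Faithful := ⟨fun e => InertiaObj.hom_ext e⟩
    have : (inertiaToBase f).toFunctor.Full := ⟨fun {x y} g => ⟨⟨g, by
      rw [haut x, haut y]
      exact (Category.id_comp g).trans (Category.comp_id g).symm⟩, rfl⟩⟩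
    exact isEquivOver_mk _ fun a => ⟨⟨a, Iso.refl a, f.map_id a⟩, Iso.refl a, Vert.id a⟩

theorem repByAlgSp1_iff_aut (h𝒳 : AlgSt.IsAlgStack Scheme.fppfPrecoverage 𝒳)
    (h𝒴 : AlgSt.IsAlgStack Scheme.fppfPrecoverage 𝒴) (f : 𝒳 ⥤ᵇ 𝒴) :
    AlgSt.RepByAlgSp1 f ↔
      ∀ (a : 𝒳.obj) (φ : a ⟶ a), 𝒳.p.map φ = 𝟙 (𝒳.p.obj a) → f.map φ = 𝟙 (f.obj a) → φ = 𝟙 a :=
  (faithful_iff_repByAlgSp1 h𝒳 h𝒴 f).symm.trans (faithful_iff_trivial_aut h𝒳.isStack.1 h𝒴.isStack.1 f)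

theorem isFibSetoid_iff_aut (h : IsFibGrpd 𝒳.p) :
    IsFibSetoid 𝒳.p ↔
      ∀ (a : 𝒳.obj) (φ : a ⟶ a), 𝒳.p.map φ = 𝟙 (𝒳.p.obj a) →
        (toSelf 𝒳).map φ = 𝟙 ((toSelf 𝒳).obj a) → φ = 𝟙 a := by
  refine ⟨fun hs a φ hp _ => vert_unique_of_isFibSetoid hs ⟨rfl, by simpa using hp⟩ (Vert.id a), fun H => ?_⟩
  refine isFibSetoid_of_vert_unique h fun {a b} φ ψ hφ hψ => ?_
  obtain ⟨χ, h1, h2⟩ := grpd_exists_fac h ψ φ (𝟙 _) (by rw [Category.id_comp, hψ.2, hφ.2])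
  have : χ = 𝟙 a := H a χ h1 h1
  rw [← h2, this, Category.id_comp]

/-- The diagonal of a morphism is full iff the morphism is faithful. -/
theorem faithful_of_full_diag (f : 𝒳 ⥤ᵇ 𝒴) [(diag f).toFunctor.Full] : f.toFunctor.Faithful :=
  ⟨fun {x y} a b hab => by
    obtain ⟨m, hm⟩ := (diag f).toFunctor.map_surjective
      (fpHom (x := (diag f).obj x) (y := (diag f).obj y) a b (by
        rw [show f.map b = f.map a from hab.symm]
        exact (Category.comp_id _).trans (Category.id_comp _).symm))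
    exact (congrArg (fun k => k.hom.fst) hm).symm.trans (congrArg (fun k => k.hom.snd) hm)⟩

theorem full_diag_of_faithful (f : 𝒳 ⥤ᵇ 𝒴) [f.toFunctor.Faithful] : (diag f).toFunctor.Full :=
  ⟨fun {x y} k => ⟨k.hom.fst, fp_hom_ext rfl (f.toFunctor.map_injective (by
    have := k.hom.w
    exact ((Category.comp_id _).symm.trans this).trans (Category.id_comp _)))⟩⟩

theorem faithful_diag (f : 𝒳 ⥤ᵇ 𝒴) : (diag f).toFunctor.Faithful :=
  ⟨fun h => congrArg (fun k => k.hom.fst) h⟩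

/-- The diagonal of a fully faithful functor is an equivalence. -/
theorem isEquivOver_diag_of_fullyFaithful (g : 𝒳 ⥤ᵇ 𝒴) [g.toFunctor.Full] [g.toFunctor.Faithful] :
    IsEquivOver (diag g) := by
  have := faithful_diag g
  have := full_diag_of_faithful g
  refine isEquivOver_mk _ fun z => ?_
  let w : z.obj.fst ≅ z.obj.snd := g.toFunctor.preimageIso z.obj.iso
  refine ⟨z.obj.fst, fpIsoMk (Iso.refl _) w ?_, Vert.id z.obj.fst⟩
  change g.map (𝟙 _) ≫ z.obj.iso.hom = 𝟙 _ ≫ g.map w.hom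
  simp [w]

theorem faithful_of_isEquivOver_diag_diag (h : IsFibGrpd 𝒳.p) (h' : IsFibGrpd 𝒴.p) (f : 𝒳 ⥤ᵇ 𝒴)
    (he : IsEquivOver (diag (diag f))) : f.toFunctor.Faithful := by
  refine faithful_of_vert h h' f fun a φ hp hf => ?_
  have hv : Vert φ := ⟨rfl, by simpa using hp⟩
  have := hv.isIso h
  let K : (diag f).obj a ≅ (diag f).obj a := fpIsoMk (asIso φ) (Iso.refl a) (by
    change f.map φ ≫ 𝟙 _ = 𝟙 _ ≫ f.map (𝟙 a)
    rw [hf, CategoryTheory.Functor.map_id])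
  let P : (fp (diag f) (diag f)).obj := fpMk a a K (vert_fp_iff.2 hv)
  obtain ⟨z, m, -⟩ := exists_vert_iso_of_isEquivOver he P
  have hw : (diag f).map m.hom.hom.fst ≫ K.hom = 𝟙 _ ≫ (diag f).map m.hom.hom.snd := m.hom.hom.w
  have h1 : m.hom.hom.fst ≫ φ = m.hom.hom.snd :=
    (congrArg (fun k => k.hom.fst) hw).trans (Category.id_comp _)
  have h2 : m.hom.hom.fst ≫ 𝟙 a = m.hom.hom.snd :=
    (congrArg (fun k => k.hom.snd) hw).trans (Category.id_comp _)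
  have : IsIso m.hom.hom.fst := (inferInstance : IsIso (fpIsoFst m).hom)
  exact (cancel_epi m.hom.hom.fst).1 (h1.trans h2.symm)

theorem repByAlgSp1_iff_diag_diag (h𝒳 : AlgSt.IsAlgStack Scheme.fppfPrecoverage 𝒳)
    (h𝒴 : AlgSt.IsAlgStack Scheme.fppfPrecoverage 𝒴) (f : 𝒳 ⥤ᵇ 𝒴) :
    AlgSt.RepByAlgSp1 f ↔ IsEquivOver (diag (diag f)) := by
  rw [← faithful_iff_repByAlgSp1 h𝒳 h𝒴 f]
  refine ⟨fun _ => ?_, fun he => faithful_of_isEquivOver_diag_diag h𝒳.isStack.1 h𝒴.isStack.1 f he⟩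
  have := faithful_diag f
  have := full_diag_of_faithful f
  exact isEquivOver_diag_of_fullyFaithful (diag f)

/-- Fully faithful morphisms of algebraic stacks are monomorphisms. -/
theorem isMono_of_fullyFaithful (h𝒳 : AlgSt.IsAlgStack Scheme.fppfPrecoverage 𝒳)
    (h𝒴 : AlgSt.IsAlgStack Scheme.fppfPrecoverage 𝒴) (f : 𝒳 ⥤ᵇ 𝒴) [f.toFunctor.Full] [f.toFunctor.Faithful] :
    AlgSt.IsMono f := by
  intro U y
  obtain ⟨A, e, he⟩ := (faithful_iff_repByAlgSp1 h𝒳 h𝒴 f).1 inferInstance U y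
  refine ⟨A, e, he, ?_⟩
  have := full_of_isEquivOver he
  have := faithful_of_isEquivOver he
  let Φ := BasedFunctor.comp e (fpFst y f)
  suffices Mono (AlgSt.spMapOfOver Φ).hom by
    exact (sheafToPresheaf (AlgSp.J S) (Type (u + 1))).mono_of_mono_map this
  refine (NatTrans.mono_iff_mono_app (AlgSt.spMapOfOver Φ).hom).2 fun T => ?_
  rw [CategoryTheory.mono_iff_injective]
  intro s t hst
  have hst' : AlgSt.secHom Φ ⟨T.unop, s⟩ = AlgSt.secHom Φ ⟨T.unop, t⟩ := congrArg ULift.down hst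
  -- the images in the slice are isomorphic by a vertical morphism
  let z := e.obj ⟨T.unop, s⟩
  let z' := e.obj ⟨T.unop, t⟩
  have hb : (overCat U).p.obj z.obj.fst = (overCat U).p.obj z'.obj.fst :=
    (Φ.w_obj ⟨T.unop, s⟩).trans (Φ.w_obj ⟨T.unop, t⟩).symm
  let m : z.obj.fst ⟶ z'.obj.fst := Over.homMk (eqToHom hb) (by
    have h1 : eqToHom (Φ.w_obj ⟨T.unop, s⟩).symm ≫ z.obj.fst.hom =
        eqToHom (Φ.w_obj ⟨T.unop, t⟩).symm ≫ z'.obj.fst.hom := hst'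
    change eqToHom hb ≫ z'.obj.fst.hom = z.obj.fst.hom
    rw [← cancel_epi (eqToHom (Φ.w_obj ⟨T.unop, s⟩).symm), h1, eqToHom_trans_assoc])
  have hm : Vert m := ⟨hb, rfl⟩
  let β := z.obj.iso.inv ≫ y.map m ≫ z'.obj.iso.hom
  have hβ : Vert β := (vert_fp_iso z).inv.comp ((hm.map y).comp (vert_fp_iso z'))
  let k : z ⟶ z' := fpHom m (f.toFunctor.preimage β) (by simp [β])
  have hk : Vert k := vert_fp_iff.2 hm
  obtain ⟨c, hc⟩ := e.toFunctor.map_surjective k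
  have hcv : Vert c := Vert.of_map e (hc.symm ▸ hk)
  exact ofPsh_eq_of_vert (s := s) (t := t) hcv

end Groth.Agent.StFib
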