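import Groth.Agent.StFib.QC2
import Groth.Agent.StFib.DiagLft
import Mathlib.AlgebraicGeometry.AlgClosed.Basic

/-!
Universally injective morphisms of algebraic stacks.
-/

set_option backward.isDefEq.respectTransparency false
set_option backward.isDefEq.respectTransparency.types false
set_option linter.unusedVariables false

universe u

open CategoryTheory CategoryTheory.Limits AlgebraicGeometry Opposite FibCat

namespace Groth.Agent.StFib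

variable {S : Scheme.{u}} {𝒳 𝒴 𝒵 𝒲 : AlgSt.Cat S}

local notation "K" => Scheme.fppfPrecoverage

theorem injective_of_isUnivInjective {f : 𝒳 ⥤ᵇ 𝒴} (h𝒳 : IsFibGrpd 𝒳.p) (h𝒴 : AlgSt.IsAlgStack K 𝒴)
    (hf : AlgSt.IsUnivInjective K f) : Function.Injective (AlgSt.Points.map f) := by
  intro a b h
  have hinj := hf 𝒴 h𝒴 (BasedFunctor.id 𝒴)
  obtain ⟨wa, h1, h2⟩ := exists_points_fp_of_map_eq h𝒳 h𝒴.isStack.1 h𝒴.isStack.1 f (BasedFunctor.id 𝒴)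
    (AlgSt.Points.map f a) a (by rw [points_map_id]; rfl)
  obtain ⟨wb, h3, h4⟩ := exists_points_fp_of_map_eq h𝒳 h𝒴.isStack.1 h𝒴.isStack.1 f (BasedFunctor.id 𝒴)
    (AlgSt.Points.map f b) b (by rw [points_map_id]; rfl)
  rw [← h2, ← h4, hinj (h1.trans (h.trans h3.symm))]

/-- The diagonal is surjective on points as soon as base changes to spectra of fields are injective. -/
theorem isSurjective_diag_of_injective (h𝒳 : IsFibGrpd 𝒳.p) (h𝒴 : IsFibGrpd 𝒴.p) (f : 𝒳 ⥤ᵇ 𝒴)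
    (H : ∀ (Ω : Type u) (_ : Field Ω) (s : Spec (CommRingCat.of Ω) ⟶ S) (y : overCat (Over.mk s) ⥤ᵇ 𝒴),
      Function.Injective (AlgSt.Points.map (fpFst y f))) : AlgSt.IsSurjective (diag f) := by
  intro P
  obtain ⟨⟨Ω, s, P, hP⟩, rfl⟩ := AlgSt.Points.mk_surjective P
  rename_i hΩ
  have h1 : 𝒴.p.obj (f.obj P.obj.fst) = Over.mk s := (f.w_obj _).trans hP
  obtain ⟨y, i, hi⟩ := exists_overFunctor h𝒴 (f.obj P.obj.fst) h1
  let o : (overCat (Over.mk s)).obj := Over.mk (𝟙 (Over.mk s))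
  let w₁ : AlgSt.FPt (fp y f) := ⟨Ω, s, fpMk o P.obj.fst i hi, rfl⟩
  let w₂ : AlgSt.FPt (fp y f) := ⟨Ω, s, fpMk o P.obj.snd (i ≪≫ P.obj.iso) (hi.comp (vert_fp_iso P)), rfl⟩
  have heq : AlgSt.Points.mk w₁ = AlgSt.Points.mk w₂ := H Ω hΩ s y rfl
  obtain ⟨r, c₁, c₂, -⟩ := rel_of_mk_eq (isFibGrpd_fp (isFibGrpd_overCat _) h𝒳 h𝒴 y f) heq
  have hc : c₁.hom.fst = c₂.hom.fst := by
    refine Over.OverMorphism.ext ?_
    have e1 := over_w c₁.hom.fst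
    have e2 := over_w c₂.hom.fst
    change c₁.hom.fst.left ≫ 𝟙 _ = _ at e1
    change c₂.hom.fst.left ≫ 𝟙 _ = _ at e2
    rw [Category.comp_id] at e1 e2
    exact e1.trans e2.symm
  have w1 : y.map c₁.hom.fst ≫ i.hom = r.obj.obj.iso.hom ≫ f.map c₁.hom.snd := c₁.hom.w
  have w2 : y.map c₂.hom.fst ≫ i.hom ≫ P.obj.iso.hom = r.obj.obj.iso.hom ≫ f.map c₂.hom.snd := c₂.hom.w
  have hk : f.map c₁.hom.snd ≫ P.obj.iso.hom = f.map c₂.hom.snd := by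
    rw [← cancel_epi r.obj.obj.iso.hom, ← w2, ← reassoc_of% w1, hc]
  refine ⟨AlgSt.Points.mk ⟨r.K, r.str, r.obj.obj.snd, (fp_base_eq r.obj).symm.trans r.lies⟩, ?_⟩
  exact AlgSt.Points.sound ⟨⟨r.K, r.str, (diag f).obj r.obj.obj.snd,
      ((diag f).w_obj _).trans ((fp_base_eq r.obj).symm.trans r.lies)⟩, 𝟙 _,
    fpHom c₁.hom.snd c₂.hom.snd (hk.trans (Category.id_comp _).symm), trivial⟩

theorem eqToHom_sandwich {C : Type*} [Category C] {A B R R' A₂ B₁ : C} (m : A ⟶ B) (e : R = A) (p : R = R')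
    (q : R' = A₂) (r : A₂ = A) (t : B = B₁) (v : B₁ = B) :
    eqToHom e ≫ m = eqToHom p ≫ (eqToHom q ≫ eqToHom r ≫ m ≫ eqToHom t) ≫ eqToHom v := by
  subst p q r t; simp

/-- Two objects of a base change over the same object become isomorphic after a field extension. -/
theorem exists_common_of_diag (h𝒳 : IsFibGrpd 𝒳.p) (h𝒴 : IsFibGrpd 𝒴.p) (h𝒵 : IsFibGrpd 𝒵.p)
    (f : 𝒳 ⥤ᵇ 𝒴) (hd : AlgSt.IsSurjective (diag f)) (g : 𝒵 ⥤ᵇ 𝒴) {Ω : Type u} [Field Ω]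
    {s : Spec (CommRingCat.of Ω) ⟶ S} {a b : (fp g f).obj} (ea : (fp g f).p.obj a = Over.mk s)
    (eb : (fp g f).p.obj b = Over.mk s) (i : a.obj.fst ≅ b.obj.fst) (hi : Vert i.hom) :
    ∃ (Ω' : Type u) (_ : Field Ω') (s' : Spec (CommRingCat.of Ω') ⟶ S) (r : (fp g f).obj)
      (er : (fp g f).p.obj r = Over.mk s') (c : r ⟶ a) (γ : r ⟶ b) (d : Over.mk s' ⟶ Over.mk s),
      (fp g f).p.map c = eqToHom er ≫ d ≫ eqToHom ea.symm ∧
      (fp g f).p.map γ = eqToHom er ≫ d ≫ eqToHom eb.symm := by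
  have hfp := isFibGrpd_fp h𝒵 h𝒳 h𝒴 g f
  have hff := isFibGrpd_fp h𝒳 h𝒳 h𝒴 f f
  let P : (fp f f).obj := fpMk a.obj.snd b.obj.snd (a.obj.iso.symm ≪≫ g.toFunctor.mapIso i ≪≫ b.obj.iso)
    ((vert_fp_iso a).inv.comp ((hi.map g).comp (vert_fp_iso b)))
  have hP : (fp f f).p.obj P = Over.mk s := (fp_base_eq a).symm.trans ea
  obtain ⟨x, hx⟩ := hd (AlgSt.Points.mk ⟨Ω, s, P, hP⟩)
  obtain ⟨x, rfl⟩ := AlgSt.Points.mk_surjective x
  obtain ⟨Ω', _, s', P', x', eP, ex, az, ax, j, hj⟩ :=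
    exists_vert_of_map_eq h𝒳 hff hff (diag f) (BasedFunctor.id (fp f f)) ⟨Ω, s, P, hP⟩ x
      (by rw [points_map_id]; exact hx.symm)
  let d : Over.mk s' ⟶ (fp g f).p.obj a :=
    eqToHom eP.symm ≫ (fp f f).p.map az ≫ eqToHom (hP.trans ea.symm)
  obtain ⟨r, er, c, hc⟩ := grpd_exists_lift hfp a d
  have hpr : 𝒳.p.obj r.obj.snd = 𝒳.p.obj P'.obj.fst := ((fp_base_eq r).symm.trans er).trans eP.symm
  obtain ⟨k, hk, hkc⟩ := grpd_exists_vert_fac h𝒳 az.hom.fst c.hom.snd hpr (by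
    rw [show 𝒳.p.map c.hom.snd = eqToHom (fp_base_eq r).symm ≫ ((fp g f).p.map c) ≫ eqToHom (fp_base_eq a)
      from fp_snd_map c, hc]
    exact eqToHom_sandwich (𝒳.p.map az.hom.fst) hpr (fp_base_eq r).symm er eP.symm _ _)
  let jf : P'.obj.fst ≅ x' := fpIsoFst j
  let js : P'.obj.snd ≅ x' := fpIsoSnd j
  have wj : f.map jf.hom ≫ 𝟙 _ = P'.obj.iso.hom ≫ f.map js.hom := j.hom.hom.w
  have waz : f.map az.hom.fst ≫ (a.obj.iso.inv ≫ g.map i.hom ≫ b.obj.iso.hom) =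
      P'.obj.iso.hom ≫ f.map az.hom.snd := az.hom.w
  have wc : g.map c.hom.fst ≫ a.obj.iso.hom = r.obj.iso.hom ≫ f.map c.hom.snd := c.hom.w
  let γ : r ⟶ b := fpHom (c.hom.fst ≫ i.hom) (k.hom ≫ jf.hom ≫ js.inv ≫ az.hom.snd) (by
    have e1 : f.map (jf.hom ≫ js.inv) = P'.obj.iso.hom := by
      rw [Category.comp_id] at wj
      rw [Functor.map_comp, wj, Category.assoc, ← Functor.map_comp, js.hom_inv_id]
      exact (congrArg (P'.obj.iso.hom ≫ ·) (f.toFunctor.map_id _)).trans (Category.comp_id _)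
    change g.map (c.hom.fst ≫ i.hom) ≫ b.obj.iso.hom =
      r.obj.iso.hom ≫ f.map (k.hom ≫ jf.hom ≫ js.inv ≫ az.hom.snd)
    rw [← Category.assoc jf.hom, Functor.map_comp, Functor.map_comp, Functor.map_comp, e1, ← waz,
      ← f.toFunctor.map_comp_assoc, hkc, ← reassoc_of% wc, Iso.hom_inv_id_assoc, Category.assoc])
  refine ⟨Ω', inferInstance, s', r, er, c, γ, d ≫ eqToHom ea, ?_, ?_⟩
  · rw [hc, Category.assoc, eqToHom_trans, eqToHom_refl, Category.comp_id]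
  · change 𝒵.p.map (c.hom.fst ≫ i.hom) = _
    rw [Functor.map_comp, hi.2, show 𝒵.p.map c.hom.fst = eqToHom er ≫ d from hc]
    simp only [Category.assoc]
    erw [eqToHom_trans]

/-- Base changes of a morphism with surjective diagonal are injective on points. -/
theorem injective_fpFst_of_diag (h𝒳 : IsFibGrpd 𝒳.p) (h𝒴 : IsFibGrpd 𝒴.p) (h𝒵 : IsFibGrpd 𝒵.p)
    (f : 𝒳 ⥤ᵇ 𝒴) (hd : AlgSt.IsSurjective (diag f)) (g : 𝒵 ⥤ᵇ 𝒴) :
    Function.Injective (AlgSt.Points.map (fpFst g f)) := by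
  have hfp := isFibGrpd_fp h𝒵 h𝒳 h𝒴 g f
  intro w₁ w₂ h
  obtain ⟨w₁, rfl⟩ := AlgSt.Points.mk_surjective w₁
  obtain ⟨w₂, rfl⟩ := AlgSt.Points.mk_surjective w₂
  obtain ⟨Ω, _, s, a, b, ea, eb, α, β, i, hi⟩ :=
    exists_vert_of_map_eq hfp hfp h𝒵 (fpFst g f) (fpFst g f) w₁ w₂ h
  obtain ⟨Ω', _, s', r, er, c, γ, -⟩ := exists_common_of_diag h𝒳 h𝒴 h𝒵 f hd g ea eb i hi
  exact AlgSt.Points.sound ⟨⟨Ω', s', r, er⟩, c ≫ α, γ ≫ β, trivial⟩

theorem isUnivInjective_iff_diag (h𝒳 : AlgSt.IsAlgStack K 𝒳) (h𝒴 : AlgSt.IsAlgStack K 𝒴) (f : 𝒳 ⥤ᵇ 𝒴) :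
    AlgSt.IsUnivInjective K f ↔ AlgSt.IsSurjective (diag f) :=
  ⟨fun h => isSurjective_diag_of_injective h𝒳.isStack.1 h𝒴.isStack.1 f fun _ _ s y =>
      h _ (isAlgStack_overCat _) y,
    fun h _ h𝒵 g => injective_fpFst_of_diag h𝒳.isStack.1 h𝒴.isStack.1 h𝒵.isStack.1 f h g⟩

theorem isUnivInjective_of_affine (h𝒳 : AlgSt.IsAlgStack K 𝒳) (h𝒴 : AlgSt.IsAlgStack K 𝒴) (f : 𝒳 ⥤ᵇ 𝒴)
    (h : ∀ (Z : Over S) [IsAffine Z.left] (z : overCat Z ⥤ᵇ 𝒴), AlgSt.IsUnivInjective K (fpFst z f)) :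
    AlgSt.IsUnivInjective K f :=
  (isUnivInjective_iff_diag h𝒳 h𝒴 f).2 <| isSurjective_diag_of_injective h𝒳.isStack.1 h𝒴.isStack.1 f
    fun Ω _ s y => injective_of_isUnivInjective
      (isFibGrpd_fp (isFibGrpd_overCat _) h𝒳.isStack.1 h𝒴.isStack.1 y f) (isAlgStack_overCat _)
      (@h (Over.mk s) (inferInstanceAs (IsAffine (Spec (CommRingCat.of Ω)))) y)

theorem isUnivInjective_of_surjective_cover (h𝒳 : AlgSt.IsAlgStack K 𝒳) (h𝒴 : AlgSt.IsAlgStack K 𝒴)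
    (h𝒵 : AlgSt.IsAlgStack K 𝒵) (f : 𝒳 ⥤ᵇ 𝒴) (z : 𝒵 ⥤ᵇ 𝒴) (hz : AlgSt.IsSurjective z)
    (h : AlgSt.IsUnivInjective K (fpFst z f)) : AlgSt.IsUnivInjective K f := by
  intro 𝒱 h𝒱 y
  -- reduce along the surjection `𝒱 ×_𝒴 𝒵 ⟶ 𝒱`
  have hQ := isAlgStack_fp h𝒴.isStack h𝒴.diag h𝒱 h𝒵 y z
  let g := fpSnd y z
  let s := fpFst y z
  have hs : AlgSt.IsSurjective s := isSurjective_fpFst h𝒵.isStack.1 h𝒱.isStack.1 h𝒴.isStack.1 z y hz
  obtain ⟨E₁, hE₁, ⟨i₁⟩, -⟩ := exists_fp_of_cart _ _ _ (fpLift_self_isEquivOver z f) g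
  obtain ⟨E₂, hE₂, ⟨i₂⟩, -⟩ := exists_fp_congr
    (F' := BasedFunctor.comp g z) (F := BasedFunctor.comp s y) (fpIso y z).symm (Iso.refl f)
  obtain ⟨E₃, hE₃, ⟨i₃⟩, -⟩ := exists_fp_of_cart _ _ _ (fpLift_self_isEquivOver y f) s
  have hinj : Function.Injective (AlgSt.Points.map (fpFst g (fpFst z f))) := h _ hQ g
  have hinj' : Function.Injective (AlgSt.Points.map (fpFst s (fpFst y f))) := by
    intro a b hab
    obtain ⟨a', ha'⟩ := (points_bijective_of_isEquivOver hE₁).surjective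
      (AlgSt.Points.map (BasedFunctor.comp E₃ E₂) a)
    obtain ⟨b', hb'⟩ := (points_bijective_of_isEquivOver hE₁).surjective
      (AlgSt.Points.map (BasedFunctor.comp E₃ E₂) b)
    refine (points_bijective_of_isEquivOver (isEquivOver_comp hE₃ hE₂)).injective ?_
    rw [← ha', ← hb']
    refine congrArg _ (hinj ?_)
    have hc : ∀ c c', AlgSt.Points.map E₁ c = AlgSt.Points.map (BasedFunctor.comp E₃ E₂) c' →
        AlgSt.Points.map (fpFst g (fpFst z f)) c = AlgSt.Points.map (fpFst s (fpFst y f)) c' := by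
      intro c c' hcc
      rw [← points_map_congr i₁, ← points_map_congr i₃, points_map_comp, points_map_comp,
        Function.comp_apply, Function.comp_apply, hcc, ← points_map_congr i₂]
      simp only [points_map_comp, Function.comp_apply]
    rw [hc a' a ha', hc b' b hb', hab]
  intro P Q hPQ
  obtain ⟨R, hR⟩ := hs (AlgSt.Points.map (fpFst y f) P)
  have hB := isFibGrpd_fp h𝒱.isStack.1 h𝒳.isStack.1 h𝒴.isStack.1 y f
  obtain ⟨P', h1, h2⟩ := exists_points_fp_of_map_eq hB hQ.isStack.1 h𝒱.isStack.1 (fpFst y f) s R P hR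
  obtain ⟨Q', h3, h4⟩ := exists_points_fp_of_map_eq hB hQ.isStack.1 h𝒱.isStack.1 (fpFst y f) s R Q
    (hR.trans hPQ)
  rw [← h2, ← h4, hinj' (h1.trans h3.symm)]

/-! ## Points over algebraically closed fields -/

/-- A representable morphism locally of finite type with a nonempty fibre has a rational point over an
algebraically closed field. -/
theorem exists_rational_object (h𝒳 : IsFibGrpd 𝒳.p) (h𝒴 : AlgSt.IsAlgStack K 𝒴) {f : 𝒳 ⥤ᵇ 𝒴}
    (hf : AlgSt.RepByAlgSpWith (AlgSp.LocP @LocallyOfFiniteType) f) (k : Type u) [Field k] [IsAlgClosed k]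
    (s : Spec (CommRingCat.of k) ⟶ S) (y : overCat (Over.mk s) ⥤ᵇ 𝒴)
    (P : AlgSt.Points (fp y f)) :
    ∃ (z : (fp y f).obj) (u : z.obj.fst ≅ Over.mk (𝟙 (Over.mk s))), Vert u.hom := by
  obtain ⟨W, w, hw, hws⟩ := atlasProp_smooth.atlas (repByAlgSp1_of_with hf (Over.mk s) y)
  have hM : IsFibGrpd (fp y f).p := isFibGrpd_fp (isFibGrpd_overCat _) h𝒳 h𝒴.isStack.1 y f
  obtain ⟨t, -⟩ := ofChart_surjective hM hws P
  obtain ⟨b, ⟨ib⟩⟩ := exists_iso_overMap (BasedFunctor.comp w (fpFst y f))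
  have hlw : AlgSt.RepByAlgSpWith (AlgSp.LocP @LocallyOfFiniteType) w := repByAlgSpWith_mono hw
    fun F V m hm A B a b k ha hb e => have : Smooth k.left := hm a b k ha hb e; inferInstance
  have hb : LocallyOfFiniteType b.left :=
    mem_scheme_of_overMap Groth.Agent.AlgSpCov.standard_locallyOfFiniteType (repByAlgSpWith_of_iso _ ib
      (repByAlgSpWith_comp good_lft.bc good_lft.comp good_lft.det (isFibGrpd_overCat W) hM hlw
        (repByAlgSpWith_fpFst _ y hf)))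
  have : JacobsonSpace ↥(Over.mk s).left := inferInstanceAs (JacobsonSpace ↥(Spec (CommRingCat.of k)))
  have : JacobsonSpace ↥W.left := LocallyOfFiniteType.jacobsonSpace b.left
  obtain ⟨c, -, hc⟩ := nonempty_inter_closedPoints (Z := (Set.univ : Set ↥W.left)) ⟨t, trivial⟩
    isClosed_univ.isLocallyClosed
  have hσ : pointOfClosedPoint b.left c hc ≫ b.left = 𝟙 _ := pointOfClosedPoint_comp _ _ _
  let σ : Over.mk s ⟶ W := Over.homMk (pointOfClosedPoint b.left c hc) (by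
    change _ ≫ W.hom = s
    rw [← Over.w b, ← Category.assoc, hσ]
    exact Category.id_comp _)
  let v := isoApp ib (Over.mk σ)
  have heq : (AlgSt.overMap b).obj (Over.mk σ) = Over.mk (𝟙 (Over.mk s)) :=
    congrArg Over.mk (Over.OverMorphism.ext hσ : σ ≫ b = 𝟙 _)
  exact ⟨w.obj (Over.mk σ), v ≪≫ eqToIso heq, (vert_isoApp ib (Over.mk σ)).comp (vert_eqToHom heq)⟩

theorem isSurjective_diag_iff_algClosed (h𝒳 : AlgSt.IsAlgStack K 𝒳) (h𝒴 : AlgSt.IsAlgStack K 𝒴) (f : 𝒳 ⥤ᵇ 𝒴) :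
    AlgSt.IsSurjective (diag f) ↔
      ∀ (k : Type u) [Field k] [IsAlgClosed k] (s : Spec (CommRingCat.of k) ⟶ S) (a₁ a₂ : 𝒳.obj)
        (_ : 𝒳.p.obj a₁ = Over.mk s) (_ : 𝒳.p.obj a₂ = Over.mk s) (β : f.obj a₁ ⟶ f.obj a₂),
        𝒴.p.IsHomLift (𝟙 (Over.mk s)) β →
          ∃ α : a₁ ⟶ a₂, 𝒳.p.IsHomLift (𝟙 (Over.mk s)) α ∧ f.map α = β := by
  have hF := isAlgStack_fp h𝒴.isStack h𝒴.diag h𝒳 h𝒳 f f
  refine ⟨fun hd k _ _ s a₁ a₂ e₁ e₂ β hβ => ?_, fun H P => ?_⟩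
  · have hv : Vert β := vert_of_isHomLift hβ
    have := hv.isIso h𝒴.isStack.1
    let P : (fp f f).obj := fpMk a₁ a₂ (asIso β) hv
    have hP : (fp f f).p.obj P = Over.mk s := e₁
    obtain ⟨y, i, hi⟩ := exists_overFunctor hF.isStack.1 P hP
    obtain ⟨R, -⟩ := isSurjective_fpFst h𝒳.isStack.1 (isFibGrpd_overCat _) hF.isStack.1 (diag f) y hd
      (AlgSt.Points.mk ⟨k, s, Over.mk (𝟙 _), rfl⟩)
    obtain ⟨z, u, hu⟩ := exists_rational_object h𝒳.isStack.1 hF (lft_diag h𝒳 h𝒴 f) k s y R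
    let q : (diag f).obj z.obj.snd ≅ P := z.obj.iso.symm ≪≫ y.toFunctor.mapIso u ≪≫ i
    have hq : Vert q.hom := (vert_fp_iso z).inv.comp ((hu.map y).comp hi)
    have hA : Vert (fpIsoFst q).hom := vert_fp_iff.1 hq
    have hB : Vert (fpIsoSnd q).hom := vert_fp_snd hq
    have wq : f.map (fpIsoFst q).hom ≫ β = 𝟙 _ ≫ f.map (fpIsoSnd q).hom := q.hom.hom.w
    refine ⟨(fpIsoFst q).inv ≫ (fpIsoSnd q).hom, (hA.inv.comp hB).isHomLift e₁, ?_⟩
    rw [Category.id_comp] at wq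
    rw [Functor.map_comp, ← wq, ← Category.assoc, ← Functor.map_comp, Iso.inv_hom_id]
    exact (congrArg (· ≫ β) (f.toFunctor.map_id a₁)).trans (Category.id_comp β)
  · obtain ⟨p, rfl⟩ := AlgSt.Points.mk_surjective P
    let Ω := AlgebraicClosure p.K
    let d : Over.mk (Spec.map (CommRingCat.ofHom (algebraMap p.K Ω)) ≫ p.str) ⟶ Over.mk p.str :=
      Over.homMk (Spec.map (CommRingCat.ofHom (algebraMap p.K Ω))) rfl
    obtain ⟨P', e', a, -⟩ := exists_fpt_lift hF.isStack.1 p _ d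
    obtain ⟨α, -, hα⟩ := H Ω _ P'.obj.fst P'.obj.snd e' ((fp_base_eq P').symm.trans e') P'.obj.iso.hom
      ((vert_fp_iso P').isHomLift ((f.w_obj _).trans e'))
    refine ⟨AlgSt.Points.mk ⟨Ω, _, P'.obj.fst, e'⟩, ?_⟩
    refine AlgSt.Points.sound ⟨⟨Ω, _, (diag f).obj P'.obj.fst, ((diag f).w_obj _).trans e'⟩, 𝟙 _,
      (fpHom (𝟙 _) α ?_ : (diag f).obj P'.obj.fst ⟶ P') ≫ a, trivial⟩
    change f.map (𝟙 P'.obj.fst) ≫ P'.obj.iso.hom = 𝟙 _ ≫ f.map α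
    rw [hα]
    exact congrArg (· ≫ P'.obj.iso.hom) (f.toFunctor.map_id _)

end Groth.Agent.StFib
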