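import Groth.Agent.StFib.UnivInj
import Mathlib.RingTheory.Spectrum.Prime.Chevalley
import Mathlib.RingTheory.FinitePresentation
import Mathlib.RingTheory.RingHom.FiniteType
import Mathlib.FieldTheory.RatFunc.Basic
import Mathlib.FieldTheory.IsAlgClosed.Basic

/-!
Lifting points over algebraically closed fields along universally injective morphisms.
-/

set_option backward.isDefEq.respectTransparency false
set_option backward.isDefEq.respectTransparency.types false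
set_option linter.unusedVariables false

universe u

open CategoryTheory CategoryTheory.Limits AlgebraicGeometry Opposite FibCat Topology

namespace Groth.Agent.StFib

section Algebra

open Polynomial

theorem exists_open_of_constructible {X : Type*} [TopologicalSpace X] {s : Set X} (hs : IsConstructible s)
    {η : X} (hη : ∀ U : Set X, IsOpen U → U.Nonempty → η ∈ U) :
    ∃ U : Set X, IsOpen U ∧ η ∈ U ∧ (U ⊆ s ∨ U ⊆ sᶜ) := by
  induction hs using IsConstructible.empty_union_induction with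
  | open_retrocompact U hU _ =>
    rcases U.eq_empty_or_nonempty with rfl | hne
    · exact ⟨Set.univ, isOpen_univ, trivial, Or.inr (by simp)⟩
    · exact ⟨U, hU, hη U hU hne, Or.inl subset_rfl⟩
  | union s hs t ht h1 h2 =>
    obtain ⟨U, hU, hηU, h1 | h1⟩ := h1
    · exact ⟨U, hU, hηU, Or.inl (h1.trans Set.subset_union_left)⟩
    · obtain ⟨V, hV, hηV, h2 | h2⟩ := h2
      · exact ⟨V, hV, hηV, Or.inl (h2.trans Set.subset_union_right)⟩
      · exact ⟨U ∩ V, hU.inter hV, ⟨hηU, hηV⟩, Or.inr fun x hx => not_or.2 ⟨h1 hx.1, h2 hx.2⟩⟩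
  | compl s hs h1 =>
    obtain ⟨U, hU, hηU, h1 | h1⟩ := h1
    · exact ⟨U, hU, hηU, Or.inr (by rwa [compl_compl])⟩
    · exact ⟨U, hU, hηU, Or.inl h1⟩

/-- An element of a field extension of an algebraically closed field which is independent of the extension
cannot live in a finitely generated algebra without being constant. -/
theorem false_of_two_maps {k F B L : Type u} [Field k] [IsAlgClosed k] [Field F] [CommRing B] [Field L]
    (fk : k →+* F) (i₁ i₂ : F →+* B) (hi : i₁.comp fk = i₂.comp fk) (hft : i₁.FiniteType)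
    (φ : B →+* L) (t : F) (ht : ∀ a, fk a ≠ t)
    (hX : Function.Injective (Polynomial.eval₂RingHom (φ.comp i₁) (φ (i₂ t)))) : False := by
  have : Infinite k := IsAlgClosed.instInfinite
  let ψ : F[X] →+* B := Polynomial.eval₂RingHom i₁ (i₂ t)
  have hψ : ψ.FiniteType := RingHom.FiniteType.of_comp_finiteType (f := (Polynomial.C : F →+* F[X])) (g := ψ) (by
    rwa [show ψ.comp Polynomial.C = i₁ from RingHom.ext fun x => Polynomial.eval₂_C _ _])
  have hfp : ψ.FinitePresentation := RingHom.FinitePresentation.of_finiteType.1 hψ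
  let η : PrimeSpectrum F[X] := ⟨⊥, Ideal.isPrime_bot⟩
  have hηmem : ∀ U : Set (PrimeSpectrum F[X]), IsOpen U → U.Nonempty → η ∈ U := fun U hU ⟨x, hx⟩ =>
    ((PrimeSpectrum.le_iff_specializes η x).1 bot_le).mem_open hU hx
  have hηr : η ∈ Set.range (PrimeSpectrum.comap ψ) := by
    refine ⟨⟨RingHom.ker φ, RingHom.ker_isPrime φ⟩, PrimeSpectrum.ext ?_⟩
    change (RingHom.ker φ).comap ψ = ⊥
    rw [RingHom.comap_ker, ← RingHom.injective_iff_ker_eq_bot,
      show φ.comp ψ = Polynomial.eval₂RingHom (φ.comp i₁) (φ (i₂ t)) from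
        Polynomial.ringHom_ext (fun a => by simp [ψ]) (by simp [ψ])]
    exact hX
  obtain ⟨U, hU, hηU, hUs | hUs⟩ := exists_open_of_constructible
    (PrimeSpectrum.isConstructible_range_comap hfp) hηmem
  swap
  · exact hUs hηU hηr
  obtain ⟨_, ⟨h, rfl⟩, hηh, hhU⟩ :=
    PrimeSpectrum.isTopologicalBasis_basic_opens.exists_subset_of_mem_open hηU hU
  have hh : h ≠ 0 := fun e => hηh (by simp [e, η])
  obtain ⟨a, ha⟩ : ∃ a : k, h.eval (fk a) ≠ 0 := by
    by_contra hc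
    push Not at hc
    exact hh (Polynomial.eq_zero_of_infinite_isRoot h
      ((Set.infinite_range_of_injective fk.injective).mono (by rintro _ ⟨a, rfl⟩; exact hc a)))
  let p : PrimeSpectrum F[X] := ⟨Ideal.span {Polynomial.X - Polynomial.C (fk a)},
    (Ideal.span_singleton_prime (Polynomial.X_sub_C_ne_zero _)).2 (Polynomial.prime_X_sub_C _)⟩
  obtain ⟨q, hq⟩ := hUs (hhU (show p ∈ (PrimeSpectrum.basicOpen h : Set _) from fun hm => ha
    (Polynomial.dvd_iff_isRoot.1 (Ideal.mem_span_singleton.1 hm))))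
  have hmem : Polynomial.X - Polynomial.C (fk a) ∈ p.asIdeal := Ideal.mem_span_singleton_self _
  rw [← hq] at hmem
  have hu : IsUnit (ψ (Polynomial.X - Polynomial.C (fk a))) := by
    have : ψ (Polynomial.X - Polynomial.C (fk a)) = i₂ (t - fk a) := by
      simp [ψ, show i₁ (fk a) = i₂ (fk a) from RingHom.congr_fun hi a]
    rw [this]
    exact (sub_ne_zero.2 (ht a).symm).isUnit.map i₂
  exact q.isPrime.ne_top (Ideal.eq_top_of_isUnit_mem _ hmem hu)

theorem mem_range_of_eval₂_eq_zero {k F : Type u} [Field k] [IsAlgClosed k] [Field F] (fk : k →+* F) {t : F}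
    {p : k[X]} (hp : p ≠ 0) (h : p.eval₂ fk t = 0) : ∃ a, fk a = t := by
  let _ := fk.toAlgebra
  have hint : IsIntegral k t := IsAlgebraic.isIntegral ⟨p, hp, h⟩
  exact minpoly.mem_range_of_degree_eq_one k t
    (IsAlgClosed.degree_eq_one_of_irreducible k (minpoly.irreducible hint))

end Algebra

theorem false_of_chart {k Ω Ω'' : Type u} [Field k] [IsAlgClosed k] [Field Ω] [Field Ω''] {F : CommRingCat.{u}}
    (hF : IsField F) (fk : CommRingCat.of k ⟶ F) (t : F) (ht : ∀ a, fk.hom a ≠ t)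
    {W R : Scheme.{u}} (jm : Spec F ⟶ W) [IsClosedImmersion jm] (b : W ⟶ Spec (CommRingCat.of k))
    (hfk : Spec.map fk = jm ≫ b) (a₁ a₂ : R ⟶ W) [LocallyOfFiniteType a₁] (hab : a₁ ≫ b = a₂ ≫ b)
    (j₁ j₂ : F →+* Ω) (hinj : Function.Injective (Polynomial.eval₂RingHom j₁ (j₂ t)))
    (ψ : Spec (CommRingCat.of Ω'') ⟶ R) (e : Spec (CommRingCat.of Ω'') ⟶ Spec (CommRingCat.of Ω))
    (hψ₁ : ψ ≫ a₁ = (e ≫ Spec.map (CommRingCat.ofHom j₁)) ≫ jm)
    (hψ₂ : ψ ≫ a₂ = (e ≫ Spec.map (CommRingCat.ofHom j₂)) ≫ jm) : False := by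
  let _ := hF.toField
  -- the finite type algebra
  let R₂ := pullback (pullback.fst a₁ jm ≫ a₂) jm
  let q₁ : R₂ ⟶ Spec F := pullback.fst _ _ ≫ pullback.snd a₁ jm
  let q₂ : R₂ ⟶ Spec F := pullback.snd _ _
  have hq₁ : LocallyOfFiniteType q₁ := inferInstance
  have hqb : q₁ ≫ Spec.map fk = q₂ ≫ Spec.map fk := by
    simp only [q₁, q₂, hfk, Category.assoc]
    rw [← pullback.condition_assoc, ← pullback.condition_assoc]
    simp only [Category.assoc]
    rw [hab]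
  let ξ : Spec (CommRingCat.of Ω'') ⟶ R₂ :=
    pullback.lift (pullback.lift ψ (e ≫ Spec.map (CommRingCat.ofHom j₁)) hψ₁)
      (e ≫ Spec.map (CommRingCat.ofHom j₂)) (by rw [pullback.lift_fst_assoc, hψ₂])
  obtain ⟨O, hO, hxO, -⟩ := exists_isAffineOpen_mem_and_subset (x := ξ (IsLocalRing.closedPoint Ω''))
    (U := ⊤) trivial
  let ξ' : Spec (CommRingCat.of Ω'') ⟶ (O : Scheme) := IsOpenImmersion.lift O.ι ξ (by
    rintro _ ⟨x, rfl⟩
    rw [O.range_ι]
    rw [Subsingleton.elim (α := PrimeSpectrum Ω'') x (IsLocalRing.closedPoint Ω'')]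
    exact hxO)
  let i₁ : F ⟶ Γ(R₂, O) := Spec.preimage (hO.fromSpec ≫ q₁)
  let i₂ : F ⟶ Γ(R₂, O) := Spec.preimage (hO.fromSpec ≫ q₂)
  let φ : Γ(R₂, O) ⟶ CommRingCat.of Ω'' := Spec.preimage (ξ' ≫ hO.isoSpec.hom)
  let ε : CommRingCat.of Ω ⟶ CommRingCat.of Ω'' := Spec.preimage e
  have hφ : Spec.map φ ≫ hO.fromSpec = ξ := by
    rw [Spec.map_preimage, Category.assoc]
    change ξ' ≫ hO.isoSpec.hom ≫ hO.isoSpec.inv ≫ O.ι = ξ
    simp [ξ']
  have hφ₁ : i₁ ≫ φ = CommRingCat.ofHom j₁ ≫ ε := Spec.map_injective (by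
    simp only [Spec.map_comp, i₁, ε, Spec.map_preimage]
    rw [reassoc_of% hφ]
    simp [ξ, q₁])
  have hφ₂ : i₂ ≫ φ = CommRingCat.ofHom j₂ ≫ ε := Spec.map_injective (by
    simp only [Spec.map_comp, i₂, ε, Spec.map_preimage]
    rw [reassoc_of% hφ]
    simp [ξ, q₂])
  have hi : fk ≫ i₁ = fk ≫ i₂ := Spec.map_injective (by
    simp only [Spec.map_comp, i₁, i₂, Spec.map_preimage, Category.assoc]
    rw [hqb])
  have hft : i₁.hom.FiniteType := by
    refine (HasRingHomProperty.Spec_iff (P := @LocallyOfFiniteType)).1 ?_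
    rw [Spec.map_preimage]
    infer_instance
  refine false_of_two_maps fk.hom i₁.hom i₂.hom (congrArg CommRingCat.Hom.hom hi) hft φ.hom t ht ?_
  intro p p' hpp
  have key : Polynomial.eval₂RingHom (φ.hom.comp i₁.hom) (φ.hom (i₂.hom t)) =
      ε.hom.comp (Polynomial.eval₂RingHom j₁ (j₂ t)) := by
    refine Polynomial.ringHom_ext (fun a => ?_) ?_
    · simpa using RingHom.congr_fun (congrArg CommRingCat.Hom.hom hφ₁) a
    · simpa using RingHom.congr_fun (congrArg CommRingCat.Hom.hom hφ₂) t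
  rw [key] at hpp
  exact hinj (ε.hom.injective hpp)

variable {S : Scheme.{u}} {𝒳 𝒴 : AlgSt.Cat S}

local notation "K" => Scheme.fppfPrecoverage

theorem overCat_vert_left {U : Over S} {g g' : (overCat U).obj} {φ : g ⟶ g'} (h : Vert φ) :
    φ.left = eqToHom h.base_eq := h.2

/-- An independent copy of a transcendental element. -/
theorem exists_independent {k F : Type u} [Field k] [IsAlgClosed k] [Field F] (fk : k →+* F) (t : F)
    (ht : ∀ a, fk a ≠ t) :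
    ∃ (Ω : Type u) (_ : Field Ω) (j₁ j₂ : F →+* Ω), (∀ a, j₁ (fk a) = j₂ (fk a)) ∧
      Function.Injective (Polynomial.eval₂RingHom j₁ (j₂ t)) := by
  -- an independent copy of `t`
  let at' : RatFunc k →+* F := RatFunc.liftRingHom (Polynomial.eval₂RingHom fk t) (fun p hp => by
    refine mem_nonZeroDivisors_of_ne_zero fun h0 => ?_
    obtain ⟨a, ha⟩ := mem_range_of_eval₂_eq_zero fk (nonZeroDivisors.ne_zero hp) h0
    exact ht a ha)
  let ax' : RatFunc k →+* RatFunc F := RatFunc.liftRingHom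
    ((algebraMap (Polynomial F) (RatFunc F)).comp (Polynomial.mapRingHom fk)) (fun p hp => by
    refine mem_nonZeroDivisors_of_ne_zero fun h0 => nonZeroDivisors.ne_zero hp ?_
    exact Polynomial.map_injective _ fk.injective
      ((RatFunc.algebraMap_injective F (h0.trans (map_zero _).symm)).trans (Polynomial.map_zero fk).symm))
  obtain ⟨Ω, _, j₂, jr, hj⟩ := AlgSp.FieldPt.exists_amalgamation at' ax'
  let j₁ : F →+* Ω := jr.comp (RatFunc.C : F →+* RatFunc F)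
  have hjX : j₂ t = jr RatFunc.X := by
    have := RingHom.congr_fun hj (algebraMap (Polynomial k) (RatFunc k) Polynomial.X)
    simpa [at', ax'] using this
  have hjC : ∀ a, j₁ (fk a) = j₂ (fk a) := fun a => by
    have := RingHom.congr_fun hj (algebraMap (Polynomial k) (RatFunc k) (Polynomial.C a))
    simpa [at', ax', j₁] using this.symm
  refine ⟨Ω, inferInstance, j₁, j₂, hjC, ?_⟩
  rw [show Polynomial.eval₂RingHom j₁ (j₂ t) = jr.comp (algebraMap (Polynomial F) (RatFunc F)) from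
    Polynomial.ringHom_ext (fun a => by simp [j₁]) (by simp [hjX])]
  exact jr.injective.comp (RatFunc.algebraMap_injective F)

/-- Two field points of a chart over one point lift to the self fibre product of the chart. -/
theorem exists_chart_lift_pair (h𝒳 : AlgSt.IsAlgStack K 𝒳) (h𝒴 : AlgSt.IsAlgStack K 𝒴) (f : 𝒳 ⥤ᵇ 𝒴)
    (hd : AlgSt.IsSurjective (diag f)) {T : Over S} (y : overCat T ⥤ᵇ 𝒴) {W : Over S}
    (w : overCat W ⥤ᵇ fp y f) (hw : AlgSt.RepByAlgSpWith (AlgSp.LocP @Smooth) w) (b : W ⟶ T)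
    (ib : BasedFunctor.comp w (fpFst y f) ≅ AlgSt.overMap b) {Ω : Type u} [Field Ω]
    (sΩ : Spec (CommRingCat.of Ω) ⟶ S) (P₁ P₂ : Over.mk sΩ ⟶ W) (hP : P₁ ≫ b = P₂ ≫ b) :
    ∃ (R : Over S) (a₁ a₂ : R ⟶ W) (Ω'' : Type u) (_ : Field Ω'') (s'' : Spec (CommRingCat.of Ω'') ⟶ S)
      (ψ : Over.mk s'' ⟶ R) (e : Over.mk s'' ⟶ Over.mk sΩ), Smooth a₁.left ∧ a₁ ≫ b = a₂ ≫ b ∧
      ψ ≫ a₁ = e ≫ P₁ ∧ ψ ≫ a₂ = e ≫ P₂ := by
  have hA := isAlgStack_fp h𝒴.isStack h𝒴.diag (isAlgStack_overCat T) h𝒳 y f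
  let A₁ := w.obj (Over.mk P₁)
  let A₂ := w.obj (Over.mk P₂)
  have heq : (AlgSt.overMap b).obj (Over.mk P₁) = (AlgSt.overMap b).obj (Over.mk P₂) := congrArg Over.mk hP
  obtain ⟨Ω', _, s', r, er, c, γ, d, hc, hγ⟩ := exists_common_of_diag h𝒳.isStack.1 h𝒴.isStack.1
    (isFibGrpd_overCat T) f hd y (a := A₁) (b := A₂) (w.w_obj (Over.mk P₁)) (w.w_obj (Over.mk P₂))
    (isoApp ib (Over.mk P₁) ≪≫ eqToIso heq ≪≫ (isoApp ib (Over.mk P₂)).symm)
    ((vert_isoApp ib (Over.mk P₁)).comp ((vert_eqToHom heq).comp (vert_isoApp_inv ib (Over.mk P₂))))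
  -- the point of `W ×_{𝒳_y} W`
  let G₁ : (overCat W).obj := Over.mk (d ≫ P₁)
  let G₂ : (overCat W).obj := Over.mk (d ≫ P₂)
  let κ₁ : G₁ ⟶ Over.mk P₁ := Over.homMk d rfl
  let κ₂ : G₂ ⟶ Over.mk P₂ := Over.homMk d rfl
  obtain ⟨χ₁, hχ₁, -⟩ := grpd_exists_vert_fac hA.isStack.1 (w.map κ₁) c
    (er.trans (w.w_obj G₁).symm) (by rw [w_map, hc]; simp [κ₁]; rfl)
  obtain ⟨χ₂, hχ₂, -⟩ := grpd_exists_vert_fac hA.isStack.1 (w.map κ₂) γ
    (er.trans (w.w_obj G₂).symm) (by rw [w_map, hγ]; simp [κ₂]; rfl)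
  let o : (fp w w).obj := fpMk G₁ G₂ (χ₁.symm ≪≫ χ₂) (hχ₁.inv.comp hχ₂)
  have hW := isAlgStack_overCat W
  have hR := isAlgStack_fp hA.isStack hA.diag hW hW w w
  obtain ⟨R, ρ, hρ, hρs⟩ := hR.atlas
  obtain ⟨yo, io, hio⟩ := exists_overFunctor hR.isStack.1 o (show (fp w w).p.obj o = Over.mk s' from rfl)
  obtain ⟨Q, -⟩ := isSurjective_fpFst (isFibGrpd_overCat R) (isFibGrpd_overCat _) hR.isStack.1 ρ yo
    ((isSurjective_iff_rep (isAlgStack_overCat R) hR (repByAlgSp1_of_with hρs)).2 hρs)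
    (AlgSt.Points.mk ⟨Ω', s', Over.mk (𝟙 _), rfl⟩)
  obtain ⟨⟨Ω'', s'', z, ez⟩, rfl⟩ := AlgSt.Points.mk_surjective Q
  obtain ⟨a₁, ⟨ia₁⟩⟩ := exists_iso_overMap (BasedFunctor.comp ρ (fpFst w w))
  obtain ⟨a₂, ⟨ia₂⟩⟩ := exists_iso_overMap (BasedFunctor.comp ρ (fpSnd w w))
  have hab : a₁ ≫ b = a₂ ≫ b := overMap_injective (overMapCompIso a₁ b ≪≫
    isoWhiskerRight ia₁.symm (AlgSt.overMap b) ≪≫ isoWhiskerLeft (BasedFunctor.comp ρ (fpFst w w)) ib.symm ≪≫
    isoWhiskerRight (isoWhiskerLeft ρ (fpIso w w)) (fpFst y f) ≪≫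
    isoWhiskerLeft (BasedFunctor.comp ρ (fpSnd w w)) ib ≪≫ isoWhiskerRight ia₂ (AlgSt.overMap b) ≪≫
    (overMapCompIso a₂ b).symm)
  let μ : ρ.obj z.obj.snd ⟶ o := z.obj.iso.inv ≫ yo.map (overToId z.obj.fst) ≫ io.hom
  let m₁ : (AlgSt.overMap a₁).obj z.obj.snd ⟶ G₁ := (isoApp ia₁ z.obj.snd).inv ≫ μ.hom.fst
  let m₂ : (AlgSt.overMap a₂).obj z.obj.snd ⟶ G₂ := (isoApp ia₂ z.obj.snd).inv ≫ μ.hom.snd
  have hm : m₂.left = m₁.left := by
    change (isoApp ia₂ z.obj.snd).inv.left ≫ μ.hom.snd.left = (isoApp ia₁ z.obj.snd).inv.left ≫ μ.hom.fst.left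
    have e : μ.hom.snd.left = eqToHom (fp_base_eq (ρ.obj z.obj.snd)).symm ≫ μ.hom.fst.left ≫
        eqToHom (fp_base_eq o) := fp_snd_map μ
    rw [e, overCat_vert_left (vert_isoApp_inv ia₂ z.obj.snd), overCat_vert_left (vert_isoApp_inv ia₁ z.obj.snd)]
    erw [eqToHom_trans_assoc]
    simp
  have w₁ : m₁.left ≫ d ≫ P₁ = Over.hom z.obj.snd ≫ a₁ := over_w m₁
  have w₂ : m₂.left ≫ d ≫ P₂ = Over.hom z.obj.snd ≫ a₂ := over_w m₂
  rw [hm] at w₂
  have hq : Over.mk s'' = Over.left z.obj.snd := ez.symm.trans (fp_base_eq z)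
  exact ⟨R, a₁, a₂, Ω'', inferInstance, s'', eqToHom hq ≫ Over.hom z.obj.snd, eqToHom hq ≫ m₁.left ≫ d,
    mem_scheme_of_overMap Groth.Agent.AlgSpCov.standard_smooth
      (repByAlgSpWith_of_iso _ ia₁ (repByAlgSpWith_comp good_smooth.bc good_smooth.comp good_smooth.det
        (isFibGrpd_overCat R) hR.isStack.1 hρ (repByAlgSpWith_fpFst _ w hw))),
    hab, by simp only [Category.assoc]; rw [← w₁], by simp only [Category.assoc]; rw [← w₂]⟩

/-- A nonempty fibre with surjective diagonal over an algebraically closed field has a rational chart point. -/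
theorem exists_section_of_diag (h𝒳 : AlgSt.IsAlgStack K 𝒳) (h𝒴 : AlgSt.IsAlgStack K 𝒴) (f : 𝒳 ⥤ᵇ 𝒴)
    (hd : AlgSt.IsSurjective (diag f)) (k : Type u) [Field k] [IsAlgClosed k]
    (s : Spec (CommRingCat.of k) ⟶ S) (y : overCat (Over.mk s) ⥤ᵇ 𝒴) (P : AlgSt.Points (fp y f)) :
    ∃ (z : (fp y f).obj) (u : z.obj.fst ≅ Over.mk (𝟙 (Over.mk s))), Vert u.hom := by
  have hA := isAlgStack_fp h𝒴.isStack h𝒴.diag (isAlgStack_overCat (Over.mk s)) h𝒳 y f
  obtain ⟨U, z₀, hz, hzs⟩ := hA.atlas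
  obtain ⟨t₀, -⟩ := ofChart_surjective hA.isStack.1 hzs P
  obtain ⟨V, hV, htV, -⟩ := exists_isAffineOpen_mem_and_subset (x := t₀) (U := ⊤) trivial
  let W : Over S := Over.mk (V.ι ≫ U.hom)
  let ι : W ⟶ U := Over.homMk V.ι rfl
  let w := BasedFunctor.comp (AlgSt.overMap ι) z₀
  have : IsAffine W.left := hV
  have hw : AlgSt.RepByAlgSpWith (AlgSp.LocP @Smooth) w :=
    repByAlgSpWith_comp good_smooth.bc good_smooth.comp good_smooth.det (isFibGrpd_overCat W)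
      (isFibGrpd_overCat U) (repByAlgSpWith_overMap_locP Groth.Agent.AlgSpCov.standard_smooth ι
        (inferInstanceAs (Smooth V.ι))) hz
  obtain ⟨b, ⟨ib⟩⟩ := exists_iso_overMap (BasedFunctor.comp w (fpFst y f))
  have : CompactSpace W.left := inferInstance
  obtain ⟨m, -, hm⟩ := IsClosed.exists_closed_singleton (X := ↥W.left) isClosed_univ ⟨⟨t₀, htV⟩, trivial⟩
  let Fc := W.left.residueField m
  let jm : Spec Fc ⟶ W.left := W.left.fromSpecResidueField m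
  have hjm : IsClosedImmersion jm := isClosed_singleton_iff_isClosedImmersion.1 hm
  let fk : CommRingCat.of k ⟶ Fc := Spec.preimage (jm ≫ b.left)
  have hfk : Spec.map fk = jm ≫ b.left := Spec.map_preimage _
  by_cases hsurj : Function.Surjective fk.hom
  · -- a rational point
    have : IsIso fk := (ConcreteCategory.isIso_iff_bijective fk).2 ⟨fk.hom.injective, hsurj⟩
    have hσ : (Spec.map (inv fk) ≫ jm) ≫ b.left = 𝟙 _ := by
      rw [Category.assoc, ← hfk, ← Spec.map_comp, IsIso.hom_inv_id, Spec.map_id]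
    let σ : Over.mk s ⟶ W := Over.homMk (Spec.map (inv fk) ≫ jm) (by
      change _ ≫ W.hom = s
      rw [← Over.w b, ← Category.assoc, hσ]
      exact Category.id_comp _)
    have heq : (AlgSt.overMap b).obj (Over.mk σ) = Over.mk (𝟙 (Over.mk s)) :=
      congrArg Over.mk (Over.OverMorphism.ext hσ : σ ≫ b = 𝟙 _)
    exact ⟨w.obj (Over.mk σ), isoApp ib (Over.mk σ) ≪≫ eqToIso heq,
      (vert_isoApp ib (Over.mk σ)).comp (vert_eqToHom heq)⟩
  exfalso
  obtain ⟨t, ht⟩ := not_forall.1 hsurj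
  push Not at ht
  obtain ⟨Ω, _, j₁, j₂, hjC, hinj⟩ := exists_independent fk.hom t ht
  have hjk : fk ≫ CommRingCat.ofHom j₁ = fk ≫ CommRingCat.ofHom j₂ :=
    CommRingCat.hom_ext (RingHom.ext hjC)
  let sΩ : Spec (CommRingCat.of Ω) ⟶ S := (Spec.map (CommRingCat.ofHom j₁) ≫ jm) ≫ W.hom
  let P₁ : Over.mk sΩ ⟶ W := Over.homMk (Spec.map (CommRingCat.ofHom j₁) ≫ jm) rfl
  let P₂ : Over.mk sΩ ⟶ W := Over.homMk (Spec.map (CommRingCat.ofHom j₂) ≫ jm) (by
    change (Spec.map (CommRingCat.ofHom j₂) ≫ jm) ≫ W.hom = (Spec.map (CommRingCat.ofHom j₁) ≫ jm) ≫ W.hom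
    rw [← Over.w b]
    simp only [Category.assoc]
    rw [← reassoc_of% hfk, ← Spec.map_comp_assoc, ← Spec.map_comp_assoc, hjk])
  have hP : P₁ ≫ b = P₂ ≫ b := Over.OverMorphism.ext (by
    change (Spec.map (CommRingCat.ofHom j₁) ≫ jm) ≫ b.left = (Spec.map (CommRingCat.ofHom j₂) ≫ jm) ≫ b.left
    rw [Category.assoc, Category.assoc, ← hfk, ← Spec.map_comp, ← Spec.map_comp, hjk])
  obtain ⟨R, a₁, a₂, Ω'', _, s'', ψ, e, ha₁, hab, h₁, h₂⟩ :=
    exists_chart_lift_pair h𝒳 h𝒴 f hd y w hw b ib sΩ P₁ P₂ hP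
  have hψ₁ : ψ.left ≫ a₁.left = (e.left ≫ Spec.map (CommRingCat.ofHom j₁)) ≫ jm := by
    rw [Category.assoc]
    exact congrArg (fun g : Over.mk s'' ⟶ W => g.left) h₁
  have hψ₂ : ψ.left ≫ a₂.left = (e.left ≫ Spec.map (CommRingCat.ofHom j₂)) ≫ jm := by
    rw [Category.assoc]
    exact congrArg (fun g : Over.mk s'' ⟶ W => g.left) h₂
  have : LocallyOfFiniteType a₁.left := by have := ha₁; infer_instance
  exact false_of_chart (Field.toIsField Fc) fk t ht jm b.left hfk a₁.left a₂.left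
    (congrArg (fun g : R ⟶ Over.mk s => g.left) hab) j₁ j₂ hinj ψ.left e.left hψ₁ hψ₂

theorem exists_lift_algClosed (h𝒳 : AlgSt.IsAlgStack K 𝒳) (h𝒴 : AlgSt.IsAlgStack K 𝒴) (f : 𝒳 ⥤ᵇ 𝒴)
    (hΔ : AlgSt.IsSurjective (diag f)) (k : Type u) [Field k] [IsAlgClosed k]
    (s : Spec (CommRingCat.of k) ⟶ S) (y : 𝒴.obj) (hy : 𝒴.p.obj y = Over.mk s)
    (h : AlgSt.Points.mk ⟨k, s, y, hy⟩ ∈ Set.range (AlgSt.Points.map f)) :
    ∃ (x : 𝒳.obj) (φ : f.obj x ⟶ y), 𝒳.p.obj x = Over.mk s ∧ 𝒴.p.IsHomLift (𝟙 (Over.mk s)) φ := by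
  obtain ⟨yf, i, hi⟩ := exists_overFunctor h𝒴.isStack.1 y hy
  obtain ⟨x, hx⟩ := h
  obtain ⟨P, -, -⟩ := exists_points_fp_of_map_eq h𝒳.isStack.1 (isFibGrpd_overCat _) h𝒴.isStack.1 f yf
    (AlgSt.Points.mk ⟨k, s, Over.mk (𝟙 _), rfl⟩) x (by
      rw [hx]
      exact AlgSt.Points.sound ⟨(AlgSt.FPt.map yf ⟨k, s, Over.mk (𝟙 _), rfl⟩), 𝟙 _, i.hom, trivial⟩)
  obtain ⟨z, u, hu⟩ := exists_section_of_diag h𝒳 h𝒴 f hΔ k s yf P
  have hz : 𝒳.p.obj z.obj.snd = Over.mk s := (fp_base_eq z).symm.trans hu.base_eq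
  exact ⟨z.obj.snd, z.obj.iso.inv ≫ yf.map u.hom ≫ i.hom, hz,
    ((vert_fp_iso z).inv.comp ((hu.map yf).comp hi)).isHomLift ((f.w_obj _).trans hz)⟩

end Groth.Agent.StFib
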