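import Mathlib.AlgebraicGeometry.Morphisms.FormallyUnramified
import Mathlib.AlgebraicGeometry.Morphisms.QuasiFinite
import Mathlib.AlgebraicGeometry.PullbackCarrier
import Mathlib.RingTheory.Kaehler.TensorProduct

/-!
# Properties read off the base change of a morphism along itself
-/

set_option backward.isDefEq.respectTransparency false
set_option backward.isDefEq.respectTransparency.types false

universe u

open CategoryTheory CategoryTheory.Limits AlgebraicGeometry TensorProduct

namespace Groth.Agent.StFib.SelfBC

theorem algebra_unramified (A B : Type u) [CommRing A] [CommRing B] [Algebra A B]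
    (h : Algebra.FormallyUnramified B (B ⊗[A] B)) : Algebra.FormallyUnramified A B := by
  rw [Algebra.FormallyUnramified.iff_comp_injective]
  intro C _ _ I hI g₁ g₂ hg
  let _ : Algebra B C := g₁.toRingHom.toAlgebra
  have : IsScalarTower A B C := IsScalarTower.of_algebraMap_eq fun r => (g₁.commutes r).symm
  let F (g : B →ₐ[A] C) : B ⊗[A] B →ₐ[B] C :=
    Algebra.TensorProduct.lift (Algebra.ofId B C) g fun x y => Commute.all _ _
  have hF : F g₁ = F g₂ := by
    apply (Algebra.FormallyUnramified.iff_comp_injective.1 h) I hI
    refine Algebra.TensorProduct.ext (Subsingleton.elim _ _) (AlgHom.ext fun x => ?_)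
    have := congr($hg x)
    simpa [F] using this
  refine AlgHom.ext fun x => ?_
  simpa [F] using congr($hF (1 ⊗ₜ[A] x))

/-- Restriction to an affine piece. -/
theorem restrict {P : MorphismProperty Scheme.{u}} [P.IsStableUnderComposition]
    (hoi : ∀ {A B : Scheme.{u}} (g : A ⟶ B) [IsOpenImmersion g], P g)
    (hcancel : ∀ {A B C : Scheme.{u}} (a : A ⟶ B) (b : B ⟶ C), P (a ≫ b) → P a)
    {X Y : Scheme.{u}} (f : X ⟶ Y) (h : P (pullback.snd f f)) {W V : Scheme.{u}} (a : W ⟶ X) [IsOpenImmersion a]
    (b : V ⟶ Y) [IsOpenImmersion b] (g : W ⟶ V) (w : g ≫ b = a ≫ f) : P (pullback.snd g g) := by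
  let j : pullback g g ⟶ pullback f f := pullback.map g g f f a a b w w
  refine hcancel _ a ?_
  rw [← show j ≫ pullback.snd f f = pullback.snd g g ≫ a from pullback.lift_snd _ _ _]
  have : IsOpenImmersion j := inferInstance
  exact MorphismProperty.comp_mem P _ _ (hoi j) h

theorem quasiFinite {X Y : Scheme.{u}} (f : X ⟶ Y) [LocallyOfFiniteType f]
    (h : LocallyQuasiFinite (pullback.snd f f)) : LocallyQuasiFinite f := by
  have key : ∀ (W V : Scheme.{u}) [IsAffine W] [IsAffine V] (g : W ⟶ V) [LocallyOfFiniteType g],
      LocallyQuasiFinite (pullback.snd g g) → LocallyQuasiFinite g := by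
    intro W V _ _ g _ hg
    refine LocallyQuasiFinite.of_finite_preimage_singleton _ fun x => ?_
    rcases (g ⁻¹' {x}).eq_empty_or_nonempty with h0 | ⟨w₀, hw₀⟩
    · rw [h0]; exact Set.finite_empty
    refine (((pullback.snd g g).finite_preimage_singleton w₀).image (pullback.fst g g)).subset fun w hw => ?_
    obtain ⟨z, h1, h2⟩ := Scheme.Pullback.exists_preimage_pullback w w₀ (hw.trans hw₀.symm)
    exact ⟨z, h2, h1⟩
  refine (IsZariskiLocalAtTarget.iff_of_openCover (P := @LocallyQuasiFinite) Y.affineCover).2 fun i => ?_
  change LocallyQuasiFinite (pullback.snd f (Y.affineCover.f i))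
  refine (IsZariskiLocalAtSource.iff_of_openCover (P := @LocallyQuasiFinite) (Scheme.affineCover _)).2 fun j => ?_
  refine key _ _ _ (restrict (P := @LocallyQuasiFinite) (fun g _ => inferInstance) (fun a b hab => have := hab; .of_comp a b) f h
    ((Scheme.affineCover (pullback f (Y.affineCover.f i))).f j ≫ pullback.fst f (Y.affineCover.f i))
    (Y.affineCover.f i) _ (by simp [pullback.condition]))

theorem unramified {X Y : Scheme.{u}} (f : X ⟶ Y)
    (h : FormallyUnramified (pullback.snd f f)) : FormallyUnramified f := by
  refine (IsZariskiLocalAtTarget.iff_of_openCover (P := @FormallyUnramified) Y.affineCover).2 fun i => ?_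
  change FormallyUnramified (pullback.snd f (Y.affineCover.f i))
  refine (IsZariskiLocalAtSource.iff_of_openCover (P := @FormallyUnramified) (Scheme.affineCover _)).2 fun j => ?_
  let 𝒲 := Scheme.affineCover (pullback f (Y.affineCover.f i))
  have hg := restrict (P := @FormallyUnramified) (fun g _ => inferInstance) (fun a b hab => have := hab; .of_comp a b) f h
    (𝒲.f j ≫ pullback.fst f (Y.affineCover.f i)) (Y.affineCover.f i) (𝒲.f j ≫ pullback.snd f (Y.affineCover.f i))
    (by simp [pullback.condition])
  revert hg
  generalize 𝒲.f j ≫ pullback.snd f (Y.affineCover.f i) = g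
  intro hg
  have key : ∀ (A B : CommRingCat.{u}) (φ : A ⟶ B), FormallyUnramified (pullback.snd (Spec.map φ) (Spec.map φ)) →
      FormallyUnramified (Spec.map φ) := by
    intro A B φ hφ
    rw [HasRingHomProperty.Spec_iff (P := @FormallyUnramified)]
    algebraize [φ.hom]
    refine algebra_unramified A B ?_
    have h1 : FormallyUnramified ((pullbackSpecIso A B B).inv ≫ pullback.fst _ _) := by
      rw [← pullbackSymmetry_hom_comp_snd]
      exact (MorphismProperty.cancel_left_of_respectsIso @FormallyUnramified _ _).2
        ((MorphismProperty.cancel_left_of_respectsIso @FormallyUnramified _ _).2 hφ)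
    rw [pullbackSpecIso_inv_fst, HasRingHomProperty.Spec_iff (P := @FormallyUnramified)] at h1
    exact RingHom.formallyUnramified_algebraMap.1 h1
  obtain ⟨φ, rfl⟩ := Spec.map_surjective g
  exact key _ _ φ hg

end Groth.Agent.StFib.SelfBC
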