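import Groth.Agent.StFib.InertiaProps
import Groth.Agent.StFib.SelfBC
import Groth.Agent.StFib.SourceLocal
import Groth.Agent.StFib.Props2

/-!
# Unramified and quasi-finite inertia
-/

set_option linter.unusedVariables false
set_option backward.isDefEq.respectTransparency false
set_option backward.isDefEq.respectTransparency.types false

universe u

open CategoryTheory CategoryTheory.Limits AlgebraicGeometry Opposite FibCat

namespace Groth.Agent.StFib

variable {S : Scheme.{u}} {𝒳 𝒴 𝒵 : AlgSt.Cat S}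

theorem self_fp_baseChange (P : MorphismProperty (AlgSp.Sp S)) {d : 𝒳 ⥤ᵇ 𝒵} (y : 𝒴 ⥤ᵇ 𝒵)
    (h : AlgSt.RepByAlgSpWith P (fpFst d d)) :
    AlgSt.RepByAlgSpWith P (fpFst (fpFst y d) (fpFst y d)) := by
  let p := fpSnd y d
  let q := fpFst y d
  have h0 := repByAlgSpWith_fpFst P p h
  have h1 : AlgSt.RepByAlgSpWith P (fpFst (BasedFunctor.comp p d) d) :=
    (repByAlgSpWith_iff_of_equiv P (fpPaste d d p) (BasedFunctor.id _) (fpPaste_isEquivOver d d p) (isEquivOver_id _)
      (f := fpFst (BasedFunctor.comp p d) d) (f' := fpFst p (fpFst d d)) (Iso.refl _)).2 h0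
  obtain ⟨E, hE, ⟨i⟩, -⟩ := exists_fp_congr (fpIso y d).symm (Iso.refl d)
  have h2 : AlgSt.RepByAlgSpWith P (fpFst (BasedFunctor.comp q y) d) :=
    (repByAlgSpWith_iff_of_equiv P E (BasedFunctor.id _) hE (isEquivOver_id _)
      (f := fpFst (BasedFunctor.comp p d) d) (f' := fpFst (BasedFunctor.comp q y) d) i.symm).1 h1
  exact (repByAlgSpWith_iff_of_equiv P (fpPaste y d q) (BasedFunctor.id _) (fpPaste_isEquivOver y d q) (isEquivOver_id _)
    (f := fpFst (BasedFunctor.comp q y) d) (f' := fpFst q (fpFst y d)) (Iso.refl _)).1 h2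

/-- If the base change of a space over a scheme along itself has `P`, read on sheaves. -/
theorem pullback_mem_of_self {P : MorphismProperty (AlgSp.Sp S)} (hPb : StableBC P) (hdet : DetectedOnSchemes P)
    {f : 𝒳 ⥤ᵇ 𝒵} (h : AlgSt.RepByAlgSpWith P (fpFst f f)) {T : Over S} (y : overCat T ⥤ᵇ 𝒵) (A : AlgSp.Space S)
    (e : AlgSt.ofSp A.obj ⥤ᵇ fp y f) (he : IsEquivOver e) :
    P (pullback.fst (AlgSt.spMapOfOver (BasedFunctor.comp e (fpFst y f)))
      (AlgSt.spMapOfOver (BasedFunctor.comp e (fpFst y f)))) := by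
  let a := AlgSt.spMapOfOver (BasedFunctor.comp e (fpFst y f))
  have h1 := self_fp_baseChange P y h
  obtain ⟨i⟩ := exists_iso_ofSpMap_toOverCat (A := A.obj) (BasedFunctor.comp e (fpFst y f))
  let L := AlgSt.ofSpMap a
  have := full_of_isEquivOver (toOverCat_isEquivOver T)
  have := faithful_of_isEquivOver (toOverCat_isEquivOver T)
  let M : fp L L ⥤ᵇ fp (fpFst y f) (fpFst y f) :=
    fpMap (F := fpFst y f) (G := fpFst y f) (F' := L) (G' := L) e e (AlgSt.toOverCat T) i.symm i.symm
  have hM : IsEquivOver M := fpMap_isEquivOver _ _ _ _ _ he he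
  have h2 : AlgSt.RepByAlgSpWith P (fpFst L L) :=
    (repByAlgSpWith_iff_of_equiv P M e hM he (f := fpFst (fpFst y f) (fpFst y f)) (f' := fpFst L L) (Iso.refl _)).1 h1
  have sq := IsPullback.map (sheafToPresheaf (AlgSp.J S) (Type (u + 1))) (IsPullback.of_hasPullback a a)
  let N : AlgSt.ofSp (pullback a a) ⥤ᵇ fp L L :=
    fpLift (Stk.ofPshMap (pullback.fst a a).hom) (Stk.ofPshMap (pullback.snd a a).hom) (pshSqIso sq.w)
  have h3 : AlgSt.RepByAlgSpWith P (AlgSt.ofSpMap (pullback.fst a a)) :=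
    (repByAlgSpWith_iff_of_equiv P N (BasedFunctor.id _) (pshSq_cart sq) (isEquivOver_id _)
      (f := fpFst L L) (f' := AlgSt.ofSpMap (pullback.fst a a)) (Iso.refl _)).1 h2
  exact mem_of_repByAlgSpWith_ofSpMap hPb hdet
    (Groth.Agent.AlgSp.isAlgSpace_pullback (isAlgSpace_yon T) A.property A.property a a) A.property _ h3

end Groth.Agent.StFib

namespace Groth.Agent.StFib

open _root_.AlgSp

variable {S : Scheme.{u}}

/-- A property of a map from a space to a scheme read off its base change along itself. -/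
theorem locP_of_self_baseChange {P : MorphismProperty Scheme.{u}} (hP : Groth.Agent.AlgSpCov.Standard P)
    (hself : ∀ {X Y : Scheme.{u}} (f : X ⟶ Y), LocallyOfFiniteType f → P (pullback.snd f f) → P f)
    {A : Sp S} (hA : IsAlgSpace A) {T : Over S} (a : A ⟶ (yon S).obj T) (hl : LocP @LocallyOfFiniteType a)
    (h : LocP P (pullback.fst a a)) : LocP P a := by
  obtain ⟨U, α, hα, hαs⟩ := hA.atlas
  obtain ⟨k, hk⟩ := (yon S).map_surjective (α ≫ a)
  have hkl : LocallyOfFiniteType k.left :=
    hl α (𝟙 _) k hα (repWith_id _ T) (by rw [Category.comp_id]; exact hk.symm)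
  have := hP.bc
  have := hP.comp
  refine Groth.Agent.AlgSpCov.locP_of_one_chart hP.etaleLocal hP.of_etale (IsAlgSpace.yon_obj T) (V := T)
    hα hαs (repWith_id _ T) (by rw [Category.comp_id]; exact hk.symm) (hself k.left hkl ?_)
  have sq := (IsPullback.of_hasPullback k k).map (yon S)
  let j : (yon S).obj (pullback k k) ⟶ pullback a a :=
    sq.isoPullback.hom ≫ pullback.map ((yon S).map k) ((yon S).map k) a a α α (𝟙 _) (by simpa using hk) (by simpa using hk)
  have := repWith_isMultiplicative (S := S) (@Etale : MorphismProperty Scheme.{u})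
  have hj : RepWith @Etale j := (MorphismProperty.cancel_left_of_respectsIso (RepWith @Etale) _ _).2
    (MorphismProperty.pullbackMap (P := RepWith @Etale) (f := (yon S).map k) (g := (yon S).map k) (f' := a) (g' := a)
      hα hα hk hk)
  have hj1 : j ≫ pullback.fst a a = (yon S).map (pullback.fst k k) ≫ α := by
    simp [j]
  have hfst : P (pullback.fst k k).left := h j α (pullback.fst k k) hj hα hj1
  have sq' := (IsPullback.of_hasPullback k k).map (Over.forget S)
  have := hP.bc
  have : P.RespectsIso := MorphismProperty.IsStableUnderBaseChange.respectsIso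
  have e : pullback.snd k.left k.left =
      (pullbackSymmetry k.left k.left).hom ≫ sq'.isoPullback.inv ≫ (pullback.fst k k).left := by
    rw [← pullbackSymmetry_hom_comp_fst k.left k.left]
    exact congrArg ((pullbackSymmetry k.left k.left).hom ≫ ·) sq'.isoPullback_inv_fst.symm
  rw [e]
  exact (MorphismProperty.cancel_left_of_respectsIso P _ _).2
    ((MorphismProperty.cancel_left_of_respectsIso P _ _).2 hfst)

end Groth.Agent.StFib

namespace Groth.Agent.StFib

variable {S : Scheme.{u}} {𝒳 𝒴 : AlgSt.Cat S}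

theorem inertiaToBase_mem_iff_diag {P : MorphismProperty Scheme.{u}} (hP : Groth.Agent.AlgSpCov.Standard P)
    (hself : ∀ {X Y : Scheme.{u}} (f : X ⟶ Y), LocallyOfFiniteType f → P (pullback.snd f f) → P f)
    (h𝒳 : AlgSt.IsAlgStack Scheme.fppfPrecoverage 𝒳) (h𝒴 : AlgSt.IsAlgStack Scheme.fppfPrecoverage 𝒴)
    (f : 𝒳 ⥤ᵇ 𝒴) :
    AlgSt.RepByAlgSpWith (AlgSp.LocP P) (inertiaToBase f) ↔ AlgSt.RepByAlgSpWith (AlgSp.LocP P) (diag f) := by
  refine ⟨fun h T y => ?_, inertiaToBase_mem _⟩
  obtain ⟨E, hE, h1, -⟩ := exists_inertia_equiv f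
  have h0 : AlgSt.RepByAlgSpWith (AlgSp.LocP P) (fpFst (diag f) (diag f)) :=
    (repByAlgSpWith_iff_of_equiv _ E (BasedFunctor.id _) hE (isEquivOver_id _)
      (f := fpFst (diag f) (diag f)) (f' := inertiaToBase f) (eqToIso h1.symm)).2 h
  have hl := lft_diag h𝒳 h𝒴 f
  obtain ⟨A, e, he, -⟩ := hl T y
  exact ⟨A, e, he, locP_of_self_baseChange hP hself A.property _
    (mem_of_rep_chart good_lft.bc good_lft.det hl y A e he)
    (pullback_mem_of_self (good_locP hP).bc (good_locP hP).det h0 y A e he)⟩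

end Groth.Agent.StFib
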