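import Groth.Agent.StFib.LocQDescent
import Groth.Agent.StFib.DiagLft
import Groth.Agent.S0116

/-!
Smooth-local properties of algebraic stacks; local Noetherianity; finite presentation of diagonals.
-/

set_option backward.isDefEq.respectTransparency false
set_option backward.isDefEq.respectTransparency.types false
set_option linter.unusedVariables false

universe u

open CategoryTheory CategoryTheory.Limits AlgebraicGeometry Opposite FibCat

namespace Groth.Agent.StFib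

variable {S : Scheme.{u}} {𝒳 𝒴 : AlgSt.Cat S}

theorem smoothLocally_iff_exists (h𝒳 : AlgSt.IsAlgStack Scheme.fppfPrecoverage 𝒳) (P : Scheme.{u} → Prop)
    (hP : ∀ (U : Scheme.{u}) (R : Presieve U), R ∈ Scheme.precoverage @Smooth U →
      (P U ↔ ∀ ⦃V : Scheme.{u}⦄ (g : V ⟶ U), R g → P V)) :
    AlgSt.SmoothLocally P 𝒳 ↔
      ∃ (U : Over S) (x : overCat U ⥤ᵇ 𝒳),
        AlgSt.RepByAlgSpWith (AlgSp.LocP @Smooth) x ∧ AlgSt.RepByAlgSpWith AlgSp.IsSurjectiveMor x ∧ P U.left := by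
  refine ⟨fun H => ?_, ?_⟩
  · obtain ⟨U, x, hx, hxs⟩ := h𝒳.atlas
    exact ⟨U, x, hx, hxs, H U x hx⟩
  rintro ⟨U₀, x₀, hx₀, hxs₀, hU₀⟩ U x hx
  obtain ⟨W, a, b, -, ha, hb, hbs, -⟩ := exists_chart_fp_smooth h𝒳 hx₀ hx
  have := hbs hxs₀
  -- `W` is a member of a smooth covering of `U₀`
  let R₀ : Presieve U₀.left := Presieve.ofArrows
    (fun o : ULift.{u} Bool => cond o.down W.left U₀.left)
    (fun o => match o with
      | ⟨true⟩ => a.left
      | ⟨false⟩ => 𝟙 U₀.left)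
  have hR₀ : R₀ ∈ Scheme.precoverage @Smooth U₀.left := by
    refine (Scheme.ofArrows_mem_precoverage_iff _).2 ⟨fun t => ⟨⟨false⟩, t, rfl⟩, fun o => ?_⟩
    match o with
    | ⟨true⟩ => exact ha
    | ⟨false⟩ => exact inferInstanceAs (Smooth (𝟙 U₀.left))
  have hW : P W.left := (hP _ R₀ hR₀).1 hU₀ _ (Presieve.ofArrows.mk (⟨true⟩ : ULift.{u} Bool))
  refine (hP U.left (Presieve.ofArrows (fun _ : PUnit.{u + 1} => W.left) fun _ => b.left)
    ((Scheme.ofArrows_mem_precoverage_iff _).2 ⟨fun t => ?_, fun _ => hb⟩)).2 ?_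
  · obtain ⟨w, hw⟩ := b.left.surjective t
    exact ⟨⟨⟩, w, hw⟩
  · rintro V g ⟨o⟩
    exact hW

theorem smoothLocally_locallyNoetherian_of_lft (h𝒳 : AlgSt.IsAlgStack Scheme.fppfPrecoverage 𝒳)
    (h𝒴 : AlgSt.IsAlgStack Scheme.fppfPrecoverage 𝒴) {f : 𝒳 ⥤ᵇ 𝒴}
    (hf : AlgSt.LocQ (AlgSp.LocP @LocallyOfFiniteType) f)
    (hY : AlgSt.SmoothLocally (fun T ↦ IsLocallyNoetherian T) 𝒴) :
    AlgSt.SmoothLocally (fun T ↦ IsLocallyNoetherian T) 𝒳 := by
  intro U x hx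
  obtain ⟨U₀, V, x₀, y, h, α, hx₀, hxs₀, hy, hh⟩ := hf
  have : IsLocallyNoetherian V.left := hY V y hy
  have : LocallyOfFiniteType h.left := scheme_mem_of_locP hh
  have : IsLocallyNoetherian U₀.left := LocallyOfFiniteType.isLocallyNoetherian h.left
  obtain ⟨W, a, b, -, ha, hb, hbs, -⟩ := exists_chart_fp_smooth h𝒳 hx₀ hx
  have := hbs hxs₀
  have : IsLocallyNoetherian W.left := LocallyOfFiniteType.isLocallyNoetherian a.left
  exact Groth.Agent.S0116.result b.left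

theorem locQ_lfp_of_locallyNoetherian {f : 𝒳 ⥤ᵇ 𝒴}
    (hY : AlgSt.SmoothLocally (fun T ↦ IsLocallyNoetherian T) 𝒴)
    (hf : AlgSt.LocQ (AlgSp.LocP @LocallyOfFiniteType) f) :
    AlgSt.LocQ (AlgSp.LocP @LocallyOfFinitePresentation) f := by
  obtain ⟨U, V, x, y, h, α, hx, hxs, hy, hh⟩ := hf
  have : IsLocallyNoetherian V.left := hY V y hy
  have : LocallyOfFiniteType h.left := scheme_mem_of_locP hh
  exact ⟨U, V, x, y, h, α, hx, hxs, hy, locP_of_scheme_mem smoothLocalProp_lfp inferInstance⟩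

theorem locQ_congr {P : MorphismProperty (AlgSp.Sp S)} {f f' : 𝒳 ⥤ᵇ 𝒴} (i : f ≅ f')
    (h : AlgSt.LocQ P f) : AlgSt.LocQ P f' := by
  obtain ⟨U, V, x, y, k, α, rest⟩ := h
  exact ⟨U, V, x, y, k, isoWhiskerLeft x i.symm ≪≫ α, rest⟩

theorem locQ_lfp_id (h𝒳 : AlgSt.IsAlgStack Scheme.fppfPrecoverage 𝒳) :
    AlgSt.LocQ (AlgSp.LocP @LocallyOfFinitePresentation) (BasedFunctor.id 𝒳) := by
  obtain ⟨U, x, hx, hxs⟩ := h𝒳.atlas
  refine ⟨U, U, x, x, 𝟙 U, ?_, hx, hxs, hx,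
    locP_of_scheme_mem smoothLocalProp_lfp (inferInstanceAs (LocallyOfFinitePresentation (𝟙 U.left)))⟩
  exact isoWhiskerRight
    (isoMk (F := BasedFunctor.id (overCat U)) (G := AlgSt.overMap (𝟙 U))
      (fun a => Over.isoMk (Iso.refl _) (by
        change 𝟙 _ ≫ (a.hom ≫ 𝟙 U) = a.hom
        simp))
      (fun a => Vert.id _)
      (fun φ => Over.OverMorphism.ext ((Category.comp_id _).trans (Category.id_comp _).symm))) x

theorem locQ_lfp_diag (h𝒳 : AlgSt.IsAlgStack Scheme.fppfPrecoverage 𝒳)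
    (h𝒴 : AlgSt.IsAlgStack Scheme.fppfPrecoverage 𝒴) {f : 𝒳 ⥤ᵇ 𝒴}
    (hf : AlgSt.LocQ (AlgSp.LocP @LocallyOfFiniteType) f) :
    AlgSt.LocQ (AlgSp.LocP @LocallyOfFinitePresentation) (diag f) := by
  have hF := isAlgStack_fp h𝒴.isStack h𝒴.diag h𝒳 h𝒳 f f
  refine locQ_lfp_of_comp h𝒳 hF h𝒳 (g := fpFst f f) ?_
    (locQ_fpFst (isSmoothLocalST_locP smoothLocalProp_lft) good_lft.bc h𝒳 h𝒴 h𝒳 f hf)
  exact locQ_lfp_id h𝒳

end Groth.Agent.StFib
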