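import Groth.Agent.StFib.QC
import Groth.Agent.StFib.Cancel
import Groth.Agent.StFib.LocQNoeth
import Groth.Agent.StFib.Affine

/-!
Cancellation and descent for quasi-compact morphisms of algebraic stacks; open morphisms.
-/

set_option backward.isDefEq.respectTransparency false
set_option backward.isDefEq.respectTransparency.types false
set_option linter.unusedVariables false

universe u

open CategoryTheory CategoryTheory.Limits AlgebraicGeometry Opposite FibCat TopologicalSpace Topology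

namespace Groth.Agent.StFib

variable {S : Scheme.{u}} {𝒳 𝒴 𝒵 𝒲 : AlgSt.Cat S}

local notation "K" => Scheme.fppfPrecoverage

theorem isQuasiCompactMor_of_isClosedImm (h𝒳 : AlgSt.IsAlgStack K 𝒳) (h𝒴 : AlgSt.IsAlgStack K 𝒴)
    {f : 𝒳 ⥤ᵇ 𝒴} (hf : AlgSt.IsClosedImm f) : AlgSt.IsQuasiCompactMor K f :=
  isQuasiCompactMor_of_rep h𝒳 h𝒴 (repByAlgSpWith_mono hf fun F V m hm =>
    Groth.Agent.AlgSp.isQuasiCompactMor_of_repWith (isAlgSpace_yon V)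
      (Groth.Agent.AlgSp.repWith_mono (fun g hg => (have : IsClosedImmersion g := hg; inferInstance : QuasiCompact g)) hm))

/-- A morphism factors through its graph. -/
theorem isQuasiCompactMor_of_comp (h𝒳 : AlgSt.IsAlgStack K 𝒳) (h𝒴 : AlgSt.IsAlgStack K 𝒴)
    (h𝒵 : AlgSt.IsAlgStack K 𝒵) {f : 𝒳 ⥤ᵇ 𝒴} {g : 𝒴 ⥤ᵇ 𝒵}
    (hd : AlgSt.RepByAlgSpWith AlgSp.IsQuasiCompactMor (diag g))
    (hp : AlgSt.IsQuasiCompactMor K (fpSnd (BasedFunctor.comp f g) g)) : AlgSt.IsQuasiCompactMor K f := by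
  have hB := isAlgStack_fp h𝒵.isStack h𝒵.diag h𝒳 h𝒴 (BasedFunctor.comp f g) g
  have hGB := isAlgStack_fp h𝒵.isStack h𝒵.diag h𝒴 h𝒴 g g
  have h1 := isQuasiCompactMor_of_cart _ _ _ (graph_cart (BasedFunctor.comp f g) g f (Iso.refl _))
    (isQuasiCompactMor_of_rep h𝒴 hGB hd)
  exact isQuasiCompactMor_of_iso (eqToIso (by rfl)) (isQuasiCompactMor_comp hB h𝒴 h1 hp)

theorem isQuasiCompactMor_of_comp_of_qs (h𝒳 : AlgSt.IsAlgStack K 𝒳) (h𝒴 : AlgSt.IsAlgStack K 𝒴)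
    (h𝒵 : AlgSt.IsAlgStack K 𝒵) {f : 𝒳 ⥤ᵇ 𝒴} {g : 𝒴 ⥤ᵇ 𝒵}
    (hfg : AlgSt.IsQuasiCompactMor K (BasedFunctor.comp f g)) (hg : AlgSt.IsQuasiSeparatedMor g) :
    AlgSt.IsQuasiCompactMor K f :=
  isQuasiCompactMor_of_comp h𝒳 h𝒴 h𝒵 (repByAlgSpWith_mono hg fun _ _ _ h => h.1)
    (isQuasiCompactMor_fpSnd _ _ hfg)

theorem isQuasiCompactMor_toSelf [QuasiSeparatedSpace S] (h𝒳 : AlgSt.IsAlgStack K 𝒳)
    (hc : AlgSt.IsQuasiCompact 𝒳) : AlgSt.IsQuasiCompactMor K (toSelf 𝒳) := by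
  intro 𝒱 h𝒱 hq y
  obtain ⟨i⟩ := exists_iso_toSelf y
  obtain ⟨E, hE, -, -⟩ := exists_fp_congr i (Iso.refl (toSelf 𝒳))
  exact isQuasiCompact_of_equiv hE (isQuasiCompact_prod h𝒱 h𝒳 hq hc)

theorem isQuasiCompactMor_of_qc_of_qs [QuasiSeparatedSpace S] (h𝒳 : AlgSt.IsAlgStack K 𝒳)
    (h𝒴 : AlgSt.IsAlgStack K 𝒴) (f : 𝒳 ⥤ᵇ 𝒴) (hc : AlgSt.IsQuasiCompact 𝒳)
    (hs : AlgSt.IsQuasiSeparatedOver 𝒴) : AlgSt.IsQuasiCompactMor K f := by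
  obtain ⟨i⟩ := exists_iso_toSelf (BasedFunctor.comp f (toSelf 𝒴))
  exact isQuasiCompactMor_of_comp_of_qs h𝒳 h𝒴 isAlgStack_selfOver
    (isQuasiCompactMor_of_iso i.symm (isQuasiCompactMor_toSelf h𝒳 hc)) hs

theorem isQuasiCompact_fp [QuasiSeparatedSpace S] (h𝒳 : AlgSt.IsAlgStack K 𝒳)
    (h𝒴 : AlgSt.IsAlgStack K 𝒴) (h𝒵 : AlgSt.IsAlgStack K 𝒵) (a : 𝒳 ⥤ᵇ 𝒴) (b : 𝒵 ⥤ᵇ 𝒴)
    (hx : AlgSt.IsQuasiCompact 𝒳) (hy : AlgSt.IsQuasiSeparatedOver 𝒴) (hz : AlgSt.IsQuasiCompact 𝒵) :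
    AlgSt.IsQuasiCompact (fp a b) :=
  isQuasiCompactMor_of_qc_of_qs h𝒵 h𝒴 b hz hy 𝒳 h𝒳 hx a

theorem good_qcqs : Good (S := S) (AlgSp.IsQuasiCompactMor ⊓ AlgSp.IsQuasiSeparatedMor) :=
  good_quasiCompact.inf good_quasiSeparated

theorem isQuasiSeparatedMor_of_comp_stack {f : 𝒳 ⥤ᵇ 𝒴} {g : 𝒴 ⥤ᵇ 𝒵} (hg : AlgSt.IsQuasiSeparatedMor g)
    (hfg : AlgSt.IsQuasiSeparatedMor (BasedFunctor.comp f g)) : AlgSt.IsQuasiSeparatedMor f :=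
  diag_of_comp_mem (Q := AlgSp.IsQuasiSeparatedMor) good_qcqs.bc
    (fun A B C hA hB hC a b hb hab => qcqs_of_comp hA hB hC a b hb hab)
    (repByAlgSpWith_mono hg fun _ _ _ h => h.2) hfg

theorem isQuasiSeparatedOver_fp (h𝒳 : AlgSt.IsAlgStack K 𝒳) (h𝒴 : AlgSt.IsAlgStack K 𝒴)
    (h𝒵 : AlgSt.IsAlgStack K 𝒵) (a : 𝒳 ⥤ᵇ 𝒴) (b : 𝒵 ⥤ᵇ 𝒴) (hx : AlgSt.IsQuasiSeparatedOver 𝒳)
    (hy : AlgSt.IsQuasiSeparatedOver 𝒴) (hz : AlgSt.IsQuasiSeparatedOver 𝒵) :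
    AlgSt.IsQuasiSeparatedOver (fp a b) := by
  obtain ⟨i⟩ := exists_iso_toSelf (BasedFunctor.comp b (toSelf 𝒴))
  obtain ⟨j⟩ := exists_iso_toSelf (BasedFunctor.comp (fpFst a b) (toSelf 𝒳))
  have hb : AlgSt.IsQuasiSeparatedMor b :=
    isQuasiSeparatedMor_of_comp_stack hy (repByAlgSpWith_diag_of_iso _ i.symm hz)
  exact repByAlgSpWith_diag_of_iso _ j (diag_comp_mem good_qcqs
    (isFibGrpd_fp h𝒳.isStack.1 h𝒵.isStack.1 h𝒴.isStack.1 a b) h𝒳.isStack.1 (diag_fpFst_mem _ a hb) hx)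

/-! ## Open morphisms -/

theorem isOpenMap_of_locQ (h𝒳 : AlgSt.IsAlgStack K 𝒳) (h𝒴 : AlgSt.IsAlgStack K 𝒴) {f : 𝒳 ⥤ᵇ 𝒴}
    (hf₁ : AlgSt.LocQ (AlgSp.LocP @Flat) f) (hf₂ : AlgSt.LocQ (AlgSp.LocP @LocallyOfFinitePresentation) f) :
    IsOpenMap (AlgSt.Points.map f) := by
  obtain ⟨V, y, hy, hys⟩ := h𝒴.atlas
  obtain ⟨U, x, h, α, hx, hxs, hl, -⟩ := exists_smooth_square h𝒳 h𝒴 f hy
  have : Flat h.left :=
    scheme_mem_of_locP (mem_of_locQ (isSmoothLocalST_locP smoothLocalProp_flat) h𝒳 h𝒴 hf₁ α hy hl)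
  have : LocallyOfFinitePresentation h.left :=
    scheme_mem_of_locP (mem_of_locQ (isSmoothLocalST_locP smoothLocalProp_lfp) h𝒳 h𝒴 hf₂ α hy hl)
  intro Ω hΩ
  have he : AlgSt.Points.map f '' Ω =
      AlgSt.Points.ofChart y '' (h.left '' (AlgSt.Points.ofChart x ⁻¹' Ω)) := by
    rw [Set.image_image]
    have hk : ∀ t, AlgSt.Points.map f (AlgSt.Points.ofChart x t) = AlgSt.Points.ofChart y (h.left t) :=
      fun t => by rw [map_ofChart, ofChart_congr α, ofChart_overMap y h t]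
    ext P
    constructor
    · rintro ⟨Q, hQ, rfl⟩
      obtain ⟨t, rfl⟩ := ofChart_surjective h𝒳.isStack.1 (hxs hys) Q
      exact ⟨t, hQ, (hk t).symm⟩
    · rintro ⟨t, ht, rfl⟩
      exact ⟨_, ht, hk t⟩
  rw [he]
  exact isOpenMap_ofChart h𝒴 (repByAlgSpWith_flat_of_smooth hy) (repByAlgSpWith_lfp_of_smooth hy) _
    (h.left.isOpenMap _ (hΩ.preimage (continuous_ofChart h𝒳 x)))

/-- An open surjection onto a quasi-compact stack is dominated by an affine scheme. -/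
theorem exists_affine_surjection (h𝒳 : AlgSt.IsAlgStack K 𝒳) (h𝒴 : AlgSt.IsAlgStack K 𝒴) {f : 𝒳 ⥤ᵇ 𝒴}
    (hfo : IsOpenMap (AlgSt.Points.map f)) (hfs : AlgSt.IsSurjective f) (hc : AlgSt.IsQuasiCompact 𝒴) :
    ∃ (T : Over S) (t : overCat T ⥤ᵇ 𝒳), IsAffine T.left ∧
      AlgSt.IsSurjective (BasedFunctor.comp t f) := by
  obtain ⟨U, z, hz, hzs⟩ := h𝒳.atlas
  have := compactSpace_points h𝒴 hc
  let 𝒰 := U.left.affineCover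
  obtain ⟨I, hI⟩ := isCompact_univ.elim_finite_subcover
    (fun i => AlgSt.Points.map f '' (AlgSt.Points.ofChart z '' Set.range (𝒰.f i)))
    (fun i => hfo _ (isOpenMap_ofChart h𝒳 (repByAlgSpWith_flat_of_smooth hz)
      (repByAlgSpWith_lfp_of_smooth hz) _ (𝒰.f i).opensRange.isOpen))
    (fun P _ => by
      obtain ⟨Q, rfl⟩ := hfs P
      obtain ⟨t, rfl⟩ := ofChart_surjective h𝒳.isStack.1 hzs Q
      obtain ⟨i, w, hw⟩ := 𝒰.exists_eq t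
      exact Set.mem_iUnion.2 ⟨i, _, ⟨t, ⟨w, hw⟩, rfl⟩, rfl⟩)
  let g : (∐ fun i : I => 𝒰.X i.1) ⟶ U.left := Sigma.desc fun i => 𝒰.f i.1
  let W : Over S := Over.mk (g ≫ U.hom)
  let a : W ⟶ U := Over.homMk g rfl
  refine ⟨W, BasedFunctor.comp (AlgSt.overMap a) z,
    inferInstanceAs (IsAffine (∐ fun i : I => 𝒰.X i.1)), fun P => ?_⟩
  obtain ⟨i, hi, -, ⟨-, ⟨w, rfl⟩, rfl⟩, rfl⟩ := Set.mem_iUnion₂.1 (hI (Set.mem_univ P))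
  refine ⟨AlgSt.Points.ofChart (BasedFunctor.id _) (Sigma.ι (fun i : I => 𝒰.X i.1) ⟨i, hi⟩ w), ?_⟩
  rw [← ofChart_eq_map, ← map_ofChart, ofChart_overMap z a]
  refine congrArg _ (congrArg _ ?_)
  change g _ = _
  rw [← Scheme.Hom.comp_apply, Sigma.ι_desc]

theorem isQuasiCompactMor_of_fppf (h𝒳 : AlgSt.IsAlgStack K 𝒳) (h𝒴 : AlgSt.IsAlgStack K 𝒴)
    (h𝒵 : AlgSt.IsAlgStack K 𝒵) {f : 𝒳 ⥤ᵇ 𝒴} (z : 𝒵 ⥤ᵇ 𝒴)
    (hz₁ : AlgSt.LocQ (AlgSp.LocP @Flat) z) (hz₂ : AlgSt.LocQ (AlgSp.LocP @LocallyOfFinitePresentation) z)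
    (hz₃ : AlgSt.IsSurjective z) (hf : AlgSt.IsQuasiCompactMor K (fpFst z f)) :
    AlgSt.IsQuasiCompactMor K f := by
  intro 𝒱 h𝒱 hq y
  have hQ := isAlgStack_fp h𝒴.isStack h𝒴.diag h𝒱 h𝒵 y z
  obtain ⟨T, t, hT, hts⟩ := exists_affine_surjection hQ h𝒱
    (isOpenMap_of_locQ hQ h𝒱
      (locQ_fpFst (isSmoothLocalST_locP smoothLocalProp_flat)
        (good_locP Groth.Agent.AlgSpCov.standard_flat).bc h𝒵 h𝒴 h𝒱 y hz₁)
      (locQ_fpFst (isSmoothLocalST_locP smoothLocalProp_lfp)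
        (good_locP Groth.Agent.AlgSpCov.standard_locallyOfFinitePresentation).bc h𝒵 h𝒴 h𝒱 y hz₂))
    (isSurjective_fpFst h𝒵.isStack.1 h𝒱.isStack.1 h𝒴.isStack.1 z y hz₃) hq
  let g := BasedFunctor.comp t (fpSnd y z)
  let s := BasedFunctor.comp t (fpFst y z)
  have hA := isAlgStack_overCat T
  obtain ⟨E₁, hE₁, -, -⟩ := exists_fp_of_cart _ _ _ (fpLift_self_isEquivOver z f) g
  obtain ⟨E₂, hE₂, -, -⟩ := exists_fp_congr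
    (F' := BasedFunctor.comp g z) (F := BasedFunctor.comp s y) (isoWhiskerLeft t (fpIso y z).symm) (Iso.refl f)
  obtain ⟨E₂', hE₂', -, -⟩ := isEquivOver_symm hE₂
  obtain ⟨E₃, hE₃, -, -⟩ := exists_fp_of_cart _ _ _ (fpLift_self_isEquivOver y f) s
  obtain ⟨E₃', hE₃', -, -⟩ := isEquivOver_symm hE₃
  have hB := isAlgStack_fp h𝒴.isStack h𝒴.diag h𝒱 h𝒳 y f
  have hC : AlgSt.IsQuasiCompact (fp s (fpFst y f)) :=
    isQuasiCompact_of_equiv hE₃' (isQuasiCompact_of_equiv hE₂' (isQuasiCompact_of_equiv hE₁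
      (hf _ hA (isQuasiCompact_overCat T) g)))
  refine isQuasiCompact_of_surjective (isAlgStack_fp h𝒱.isStack h𝒱.diag hA hB s (fpFst y f)) hB
    (f := fpSnd s (fpFst y f)) ?_ hC
  intro P
  obtain ⟨R, hR⟩ := isSurjective_fpFst (isFibGrpd_overCat T) hB.isStack.1 h𝒱.isStack.1 s (fpFst y f) hts P
  exact ⟨AlgSt.Points.map (fpSwap (fpFst y f) s) R, Eq.trans
    (congrFun (points_map_comp (fpSwap (fpFst y f) s) (fpSnd s (fpFst y f))).symm R) hR⟩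

end Groth.Agent.StFib
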