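import Groth.Agent.StFib.SliceDM
import Groth.Agent.StFib.SourceLocal
import Groth.Agent.StFib.DiagLft
import Groth.Agent.StFib.DescCriteria
import Groth.Agent.StFib.SpaceCharts
import Groth.Agent.S10544
import Groth.Agent.S10559

/-!
# An etale atlas for a stack with unramified diagonal
-/

set_option linter.unusedVariables false
set_option backward.isDefEq.respectTransparency false
set_option backward.isDefEq.respectTransparency.types false

universe u

open CategoryTheory CategoryTheory.Limits AlgebraicGeometry Opposite FibCat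

namespace Groth.Agent.StFib.SliceDM

variable {S : Scheme.{u}} {𝒳 𝒴 𝒵 : AlgSt.Cat S}

theorem fppfLocal_surjective :
    AlgSp.IsLocalOnBase AlgSp.IsFppfCover (AlgSp.IsSurjectiveMor (S := S)) := by
  intro ι Y Yi g hY hYi hc X f hX Xi p q hXi sq
  refine ⟨fun hf i => Groth.Agent.AlgSp.surjective_map_of_isPullback (sq i) hf, fun hp y => ?_⟩
  obtain ⟨i, z, rfl⟩ := hc.2 y
  obtain ⟨z', rfl⟩ := hp i z
  exact ⟨AlgSp.Points.map (q i) z', by rw [← AlgSp.Points.map_comp, ← AlgSp.Points.map_comp, (sq i).w]⟩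

theorem surjective_of_cover {V A B : AlgSp.Sp S} (b : V ⟶ A) (a : A ⟶ B)
    (h : AlgSp.IsSurjectiveMor (b ≫ a)) : AlgSp.IsSurjectiveMor a := fun y => by
  obtain ⟨z, rfl⟩ := h y
  exact ⟨AlgSp.Points.map b z, (AlgSp.Points.map_comp _ _ _).symm⟩

theorem etale_of_cover {V A B : AlgSp.Sp S} (hV : AlgSp.IsAlgSpace V) (hA : AlgSp.IsAlgSpace A)
    (hB : AlgSp.IsAlgSpace B) (b : V ⟶ A) (a : A ⟶ B) (hb : AlgSp.IsEtaleMor b)
    (hbs : AlgSp.IsSurjectiveMor b) (h : AlgSp.IsEtaleMor (b ≫ a)) : AlgSp.IsEtaleMor a :=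
  (Groth.Agent.S10559.result (ObjectProperty.homMk b : (⟨V, hV⟩ : AlgSp.Space S) ⟶ ⟨A, hA⟩)
    (ObjectProperty.homMk a : (⟨A, hA⟩ : AlgSp.Space S) ⟶ ⟨B, hB⟩) hbs).2 hb h

theorem repByAlgSpWith_comp_equiv' {P : MorphismProperty (AlgSp.Sp S)} {u : 𝒳 ⥤ᵇ 𝒴}
    (hu : AlgSt.RepByAlgSpWith P u) {E : 𝒴 ⥤ᵇ 𝒵} (hE : IsEquivOver E) :
    AlgSt.RepByAlgSpWith P (BasedFunctor.comp u E) :=
  (repByAlgSpWith_iff_of_equiv P (BasedFunctor.id _) E (isEquivOver_id _) hE
    (f := BasedFunctor.comp u E) (f' := u) (Iso.refl _)).2 hu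

theorem hasAtlas_etale_of_isDMOver {K' : Precoverage Scheme.{u}} (h : AlgSt.IsAlgStack K' 𝒳)
    (hDM : AlgSt.IsDMOver 𝒳) : AlgSt.HasAtlas AlgSp.IsEtaleMor 𝒳 := by
  obtain ⟨U, x, hx, hxs⟩ := h.atlas
  have h𝒳 : IsFibGrpd 𝒳.p := h.isStack.1
  obtain ⟨F, e₁, he₁, -⟩ := hx U x
  obtain ⟨V, a, ha, has⟩ := F.property.atlas
  have := (good_etale (S := S)).bc.of_respects
  obtain ⟨hcs, hcs'⟩ := atlas_of_etale a ha has
  have hce : AlgSt.RepByAlgSpWith AlgSp.IsEtaleMor (BasedFunctor.comp (AlgSt.ofOverCat V) (AlgSt.ofSpMap a)) :=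
    repByAlgSpWith_atlas _ _ (fun _ _ _ h => isEtaleMor_of_repWith h) F.property a ha
  let e := BasedFunctor.comp e₁ (fpSwap x x)
  have he : IsEquivOver e := isEquivOver_comp he₁ (fpSwap_isEquivOver x x)
  let w₁ := BasedFunctor.comp (BasedFunctor.comp (AlgSt.ofOverCat V) (AlgSt.ofSpMap a)) e₁
  have hR : IsFibGrpd (fp x x).p := isFibGrpd_fp (isFibGrpd_overCat U) (isFibGrpd_overCat U) h𝒳 x x
  obtain ⟨s, ⟨is⟩⟩ := exists_iso_overMap (BasedFunctor.comp w₁ (fpFst x x))
  obtain ⟨t, ⟨it⟩⟩ := exists_iso_overMap (BasedFunctor.comp w₁ (fpSnd x x))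
  have hxsm : AlgSt.RepByAlgSpWith (AlgSp.LocP @Smooth) x := hx
  have hw₁ : AlgSt.RepByAlgSpWith (AlgSp.LocP @Smooth) w₁ := repByAlgSpWith_comp_equiv' hcs he₁
  have hw₁s : AlgSt.RepByAlgSpWith AlgSp.IsSurjectiveMor w₁ := repByAlgSpWith_comp_equiv' hcs' he₁
  have hw₁e : AlgSt.RepByAlgSpWith AlgSp.IsEtaleMor w₁ := repByAlgSpWith_comp_equiv' hce he₁
  have hsS : Smooth s.left := mem_scheme_of_overMap Groth.Agent.AlgSpCov.standard_smooth
    (repByAlgSpWith_of_iso _ is (repByAlgSpWith_comp good_smooth.bc good_smooth.comp good_smooth.det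
      (isFibGrpd_overCat V) hR hw₁ (repByAlgSpWith_fpFst _ _ hxsm)))
  have htS : Smooth t.left := mem_scheme_of_overMap Groth.Agent.AlgSpCov.standard_smooth
    (repByAlgSpWith_of_iso _ it (repByAlgSpWith_comp good_smooth.bc good_smooth.comp good_smooth.det
      (isFibGrpd_overCat V) hR hw₁ (repByAlgSpWith_fpSnd _ _ hxsm)))
  have hss : Surjective s.left := surjective_of_overMap
    (repByAlgSpWith_of_iso _ is (repByAlgSpWith_comp good_surjective.bc good_surjective.comp good_surjective.det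
      (isFibGrpd_overCat V) hR hw₁s (repByAlgSpWith_fpFst _ _ hxs)))
  have H : Slice.TangentRel s.left t.left := tangentRel_of_stack_chart h𝒳 hDM x F e he a ha
    (repByAlgSpWith_comp_equiv' hce he) it is
  obtain ⟨U', q₀, hq, hqs⟩ := Slice.exists_slice U.hom s.left t.left ((Over.w s).trans (Over.w t).symm) H
  let O' : Over S := Over.mk (q₀ ≫ U.hom)
  let q : O' ⟶ U := Over.homMk q₀ rfl
  let x' := BasedFunctor.comp (AlgSt.overMap q) x
  -- the composite of the slice with the first projection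
  obtain ⟨N, hN, ⟨n₁⟩, ⟨n₂⟩⟩ := exists_equiv_pullback t q
  let M := fpMap (F := fpSnd x x) (G := AlgSt.overMap q) (F' := BasedFunctor.comp w₁ (fpSnd x x))
    (G' := AlgSt.overMap q) w₁ (BasedFunctor.id _) (BasedFunctor.id _) (Iso.refl _) (Iso.refl _)
  obtain ⟨C, hC, ⟨c₁⟩, -⟩ := exists_fp_congr it (Iso.refl (AlgSt.overMap q))
  obtain ⟨E, hE, ⟨iE⟩⟩ := exists_fp_assoc x x (AlgSt.overMap q)
  let cov := BasedFunctor.comp (BasedFunctor.comp (BasedFunctor.comp N C) M) E
  have hG : IsFibGrpd (fp x x').p := isFibGrpd_fp (isFibGrpd_overCat U) (isFibGrpd_overCat O') h𝒳 x x'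
  have hcov : ∀ {Q : MorphismProperty (AlgSp.Sp S)}, AlgSt.RepByAlgSpWith Q w₁ → AlgSt.RepByAlgSpWith Q cov :=
    fun hQ => repByAlgSpWith_comp_equiv' (repByAlgSpWith_comp_isEquivOver
      (repByAlgSpWith_fpMap_left _ hQ (fpSnd x x) (AlgSt.overMap q)) (isEquivOver_comp hN hC)) hE
  let p := pullback.fst t q ≫ s
  have hp : Etale p.left ∧ Surjective p.left := by
    have sq := (IsPullback.of_hasPullback t q).map (Over.forget S)
    have e1 : (pullback.fst t q).left = sq.isoPullback.hom ≫ pullback.fst t.left q.left :=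
      sq.isoPullback_hom_fst.symm
    have e2 : p.left = sq.isoPullback.hom ≫ pullback.fst t.left q₀ ≫ s.left := by
      simp only [p, Over.comp_left, e1, Category.assoc]
      rfl
    rw [e2]
    exact ⟨inferInstance, inferInstance⟩
  have icov : BasedFunctor.comp cov (fpFst x x') ≅ AlgSt.overMap p :=
    isoWhiskerLeft (BasedFunctor.comp (BasedFunctor.comp N C) M) iE ≪≫
      isoWhiskerLeft N (isoWhiskerRight c₁ (BasedFunctor.comp w₁ (fpFst x x))) ≪≫
      isoWhiskerRight n₁ (BasedFunctor.comp w₁ (fpFst x x)) ≪≫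
      isoWhiskerLeft (AlgSt.overMap (pullback.fst t q)) is ≪≫ overMapCompIso (pullback.fst t q) s
  have hxT : AlgSt.RepByAlgSp1 x' := (repByAlgSp1_diag_iff h𝒳).1 h.diag O' x'
  have hfst : AlgSt.RepByAlgSp1 (fpFst x x') :=
    repByAlgSp1_iff_with_top.2 (repByAlgSpWith_fpFst _ _ (repByAlgSp1_iff_with_top.1 hxT))
  have hflat : AlgSt.RepByAlgSpWith (AlgSp.LocP @Flat) x := repByAlgSpWith_mono hxsm fun _ _ _ hm A B a b k ha hb e =>
    (have := hm a b k ha hb e; inferInstance : Flat k.left)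
  have hlfp : AlgSt.RepByAlgSpWith (AlgSp.LocP @LocallyOfFinitePresentation) x := repByAlgSpWith_mono hxsm fun _ _ _ hm A B a b k ha hb e =>
    (have := hm a b k ha hb e; inferInstance : LocallyOfFinitePresentation k.left)
  refine ⟨O', x', (repByAlgSpWith_iff_fpFst_cover good_etale.bc (fppfLocal_of_fpqc (Groth.Agent.S10544.result S))
    h𝒳 (isFibGrpd_overCat U) hxT hflat hlfp hxs).2 ?_, ?_⟩
  · refine repByAlgSpWith_of_comp_cover good_etale.bc good_etale.det good_etale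
      (fun V A B hV hA hB b a hb hbs hh => etale_of_cover hV hA hB b a hb hbs hh)
      (isFibGrpd_overCat _) hG hfst (hcov hw₁e) (hcov hw₁s) ?_
    exact repByAlgSpWith_of_iso _ icov.symm
      ((repByAlgSpWith_iff_of_equiv _ (AlgSt.toOverCat _) (AlgSt.toOverCat U)
        (toOverCat_isEquivOver _) (toOverCat_isEquivOver U) (toOverCatIso p)).2
        (repByAlgSpWith_ofSpMap good_etale.bc (isAlgSpace_yon _) (isAlgSpace_yon U) _
          ((AlgSp.isEtaleMor_yon_map_iff p).2 hp.1)))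
  · refine (repByAlgSpWith_iff_fpFst_cover good_surjective.bc fppfLocal_surjective
      h𝒳 (isFibGrpd_overCat U) hxT hflat hlfp hxs).2 ?_
    refine repByAlgSpWith_of_comp_cover good_surjective.bc good_surjective.det good_etale
      (fun V A B hV hA hB b a hb hbs hh => surjective_of_cover b a hh)
      (isFibGrpd_overCat _) hG hfst (hcov hw₁e) (hcov hw₁s) ?_
    exact repByAlgSpWith_of_iso _ icov.symm
      ((repByAlgSpWith_iff_of_equiv _ (AlgSt.toOverCat _) (AlgSt.toOverCat U)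
        (toOverCat_isEquivOver _) (toOverCat_isEquivOver U) (toOverCatIso p)).2
        (repByAlgSpWith_ofSpMap good_surjective.bc (isAlgSpace_yon _) (isAlgSpace_yon U) _
          (isSurjectiveMor_of_repWith ((AlgSp.repWith_yon_map_iff _ _).2 hp.2))))

end Groth.Agent.StFib.SliceDM
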