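import Groth.Agent.StFib.SpectralQuot
import Groth.Agent.StFib.QC2
import Groth.Agent.StFib.LocQBasic
import Groth.Agent.StFib.InertiaDiag
import Groth.Agent.StFib.SliceDMAtlas

/-!
# Points of stacks with quasi-compact diagonal
-/

set_option linter.unusedVariables false
set_option backward.isDefEq.respectTransparency false
set_option backward.isDefEq.respectTransparency.types false

universe u

open CategoryTheory CategoryTheory.Limits AlgebraicGeometry Opposite FibCat

namespace Groth.Agent.StFib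

variable {S : Scheme.{u}} {𝒳 : AlgSt.Cat S}

local notation "K" => Scheme.fppfPrecoverage

theorem isQuasiCompact_fp_self [QuasiSeparatedSpace S] (h : AlgSt.IsAlgStack K 𝒳)
    (hΔ : AlgSt.RepByAlgSpWith AlgSp.IsQuasiCompactMor (diag (toSelf 𝒳))) {U : Over S} [IsAffine U.left]
    (x : overCat U ⥤ᵇ 𝒳) : AlgSt.IsQuasiCompact (fp x x) := by
  let O : Over S := Over.mk (𝟙 S)
  let k : U ⟶ O := Over.homMk U.hom (Category.comp_id _)
  obtain ⟨N, hN, -, -⟩ := exists_equiv_pullback k k
  have hu : ∀ {T : Over S} (a b : T ⟶ O), a = b := fun a b =>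
    Over.OverMorphism.ext (((Category.comp_id _).symm.trans (Over.w a)).trans
      ((Over.w b).symm.trans (Category.comp_id _)))
  have : (toSelf (overCat O)).toFunctor.Faithful := ⟨fun h => Over.OverMorphism.ext h⟩
  have : (toSelf (overCat O)).toFunctor.Full := ⟨fun {a b} g => ⟨Over.homMk g (hu _ _), rfl⟩⟩
  let q : 𝒳 ⥤ᵇ selfOver (C := Over S) := toSelf 𝒳
  let xt := BasedFunctor.comp x q
  obtain ⟨i⟩ := exists_iso_toSelf (BasedFunctor.comp (AlgSt.overMap k) (toSelf (overCat O)))
  obtain ⟨j⟩ := exists_iso_toSelf xt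
  let E := fpMap (F := xt) (G := xt) (F' := AlgSt.overMap k) (G' := AlgSt.overMap k) (BasedFunctor.id _)
    (BasedFunctor.id _) (toSelf (overCat O)) (j ≪≫ i.symm) (j ≪≫ i.symm)
  obtain ⟨d, hd, -, ⟨jd⟩⟩ := isEquivOver_symm (isEquivOver_comp hN
    (fpMap_isEquivOver _ _ _ _ _ (isEquivOver_id _) (isEquivOver_id _) : IsEquivOver E))
  let u : fp x x ⥤ᵇ fp xt xt := fpLift (fpFst x x) (fpSnd x x) (isoWhiskerRight (fpIso x x) q)
  have hu' : AlgSt.RepByAlgSpWith AlgSp.IsQuasiCompactMor u := by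
    have hcart := comp_cart x x q (isoWhiskerRight (fpIso x x) q) fun _ => rfl
    exact (repByAlgSpWith_iff_of_equiv _ _ (BasedFunctor.id _) hcart (isEquivOver_id _)
      (f := fpFst (compPhi x x q) (diag q)) (f' := u) (Iso.refl _)).1 (repByAlgSpWith_fpFst _ _ hΔ)
  have hk := SliceDM.repByAlgSpWith_comp_equiv' hu' hd
  let P := pullback k k
  have hP : CompactSpace P.left := by
    have sq := (IsPullback.of_hasPullback k k).map (Over.forget S)
    have : QuasiCompact U.hom := inferInstance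
    have hkq : QuasiCompact k.left := this
    have : CompactSpace ↥U.left := inferInstance
    have hq : QuasiCompact (pullback.fst k k).left := MorphismProperty.of_isPullback (P := @QuasiCompact) sq.flip hkq
    exact QuasiCompact.compactSpace_of_compactSpace (pullback.fst k k).left
  have h2 := isAlgStack_fp h.isStack h.diag (isAlgStack_overCat (S := S) U) (isAlgStack_overCat U) x x
  have h3 := isQuasiCompactMor_of_rep h2 (isAlgStack_overCat P) hk (overCat P) (isAlgStack_overCat P)
    (isQuasiCompact_overCat P) (BasedFunctor.id _)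
  refine isQuasiCompact_of_surjective
    (isAlgStack_fp (isAlgStack_overCat P).isStack (isAlgStack_overCat (S := S) P).diag (isAlgStack_overCat P) h2
      (BasedFunctor.id _) (BasedFunctor.comp u d)) h2 (f := fpSnd _ (BasedFunctor.comp u d)) ?_ h3
  intro R
  obtain ⟨w, -, hw⟩ := exists_points_fp_of_map_eq h2.isStack.1 (isFibGrpd_overCat P) (isFibGrpd_overCat P)
    (BasedFunctor.comp u d) (BasedFunctor.id _) (AlgSt.Points.map (BasedFunctor.comp u d) R) R
    (congrFun points_map_id _)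
  exact ⟨w, hw⟩

/-- The image of an affine smooth chart is spectral. -/
theorem spectralSpace_of_affine_chart [QuasiSeparatedSpace S] (h : AlgSt.IsAlgStack K 𝒳)
    (hΔ : AlgSt.RepByAlgSpWith AlgSp.IsQuasiCompactMor (diag (toSelf 𝒳))) {U : Over S} [IsAffine U.left]
    {x : overCat U ⥤ᵇ 𝒳} (hx : AlgSt.RepByAlgSpWith (AlgSp.LocP @Smooth) x) {X : Type (u + 1)} [TopologicalSpace X]
    {ι : X → AlgSt.Points 𝒳} (hι : Topology.IsOpenEmbedding ι) {f : U.left → X}
    (hf : ι ∘ f = AlgSt.Points.ofChart x) (hfs : Function.Surjective f) : SpectralSpace X := by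
  have : SpectralSpace ↥U.left := {}
  obtain ⟨W, w, hW, hw, hws⟩ := isQuasiCompact_fp_self h hΔ x
  have hM : IsFibGrpd (fp x x).p := isFibGrpd_fp (isFibGrpd_overCat U) (isFibGrpd_overCat U) h.isStack.1 x x
  obtain ⟨s, ⟨is⟩⟩ := exists_iso_overMap (BasedFunctor.comp w (fpFst x x))
  obtain ⟨t, ⟨it⟩⟩ := exists_iso_overMap (BasedFunctor.comp w (fpSnd x x))
  have htS : Smooth t.left := mem_scheme_of_overMap Groth.Agent.AlgSpCov.standard_smooth
    (repByAlgSpWith_of_iso _ it (repByAlgSpWith_comp good_smooth.bc good_smooth.comp good_smooth.det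
      (isFibGrpd_overCat W) hM hw (repByAlgSpWith_fpSnd _ _ hx)))
  have hopen := isOpenMap_ofChart h (repByAlgSpWith_flat_of_smooth hx) (repByAlgSpWith_lfp_of_smooth hx)
  have hcont := continuous_ofChart h x
  rw [← hf] at hopen hcont
  have : SpectralSpace ↥W.left := {}
  refine spectralSpace_of_qc_relation (U := ↥U.left) (W := ↥W.left) (f := f) (s := s.left) (t := t.left)
    (hι.toIsEmbedding.continuous_iff.2 hcont)
    (fun O hO => by
      have := (hopen O hO).preimage hι.continuous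
      rwa [Set.image_comp, Set.preimage_image_eq _ hι.injective] at this)
    hfs s.left.isSpectralMap t.left.isSpectralMap t.left.isOpenMap (fun z => hι.injective ?_) (fun a b hab => ?_)
  · change (ι ∘ f) (s.left z) = (ι ∘ f) (t.left z)
    rw [hf, ← ofChart_overMap x s z, ← ofChart_overMap x t z]
    exact congrFun (ofChart_congr (isoWhiskerRight is.symm x ≪≫ isoWhiskerLeft w (fpIso x x) ≪≫
      isoWhiskerRight it x)) z
  · have huv : AlgSt.Points.ofChart x a = AlgSt.Points.ofChart x b := by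
      rw [← hf]; exact congrArg ι hab
    rw [ofChart_eq_map, ofChart_eq_map] at huv
    obtain ⟨r, hr₁, hr₂⟩ := exists_points_fp_of_map_eq (isFibGrpd_overCat U) (isFibGrpd_overCat U)
      h.isStack.1 x x (AlgSt.Points.ofChart (BasedFunctor.id _) a)
      (AlgSt.Points.ofChart (BasedFunctor.id _) b) huv
    obtain ⟨z, rfl⟩ := ofChart_surjective hM hws r
    rw [map_ofChart, ofChart_congr is] at hr₁
    rw [map_ofChart, ofChart_congr it] at hr₂
    refine ⟨z, ?_, ?_⟩
    · have := congrArg ptMap hr₁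
      rw [ptMap_ofChart_id] at this
      refine Eq.trans ?_ this
      exact ((congrArg ptMap (ofChart_overMap (BasedFunctor.id (overCat U)) s z)).trans
        (ptMap_ofChart_id _)).symm
    · have := congrArg ptMap hr₂
      rw [ptMap_ofChart_id] at this
      refine Eq.trans ?_ this
      exact ((congrArg ptMap (ofChart_overMap (BasedFunctor.id (overCat U)) t z)).trans
        (ptMap_ofChart_id _)).symm

theorem spectralSpace_points [QuasiSeparatedSpace S] (h : AlgSt.IsAlgStack K 𝒳) (hqc : AlgSt.IsQuasiCompact 𝒳)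
    (hΔ : AlgSt.RepByAlgSpWith AlgSp.IsQuasiCompactMor (diag (toSelf 𝒳))) : SpectralSpace (AlgSt.Points 𝒳) := by
  obtain ⟨U, x, hU, hx, hxs⟩ := hqc
  exact spectralSpace_of_affine_chart h hΔ hx (ι := id) Topology.IsOpenEmbedding.id (Function.id_comp _)
    (ofChart_surjective h.isStack.1 hxs)

theorem exists_spectral_nhd [QuasiSeparatedSpace S] (h : AlgSt.IsAlgStack K 𝒳)
    (hΔ : AlgSt.RepByAlgSpWith AlgSp.IsQuasiCompactMor (diag (toSelf 𝒳))) (P : AlgSt.Points 𝒳) :
    ∃ V : Set (AlgSt.Points 𝒳), IsOpen V ∧ P ∈ V ∧ SpectralSpace ↥V := by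
  obtain ⟨U, z, hz, hzs⟩ := h.atlas
  obtain ⟨t, rfl⟩ := ofChart_surjective h.isStack.1 hzs P
  obtain ⟨_, ⟨O, (hO : IsAffineOpen O), rfl⟩, htO, -⟩ :=
    U.left.isBasis_affineOpens.exists_subset_of_mem_open (Set.mem_univ t) isOpen_univ
  let k : Over.mk ((Scheme.Opens.ι O) ≫ U.hom) ⟶ U := Over.homMk (Scheme.Opens.ι O) rfl
  have : IsAffine (Over.mk ((Scheme.Opens.ι O) ≫ U.hom)).left := hO
  let x := BasedFunctor.comp (AlgSt.overMap k) z
  have hx : AlgSt.RepByAlgSpWith (AlgSp.LocP @Smooth) x :=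
    repByAlgSpWith_comp good_smooth.bc good_smooth.comp good_smooth.det (isFibGrpd_overCat _) (isFibGrpd_overCat _)
      (repByAlgSpWith_overMap_locP Groth.Agent.AlgSpCov.standard_smooth k (inferInstanceAs (Smooth (Scheme.Opens.ι O)))) hz
  have hopen : IsOpen (Set.range (AlgSt.Points.ofChart x)) :=
    (isOpenMap_ofChart h (repByAlgSpWith_flat_of_smooth hx) (repByAlgSpWith_lfp_of_smooth hx)).isOpen_range
  exact ⟨_, hopen, ⟨⟨t, htO⟩, ofChart_overMap z k ⟨t, htO⟩⟩,
    spectralSpace_of_affine_chart h hΔ hx hopen.isOpenEmbedding_subtypeVal (f := Set.rangeFactorization _) rfl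
      Set.rangeFactorization_surjective⟩

theorem sober_points [QuasiSeparatedSpace S] (h : AlgSt.IsAlgStack K 𝒳)
    (hΔ : AlgSt.RepByAlgSpWith AlgSp.IsQuasiCompactMor (diag (toSelf 𝒳))) :
    QuasiSober (AlgSt.Points 𝒳) ∧ T0Space (AlgSt.Points 𝒳) := by
  choose V hV hP hS using exists_spectral_nhd h hΔ
  refine ⟨?_, ⟨fun a b hab => ?_⟩⟩
  · have : ∀ s : Set.range V, QuasiSober (s : Set (AlgSt.Points 𝒳)) := fun ⟨_, a, rfl⟩ => (hS a).toQuasiSober
    exact quasiSober_of_open_cover (Set.range V) (fun ⟨_, a, rfl⟩ => hV a)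
      (Set.eq_univ_of_forall fun a => ⟨V a, ⟨a, rfl⟩, hP a⟩)
  · have := (hS a).toT0Space
    have hb : b ∈ V a := (hab.mem_open_iff (hV a)).1 (hP a)
    exact congrArg Subtype.val (Inseparable.eq (subtype_inseparable_iff ⟨a, hP a⟩ ⟨b, hb⟩ |>.2 hab) :
      (⟨a, hP a⟩ : V a) = ⟨b, hb⟩)

end Groth.Agent.StFib
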