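import Groth.Agent.StFib.SpTorsor
import Groth.Agent.S10105
import Groth.Agent.GITLib.FppfQuot
import Groth.Agent.FibC.Basic
import Groth.Prelude.Def_AlgSt3

/-!
# Sheaf torsors under group algebraic spaces are algebraic spaces
-/

set_option linter.unusedVariables false
set_option backward.isDefEq.respectTransparency false
set_option backward.isDefEq.respectTransparency.types false

universe u

open CategoryTheory CategoryTheory.Limits AlgebraicGeometry Opposite MonoidalCategory CartesianMonoidalCategory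
  MonObj FibCat

namespace Groth.Agent.StFib.SpTors

variable {S : Scheme.{u}} {B : AlgSp.Sp S} {G : Over B} [GrpObj G] {X : Over B} {aX : AlgSp.GAction G X}

local notation "K" => Scheme.fppfPrecoverage

/-- A local section gives a cartesian square with a trivial torsor. -/
theorem exists_section_sq (A : AlgSt.SpQuotObj K G aX) {V : Over S} (f : V ⟶ A.base)
    (s : (AlgSp.yon S).obj V ⟶ A.P.left) (hs : s ≫ A.π.left = (AlgSp.yon S).map f) :
    ∃ top : pullback G.hom (s ≫ A.P.hom) ⟶ A.P.left,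
      IsPullback top (pullback.snd G.hom (s ≫ A.P.hom)) A.π.left ((AlgSp.yon S).map f) := by
  let s' : Over.mk (s ≫ A.P.hom) ⟶ A.P := Over.homMk s rfl
  have h := ((AlgSt.isPullback_whiskerLeft' (G := G) s').paste_horiz A.cart).map (Over.forget B)
  exact ⟨((G ◁ s') ≫ A.act.act).left, hs ▸ h⟩

/-- Torsors under a group algebraic space over an algebraic space are algebraic spaces. -/
theorem isAlgSpace_torsor (hB : AlgSp.IsAlgSpace B) (hG : AlgSp.IsAlgSpace G.left)
    (A : AlgSt.SpQuotObj K G aX) : AlgSp.IsAlgSpace A.P.left := by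
  obtain ⟨R, hR, hsec⟩ := A.loc
  obtain ⟨hcov, hprop⟩ := GITLib.mem_fppfPrecoverage_out hR
  choose W g w hg hw using hcov
  let f : ∀ p, Over.mk (g p ≫ A.base.hom) ⟶ A.base := fun p => Over.homMk (g p) rfl
  refine Groth.Agent.AlgSpB.Art.isAlgSpace_of_fppfCover (AlgSp.IsAlgSpace.yon_obj A.base)
    (fun p => (AlgSp.yon S).obj (Over.mk (g p ≫ A.base.hom))) (fun p => AlgSp.IsAlgSpace.yon_obj _)
    (fun p => (AlgSp.yon S).map (f p)) (fun p => ?_) (fun p => ?_) (fun x => ?_) A.π.left fun p => ?_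
  · exact Groth.Agent.AlgSpCov.locP_of_repWith Groth.Agent.AlgSpCov.etaleLocal_flat
      ((AlgSp.repWith_yon_map_iff _ _).2 (hprop (g p) (hg p)).1)
  · exact Groth.Agent.AlgSpCov.locP_of_repWith Groth.Agent.AlgSpCov.etaleLocal_locallyOfFinitePresentation
      ((AlgSp.repWith_yon_map_iff _ _).2 (hprop (g p) (hg p)).2)
  · obtain ⟨t, rfl⟩ := Groth.Agent.AlgSpB.surjective_ofPt
      (Groth.Agent.AlgSpB.repWith_of_isIso (P := @Surjective) (𝟙 ((AlgSp.yon S).obj A.base))) x
    refine ⟨t, AlgSp.Points.ofPt (𝟙 _) (w t), ?_⟩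
    rw [AlgSp.Points.map_ofPt, Category.id_comp, ← Category.comp_id ((AlgSp.yon S).map (f t))]
    refine (Groth.Agent.AlgSpB.ofPt_map_comp _ _ _).trans ?_
    exact congrArg (AlgSp.Points.ofPt (𝟙 ((AlgSp.yon S).obj A.base))) (hw t)
  · obtain ⟨s, hs⟩ := hsec (g p) (hg p)
    obtain ⟨top, sq⟩ := exists_section_sq A (f p) s hs
    exact (Groth.Agent.AlgSp.isAlgSpace_pullback hB hG (AlgSp.IsAlgSpace.yon_obj _) G.hom (s ≫ A.P.hom)).of_iso
      sq.isoPullback

end Groth.Agent.StFib.SpTors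

namespace Groth.Agent.StFib.SpTors

variable {S : Scheme.{u}} {B : AlgSp.Sp S} {G : Over B} [GrpObj G] {X : Over B} {aX : AlgSp.GAction G X}

theorem isEquivOver_subIncl (hB : AlgSp.IsAlgSpace B) (hG : AlgSp.IsAlgSpace G.left) :
    IsEquivOver (AlgSt.subIncl (AlgSt.SpQuotSt Scheme.fppfPrecoverage G aX) (fun A => AlgSp.IsAlgSpace A.P.left)) := by
  let F := AlgSt.subIncl (AlgSt.SpQuotSt Scheme.fppfPrecoverage G aX) (fun A => AlgSp.IsAlgSpace A.P.left)
  have : F.toFunctor.Full := inferInstanceAs (ObjectProperty.ι _).Full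
  have : F.toFunctor.Faithful := inferInstanceAs (ObjectProperty.ι _).Faithful
  exact Groth.Agent.FibC.isEquivOver_of_fullyFaithful F fun A =>
    ⟨⟨A, isAlgSpace_torsor hB hG A⟩, Iso.refl _, IsHomLift.id rfl⟩

end Groth.Agent.StFib.SpTors
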