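import Groth.Agent.StFib.SpTorsorChart
import Groth.Agent.StFib.SpTorsorSpace
import Groth.Agent.StFib.Test

/-!
# Properties of torsors and of the canonical map to a quotient stack
-/

set_option linter.unusedVariables false
set_option backward.isDefEq.respectTransparency false
set_option backward.isDefEq.respectTransparency.types false

universe u

open CategoryTheory CategoryTheory.Limits AlgebraicGeometry Opposite MonoidalCategory CartesianMonoidalCategory
  MonObj FibCat

namespace Groth.Agent.StFib.SpTors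

variable {S : Scheme.{u}} {B : AlgSp.Sp S} {G : Over B} [GrpObj G] {X : Over B} {aX : AlgSp.GAction G X}

local notation "K" => Scheme.fppfPrecoverage

/-- An fppf covering with sections of a torsor. -/
theorem exists_cover_secs (A : AlgSt.SpQuotObj K G aX) :
    ∃ (J₀ : Type u) (V : J₀ → Over S) (f : ∀ i, V i ⟶ A.base) (s : ∀ i, (AlgSp.yon S).obj (V i) ⟶ A.P.left),
      (∀ i, s i ≫ A.π.left = (AlgSp.yon S).map (f i)) ∧
      AlgSp.IsFppfCover (fun i => (AlgSp.yon S).obj (V i)) (fun i => (AlgSp.yon S).map (f i)) := by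
  obtain ⟨R, hR, hsec⟩ := A.loc
  obtain ⟨hcov, hprop⟩ := GITLib.mem_fppfPrecoverage_out hR
  choose W g w hg hw using hcov
  choose s hs using fun p => hsec (g p) (hg p)
  refine ⟨_, fun p => Over.mk (g p ≫ A.base.hom), fun p => Over.homMk (g p) rfl, s, hs, fun p => ⟨?_, ?_⟩, fun x => ?_⟩
  · exact Groth.Agent.AlgSpCov.locP_of_repWith Groth.Agent.AlgSpCov.etaleLocal_flat
      ((AlgSp.repWith_yon_map_iff _ _).2 (hprop (g p) (hg p)).1)
  · exact Groth.Agent.AlgSpCov.locP_of_repWith Groth.Agent.AlgSpCov.etaleLocal_locallyOfFinitePresentation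
      ((AlgSp.repWith_yon_map_iff _ _).2 (hprop (g p) (hg p)).2)
  · obtain ⟨t, rfl⟩ := Groth.Agent.AlgSpB.surjective_ofPt
      (Groth.Agent.AlgSpB.repWith_of_isIso (P := @Surjective) (𝟙 ((AlgSp.yon S).obj A.base))) x
    refine ⟨t, AlgSp.Points.ofPt (𝟙 _) (w t), ?_⟩
    rw [AlgSp.Points.map_ofPt, Category.id_comp]
    change AlgSp.Points.ofPt ((AlgSp.yon S).map (Over.homMk (g t) rfl : Over.mk (g t ≫ A.base.hom) ⟶ A.base)) (w t) = _
    rw [← Category.comp_id ((AlgSp.yon S).map (Over.homMk (g t) rfl : Over.mk (g t ≫ A.base.hom) ⟶ A.base))]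
    refine (Groth.Agent.AlgSpB.ofPt_map_comp _ _ _).trans ?_
    exact congrArg (AlgSp.Points.ofPt (𝟙 ((AlgSp.yon S).obj A.base))) (hw t)

/-- A torsor has every property of the group which is stable under base change and fppf local on the base. -/
theorem prop_torsor {P : MorphismProperty (AlgSp.Sp S)} (hbc : StableBC P)
    (hloc : AlgSp.IsLocalOnBase AlgSp.IsFppfCover P) (hB : AlgSp.IsAlgSpace B) (hG : AlgSp.IsAlgSpace G.left)
    (hP : P G.hom) (A : AlgSt.SpQuotObj K G aX) : P A.π.left := by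
  obtain ⟨J₀, V, f, s, hs, hc⟩ := exists_cover_secs A
  choose top sq using fun i => exists_section_sq A (f i) (s i) (hs i)
  have hXi : ∀ i, AlgSp.IsAlgSpace (pullback G.hom (s i ≫ A.P.hom)) := fun i =>
    Groth.Agent.AlgSp.isAlgSpace_pullback hB hG (AlgSp.IsAlgSpace.yon_obj _) G.hom (s i ≫ A.P.hom)
  exact (hloc (fun i => (AlgSp.yon S).obj (V i)) _ (AlgSp.IsAlgSpace.yon_obj _) (fun i => AlgSp.IsAlgSpace.yon_obj _)
    hc A.π.left (isAlgSpace_torsor hB hG A) _ (fun i => pullback.snd G.hom (s i ≫ A.P.hom)) top hXi sq).2 fun i =>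
    hbc hG hB (hXi i) (AlgSp.IsAlgSpace.yon_obj _) _ _ _ _ (IsPullback.of_hasPullback G.hom (s i ≫ A.P.hom)) hP

/-- The canonical map to the quotient stack has every such property of the group. -/
theorem repByAlgSpWith_quotMap {P : MorphismProperty (AlgSp.Sp S)} (hbc : StableBC P)
    (hloc : AlgSp.IsLocalOnBase AlgSp.IsFppfCover P) (hB : AlgSp.IsAlgSpace B) (hG : AlgSp.IsAlgSpace G.left)
    (hP : P G.hom) : AlgSt.RepByAlgSpWith P (AlgSt.spQuotMap K G aX) := by
  intro U y
  obtain ⟨e, he, hmap⟩ := exists_fp_quotMap y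
  let A := y.obj (Over.mk (𝟙 U))
  refine ⟨⟨A.P.left, isAlgSpace_torsor hB hG A⟩, e, he, ?_⟩
  rw [hmap]
  have sq : IsPullback (𝟙 A.P.left) (A.π.left ≫ (AlgSp.yon S).map (eqToHom (y.w_obj (Over.mk (𝟙 U))))) A.π.left
      ((AlgSp.yon S).map (eqToHom (y.w_obj (Over.mk (𝟙 U))).symm)) :=
    IsPullback.of_horiz_isIso ⟨by
      rw [Category.id_comp, Category.assoc, ← Functor.map_comp, eqToHom_trans, eqToHom_refl,
        CategoryTheory.Functor.map_id]
      exact (Category.comp_id _).symm⟩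
  exact hbc (isAlgSpace_torsor hB hG A) (AlgSp.IsAlgSpace.yon_obj _) (isAlgSpace_torsor hB hG A)
    (AlgSp.IsAlgSpace.yon_obj _) _ _ _ _ sq (prop_torsor hbc hloc hB hG hP A)

theorem surjective_hom : AlgSp.IsSurjectiveMor G.hom := fun b => by
  let one : 𝟙_ (Over B) ⟶ G := η[G]
  refine ⟨AlgSp.Points.map one.left b, ?_⟩
  rw [← AlgSp.Points.map_comp, Over.w one]
  exact AlgSp.Points.map_id b

end Groth.Agent.StFib.SpTors
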