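import Groth.Agent.StFib.SpTorsorObj

/-!
# Quotient stacks with sheaf torsors: the gluing of objects
-/

set_option linter.unusedVariables false
set_option backward.isDefEq.respectTransparency false
set_option backward.isDefEq.respectTransparency.types false
set_option maxHeartbeats 1600000

universe u

open CategoryTheory CategoryTheory.Limits AlgebraicGeometry Opposite MonoidalCategory CartesianMonoidalCategory
  MonObj FibCat

namespace Groth.Agent.StFib.SpTors

open Groth.Agent.AlgSp (yEquiv yEquiv_map yEquiv_comp hom_ext_yon)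

variable {S : Scheme.{u}} {U : Over S} {R : Sieve U}
variable {B : AlgSp.Sp S} {G : Over B} [GrpObj G] {X : Over B} {aX : AlgSp.GAction G X}

local notation "K" => Scheme.fppfPrecoverage

variable {Φ : Stk.sieveCat R ⥤ᵇ AlgSt.SpQuotSt K G aX}

/-- The base morphism of a member. -/
def baseA (Φ : Stk.sieveCat R ⥤ᵇ AlgSt.SpQuotSt K G aX) (a : (Stk.sieveCat R).obj) : (Φ.obj a).base ⟶ U :=
  eqToHom (Φ.w_obj a) ≫ a.obj.hom

theorem piA_comp (a : (Stk.sieveCat R).obj) :
    piA Φ a ≫ (AlgSp.yon S).map a.obj.hom = (Φ.obj a).π.left ≫ (AlgSp.yon S).map (baseA Φ a) := by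
  rw [baseA, Functor.map_comp, piA, Category.assoc]

theorem exists_bU (Φ : Stk.sieveCat R ⥤ᵇ AlgSt.SpQuotSt K G aX) (hR : R ∈ AlgSp.J S U) :
    ∃ bU : (AlgSp.yon S).obj U ⟶ B, ∀ a, (AlgSp.yon S).map (baseA Φ a) ≫ bU = (Φ.obj a).b := by
  let ba : ∀ a : (Stk.sieveCat R).obj, (AlgSp.yon S).obj a.obj.left ⟶ B := fun a =>
    (AlgSp.yon S).map (eqToHom (Φ.w_obj a).symm) ≫ (Φ.obj a).b
  have hn : ∀ {a b : (Stk.sieveCat R).obj} (φ : a ⟶ b), (AlgSp.yon S).map φ.hom.left ≫ ba b = ba a := fun {a b} φ => by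
    have e : φ.hom.left = eqToHom (Φ.w_obj a).symm ≫ (Φ.map φ).base ≫ eqToHom (Φ.w_obj b) := by
      rw [base_map, eqToHom_trans_assoc, eqToHom_refl]
      exact (Category.id_comp _).symm
    rw [e, ← Category.assoc ((AlgSp.yon S).map _), ← Functor.map_comp, Category.assoc, Category.assoc, eqToHom_trans,
      eqToHom_refl, Category.comp_id, Functor.map_comp, Category.assoc, (Φ.map φ).wb]
  let ob : ∀ {V : Over S} (f : V ⟶ U), R f → (Stk.sieveCat R).obj := fun f hf => ⟨Over.mk f, hf⟩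
  obtain ⟨bU, hb⟩ := Glue.exists_glue hR (fun V f hf => ba (ob f hf)) (fun V W g f hf =>
    hn (a := ob (g ≫ f) (R.downward_closed hf g)) (b := ob f hf) (ObjectProperty.homMk (Over.homMk g rfl)))
  refine ⟨bU, fun a => ?_⟩
  rw [baseA, Functor.map_comp, Category.assoc, hb a.obj.hom a.property, ← Category.assoc, ← Functor.map_comp]
  change (AlgSp.yon S).map (eqToHom _ ≫ eqToHom _) ≫ (Φ.obj a).b = _
  rw [eqToHom_trans, eqToHom_refl, CategoryTheory.Functor.map_id, Category.id_comp]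

variable {bU : (AlgSp.yon S).obj U ⟶ B} {P : Over B} (π : P ⟶ Over.mk bU)
  (inc : ∀ a, (Φ.obj a).P ⟶ P)
  (hT : ∀ {a b : (Stk.sieveCat R).obj} (φ : a ⟶ b), (Φ.map φ).top ≫ inc b = inc a)
  (sq : ∀ a, IsPullback (inc a).left (piA Φ a) π.left ((AlgSp.yon S).map a.obj.hom))

/-- The glued sheaf tensored with an object. -/
noncomputable def covZ (Z : Over B) : Cov R where
  P := (Z ⊗ P).left
  π := (snd Z P).left ≫ π.left
  Pa a := (Z ⊗ (Φ.obj a).P).left
  πa a := (snd Z (Φ.obj a).P).left ≫ piA Φ a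
  inc a := (Z ◁ inc a).left
  T φ := (Z ◁ (Φ.map φ).top).left
  hT φ := by rw [← Over.comp_left, ← MonoidalCategory.whiskerLeft_comp, hT]
  hTπ φ := by
    rw [← Category.assoc, ← Over.comp_left, whiskerLeft_snd, Over.comp_left, Category.assoc, top_piA, Category.assoc]
  sq a := ((AlgSt.isPullback_whiskerLeft' (G := Z) (inc a)).map (Over.forget B)).paste_vert (sq a)

/-- The glued sheaf. -/
noncomputable def cov₀ : Cov R where
  P := P.left
  π := π.left
  Pa a := (Φ.obj a).P.left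
  πa := piA Φ
  inc a := (inc a).left
  T φ := (Φ.map φ).top.left
  hT φ := by rw [← Over.comp_left, hT]
  hTπ φ := top_piA Φ φ
  sq := sq

include hT sq

theorem hom_extZ (hR : R ∈ AlgSp.J S U) {Z Y : Over B} {k k' : Z ⊗ P ⟶ Y}
    (h : ∀ a, (Z ◁ inc a) ≫ k = (Z ◁ inc a) ≫ k') : k = k' :=
  Over.OverMorphism.ext ((covZ π inc hT sq Z).hom_ext hR fun a => by
    change _ ≫ k.left = _ ≫ k'.left
    exact congrArg (fun m => m.left) (h a))

theorem hom_ext₀ (hR : R ∈ AlgSp.J S U) {Y : Over B} {k k' : P ⟶ Y}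
    (h : ∀ a, inc a ≫ k = inc a ≫ k') : k = k' :=
  Over.OverMorphism.ext ((cov₀ π inc hT sq).hom_ext hR fun a => by
    change _ ≫ k.left = _ ≫ k'.left
    exact congrArg (fun m => m.left) (h a))

theorem exists_act (hR : R ∈ AlgSp.J S U) :
    ∃ act : G ⊗ P ⟶ P, ∀ a, (G ◁ inc a) ≫ act = (Φ.obj a).act.act ≫ inc a := by
  obtain ⟨k, hk⟩ := (covZ π inc hT sq G).exists_desc hR (fun a => ((Φ.obj a).act.act ≫ inc a).left) (fun {a b} φ => by
    change (G ◁ (Φ.map φ).top).left ≫ _ = _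
    rw [← Over.comp_left, ← Category.assoc, ← (Φ.map φ).eqv, Category.assoc, hT])
  have hw : k ≫ P.hom = (G ⊗ P).hom := (covZ π inc hT sq G).hom_ext hR fun a => by
    rw [← Category.assoc, hk]
    exact (Over.w _).trans (Over.w (G ◁ inc a)).symm
  exact ⟨Over.homMk k hw, fun a => Over.OverMorphism.ext (hk a)⟩

theorem exists_phi (hR : R ∈ AlgSp.J S U) : ∃ φ : P ⟶ X, ∀ a, inc a ≫ φ = (Φ.obj a).φ := by
  obtain ⟨k, hk⟩ := (cov₀ π inc hT sq).exists_desc hR (fun a => (Φ.obj a).φ.left) (fun {a b} φ => by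
    change (Φ.map φ).top.left ≫ _ = _
    rw [← Over.comp_left, (Φ.map φ).wφ])
  have hw : k ≫ X.hom = P.hom := (cov₀ π inc hT sq).hom_ext hR fun a => by
    rw [← Category.assoc, hk]
    exact (Over.w _).trans (Over.w (inc a)).symm
  exact ⟨Over.homMk k hw, fun a => Over.OverMorphism.ext (hk a)⟩

theorem isPullback_act (hR : R ∈ AlgSp.J S U) {act : G ⊗ P ⟶ P}
    (hact : ∀ a, (G ◁ inc a) ≫ act = (Φ.obj a).act.act ≫ inc a) : IsPullback act (snd G P) π π := by
  have hact' : ∀ a, (G ◁ inc a).left ≫ act.left = (Φ.obj a).act.act.left ≫ (inc a).left := fun a => by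
    rw [← Over.comp_left, hact, Over.comp_left]
  have hsnd : ∀ a, (G ◁ inc a).left ≫ (snd G P).left = (snd G (Φ.obj a).P).left ≫ (inc a).left := fun a => by
    rw [← Over.comp_left, whiskerLeft_snd, Over.comp_left]
  have hcart : ∀ a, IsPullback (Φ.obj a).act.act.left (snd G (Φ.obj a).P).left (piA Φ a) (piA Φ a) := fun a =>
    ((Φ.obj a).cart.map (Over.forget B)).of_iso (Iso.refl _) (Iso.refl _) (Iso.refl _)
      ((AlgSp.yon S).mapIso (eqToIso (Φ.w_obj a))) (by simp) (by simp) (by simp [piA]) (by simp [piA])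
  have hw : act ≫ π = snd G P ≫ π := hom_extZ π inc hT sq hR fun a => by
    rw [reassoc_of% hact, whiskerLeft_snd_assoc]
    refine Over.OverMorphism.ext ?_
    simp only [Over.comp_left, (sq a).w]
    rw [reassoc_of% (hcart a).w]
  refine Glue.isPullback_over_of_points hw fun V p q hpq => ?_
  obtain ⟨t, ht⟩ := (AlgSp.yon S).map_surjective (q ≫ π.left)
  have key : ∀ {W : Over S} (f : W ⟶ V), R (f ≫ t) → ∃! l : (AlgSp.yon S).obj W ⟶ (G ⊗ P).left,
      l ≫ act.left = (AlgSp.yon S).map f ≫ p ∧ l ≫ (snd G P).left = (AlgSp.yon S).map f ≫ q := by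
    intro W f hf
    let a : (Stk.sieveCat R).obj := ⟨Over.mk (f ≫ t), hf⟩
    have hq : ((AlgSp.yon S).map f ≫ q) ≫ π.left = 𝟙 _ ≫ (AlgSp.yon S).map a.obj.hom := by
      rw [Category.assoc, ← ht, ← Functor.map_comp]; exact (Category.id_comp _).symm
    have hp : ((AlgSp.yon S).map f ≫ p) ≫ π.left = 𝟙 _ ≫ (AlgSp.yon S).map a.obj.hom := by
      rw [Category.assoc, hpq, ← Category.assoc]; exact hq
    obtain ⟨qa, hqa, hqaπ⟩ := (sq a).exists_lift _ _ hq
    obtain ⟨pa, hpa, hpaπ⟩ := (sq a).exists_lift _ _ hp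
    obtain ⟨la, hla, hlas⟩ := (hcart a).exists_lift pa qa (hpaπ.trans hqaπ.symm)
    refine ⟨la ≫ (G ◁ inc a).left, ⟨?_, ?_⟩, ?_⟩
    · rw [Category.assoc, hact', reassoc_of% hla, hpa]
    · rw [Category.assoc, hsnd, reassoc_of% hlas, hqa]
    · rintro l ⟨hl, hls⟩
      obtain ⟨m, hm, hmπ⟩ := ((covZ π inc hT sq G).sq a).exists_lift l (𝟙 _) (by
        change l ≫ (snd G P).left ≫ π.left = _
        rw [reassoc_of% hls]; exact (Category.assoc _ _ _).symm.trans hq)
      have hmπ' : m ≫ (snd G (Φ.obj a).P).left ≫ piA Φ a = 𝟙 _ := hmπ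
      have hm' : m ≫ (G ◁ inc a).left = l := hm
      rw [← hm']
      congr 1
      apply (hcart a).hom_ext
      · apply (sq a).hom_ext
        · rw [Category.assoc, ← hact', reassoc_of% hm', hl, hla, hpa]
        · rw [Category.assoc, (hcart a).w, hmπ', hla, hpaπ]
          rfl
      · apply (sq a).hom_ext
        · rw [Category.assoc, ← hsnd, reassoc_of% hm', hls, hlas, hqa]
        · rw [Category.assoc, hmπ', hlas, hqaπ]
          rfl
  choose l hl hlu using @key
  obtain ⟨L, hL⟩ := Glue.exists_glue ((AlgSp.J S).pullback_stable t hR) (fun W f hf => l f hf)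
    (fun W W' g f hf => hlu _ _ _ ⟨by rw [Category.assoc, (hl f hf).1, ← Category.assoc, ← Functor.map_comp],
      by rw [Category.assoc, (hl f hf).2, ← Category.assoc, ← Functor.map_comp]⟩)
  refine ⟨L, ⟨?_, ?_⟩, fun L' ⟨h1, h2⟩ => ?_⟩
  · apply Glue.ext_of_cover ((AlgSp.J S).pullback_stable t hR)
    intro W f hf
    rw [← Category.assoc, hL f hf, (hl f hf).1]
  · apply Glue.ext_of_cover ((AlgSp.J S).pullback_stable t hR)
    intro W f hf
    rw [← Category.assoc, hL f hf, (hl f hf).2]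
  · apply Glue.ext_of_cover ((AlgSp.J S).pullback_stable t hR)
    intro W f hf
    rw [hL f hf]
    exact hlu f hf _ ⟨(Category.assoc _ _ _).trans (congrArg (_ ≫ ·) h1),
      (Category.assoc _ _ _).trans (congrArg (_ ≫ ·) h2)⟩

theorem loc_glue (hR : R ∈ AlgSp.J S U) : secSieve π.left ∈ AlgSp.J S U := by
  refine (AlgSp.J S).transitive hR _ fun V f hf => ?_
  let a : (Stk.sieveCat R).obj := ⟨Over.mk f, hf⟩
  refine GrothendieckTopology.superset_covering _ ?_
    ((AlgSp.J S).pullback_stable (eqToHom (Φ.w_obj a).symm : V ⟶ (Φ.obj a).base) ((hasSecLoc_iff _).1 (Φ.obj a).loc))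
  rintro W g ⟨s, hs⟩
  refine ⟨s ≫ (inc a).left, ?_⟩
  rw [Category.assoc, (sq a).w, piA_comp, reassoc_of% hs, ← Functor.map_comp, baseA, Category.assoc,
    eqToHom_trans_assoc, eqToHom_refl]
  exact congrArg (AlgSp.yon S).map (congrArg (g ≫ ·) (Category.id_comp f))

omit hT sq

theorem objGlue (hR : R ∈ AlgSp.J S U) : ObjGlue (AlgSt.SpQuotSt K G aX) R := by
  intro Φ
  obtain ⟨π₀, inc₀, hT₀, sq⟩ := exists_cov_data Φ
  obtain ⟨bU, hbU⟩ := exists_bU Φ hR
  let P : Over B := Over.mk (π₀ ≫ bU)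
  let π : P ⟶ Over.mk bU := Over.homMk π₀ rfl
  let inc : ∀ a, (Φ.obj a).P ⟶ P := fun a => Over.homMk (inc₀ a) (by
    change inc₀ a ≫ π₀ ≫ bU = _
    rw [reassoc_of% (sq a).w, reassoc_of% (piA_comp a), hbU]
    exact Over.w (Φ.obj a).π)
  have hT : ∀ {a b : (Stk.sieveCat R).obj} (φ : a ⟶ b), (Φ.map φ).top ≫ inc b = inc a := fun φ =>
    Over.OverMorphism.ext (hT₀ φ)
  obtain ⟨act, hact⟩ := exists_act π inc hT sq hR
  obtain ⟨φ, hφ⟩ := exists_phi π inc hT sq hR
  let A : AlgSt.SpQuotObj K G aX :=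
    { base := U
      b := bU
      P := P
      act :=
        { act := act
          one_act := hom_extZ π inc hT sq hR fun a => by
            rw [whisker_exchange_assoc, hact, leftUnitor_naturality, reassoc_of% (Φ.obj a).act.one_act]
          mul_act := hom_extZ π inc hT sq hR fun a => by
            rw [whisker_exchange_assoc, hact, reassoc_of% (Φ.obj a).act.mul_act, associator_naturality_right_assoc,
              ← MonoidalCategory.whiskerLeft_comp_assoc, hact, MonoidalCategory.whiskerLeft_comp, Category.assoc,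
              hact] }
      π := π
      cart := isPullback_act π inc hT sq hR hact
      loc := (hasSecLoc_iff _).2 (loc_glue π inc hT sq hR)
      φ := φ
      eqv := hom_extZ π inc hT sq hR fun a => by
        rw [reassoc_of% hact, hφ, (Φ.obj a).eqv, ← MonoidalCategory.whiskerLeft_comp_assoc, hφ] }
  have hcart : ∀ a, IsPullback (inc a) (Φ.obj a).π π (AlgSt.bHom (baseA Φ a) (hbU a)) := fun a => by
    refine IsPullback.of_map (Over.forget B) (Over.OverMorphism.ext ((sq a).w.trans (piA_comp a))) ?_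
    exact (sq a).of_iso (Iso.refl _) (Iso.refl _) ((AlgSp.yon S).mapIso (eqToIso (Φ.w_obj a).symm)) (Iso.refl _)
      (by simp [inc]) (by simp [piA, eqToHom_map]) (by simp [π]) (by simp [baseA, eqToHom_map])
  let muA : ∀ a, Φ.obj a ⟶ A := fun a =>
    { base := baseA Φ a
      wb := hbU a
      top := inc a
      eqv := (hact a).symm
      cart := hcart a
      wφ := hφ a }
  refine ⟨A, rfl, muA, fun a => Category.comp_id _, fun a b ψ => AlgSt.SpQuotObj.hom_ext ?_ (hT ψ)⟩
  change (Φ.map ψ).base ≫ eqToHom _ ≫ b.obj.hom = eqToHom _ ≫ a.obj.hom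
  rw [reassoc_of% (base_map Φ ψ), Over.w ψ.hom]

theorem isStack : Stk.IsStack (AlgSp.J S) (AlgSt.SpQuotSt K G aX) :=
  ⟨isFibGrpd, fun U R hR => isStackFor_of_glue isFibGrpd R (morGlue R hR) (objGlue hR)⟩

end Groth.Agent.StFib.SpTors
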