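import Groth.Agent.StFib.QuotBridgeBase
import Groth.Agent.StFib.SpTorsorStack
import Groth.Agent.StFib.SpTorsorProps
import Groth.Agent.StFib.Affine
import Groth.Agent.StFib.DiagLft
import Groth.Agent.S10533
import Groth.Agent.AlgSp.AffineMor
import Groth.Agent.FibC.Basic

/-!
# Quotient stacks with scheme torsors as quotient stacks with sheaf torsors
-/

set_option linter.unusedVariables false
set_option backward.isDefEq.respectTransparency false
set_option backward.isDefEq.respectTransparency.types false
set_option maxHeartbeats 1600000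

universe u

open CategoryTheory CategoryTheory.Limits AlgebraicGeometry Opposite MonoidalCategory CartesianMonoidalCategory
  MonObj FibCat

namespace Groth.Agent.StFib.QuotBr

variable {S : Scheme.{u}} {G X : Over S} [GrpObj G] {aX : AlgGrp.Action G X}

local notation "K" => Scheme.fppfPrecoverage

theorem whisker_map {Y Z : Over S} (f : Y ⟶ Z) :
    ((toH S).obj G ◁ (toH S).map f) ≫ Functor.LaxMonoidal.μ (toH S) G Z =
      Functor.LaxMonoidal.μ (toH S) G Y ≫ (toH S).map (G ◁ f) :=
  Functor.LaxMonoidal.μ_natural_right _ _ _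

theorem toH_hom_ext {T : Over S} {Z : Over (hS S)} (f g : Z ⟶ (toH S).obj T) (h : f.left = g.left) : f = g :=
  Over.OverMorphism.ext h

/-- An object with a scheme torsor, as an object with a sheaf torsor. -/
noncomputable def objE (A : AlgSt.QuotObj K G aX) : AlgSt.SpQuotObj K ((toH S).obj G) (actH aX) where
  base := A.base
  b := (hSTerminal S).from _
  P := (toH S).obj A.P
  act := actH A.act
  π := (toH S).map A.π
  cart := (A.cart.map (toH S)).of_iso (Functor.Monoidal.μIso (toH S) G A.P).symm (Iso.refl _) (Iso.refl _) (Iso.refl _)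
    (by simp [actH_act])
    (by simp)
    (by simp only [Iso.refl_hom, Category.comp_id, Category.id_comp])
    (by simp only [Iso.refl_hom, Category.comp_id, Category.id_comp])
  loc := by
    obtain ⟨R, hR, hs⟩ := A.loc
    refine ⟨R, hR, fun T' f hf => ?_⟩
    obtain ⟨s, hs⟩ := hs f hf
    have hs' : s ≫ A.π.left = f := hs
    refine ⟨(AlgSp.yon S).map (Over.homMk s (by
      rw [← Over.w A.π, ← Category.assoc, hs']; rfl) : Over.mk (f ≫ A.base.hom) ⟶ A.P), ?_⟩
    change (AlgSp.yon S).map _ ≫ (AlgSp.yon S).map A.π = _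
    rw [← Functor.map_comp]
    exact congrArg (AlgSp.yon S).map (Over.OverMorphism.ext hs')
  φ := (toH S).map A.φ
  eqv := by
    rw [actH_act, actH_act, Category.assoc, ← Functor.map_comp, A.eqv, Functor.map_comp, ← Category.assoc,
      ← whisker_map, Category.assoc]

/-- A morphism of scheme torsors, as a morphism of sheaf torsors. -/
noncomputable def homE {A A' : AlgSt.QuotObj K G aX} (f : A ⟶ A') : objE A ⟶ objE A' where
  base := f.base
  wb := (hSTerminal S).hom_ext _ _
  top := (toH S).map f.top
  eqv := by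
    change (actH A.act).act ≫ _ = _ ≫ (actH A'.act).act
    rw [actH_act, actH_act, Category.assoc, ← Functor.map_comp, f.eqv, Functor.map_comp, ← Category.assoc,
      ← whisker_map, Category.assoc]
  cart := f.cart.map (toH S)
  wφ := ((toH S).map_comp _ _).symm.trans (congrArg (toH S).map f.wφ)

variable (aX) in
/-- The comparison functor. -/
noncomputable def E : AlgSt.QuotSt K G aX ⥤ᵇ AlgSt.SpQuotSt K ((toH S).obj G) (actH aX) where
  toFunctor :=
    { obj := objE
      map := homE
      map_id := fun A => AlgSt.SpQuotObj.hom_ext rfl ((toH S).map_id _)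
      map_comp := fun f g => AlgSt.SpQuotObj.hom_ext rfl ((toH S).map_comp _ _) }
  w := rfl

instance : (E aX).toFunctor.Faithful :=
  ⟨fun {A A'} f g h => AlgSt.QuotObj.hom_ext (congrArg (fun k => k.base) h)
    ((toH S).map_injective (congrArg (fun k => k.top) h))⟩

instance : (E aX).toFunctor.Full := ⟨fun {A A'} f => by
  obtain ⟨top, htop⟩ := (toH S).map_surjective f.top
  have hbase : (toH S).map f.base = AlgSt.bHom f.base f.wb := Over.OverMorphism.ext rfl
  have e : (toH S).map A.act.act ≫ (toH S).map top =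
      (toH S).map (G ◁ top) ≫ (toH S).map A'.act.act := by
    have := f.eqv
    rw [← htop] at this
    change (actH A.act).act ≫ _ = _ ≫ (actH A'.act).act at this
    rw [actH_act, actH_act] at this
    exact (cancel_epi _).1 ((Category.assoc _ _ _).symm.trans (this.trans ((Category.assoc _ _ _).symm.trans
      ((congrArg (· ≫ (toH S).map A'.act.act) (whisker_map top)).trans (Category.assoc _ _ _)))))
  refine ⟨⟨f.base, top, (toH S).map_injective (by rw [Functor.map_comp, Functor.map_comp, e]), ?_, ?_⟩,
    AlgSt.SpQuotObj.hom_ext rfl htop⟩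
  · refine IsPullback.of_map_of_faithful (toH S) ?_
    rw [htop, hbase]
    exact f.cart
  · apply (toH S).map_injective
    rw [Functor.map_comp, htop]
    exact f.wφ⟩

theorem isAffineMor_hom [IsAffineHom G.hom] : AlgSp.IsAffineMor ((toH S).obj G).hom := by
  refine (Groth.Agent.AlgSp.isAffineMor_iff _).2 ?_
  rw [show ((toH S).obj G).hom = (AlgSp.yon S).map (Over.homMk G.hom (Category.comp_id _) : G ⟶ Over.mk (𝟙 S)) from
    (hSTerminal S).hom_ext _ _, AlgSp.repWith_yon_map_iff]
  assumption

theorem fppfLocal_affine : AlgSp.IsLocalOnBase AlgSp.IsFppfCover (AlgSp.IsAffineMor (S := S)) :=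
  fppfLocal_of_fpqc (Groth.Agent.S10533.result S)

theorem isAlgSpace_hS : AlgSp.IsAlgSpace (hS S) := AlgSp.IsAlgSpace.yon_obj _

theorem isAlgSpace_toH (T : Over S) : AlgSp.IsAlgSpace ((toH S).obj T).left := AlgSp.IsAlgSpace.yon_obj _

/-- Sheaf torsors under an affine group scheme are schemes. -/
theorem exists_rep [IsAffineHom G.hom] (A : AlgSt.SpQuotObj K ((toH S).obj G) (actH aX)) :
    ∃ (P : Over S), Nonempty ((toH S).obj P ≅ A.P) := by
  have h := SpTors.prop_torsor good_affine.bc fppfLocal_affine isAlgSpace_hS (isAlgSpace_toH G) isAffineMor_hom A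
  obtain ⟨W, w, fst, sq⟩ := ((Groth.Agent.AlgSp.isAffineMor_iff _).1 h).1 (𝟙 ((AlgSp.yon S).obj A.base))
  have := sq.isIso_fst_of_isIso
  exact ⟨W, ⟨Over.isoMk (asIso fst) ((hSTerminal S).hom_ext _ _)⟩⟩

theorem exists_obj [IsAffineHom G.hom] (A : AlgSt.SpQuotObj K ((toH S).obj G) (actH aX)) :
    ∃ (A₀ : AlgSt.QuotObj K G aX) (e : objE A₀ ≅ A), Vert (𝒳 := AlgSt.SpQuotSt K ((toH S).obj G) (actH aX)) e.hom := by
  obtain ⟨P, ⟨i⟩⟩ := exists_rep A
  let m := Functor.LaxMonoidal.μ (toH S) G P
  let b : AlgSp.GAction ((toH S).obj G) ((toH S).obj P) :=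
    { act := ((toH S).obj G ◁ i.hom) ≫ A.act.act ≫ i.inv
      one_act := by
        rw [← whisker_exchange_assoc, reassoc_of% A.act.one_act, leftUnitor_naturality_assoc, Iso.hom_inv_id,
          Category.comp_id]
      mul_act := by
        rw [← whisker_exchange_assoc, reassoc_of% A.act.mul_act, associator_naturality_right_assoc,
          ← MonoidalCategory.whiskerLeft_comp_assoc ((toH S).obj G), ← MonoidalCategory.whiskerLeft_comp_assoc ((toH S).obj G)]
        simp only [Category.assoc, Iso.inv_hom_id, Category.comp_id] }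
  obtain ⟨act₀, hact₀⟩ := exists_actH b
  let ib : Over.mk A.b ⟶ (toH S).obj A.base := Over.homMk (𝟙 _) ((hSTerminal S).hom_ext _ _)
  obtain ⟨π, hπ⟩ := (toH S).map_surjective (i.hom ≫ A.π ≫ ib)
  obtain ⟨φ, hφ⟩ := (toH S).map_surjective (i.hom ≫ A.φ)
  have hact : m ≫ (toH S).map act₀.act = ((toH S).obj G ◁ i.hom) ≫ A.act.act ≫ i.inv := hact₀
  let A₀ : AlgSt.QuotObj K G aX :=
    { base := A.base
      P := P
      act := act₀
      π := π
      cart := by
        refine IsPullback.of_map_of_faithful (toH S) ?_
        refine A.cart.of_iso ((whiskerLeftIso _ i.symm) ≪≫ Functor.Monoidal.μIso (toH S) G P) i.symm i.symm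
          (Over.isoMk (Iso.refl _) ((hSTerminal S).hom_ext _ _)) ?_ ?_ ?_ ?_
        · change _ = (((toH S).obj G ◁ i.inv) ≫ m) ≫ (toH S).map act₀.act
          rw [Category.assoc, hact, ← MonoidalCategory.whiskerLeft_comp_assoc, i.inv_hom_id,
            MonoidalCategory.whiskerLeft_id, Category.id_comp]
          rfl
        · simp
        · simp only [Iso.symm_hom, hπ, Iso.inv_hom_id_assoc]
          exact congrArg (A.π ≫ ·) (Over.OverMorphism.ext rfl)
        · simp only [Iso.symm_hom, hπ, Iso.inv_hom_id_assoc]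
          exact congrArg (A.π ≫ ·) (Over.OverMorphism.ext rfl)
      loc := by
        obtain ⟨R, hR, hs⟩ := A.loc
        refine ⟨R, hR, fun T' f hf => ?_⟩
        obtain ⟨s, hs⟩ := hs f hf
        obtain ⟨σ, hσ⟩ := (AlgSp.yon S).map_surjective (s ≫ i.inv.left)
        refine ⟨σ.left, ?_⟩
        have : σ ≫ π = (Over.homMk f rfl : Over.mk (f ≫ A.base.hom) ⟶ A.base) := by
          apply (AlgSp.yon S).map_injective
          rw [Functor.map_comp, hσ, ← hs]
          have e := congrArg (fun k => k.left) hπ
          change (AlgSp.yon S).map π = i.hom.left ≫ A.π.left ≫ 𝟙 _ at e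
          rw [e, Category.assoc, ← Category.assoc i.inv.left, ← Over.comp_left, i.inv_hom_id]
          simp
        exact congrArg (fun k => k.left) this
      φ := φ
      eqv := by
        apply (toH S).map_injective
        rw [Functor.map_comp, Functor.map_comp, ← cancel_epi m, ← Category.assoc, hact, hφ, ← Category.assoc m,
          ← whisker_map, hφ]
        have := A.eqv
        rw [actH_act] at this
        simp only [Category.assoc, Iso.inv_hom_id_assoc, this, MonoidalCategory.whiskerLeft_comp] }
  have hb : (objE A₀).b = A.b := (hSTerminal S).hom_ext _ _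
  let f : objE A₀ ⟶ A :=
    { base := 𝟙 A.base
      wb := (hSTerminal S).hom_ext _ _
      top := i.hom
      eqv := by
        change (actH act₀).act ≫ i.hom = ((toH S).obj G ◁ i.hom) ≫ A.act.act
        rw [actH_act]
        change (m ≫ (toH S).map act₀.act) ≫ i.hom = _
        rw [hact]
        simp
      cart := by
        have hib : IsIso (AlgSt.bHom (b := (objE A₀).b) (b' := A.b) (𝟙 A.base) ((hSTerminal S).hom_ext _ _)) := by
          have : IsIso ((Over.forget (hS S)).map
              (AlgSt.bHom (b := (objE A₀).b) (b' := A.b) (𝟙 A.base) ((hSTerminal S).hom_ext _ _))) := by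
            change IsIso ((AlgSp.yon S).map (𝟙 A.base))
            infer_instance
          exact isIso_of_reflects_iso _ (Over.forget (hS S))
        refine @IsPullback.of_horiz_isIso _ _ _ _ _ _ _ _ _ _ _ hib ⟨?_⟩
        have e := congrArg (fun k => k.left) hπ
        change (AlgSp.yon S).map π = i.hom.left ≫ A.π.left ≫ 𝟙 _ at e
        refine Over.OverMorphism.ext ?_
        change i.hom.left ≫ A.π.left = (AlgSp.yon S).map π ≫ (AlgSp.yon S).map (𝟙 A.base)
        rw [e]
        simp
      wφ := hφ.symm }
  have hf : Vert (𝒳 := AlgSt.SpQuotSt K ((toH S).obj G) (actH aX)) f := ⟨rfl, rfl⟩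
  have := hf.isIso SpTors.isFibGrpd
  exact ⟨A₀, asIso f, hf⟩

/-- For an affine group scheme the two quotient stacks agree. -/
theorem isEquivOver_E [IsAffineHom G.hom] : IsEquivOver (E aX) :=
  Groth.Agent.FibC.isEquivOver_of_fullyFaithful (E aX) fun A => by
    obtain ⟨A₀, e, he⟩ := exists_obj A
    exact ⟨A₀, e, Vert.isHomLift he he.base_eq⟩

theorem isStack [IsAffineHom G.hom] : Stk.IsStack (QuotSh.J Scheme.fppfPrecoverage S) (AlgSt.QuotSt K G aX) :=
  (isStack_iff_of_isEquivOver _ isEquivOver_E).2 SpTors.isStack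

end Groth.Agent.StFib.QuotBr
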