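import Groth.Agent.StFib.Basic
import Groth.Agent.StFib.Grpd
import Groth.Prelude.Def_AlgSt5

/-!
# Maps out of trivial torsors in the quotient category with scheme torsors
-/

set_option linter.unusedVariables false
set_option backward.isDefEq.respectTransparency false
set_option backward.isDefEq.respectTransparency.types false

universe u

open CategoryTheory CategoryTheory.Limits AlgebraicGeometry MonoidalCategory CartesianMonoidalCategory
  MonObj GrpObj FibCat

namespace Groth.Agent.StFib.QuotTriv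

variable {S : Scheme.{u}} {G X : Over S} [GrpObj G]

theorem act_one {P : Over S} (a : AlgGrp.Action G P) {W : Over S} (x : W ⟶ P) :
    lift (1 : W ⟶ G) x ≫ a.act = x := by
  have h : lift (1 : W ⟶ G) x = lift (toUnit W) x ≫ η[G] ▷ P := by
    rw [lift_whiskerRight, ← Hom.one_def]
  rw [h, Category.assoc, a.one_act, lift_leftUnitor_hom]

theorem act_mul {P : Over S} (a : AlgGrp.Action G P) {W : Over S} (g h : W ⟶ G) (x : W ⟶ P) :
    lift (g * h) x ≫ a.act = lift g (lift h x ≫ a.act) ≫ a.act := by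
  have e : lift (g * h) x = lift (lift g h) x ≫ μ[G] ▷ P := by
    rw [lift_whiskerRight, ← Hom.mul_def]
  rw [e, Category.assoc, a.mul_act, lift_lift_associator_hom_assoc, lift_whiskerLeft_assoc]

theorem lift_leftMul {T W : Over S} (a b : W ⟶ G) (t : W ⟶ T) :
    lift a (lift b t) ≫ (AlgSt.leftMul G T).act = lift (a * b) t := by
  simp only [AlgSt.leftMul, comp_lift, comp_mul, lift_fst, lift_snd, lift_snd_assoc, lift_fst_assoc]

/-- An equivariant map out of a trivial torsor is determined by the image of the unit section. -/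
theorem eq_of_equivariant {T P : Over S} (a : AlgGrp.Action G P) (f : G ⊗ T ⟶ P)
    (h : (AlgSt.leftMul G T).act ≫ f = (G ◁ f) ≫ a.act) :
    f = (G ◁ (lift (1 : T ⟶ G) (𝟙 T) ≫ f)) ≫ a.act := by
  have h1 := (G ◁ lift (1 : T ⟶ G) (𝟙 T)) ≫= h
  have h2 : (G ◁ lift (1 : T ⟶ G) (𝟙 T)) ≫ (AlgSt.leftMul G T).act = 𝟙 _ := by
    have e : (G ◁ lift (1 : T ⟶ G) (𝟙 T)) = lift (fst G T) (lift (1 : G ⊗ T ⟶ G) (snd G T)) := by
      apply CartesianMonoidalCategory.hom_ext <;> simp
    rw [e, lift_leftMul, _root_.mul_one, lift_fst_snd]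
  rw [← Category.assoc, h2, Category.id_comp] at h1
  rw [MonoidalCategory.whiskerLeft_comp, Category.assoc]
  exact h1

theorem whisker_eqv {P : Over S} (a : AlgGrp.Action G P) {T : Over S} (s : T ⟶ P) :
    (AlgSt.leftMul G T).act ≫ (G ◁ s) ≫ a.act = (G ◁ ((G ◁ s) ≫ a.act)) ≫ a.act := by
  have key : ∀ {W : Over S} (g h : W ⟶ G) (t : W ⟶ T),
      lift g (lift h t) ≫ (AlgSt.leftMul G T).act ≫ (G ◁ s) ≫ a.act =
        lift g (lift h t) ≫ (G ◁ ((G ◁ s) ≫ a.act)) ≫ a.act := by
    intro W g h t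
    rw [← Category.assoc, lift_leftMul, lift_whiskerLeft_assoc, lift_whiskerLeft_assoc, act_mul,
      lift_whiskerLeft_assoc]
  have e : lift (fst G (G ⊗ T)) (lift (snd G (G ⊗ T) ≫ fst G T) (snd G (G ⊗ T) ≫ snd G T)) = 𝟙 _ := by
    rw [← comp_lift, lift_fst_snd, Category.comp_id, lift_fst_snd]
  have := key (fst G (G ⊗ T)) (snd G (G ⊗ T) ≫ fst G T) (snd G (G ⊗ T) ≫ snd G T)
  rwa [e, Category.id_comp, Category.id_comp] at this

section

variable {K : Precoverage Scheme.{u}} [K.HasIsos] {aX : AlgGrp.Action G X}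

/-- The morphism from a trivial torsor attached to a section of a torsor. -/
noncomputable def homTriv (a : (AlgSt.ofSch X).obj) (A : AlgSt.QuotObj K G aX) (b : a.base ⟶ A.base)
    (s : a.base ⟶ A.P) (hs : s ≫ A.π = b) (hx : s ≫ A.φ = a.sec.down) :
    (AlgSt.quotMap K G aX).obj a ⟶ A where
  base := b
  top := (G ◁ s) ≫ A.act.act
  eqv := whisker_eqv A.act s
  cart := by
    have h := (AlgSt.isPullback_whiskerLeft (G := G) s).paste_horiz A.cart
    rw [hs] at h
    exact h
  wφ := by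
    change ((G ◁ s) ≫ A.act.act) ≫ A.φ = (G ◁ a.sec.down) ≫ aX.act
    rw [Category.assoc, A.eqv, ← MonoidalCategory.whiskerLeft_comp_assoc, hx]

@[simp] theorem homTriv_base (a : (AlgSt.ofSch X).obj) (A : AlgSt.QuotObj K G aX) (b : a.base ⟶ A.base)
    (s : a.base ⟶ A.P) (hs : s ≫ A.π = b) (hx : s ≫ A.φ = a.sec.down) :
    (homTriv a A b s hs hx).base = b := rfl

@[simp] theorem homTriv_top (a : (AlgSt.ofSch X).obj) (A : AlgSt.QuotObj K G aX) (b : a.base ⟶ A.base)
    (s : a.base ⟶ A.P) (hs : s ≫ A.π = b) (hx : s ≫ A.φ = a.sec.down) :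
    (homTriv a A b s hs hx).top = (G ◁ s) ≫ A.act.act := rfl

/-- Every morphism out of a trivial torsor comes from a section. -/
theorem exists_sec {a : (AlgSt.ofSch X).obj} {A : AlgSt.QuotObj K G aX} (h : (AlgSt.quotMap K G aX).obj a ⟶ A) :
    ∃ s : a.base ⟶ A.P, s ≫ A.π = h.base ∧ s ≫ A.φ = a.sec.down ∧ h.top = (G ◁ s) ≫ A.act.act := by
  have w : h.top ≫ A.π = snd G a.base ≫ h.base := h.cart.w
  have wφ : h.top ≫ A.φ = (G ◁ a.sec.down) ≫ aX.act := h.wφ
  refine ⟨lift (1 : a.base ⟶ G) (𝟙 _) ≫ h.top, ?_, ?_, eq_of_equivariant A.act h.top h.eqv⟩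
  · rw [Category.assoc]
    exact (congrArg (lift (1 : a.base ⟶ G) (𝟙 _) ≫ ·) w).trans (by rw [lift_snd_assoc, Category.id_comp])
  · rw [Category.assoc]
    exact (congrArg (lift (1 : a.base ⟶ G) (𝟙 _) ≫ ·) wφ).trans
      (by rw [lift_whiskerLeft_assoc, Category.id_comp, act_one])

/-- Right multiplication by a point of `G`, as a morphism of trivial torsors. -/
noncomputable def homPt (a a' : (AlgSt.ofSch X).obj) (b : a.base ⟶ a'.base) (g : a.base ⟶ G)
    (hg : lift g (b ≫ a'.sec.down) ≫ aX.act = a.sec.down) :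
    (AlgSt.quotMap K G aX).obj a ⟶ (AlgSt.quotMap K G aX).obj a' :=
  homTriv a _ b (lift g b) (lift_snd _ _) (by
    change lift g b ≫ (G ◁ a'.sec.down) ≫ aX.act = _
    rw [lift_whiskerLeft_assoc, hg])

theorem homPt_top (a a' : (AlgSt.ofSch X).obj) (b : a.base ⟶ a'.base) (g : a.base ⟶ G)
    (hg : lift g (b ≫ a'.sec.down) ≫ aX.act = a.sec.down) :
    (homPt (K := K) a a' b g hg).top = lift (fst G a.base * (snd G a.base ≫ g)) (snd G a.base ≫ b) := by
  change (G ◁ lift g b) ≫ (AlgSt.leftMul G a'.base).act = _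
  have e : (G ◁ lift g b) = lift (fst G a.base) (lift (snd G a.base ≫ g) (snd G a.base ≫ b)) := by
    apply CartesianMonoidalCategory.hom_ext <;> simp
  rw [e, lift_leftMul]

theorem exists_pt {a a' : (AlgSt.ofSch X).obj} (h : (AlgSt.quotMap K G aX).obj a ⟶ (AlgSt.quotMap K G aX).obj a') :
    ∃ g : a.base ⟶ G, lift g (h.base ≫ a'.sec.down) ≫ aX.act = a.sec.down ∧
      h.top = lift (fst G a.base * (snd G a.base ≫ g)) (snd G a.base ≫ h.base) := by
  obtain ⟨s, hπ, hφ, ht⟩ := exists_sec h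
  have e : s = lift (s ≫ fst G a'.base) h.base := by
    apply CartesianMonoidalCategory.hom_ext
    · exact (lift_fst _ _).symm
    · rw [lift_snd]; exact hπ
  have hg : lift (s ≫ fst G a'.base) (h.base ≫ a'.sec.down) ≫ aX.act = a.sec.down := by
    rw [← lift_whiskerLeft_assoc, ← e]
    exact hφ
  refine ⟨s ≫ fst G a'.base, hg, ?_⟩
  refine ht.trans (((congrArg (fun t => (G ◁ t) ≫ (AlgSt.leftMul G a'.base).act) e)).trans ?_)
  exact homPt_top (K := K) a a' h.base _ hg

theorem homPt_comp {a a' a'' : (AlgSt.ofSch X).obj} (b : a.base ⟶ a'.base) (b' : a'.base ⟶ a''.base)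
    (g : a.base ⟶ G) (g' : a'.base ⟶ G)
    (hg : lift g (b ≫ a'.sec.down) ≫ aX.act = a.sec.down)
    (hg' : lift g' (b' ≫ a''.sec.down) ≫ aX.act = a'.sec.down) :
    (homPt (K := K) a a' b g hg).top ≫ (homPt (K := K) a' a'' b' g' hg').top =
      lift (fst G a.base * (snd G a.base ≫ (g * (b ≫ g')))) (snd G a.base ≫ b ≫ b') := by
  rw [homPt_top, homPt_top, comp_lift, comp_mul, lift_fst, lift_snd_assoc, lift_snd_assoc, comp_mul,
    _root_.mul_assoc, Category.assoc, Category.assoc]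

end

end Groth.Agent.StFib.QuotTriv
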