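import Groth.Agent.StFib.FppfLift
import Groth.Agent.StFib.Inertia
import Groth.Agent.StFib.DescCriteria
import Groth.Agent.StFib.Props
import Groth.Agent.StFib.QC
import Groth.Agent.StkLib.Glue
import Groth.Agent.AlgSp.Basic

/-!
# Descent of faithfulness along flat covers of algebraic stacks
-/

set_option linter.unusedVariables false
set_option backward.isDefEq.respectTransparency false
set_option backward.isDefEq.respectTransparency.types false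

universe u

open CategoryTheory CategoryTheory.Limits AlgebraicGeometry Opposite FibCat

namespace Groth.Agent.StFib

variable {S : Scheme.{u}} {𝒳 𝒴 𝒵 : AlgSt.Cat S}

local notation "K" => Scheme.fppfPrecoverage

/-- Objects lift locally along a jointly surjective family of flat, locally finitely presented morphisms. -/
theorem exists_lift_sieve_family (h𝒴 : AlgSt.IsAlgStack K 𝒴) {J : Type u} (𝒵' : J → AlgSt.Cat S)
    (h𝒵' : ∀ j, AlgSt.IsAlgStack K (𝒵' j)) (z : ∀ j, 𝒵' j ⥤ᵇ 𝒴)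
    (h1 : ∀ j, AlgSt.LocQ (AlgSp.LocP @Flat) (z j))
    (h2 : ∀ j, AlgSt.LocQ (AlgSp.LocP @LocallyOfFinitePresentation) (z j))
    (h3 : ∀ p : AlgSt.Points 𝒴, ∃ j, p ∈ Set.range (AlgSt.Points.map (z j))) (b : 𝒴.obj) :
    ∃ R : Sieve (𝒴.p.obj b), R ∈ QuotSh.J Scheme.fppfPrecoverage S (𝒴.p.obj b) ∧
      ∀ ⦃V : Over S⦄ (f : V ⟶ 𝒴.p.obj b), R f → ∀ (b' : 𝒴.obj) (ν : b' ⟶ b), 𝒴.p.IsHomLift f ν →
        ∃ (j : J) (c : (𝒵' j).obj) (i : (z j).obj c ≅ b'), Vert i.hom := by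
  obtain ⟨y, i₀, hi₀⟩ := exists_overFunctor h𝒴.isStack.1 b rfl
  obtain ⟨ι, V, g, c, hcov, hl⟩ := exists_fppf_cover_lift h𝒴 J 𝒵' h𝒵' z h1 h2 h3 (𝒴.p.obj b) y
  refine ⟨Sieve.ofArrows V g, Groth.Agent.AlgSp.mem_of_cover hcov ?_, ?_⟩
  · rintro W q ⟨i⟩
    refine ⟨V i, Over.homMk (𝟙 _) ?_, g i, ⟨i⟩, ?_⟩
    · exact (Category.id_comp _).trans (Over.w (g i)).symm
    · exact Over.OverMorphism.ext (Category.id_comp _)
  rintro V' f ⟨W, h, q, ⟨i⟩, hf⟩ b' ν hν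
  subst hf
  obtain ⟨x', ⟨e⟩⟩ := hl i
  let a : (overCat (V i)).obj := Over.mk h
  let m : (AlgSt.overMap (g i)).obj a ⟶ Over.mk (𝟙 (𝒴.p.obj b)) :=
    Over.homMk (h ≫ g i) (Category.comp_id _)
  have hb' : 𝒴.p.obj b' = V' := IsHomLift.domain_eq 𝒴.p (h ≫ g i) ν
  obtain ⟨j, hj, -⟩ := grpd_exists_vert_fac h𝒴.isStack.1 ν (y.map m ≫ i₀.hom)
    ((y.w_obj _).trans hb'.symm) (by
      rw [IsHomLift.fac' 𝒴.p (h ≫ g i) ν, Functor.map_comp, w_map y, hi₀.2]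
      simp only [eqToHom_trans_assoc, Category.assoc, eqToHom_trans, eqToHom_refl, Category.comp_id]
      rfl)
  exact ⟨c i, x'.obj a, isoApp e a ≪≫ j, (vert_isoApp e a).comp hj⟩

/-- Objects lift locally along a flat, locally finitely presented, surjective morphism. -/
theorem exists_lift_sieve (h𝒵 : AlgSt.IsAlgStack K 𝒵) (h𝒴 : AlgSt.IsAlgStack K 𝒴) (z : 𝒵 ⥤ᵇ 𝒴)
    (h1 : AlgSt.LocQ (AlgSp.LocP @Flat) z) (h2 : AlgSt.LocQ (AlgSp.LocP @LocallyOfFinitePresentation) z)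
    (h3 : AlgSt.IsSurjective z) (b : 𝒴.obj) :
    ∃ R : Sieve (𝒴.p.obj b), R ∈ QuotSh.J Scheme.fppfPrecoverage S (𝒴.p.obj b) ∧
      ∀ ⦃V : Over S⦄ (f : V ⟶ 𝒴.p.obj b), R f → ∀ (b' : 𝒴.obj) (ν : b' ⟶ b), 𝒴.p.IsHomLift f ν →
        ∃ (c : 𝒵.obj) (i : z.obj c ≅ b'), Vert i.hom := by
  obtain ⟨R, hR, h⟩ := exists_lift_sieve_family h𝒴 (J := PUnit.{u+1}) (fun _ => 𝒵) (fun _ => h𝒵)
    (fun _ => z) (fun _ => h1) (fun _ => h2) (fun p => ⟨⟨⟩, h3 p⟩) b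
  refine ⟨R, hR, fun V f hf b' ν hν => ?_⟩
  obtain ⟨-, h'⟩ := h f hf b' ν hν
  exact h'

/-- If the base change of `f` along a flat cover has trivial vertical automorphisms over the cover,
then `f` is faithful. -/
theorem faithful_of_fp_cover (h𝒳 : AlgSt.IsAlgStack K 𝒳) (h𝒵 : AlgSt.IsAlgStack K 𝒵)
    (h𝒴 : AlgSt.IsAlgStack K 𝒴) (f : 𝒳 ⥤ᵇ 𝒴) (z : 𝒵 ⥤ᵇ 𝒴)
    (h1 : AlgSt.LocQ (AlgSp.LocP @Flat) z) (h2 : AlgSt.LocQ (AlgSp.LocP @LocallyOfFinitePresentation) z)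
    (h3 : AlgSt.IsSurjective z) (hff : (fpFst z f).toFunctor.Faithful) : f.toFunctor.Faithful := by
  refine (faithful_iff_trivial_aut h𝒳.isStack.1 h𝒴.isStack.1 f).2 fun a φ hp hf => ?_
  obtain ⟨R, hR, hlift⟩ := exists_lift_sieve h𝒵 h𝒴 z h1 h2 h3 (f.obj a)
  have ha : 𝒴.p.obj (f.obj a) = 𝒳.p.obj a := f.w_obj a
  have hv : Vert φ := ⟨rfl, by simpa using hp⟩
  have := hv.isHomLift (ha.symm : 𝒳.p.obj a = 𝒴.p.obj (f.obj a))
  have := (Vert.id a).isHomLift (ha.symm : 𝒳.p.obj a = 𝒴.p.obj (f.obj a))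
  refine Groth.Agent.StkLib.hom_ext_of_local (isPrestack_of_isStack h𝒳.isStack) R hR φ (𝟙 a)
    fun V r hr a' ν hν => ?_
  obtain ⟨c, i, hi⟩ := hlift r hr (f.obj a') (f.map ν) ((BasedFunctor.isHomLift_iff f r ν).2 hν)
  obtain ⟨ψ, hψ, hψν⟩ := grpd_exists_fac h𝒳.isStack.1 ν (ν ≫ φ) (𝟙 _) (by
    rw [Functor.map_comp, hp, Category.comp_id, Category.id_comp])
  have hfψ : f.map ψ = 𝟙 _ := grpd_cancel h𝒴.isStack.1 (f.map ν) (by
    rw [← f.toFunctor.map_comp, hψν, f.toFunctor.map_comp, hf, Category.comp_id, Category.id_comp]) (by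
    rw [w_map, hψ]; simp)
  let o : (fp z f).obj := fpMk c a' i hi
  have hw : z.map (𝟙 c) ≫ i.hom = i.hom ≫ f.map ψ :=
    ((congrArg (· ≫ i.hom) (z.toFunctor.map_id c)).trans (Category.id_comp _)).trans
      ((congrArg (i.hom ≫ ·) hfψ).trans (Category.comp_id _)).symm
  let s : o ⟶ o := fpHom (𝟙 c) ψ hw
  have : s = 𝟙 o := (fpFst z f).toFunctor.map_injective rfl
  have hψ1 : ψ = 𝟙 a' := congrArg (fun k => k.hom.snd) this
  rw [← hψν, hψ1, Category.id_comp, Category.comp_id]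

end Groth.Agent.StFib

namespace Groth.Agent.StFib

variable {S : Scheme.{u}} {𝒳 𝒴 𝒵 : AlgSt.Cat S}

local notation "K" => Scheme.fppfPrecoverage

theorem faithful_of_isFibSetoid_source (h : IsFibSetoid 𝒳.p) (h' : IsFibGrpd 𝒴.p) (f : 𝒳 ⥤ᵇ 𝒴) :
    f.toFunctor.Faithful :=
  faithful_of_vert h.1 h' f fun a φ hp _ =>
    vert_unique_of_isFibSetoid h ⟨rfl, by simpa using hp⟩ (Vert.id a)

/-- `f` is representable if its base change along a flat cover by a space is a space. -/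
theorem repByAlgSp1_of_space_cover (h𝒳 : AlgSt.IsAlgStack K 𝒳) (h𝒴 : AlgSt.IsAlgStack K 𝒴) (f : 𝒳 ⥤ᵇ 𝒴)
    (W : AlgSp.Space S) (w : AlgSt.ofSp W.obj ⥤ᵇ 𝒴)
    (hw₁ : AlgSt.RepByAlgSpWith (AlgSp.LocP @Flat) w)
    (hw₂ : AlgSt.RepByAlgSpWith (AlgSp.LocP @LocallyOfFinitePresentation) w)
    (hw₃ : AlgSt.RepByAlgSpWith AlgSp.IsSurjectiveMor w)
    (h : AlgSt.RepByAlgSp (FibCat.fp w f)) : AlgSt.RepByAlgSp1 f := by
  have hW := isAlgStack_ofSp W.property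
  have := faithful_of_isFibSetoid_source (isFibSetoid_of_repByAlgSp h) hW.isStack.1 (fpFst w f)
  exact (faithful_iff_repByAlgSp1 h𝒳 h𝒴 f).1 (faithful_of_fp_cover h𝒳 hW h𝒴 f w
    (locQ_of_repByAlgSpWith (isSmoothLocalST_locP smoothLocalProp_flat) hW h𝒴 hw₁)
    (locQ_of_repByAlgSpWith (isSmoothLocalST_locP smoothLocalProp_lfp) hW h𝒴 hw₂)
    ((isSurjective_iff_rep hW h𝒴 (repByAlgSp1_of_with hw₃)).2 hw₃) this)

end Groth.Agent.StFib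

namespace Groth.Agent.StFib

variable {S : Scheme.{u}} {𝒳 𝒴 : AlgSt.Cat S}

local notation "K" => Scheme.fppfPrecoverage

theorem repByAlgSpWith_iff_space_cover {P : MorphismProperty (AlgSp.Sp S)} (hP : Good P)
    (hloc : AlgSp.IsLocalOnBase AlgSp.IsFppfCover P)
    (h𝒳 : AlgSt.IsAlgStack K 𝒳) (h𝒴 : AlgSt.IsAlgStack K 𝒴)
    (f : 𝒳 ⥤ᵇ 𝒴) (W : AlgSp.Space S) (w : AlgSt.ofSp W.obj ⥤ᵇ 𝒴)
    (hw₁ : AlgSt.RepByAlgSpWith (AlgSp.LocP @Flat) w)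
    (hw₂ : AlgSt.RepByAlgSpWith (AlgSp.LocP @LocallyOfFinitePresentation) w)
    (hw₃ : AlgSt.RepByAlgSpWith AlgSp.IsSurjectiveMor w) :
    AlgSt.RepByAlgSpWith P f ↔
      ∃ (V : AlgSp.Space S) (a : V ⟶ W) (e : AlgSt.ofSp V.obj ⥤ᵇ fp w f),
        IsEquivOver e ∧
          Nonempty (BasedFunctor.comp e (fpFst w f) ≅ AlgSt.ofSpMap a.hom) ∧ P a.hom := by
  refine ⟨fun h => exists_space_fp hP.bc hP.det h𝒳.isStack.1 h𝒴.isStack.1 h W w, ?_⟩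
  rintro ⟨V, a, e, he, ⟨i⟩, ha⟩
  exact (repByAlgSpWith_iff_fpFst_cover hP.bc hloc h𝒴.isStack.1 (isAlgStack_ofSp W.property).isStack.1
    (repByAlgSp1_of_space_cover h𝒳 h𝒴 f W w hw₁ hw₂ hw₃ ⟨V, e, he⟩) hw₁ hw₂ hw₃).2
    (repByAlgSpWith_fpFst_of_space hP.bc a e he i ha)

end Groth.Agent.StFib
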