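import Groth.Agent.StFib.Descent
import Groth.Agent.StFib.OpenSub

/-!
# A stack covered by open substacks which are spaces is a space
-/

set_option linter.unusedVariables false
set_option backward.isDefEq.respectTransparency false
set_option backward.isDefEq.respectTransparency.types false

universe u w

open CategoryTheory CategoryTheory.Limits AlgebraicGeometry Opposite FibCat

namespace Groth.Agent.StFib

variable {S : Scheme.{u}} {𝒳 : AlgSt.Cat S}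

local notation "K" => Scheme.fppfPrecoverage

theorem isFibSetoid_of_openSub_cover (h𝒳 : AlgSt.IsAlgStack K 𝒳) {ι : Type w} (Q : ι → 𝒳.obj → Prop)
    (hQ : ∀ i, AlgSt.IsOpenSubstack 𝒳 (Q i) K)
    (hcov : ⋃ i, Set.range (AlgSt.Points.map (AlgSt.subIncl 𝒳 (Q i))) = Set.univ)
    (hsp : ∀ i, IsFibSetoid (AlgSt.fullSub 𝒳 (Q i)).p) : IsFibSetoid 𝒳.p := by
  refine (isFibSetoid_iff_aut h𝒳.isStack.1).2 fun a φ hp _ => ?_
  obtain ⟨U₀, x₀, -, hx₀⟩ := h𝒳.atlas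
  have hp' : ∀ t : ↥U₀.left, ∃ i, AlgSt.Points.ofChart x₀ t ∈
      Set.range (AlgSt.Points.map (AlgSt.subIncl 𝒳 (Q i))) :=
    fun t => Set.mem_iUnion.1 (hcov.symm ▸ Set.mem_univ _)
  choose c hc using hp'
  have hJ : ∀ p : AlgSt.Points 𝒳, ∃ t : ↥U₀.left, p ∈ Set.range (AlgSt.Points.map (AlgSt.subIncl 𝒳 (Q (c t)))) := by
    intro p
    obtain ⟨t, rfl⟩ := ofChart_surjective h𝒳.isStack.1 hx₀ p
    exact ⟨t, hc t⟩
  have hloc : ∀ {P : MorphismProperty Scheme.{u}}, Groth.Agent.AlgSpCov.EtaleLocal P →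
      (∀ {A B : Scheme.{u}} (g : A ⟶ B), IsOpenImmersion g → P g) → ∀ t : ↥U₀.left,
      AlgSt.RepByAlgSpWith (AlgSp.LocP P) (AlgSt.subIncl 𝒳 (Q (c t))) := fun hP hm t =>
    repByAlgSpWith_mono (hQ (c t)).2.2 fun F U m h =>
      Groth.Agent.AlgSpCov.locP_of_repWith hP (Groth.Agent.AlgSp.repWith_mono (fun g hg => hm g hg) h)
  obtain ⟨R, hR, hlift⟩ := exists_lift_sieve_family h𝒳 (fun t => AlgSt.fullSub 𝒳 (Q (c t)))
    (fun t => (hQ (c t)).2.1) (fun t => AlgSt.subIncl 𝒳 (Q (c t)))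
    (fun t => locQ_of_repByAlgSpWith (isSmoothLocalST_locP smoothLocalProp_flat) (hQ (c t)).2.1 h𝒳
      (hloc Groth.Agent.AlgSpCov.etaleLocal_flat (fun g _ => inferInstance) t))
    (fun t => locQ_of_repByAlgSpWith (isSmoothLocalST_locP smoothLocalProp_lfp) (hQ (c t)).2.1 h𝒳
      (hloc Groth.Agent.AlgSpCov.etaleLocal_locallyOfFinitePresentation (fun g _ => inferInstance) t))
    hJ a
  have hv : Vert φ := ⟨rfl, by simpa using hp⟩
  have := hv.isHomLift (rfl : 𝒳.p.obj a = 𝒳.p.obj a)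
  have := (Vert.id a).isHomLift (rfl : 𝒳.p.obj a = 𝒳.p.obj a)
  refine Groth.Agent.StkLib.hom_ext_of_local (isPrestack_of_isStack h𝒳.isStack) R hR φ (𝟙 a)
    fun V r hr a' ν hν => ?_
  obtain ⟨t, o, i, hi⟩ := hlift r hr a' ν hν
  obtain ⟨ψ, hψ, hψν⟩ := grpd_exists_fac h𝒳.isStack.1 ν (ν ≫ φ) (𝟙 _) (by
    rw [Functor.map_comp, hp, Category.comp_id, Category.id_comp])
  have hψv : Vert ψ := ⟨rfl, by simpa using hψ⟩
  let s : o ⟶ o := ObjectProperty.homMk (i.hom ≫ ψ ≫ i.inv)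
  have hs : Vert s := by
    obtain ⟨e, he⟩ : Vert (𝒳 := 𝒳) (i.hom ≫ ψ ≫ i.inv) := hi.comp (hψv.comp hi.inv)
    exact ⟨e, he⟩
  have : s = 𝟙 o := vert_unique_of_isFibSetoid (hsp (c t)) hs (Vert.id o)
  have h1 : i.hom ≫ ψ ≫ i.inv = 𝟙 _ := congrArg (fun k => k.hom) this
  have hψ1 : ψ = 𝟙 a' := by
    rw [← cancel_epi i.hom, ← cancel_mono i.inv, Category.assoc, h1, Category.comp_id, i.hom_inv_id]
  rw [← hψν, hψ1, Category.id_comp, Category.comp_id]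

theorem repByAlgSp_of_openSub_cover (h𝒳 : AlgSt.IsAlgStack K 𝒳) {ι : Type w} (Q : ι → 𝒳.obj → Prop)
    (hQ : ∀ i, AlgSt.IsOpenSubstack 𝒳 (Q i) K)
    (hcov : ⋃ i, Set.range (AlgSt.Points.map (AlgSt.subIncl 𝒳 (Q i))) = Set.univ)
    (hsp : ∀ i, AlgSt.RepByAlgSp (AlgSt.fullSub 𝒳 (Q i))) : AlgSt.RepByAlgSp 𝒳 :=
  repByAlgSp_of_setoid etJ_le_fppf
    (isFibSetoid_of_openSub_cover h𝒳 Q hQ hcov fun i => isFibSetoid_of_repByAlgSp (hsp i))
    h𝒳.isStack h𝒳.atlas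

end Groth.Agent.StFib
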