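import Groth.Agent.StFib.OpenCoverSpace
import Groth.Agent.StFib.DiagConv
import Groth.Agent.StFib.SpPoints
import Groth.Agent.StFib.AlgStack
import Groth.Agent.StFib.Props
import Groth.Agent.StFib.Points
import Groth.Agent.AlgSpB.OpenGlue

/-!
# A stack covered by open substacks which are schemes is a scheme
-/

set_option linter.unusedVariables false
set_option backward.isDefEq.respectTransparency false
set_option backward.isDefEq.respectTransparency.types false

universe w u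

open CategoryTheory CategoryTheory.Limits AlgebraicGeometry Opposite FibCat

namespace Groth.Agent.StFib

variable {S : Scheme.{u}} {𝒳 : AlgSt.Cat S}

local notation "K" => Scheme.fppfPrecoverage

theorem isRepresentable_of_openSub_cover (h𝒳 : AlgSt.IsAlgStack K 𝒳) {ι : Type w} (Q : ι → 𝒳.obj → Prop)
    (hQ : ∀ i, AlgSt.IsOpenSubstack 𝒳 (Q i) K)
    (hcov : ⋃ i, Set.range (AlgSt.Points.map (AlgSt.subIncl 𝒳 (Q i))) = Set.univ)
    (hsch : ∀ i, FibCat.IsRepresentable (AlgSt.fullSub 𝒳 (Q i))) : FibCat.IsRepresentable 𝒳 := by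
  choose U Φ hΦ using hsch
  choose Ψ hΨ hΨ1 hΨ2 using fun i => isEquivOver_symm (hΦ i)
  obtain ⟨F, e, he⟩ := repByAlgSp_of_openSub_cover h𝒳 Q hQ hcov fun i =>
    (⟨(AlgSp.ofScheme S).obj (U i), BasedFunctor.comp (AlgSt.toOverCat (U i)) (Ψ i),
      isEquivOver_comp (toOverCat_isEquivOver _) (hΨ i)⟩)
  obtain ⟨G, hG, -, ⟨eG⟩⟩ := isEquivOver_symm he
  let J : ∀ i, AlgSt.ofSch (U i) ⥤ᵇ AlgSt.ofSp F.obj := fun i =>
    BasedFunctor.comp (BasedFunctor.comp (BasedFunctor.comp (AlgSt.toOverCat (U i)) (Ψ i))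
      (AlgSt.subIncl 𝒳 (Q i))) G
  let j : ∀ i, (AlgSp.yon S).obj (U i) ⟶ F.obj := fun i =>
    ⟨pshMap (P := ((AlgSp.yon S).obj (U i)).obj) (Q := F.obj.obj) (J i)⟩
  have hJ : ∀ i, Nonempty (J i ≅ AlgSt.ofSpMap (j i)) := fun i => exists_iso_pshMap _
  have hj : ∀ i, AlgSp.RepWith @IsOpenImmersion (j i) := fun i => by
    have hc : AlgSt.RepByAlgSpWith (AlgSp.RepWith @IsOpenImmersion) (J i) :=
      (repByAlgSpWith_iff_of_equiv _ (BasedFunctor.comp (AlgSt.toOverCat (U i)) (Ψ i)) e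
        (isEquivOver_comp (toOverCat_isEquivOver _) (hΨ i)) he
        (isoWhiskerLeft (BasedFunctor.comp (BasedFunctor.comp (AlgSt.toOverCat (U i)) (Ψ i))
          (AlgSt.subIncl 𝒳 (Q i))) eG)).1 (hQ i).2.2
    obtain ⟨iso⟩ := hJ i
    exact mem_of_repByAlgSpWith_ofSpMap (good_repWith @IsOpenImmersion).bc (detected_repWith _)
      (AlgSp.IsAlgSpace.yon_obj _) F.property (j i)
      (repByAlgSpWith_of_iso _ iso hc)
  have hmap : ∀ x : AlgSp.Points F.obj, ∃ i, x ∈ Set.range (AlgSp.Points.map (j i)) := fun x => by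
    obtain ⟨P, rfl⟩ := toSpPt_bijective.2 x
    have hP : AlgSt.Points.map e P ∈ ⋃ i, Set.range (AlgSt.Points.map (AlgSt.subIncl 𝒳 (Q i))) := by
      rw [hcov]; trivial
    obtain ⟨i, R, hR⟩ := Set.mem_iUnion.1 hP
    obtain ⟨R', hR'⟩ := (points_bijective_of_isEquivOver
      (isEquivOver_comp (toOverCat_isEquivOver (U i)) (hΨ i))).2 R
    refine ⟨i, toSpPt R', ?_⟩
    obtain ⟨iso⟩ := hJ i
    rw [← toSpPt_map, ← points_map_congr iso]
    congr 1
    apply (points_bijective_of_isEquivOver he).1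
    rw [← hR, ← hR']
    simp only [J, points_map_comp, Function.comp_apply]
    rw [← Function.comp_apply (f := AlgSt.Points.map e) (g := AlgSt.Points.map G), ← points_map_comp,
      points_map_congr eG, points_map_id, id_eq]
  obtain ⟨U₀, p, -, hp⟩ := F.property.atlas
  choose i hi using hmap
  obtain ⟨X, ⟨iso⟩⟩ := Groth.Agent.AlgSpB.exists_iso_yon_of_openCover F.property
    (fun t : ↥U₀.left => U (i (AlgSp.Points.ofPt p t))) (fun t => j _) (fun t => hj _) fun x => by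
      obtain ⟨t, rfl⟩ := Groth.Agent.AlgSpB.surjective_ofPt hp x
      exact ⟨t, hi _⟩
  refine ⟨X, BasedFunctor.comp G (BasedFunctor.comp (AlgSt.ofSpMap iso.inv) (AlgSt.toOverCat X)),
    isEquivOver_comp hG (isEquivOver_comp ⟨AlgSt.ofSpMap iso.hom, ?_, ?_⟩ (toOverCat_isEquivOver X))⟩
  · refine (ofPshMap_comp iso.inv.hom iso.hom.hom).map fun k => k ≪≫ eqToIso ?_
    rw [← ObjectProperty.FullSubcategory.comp_hom, iso.inv_hom_id]
    rfl
  · refine (ofPshMap_comp iso.hom.hom iso.inv.hom).map fun k => k ≪≫ eqToIso ?_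
    rw [← ObjectProperty.FullSubcategory.comp_hom, iso.hom_inv_id]
    rfl

end Groth.Agent.StFib
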