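import Groth.Agent.StFib.RepSp
import Groth.Agent.AlgSp.Basic

/-!
# Morphisms of sheaves through their points
-/

set_option linter.unusedVariables false
set_option backward.isDefEq.respectTransparency false
set_option backward.isDefEq.respectTransparency.types false

universe u

open CategoryTheory CategoryTheory.Limits AlgebraicGeometry Opposite

namespace Groth.Agent.StFib.Glue

variable {S : Scheme.{u}} {X Y : AlgSp.Sp S}

open Groth.Agent.AlgSp (yEquiv yEquiv_map yEquiv_comp hom_ext_yon)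

theorem ext_of_cover {U : Over S} {R : Sieve U} (hR : R ∈ AlgSp.J S U) {m m' : (AlgSp.yon S).obj U ⟶ X}
    (h : ∀ ⦃V : Over S⦄ (f : V ⟶ U), R f → (AlgSp.yon S).map f ≫ m = (AlgSp.yon S).map f ≫ m') : m = m' := by
  apply yEquiv.injective
  refine (((isSheaf_iff_isSheaf_of_type _ _).1 X.property).isSeparated R hR).ext fun V f hf => ?_
  rw [← yEquiv_map, ← yEquiv_map, h f hf]

theorem exists_glue {U : Over S} {R : Sieve U} (hR : R ∈ AlgSp.J S U)
    (x : ∀ ⦃V : Over S⦄ (f : V ⟶ U), R f → ((AlgSp.yon S).obj V ⟶ X))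
    (h : ∀ ⦃V W : Over S⦄ (g : W ⟶ V) (f : V ⟶ U) (hf : R f),
      (AlgSp.yon S).map g ≫ x f hf = x (g ≫ f) (R.downward_closed hf g)) :
    ∃ m : (AlgSp.yon S).obj U ⟶ X, ∀ ⦃V : Over S⦄ (f : V ⟶ U) (hf : R f),
      (AlgSp.yon S).map f ≫ m = x f hf := by
  let fam : Presieve.FamilyOfElements X.obj R.arrows := fun V f hf => yEquiv (x f hf)
  have hc : fam.Compatible := by
    rw [Presieve.compatible_iff_sieveCompatible]
    intro V W f g hf
    exact ((yEquiv_map g (x f hf)).symm.trans (congrArg _ (h g f hf))).symm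
  obtain ⟨t, ht, -⟩ := ((isSheaf_iff_isSheaf_of_type _ _).1 X.property) R hR fam hc
  refine ⟨yEquiv.symm t, fun V f hf => yEquiv.injective ?_⟩
  rw [yEquiv_map, Equiv.apply_symm_apply]
  exact ht f hf

/-- A natural family of maps on points is a morphism. -/
theorem exists_hom (f : ∀ V : Over S, ((AlgSp.yon S).obj V ⟶ X) → ((AlgSp.yon S).obj V ⟶ Y))
    (nat : ∀ {V W : Over S} (g : W ⟶ V) (s : (AlgSp.yon S).obj V ⟶ X),
      f W ((AlgSp.yon S).map g ≫ s) = (AlgSp.yon S).map g ≫ f V s) :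
    ∃ φ : X ⟶ Y, ∀ (V : Over S) (s : (AlgSp.yon S).obj V ⟶ X), s ≫ φ = f V s := by
  let η : X.obj ⟶ Y.obj :=
    { app := fun V => TypeCat.ofHom fun x => yEquiv (f V.unop (yEquiv.symm x))
      naturality := fun V W g => by
        ext x
        change yEquiv (f W.unop (yEquiv.symm (X.obj.map g x))) = Y.obj.map g (yEquiv (f V.unop (yEquiv.symm x)))
        have h1 : yEquiv.symm (X.obj.map g x) = (AlgSp.yon S).map g.unop ≫ yEquiv.symm x := by
          apply yEquiv.injective
          rw [yEquiv_map, Equiv.apply_symm_apply, Equiv.apply_symm_apply]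
          rfl
        rw [h1, nat, yEquiv_map]
        rfl }
  refine ⟨⟨η⟩, fun V s => yEquiv.injective ?_⟩
  rw [yEquiv_comp]
  exact congrArg (fun t => yEquiv (f V t)) (yEquiv.symm_apply_apply s)

theorem isPullback_of_points {P Z : AlgSp.Sp S} {fst : P ⟶ X} {snd : P ⟶ Y} {f : X ⟶ Z} {g : Y ⟶ Z}
    (w : fst ≫ f = snd ≫ g)
    (h : ∀ (V : Over S) (p : (AlgSp.yon S).obj V ⟶ X) (q : (AlgSp.yon S).obj V ⟶ Y), p ≫ f = q ≫ g →
      ∃! l : (AlgSp.yon S).obj V ⟶ P, l ≫ fst = p ∧ l ≫ snd = q) : IsPullback fst snd f g := by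
  let c := pullback.lift fst snd w
  choose l hl hu using fun V (r : (AlgSp.yon S).obj V ⟶ pullback f g) =>
    h V (r ≫ pullback.fst f g) (r ≫ pullback.snd f g) (by simp only [Category.assoc, pullback.condition])
  obtain ⟨d, hd⟩ := exists_hom l fun {V W} k r => ((hu W ((AlgSp.yon S).map k ≫ r) _ ⟨by
    rw [Category.assoc, (hl V r).1, Category.assoc], by rw [Category.assoc, (hl V r).2, Category.assoc]⟩)).symm
  have hdc : d ≫ c = 𝟙 _ := hom_ext_yon fun V r => by
    rw [← Category.assoc, hd, Category.comp_id]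
    apply pullback.hom_ext <;> simp [c, Category.assoc, hl]
  have hcd : c ≫ d = 𝟙 _ := hom_ext_yon fun V s => by
    rw [← Category.assoc, hd, Category.comp_id]
    exact (hu V (s ≫ c) s ⟨by simp [c], by simp [c]⟩).symm
  exact (IsPullback.of_hasPullback f g).of_iso ⟨d, c, hdc, hcd⟩ (Iso.refl _) (Iso.refl _) (Iso.refl _)
    (by simp only [Iso.refl_hom, Category.comp_id]; rw [← pullback.lift_fst fst snd w, ← Category.assoc, hdc, Category.id_comp])
    (by simp only [Iso.refl_hom, Category.comp_id]; rw [← pullback.lift_snd fst snd w, ← Category.assoc, hdc, Category.id_comp])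
    (by simp) (by simp)

theorem isPullback_over_of_points {B : AlgSp.Sp S} {P X Y Z : Over B} {fst : P ⟶ X} {snd : P ⟶ Y} {f : X ⟶ Z}
    {g : Y ⟶ Z} (w : fst ≫ f = snd ≫ g)
    (h : ∀ (V : Over S) (p : (AlgSp.yon S).obj V ⟶ X.left) (q : (AlgSp.yon S).obj V ⟶ Y.left), p ≫ f.left = q ≫ g.left →
      ∃! l : (AlgSp.yon S).obj V ⟶ P.left, l ≫ fst.left = p ∧ l ≫ snd.left = q) : IsPullback fst snd f g :=
  IsPullback.of_map (Over.forget B) w (isPullback_of_points (congrArg (fun k => k.left) w) h)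

theorem hom_ext_over {B : AlgSp.Sp S} {P Q : Over B} {f g : P ⟶ Q}
    (h : ∀ (V : Over S) (s : (AlgSp.yon S).obj V ⟶ P.left), s ≫ f.left = s ≫ g.left) : f = g :=
  Over.OverMorphism.ext (hom_ext_yon h)

end Groth.Agent.StFib.Glue
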