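import Groth.Agent.StFib.OpenSub
import Groth.Agent.StFib.DescBase
import Groth.Agent.StFib.YonGlue
import Groth.Agent.StFib.AlgStack
import Mathlib.AlgebraicGeometry.Morphisms.ClosedImmersion

/-!
# Closed substacks and reduced stacks
-/

set_option backward.isDefEq.respectTransparency false
set_option backward.isDefEq.respectTransparency.types false
set_option linter.unusedVariables false

universe u

open CategoryTheory CategoryTheory.Limits AlgebraicGeometry Opposite FibCat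

namespace Groth.Agent.StFib

variable {S : Scheme.{u}} {𝒳 𝒴 : AlgSt.Cat S}

local notation "K" => Scheme.fppfPrecoverage

/-- A substack is closed under pullback. -/
theorem sub_of_hom (h𝒳 : IsFibGrpd 𝒳.p) {Q : 𝒳.obj → Prop} (hiso : ObjectProperty.IsClosedUnderIsomorphisms Q)
    (hA : IsFibGrpd (AlgSt.fullSub 𝒳 Q).p) {x y : 𝒳.obj} (a : y ⟶ x) (hx : Q x) : Q y := by
  obtain ⟨q, eq', b, hb⟩ := grpd_exists_lift hA ⟨x, hx⟩ (𝒳.p.map a)
  obtain ⟨χ, -, -⟩ := grpd_exists_vert_fac h𝒳 ((AlgSt.subIncl 𝒳 Q).map b) a eq'.symm (by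
    rw [show 𝒳.p.map ((AlgSt.subIncl 𝒳 Q).map b) = eqToHom eq' ≫ 𝒳.p.map a from hb]
    simp)
  exact ObjectProperty.prop_of_iso Q χ.symm q.property

section

variable {Q : 𝒳.obj → Prop} {U : Over S} (y : overCat U ⥤ᵇ 𝒳) (A : AlgSp.Space S)
  (e : AlgSt.ofSp A.obj ⥤ᵇ fp y (AlgSt.subIncl 𝒳 Q)) (he : IsEquivOver e)

local notation "aA" => AlgSt.spMapOfOver (BasedFunctor.comp e (fpFst y (AlgSt.subIncl 𝒳 Q)))

include he in
theorem exists_factor {V : Over S} (h : V ⟶ U) (hQ : Q (y.obj (Over.mk h))) :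
    ∃ s : (AlgSp.yon S).obj V ⟶ A.obj, s ≫ aA = (AlgSp.yon S).map h := by
  let ob : (fp y (AlgSt.subIncl 𝒳 Q)).obj :=
    fpMk (F := y) (G := AlgSt.subIncl 𝒳 Q) (Over.mk h) ⟨_, hQ⟩ (Iso.refl (y.obj (Over.mk h))) (Vert.id _)
  obtain ⟨w, i, hi⟩ := exists_vert_iso_of_isEquivOver he ob
  obtain ⟨ia⟩ := exists_iso_ofSpMap_toOverCat (A := A.obj) (BasedFunctor.comp e (fpFst y (AlgSt.subIncl 𝒳 Q)))
  let v := isoApp ia w ≪≫ fpIsoFst i
  obtain ⟨hb, hv⟩ : Vert v.hom := (vert_isoApp ia w).comp (vert_fp_iff.1 hi)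
  have hw := Over.w v.hom
  let j : V ⟶ w.base := eqToHom hb.symm
  refine ⟨(Groth.Agent.AlgSp.yEquiv).symm (A.obj.obj.map j.op w.sec), ?_⟩
  apply Groth.Agent.AlgSp.yEquiv.injective
  rw [Groth.Agent.AlgSp.yEquiv_comp, Equiv.apply_symm_apply, NatTrans.naturality_apply]
  apply ULift.ext
  have hl : v.hom.left = eqToHom hb := hv
  change j ≫ ((aA).hom.app _ w.sec).down = 𝟙 V ≫ h
  change v.hom.left ≫ h = _ at hw
  rw [hl] at hw
  rw [Category.id_comp]
  exact (congrArg (j ≫ ·) hw.symm).trans (by rw [eqToHom_trans_assoc, eqToHom_refl]; exact Category.id_comp h)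

variable (hiso : ObjectProperty.IsClosedUnderIsomorphisms Q)

include hiso in
theorem mem_of_section (s : (AlgSp.yon S).obj U ⟶ A.obj) (hs : s ≫ aA = 𝟙 _) :
    Q (y.obj (Over.mk (𝟙 U))) := by
  let z := (BasedFunctor.comp (AlgSt.ofOverCat U) (BasedFunctor.comp (AlgSt.ofSpMap s) e)).obj (Over.mk (𝟙 U))
  obtain ⟨ia⟩ := exists_iso_ofSpMap_toOverCat (A := A.obj) (BasedFunctor.comp e (fpFst y (AlgSt.subIncl 𝒳 Q)))
  let J : BasedFunctor.comp (BasedFunctor.comp (AlgSt.ofOverCat U) (BasedFunctor.comp (AlgSt.ofSpMap s) e))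
      (fpFst y (AlgSt.subIncl 𝒳 Q)) ≅ BasedFunctor.comp (AlgSt.ofOverCat U)
        (BasedFunctor.comp (AlgSt.ofSpMap (s ≫ aA)) (AlgSt.toOverCat U)) :=
    isoWhiskerLeft (BasedFunctor.comp (AlgSt.ofOverCat U) (AlgSt.ofSpMap s)) ia.symm
  have hobj : (BasedFunctor.comp (AlgSt.ofOverCat U) (BasedFunctor.comp (AlgSt.ofSpMap (s ≫ aA))
      (AlgSt.toOverCat U))).obj (Over.mk (𝟙 U)) = Over.mk (𝟙 U) := by
    rw [hs]
    rfl
  exact ObjectProperty.prop_of_iso Q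
    (z.obj.iso.symm ≪≫ y.toFunctor.mapIso (isoApp J (Over.mk (𝟙 U)) ≪≫ eqToIso hobj)) z.obj.snd.property

end

variable {Q : 𝒳.obj → Prop}

/-- An object lies in a closed substack as soon as it does fppf locally on its base. -/
theorem mem_of_locally (hQ : AlgSt.IsClosedSubstack 𝒳 Q K) {U : Over S} (y : overCat U ⥤ᵇ 𝒳)
    (R : Sieve U) (hR : R ∈ AlgSp.J S U) (h : ∀ ⦃V : Over S⦄ (h : V ⟶ U), R h → Q (y.obj (Over.mk h))) :
    Q (y.obj (Over.mk (𝟙 U))) := by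
  obtain ⟨A, e, he, ha⟩ := hQ.2.2 U y
  let a := AlgSt.spMapOfOver (BasedFunctor.comp e (fpFst y (AlgSt.subIncl 𝒳 Q)))
  have : Mono a := Groth.Agent.AlgSp.mono_of_repWith
    (fun f hf => (have : IsClosedImmersion f := hf; inferInstance : Mono f)) a ha
  choose t ht using fun (V : Over S) (f : V ⟶ U) (hf : R f) => exists_factor y A e he f (h f hf)
  obtain ⟨s, hs⟩ := Glue.exists_glue hR t fun V W g f hf => by
    rw [← cancel_mono a, Category.assoc, ht, ht, Functor.map_comp]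
  refine mem_of_section y A e hQ.1 s (Glue.ext_of_cover hR fun V f hf => ?_)
  rw [← Category.assoc, hs f hf, ht, Category.comp_id]

/-- A reduced scheme mapping to the points of a closed substack maps into it. -/
theorem mem_of_reduced (h𝒳 : AlgSt.IsAlgStack K 𝒳) (hQ : AlgSt.IsClosedSubstack 𝒳 Q K) {W : Over S}
    [IsReduced W.left] (y : overCat W ⥤ᵇ 𝒳)
    (hpts : ∀ t : ↥W.left, AlgSt.Points.ofChart y t ∈ Set.range (AlgSt.Points.map (AlgSt.subIncl 𝒳 Q))) :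
    Q (y.obj (Over.mk (𝟙 W))) := by
  obtain ⟨A, e, he, ha⟩ := hQ.2.2 W y
  obtain ⟨V, g, ι, hι, hg⟩ := exists_iso_yon_of_repWith @IsClosedImmersion ha
  have hsurj : Function.Surjective (AlgSt.Points.map (fpFst y (AlgSt.subIncl 𝒳 Q))) := fun P => by
    obtain ⟨t, rfl⟩ := ofChart_id_surjective P
    obtain ⟨R, hR⟩ := hpts t
    obtain ⟨w, hw, -⟩ := exists_points_fp_of_map_eq hQ.2.1.isStack.1 (isFibGrpd_overCat W) h𝒳.isStack.1
      (AlgSt.subIncl 𝒳 Q) y (AlgSt.Points.ofChart (BasedFunctor.id _) t) R (by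
        rw [← ofChart_eq_map, hR])
    exact ⟨w, hw⟩
  have hsA := (points_fpFst_overCat_iff (fun φ => Function.Surjective φ) homeoInv_surjective y A e he).1 hsurj
  have : IsClosedImmersion g.left := hg
  have : Surjective g.left := ⟨fun t => by
    obtain ⟨a, ha'⟩ := hsA (AlgSp.Points.schemeHomeo W t)
    obtain ⟨v, rfl⟩ : ∃ v, AlgSp.Points.map ι.hom (AlgSp.Points.schemeHomeo V v) = a := by
      refine ⟨(AlgSp.Points.schemeHomeo V).symm (AlgSp.Points.map ι.inv a), ?_⟩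
      rw [Homeomorph.apply_symm_apply, ← AlgSp.Points.map_comp, ι.inv_hom_id, AlgSp.Points.map_id]
    refine ⟨v, (AlgSp.Points.schemeHomeo W).injective ?_⟩
    rw [← ha', ← AlgSp.Points.map_comp, hι]
    exact (AlgSp.Points.map_yon_map_apply _ _).symm⟩
  have : IsIso g.left := isIso_of_isClosedImmersion_of_surjective g.left
  have : IsIso ((Over.forget S).map g) := ‹IsIso g.left›
  have : IsIso g := isIso_of_reflects_iso g (Over.forget S)
  refine mem_of_section y A e hQ.1 ((AlgSp.yon S).map (inv g) ≫ ι.hom) ?_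
  rw [Category.assoc, hι, ← Functor.map_comp, IsIso.inv_hom_id, CategoryTheory.Functor.map_id]

theorem forall_mem_iff (h𝒳 : AlgSt.IsAlgStack K 𝒳) (h𝒴 : AlgSt.IsAlgStack K 𝒴)
    (hred : AlgSt.SmoothLocally (fun X => IsReduced X) 𝒴) (hQ : AlgSt.IsClosedSubstack 𝒳 Q K) (f : 𝒴 ⥤ᵇ 𝒳) :
    (∀ y : 𝒴.obj, Q (f.obj y)) ↔
      Set.range (AlgSt.Points.map f) ⊆ Set.range (AlgSt.Points.map (AlgSt.subIncl 𝒳 Q)) := by
  refine ⟨fun h => ?_, fun h o => ?_⟩
  · rintro _ ⟨P, rfl⟩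
    obtain ⟨p, rfl⟩ := AlgSt.Points.mk_surjective P
    exact ⟨AlgSt.Points.mk ⟨p.K, p.str, ⟨f.obj p.obj, h p.obj⟩, (f.w_obj _).trans p.lies⟩, rfl⟩
  have hsub := fun {a b : 𝒳.obj} (k : b ⟶ a) => sub_of_hom h𝒳.isStack.1 hQ.1 hQ.2.1.isStack.1 (Q := Q) k
  obtain ⟨W, x, hx₁, hx₂⟩ := h𝒴.atlas
  have : IsReduced W.left := hred W x hx₁
  have hW : Q ((BasedFunctor.comp x f).obj (Over.mk (𝟙 W))) := mem_of_reduced h𝒳 hQ _ fun t => h (by
    rw [ofChart_eq_map, points_map_comp]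
    exact ⟨_, rfl⟩)
  obtain ⟨y, i, hi⟩ := exists_overFunctor h𝒴.isStack.1 o (rfl : 𝒴.p.obj o = 𝒴.p.obj o)
  obtain ⟨R, hR, hlift⟩ := exists_locally_lift (z := x) (isFibGrpd_overCat W) h𝒴.isStack.1
    (repByAlgSpWith_mono hx₁ fun F V m hm A B a b k ha hb e => have : Smooth k.left := hm a b k ha hb e; inferInstance)
    (repByAlgSpWith_mono hx₁ fun F V m hm A B a b k ha hb e => have : Smooth k.left := hm a b k ha hb e; inferInstance)
    hx₂ _ y
  have hloc : Q ((BasedFunctor.comp y f).obj (Over.mk (𝟙 (𝒴.p.obj o)))) := mem_of_locally hQ _ R hR fun V k hk => by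
    obtain ⟨t, ⟨j⟩⟩ := hlift k hk
    have h1 : Q (f.obj (x.obj (t.obj (Over.mk (𝟙 V))))) :=
      hsub (f.map (x.map (overToId (t.obj (Over.mk (𝟙 V)))))) hW
    have h2 : (AlgSt.overMap k).obj (Over.mk (𝟙 V)) = Over.mk k := by
      change Over.mk (𝟙 V ≫ k) = _
      rw [Category.id_comp]
    exact hsub (f.map (y.map (eqToHom h2.symm) ≫ (isoApp j (Over.mk (𝟙 V))).inv)) h1
  exact hsub (f.map i.inv) hloc

end Groth.Agent.StFib
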