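import Groth.Agent.StFib.ClosedSub
import Groth.Agent.StFib.LocQBasic
import Groth.Agent.StFib.AtlasProps
import Groth.Agent.StFib.PointsTop
import Groth.Agent.AlgSp.AffineMor
import Groth.Agent.GrpScheme.Homogeneous
import Groth.Agent.LimTop.Reduced
import Groth.Agent.RedSub.Basic

/-!
# The substack cut out by a closed subscheme of a chart
-/

set_option backward.isDefEq.respectTransparency false
set_option backward.isDefEq.respectTransparency.types false
set_option linter.unusedVariables false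

universe u

open CategoryTheory CategoryTheory.Limits AlgebraicGeometry Opposite FibCat

namespace Groth.Agent.StFib

variable {S : Scheme.{u}} {𝒳 : AlgSt.Cat S}

local notation "K" => Scheme.fppfPrecoverage

/-- Factorization through a monomorphism of sheaves is local. -/
theorem glue_factor {F G : AlgSp.Sp S} (i : F ⟶ G) [Mono i] {T : Over S} (k : (AlgSp.yon S).obj T ⟶ G)
    {R : Sieve T} (hR : R ∈ AlgSp.J S T)
    (h : ∀ ⦃V : Over S⦄ (g : V ⟶ T), R g → ∃ x, x ≫ i = (AlgSp.yon S).map g ≫ k) :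
    ∃ f, f ≫ i = k := by
  choose t ht using h
  obtain ⟨s, hs⟩ := Glue.exists_glue hR t fun V W g f hf => by
    rw [← cancel_mono i, Category.assoc, ht, ht, Functor.map_comp, Category.assoc]
  exact ⟨s, Glue.ext_of_cover hR fun V f hf => by rw [← Category.assoc, hs f hf, ht]⟩

/-- Factorization through a monomorphism of schemes is local. -/
theorem glue_factor_scheme {Z U : Over S} (ι : Z ⟶ U) [Mono ι] {T : Over S} (k : T ⟶ U)
    {R : Sieve T} (hR : R ∈ AlgSp.J S T)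
    (h : ∀ ⦃V : Over S⦄ (g : V ⟶ T), R g → ∃ m, m ≫ ι = g ≫ k) : ∃ m, m ≫ ι = k := by
  obtain ⟨f, hf⟩ := glue_factor ((AlgSp.yon S).map ι) ((AlgSp.yon S).map k) hR fun V g hg => by
    obtain ⟨m, hm⟩ := h g hg
    exact ⟨(AlgSp.yon S).map m, by rw [← Functor.map_comp, hm, Functor.map_comp]⟩
  obtain ⟨m, rfl⟩ := (AlgSp.yon S).map_surjective f
  exact ⟨m, (AlgSp.yon S).map_injective ((Functor.map_comp _ _ _).trans hf)⟩

section

variable {Z U : Over S} (z : overCat U ⥤ᵇ 𝒳) (ι : Z ⟶ U)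

/-- The sieve of lifts of an object to `Z`. -/
def redLift (x : 𝒳.obj) : Sieve (𝒳.p.obj x) where
  arrows V h := ∃ (m : V ⟶ Z) (φ : z.obj (Over.mk (m ≫ ι)) ⟶ x), 𝒳.p.map φ = eqToHom (z.w_obj _) ≫ h
  downward_closed := by
    rintro V W h ⟨m, φ, hφ⟩ g
    let κ : (Over.mk ((g ≫ m) ≫ ι) : Over U) ⟶ Over.mk (m ≫ ι) := Over.homMk g (Category.assoc g m ι).symm
    refine ⟨g ≫ m, z.map κ ≫ φ, ?_⟩
    rw [Functor.map_comp, w_map, hφ, show (overCat U).p.map κ = g from rfl]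
    simp

/-- Objects that lift to `Z` locally on their base. -/
def redProp (x : 𝒳.obj) : Prop := redLift z ι x ∈ AlgSp.J S (𝒳.p.obj x)

theorem redProp_of_hom (h𝒳 : IsFibGrpd 𝒳.p) {x y : 𝒳.obj} (a : y ⟶ x) (h : redProp z ι x) :
    redProp z ι y := by
  refine GrothendieckTopology.superset_covering _ ?_ ((AlgSp.J S).pullback_stable (𝒳.p.map a) h)
  rintro V g ⟨m, φ, hφ⟩
  obtain ⟨χ, hχ, -⟩ := grpd_exists_fac h𝒳 a φ (eqToHom (z.w_obj _) ≫ g) (by rw [hφ, Category.assoc])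
  exact ⟨m, χ, hχ⟩

theorem isClosedUnderIso_redProp (h𝒳 : IsFibGrpd 𝒳.p) :
    ObjectProperty.IsClosedUnderIsomorphisms (redProp z ι) :=
  ⟨fun e h => redProp_of_hom z ι h𝒳 e.inv h⟩

theorem redProp_of_local {x : 𝒳.obj} {V : Over S} (e₀ : 𝒳.p.obj x = V) {R : Sieve V}
    (hR : R ∈ AlgSp.J S V)
    (h : ∀ ⦃W : Over S⦄ (g : W ⟶ V), R g →
      ∃ (x' : 𝒳.obj) (a : x' ⟶ x) (e : 𝒳.p.obj x' = W),
        𝒳.p.map a ≫ eqToHom e₀ = eqToHom e ≫ g ∧ redProp z ι x') :
    redProp z ι x := by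
  subst e₀
  refine (AlgSp.J S).transitive hR _ fun W g hg => ?_
  obtain ⟨x', a, e, ha, hx'⟩ := h g hg
  subst e
  rw [eqToHom_refl, eqToHom_refl, Category.comp_id, Category.id_comp] at ha
  subst ha
  refine GrothendieckTopology.superset_covering _ ?_ hx'
  rintro T h' ⟨m, φ, hφ⟩
  exact ⟨m, φ ≫ a, by rw [Functor.map_comp, hφ, Category.assoc]⟩

theorem redProp_base {V : Over S} (m : V ⟶ Z) : redProp z ι (z.obj (Over.mk (m ≫ ι))) := by
  refine GrothendieckTopology.superset_covering _ ?_ ((AlgSp.J S).top_mem _)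
  rintro W h -
  let κ : (Over.mk ((h ≫ eqToHom (z.w_obj _) ≫ m) ≫ ι) : Over U) ⟶ Over.mk (m ≫ ι) :=
    Over.homMk (h ≫ eqToHom (z.w_obj (Over.mk (m ≫ ι)))) (by
      change (h ≫ eqToHom _) ≫ m ≫ ι = (h ≫ eqToHom _ ≫ m) ≫ ι
      simp only [Category.assoc])
  refine ⟨h ≫ eqToHom (z.w_obj _) ≫ m, z.map κ, ?_⟩
  rw [w_map, show (overCat U).p.map κ = h ≫ eqToHom (z.w_obj _) from rfl]
  simp

theorem exists_factor_of_redProp (h𝒳 : IsFibGrpd 𝒳.p) [Mono ι]
    (key : ∀ {T : Over S} (k₁ k₂ : T ⟶ U),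
      (BasedFunctor.comp (AlgSt.overMap k₁) z ≅ BasedFunctor.comp (AlgSt.overMap k₂) z) →
      (∃ m, m ≫ ι = k₁) → ∃ m, m ≫ ι = k₂)
    (g : Over U) (h : redProp z ι (z.obj g)) : ∃ m, m ≫ ι = g.hom := by
  have e : 𝒳.p.obj (z.obj g) = g.left := z.w_obj g
  refine glue_factor_scheme ι g.hom (T := g.left) ((AlgSp.J S).pullback_stable (eqToHom e.symm) h) ?_
  rintro V h' ⟨m, φ, hφ⟩
  let κ : (Over.mk (h' ≫ g.hom) : Over U) ⟶ g := Over.homMk h' rfl
  obtain ⟨χ, hχ, -⟩ := grpd_exists_vert_fac h𝒳 (z.map κ) φ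
    ((z.w_obj _).trans (z.w_obj (Over.mk (h' ≫ g.hom))).symm) (by
      rw [hφ, w_map, show (overCat U).p.map κ = h' from rfl]
      simp)
  have o : ∀ k : V ⟶ U, (BasedFunctor.comp (AlgSt.overMap k) z).obj (Over.mk (𝟙 V)) = z.obj (Over.mk k) :=
    fun k => by
      change z.obj (Over.mk (𝟙 V ≫ k)) = _
      rw [Category.id_comp]
  obtain ⟨α, -⟩ := exists_overIso h𝒳 (BasedFunctor.comp (AlgSt.overMap (m ≫ ι)) z)
    (BasedFunctor.comp (AlgSt.overMap (h' ≫ g.hom)) z) (eqToIso (o _) ≪≫ χ ≪≫ eqToIso (o _).symm)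
    ((vert_eqToHom (o _)).comp (hχ.comp (vert_eqToHom (o _).symm)))
  exact key _ _ α ⟨m, rfl⟩

/-- The chart of `Z` in the substack. -/
def redChart : overCat Z ⥤ᵇ AlgSt.fullSub 𝒳 (redProp z ι) :=
  subLift (BasedFunctor.comp (AlgSt.overMap ι) z) fun w => redProp_base z ι w.hom

end

/-- An inclusion of a substack whose trace on a chart is a monomorphism is pulled back to it. -/
theorem exists_equiv_of_criterion {Q : 𝒳.obj → Prop} (hiso : ObjectProperty.IsClosedUnderIsomorphisms Q)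
    {B B' : Over S} (j : B' ⟶ B) [Mono j] (y : overCat B ⥤ᵇ 𝒳)
    (hj : ∀ g : (overCat B).obj, Q (y.obj g) ↔ ∃ m, m ≫ j = g.hom) :
    ∃ E : overCat B' ⥤ᵇ fp y (AlgSt.subIncl 𝒳 Q), IsEquivOver E ∧
      Nonempty (BasedFunctor.comp E (fpSnd y (AlgSt.subIncl 𝒳 Q)) ≅
        subLift (BasedFunctor.comp (AlgSt.overMap j) y) fun w => (hj _).2 ⟨w.hom, rfl⟩) ∧
      Nonempty (BasedFunctor.comp E (fpFst y (AlgSt.subIncl 𝒳 Q)) ≅ AlgSt.overMap j) := by
  have hjQ : ∀ w : (overCat B').obj, Q ((BasedFunctor.comp (AlgSt.overMap j) y).obj w) := fun w =>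
    (hj _).2 ⟨w.hom, rfl⟩
  let L : overCat B' ⥤ᵇ AlgSt.fullSub 𝒳 Q := subLift (BasedFunctor.comp (AlgSt.overMap j) y) hjQ
  let E : overCat B' ⥤ᵇ fp y (AlgSt.subIncl 𝒳 Q) := fpLift (AlgSt.overMap j) L (Iso.refl _)
  have : E.toFunctor.Faithful := ⟨fun {w w'} φ ψ h => Over.OverMorphism.ext
    (congrArg (fun k => Over.Hom.left k.hom.fst) h)⟩
  have : E.toFunctor.Full := ⟨fun {w w'} k => by
    let φ : w ⟶ w' := Over.homMk k.hom.fst.left ((cancel_mono j).1 (by
      rw [Category.assoc]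
      exact over_w k.hom.fst))
    refine ⟨φ, fp_hom_ext (Over.OverMorphism.ext rfl) ?_⟩
    apply (AlgSt.subIncl 𝒳 Q).toFunctor.map_injective
    have hw : y.map k.hom.fst ≫ 𝟙 _ = 𝟙 _ ≫ (AlgSt.subIncl 𝒳 Q).map k.hom.snd := k.hom.w
    rw [Category.comp_id, Category.id_comp] at hw
    rw [← hw]
    rfl⟩
  have hE : IsEquivOver E := isEquivOver_mk _ fun w => by
    have hQw : Q (y.obj w.obj.fst) :=
      hiso.of_iso ⟨w.obj.iso.inv, w.obj.iso.hom, w.obj.iso.inv_hom_id, w.obj.iso.hom_inv_id⟩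
        w.obj.snd.property
    obtain ⟨k, hk⟩ := (hj _).1 hQw
    let u : (AlgSt.overMap j).obj (Over.mk k) ≅ w.obj.fst := Over.isoMk (Iso.refl _) (by
      change 𝟙 _ ≫ w.obj.fst.hom = k ≫ j
      rw [hk, Category.id_comp])
    refine ⟨Over.mk k, fpIsoMk u (ObjectProperty.isoMk Q (y.toFunctor.mapIso u ≪≫
      ⟨w.obj.iso.hom, w.obj.iso.inv, w.obj.iso.hom_inv_id, w.obj.iso.inv_hom_id⟩)) ?_, ?_⟩
    · change y.map u.hom ≫ w.obj.iso.hom = 𝟙 _ ≫ (y.map u.hom ≫ w.obj.iso.hom)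
      rw [Category.id_comp]
    · exact vert_fp_iff.2 ⟨rfl, rfl⟩
  exact ⟨E, hE, ⟨Iso.refl _⟩, ⟨Iso.refl _⟩⟩

section

variable {Z U : Over S} {z : overCat U ⥤ᵇ 𝒳} {ι : Z ⟶ U}

/-- Lifts agree on both sides of a chart of `U ×_𝒳 U`, so factorization only depends on the object. -/
theorem factor_of_iso (h𝒳 : AlgSt.IsAlgStack K 𝒳) [IsClosedImmersion ι.left] [IsReduced Z.left]
    (hz : AlgSt.RepByAlgSpWith (AlgSp.LocP @Smooth) z)
    (hsat : ∀ u u' : ↥U.left, AlgSt.Points.ofChart z u = AlgSt.Points.ofChart z u' →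
      u ∈ Set.range ι.left → u' ∈ Set.range ι.left) {T : Over S} (k₁ k₂ : T ⟶ U)
    (j : BasedFunctor.comp (AlgSt.overMap k₁) z ≅ BasedFunctor.comp (AlgSt.overMap k₂) z)
    (h : ∃ m, m ≫ ι = k₁) : ∃ m, m ≫ ι = k₂ := by
  have : Mono ι := Over.mono_of_mono_left ι
  obtain ⟨m, rfl⟩ := h
  obtain ⟨P, w, hw, hws⟩ := atlasProp_smooth.atlas (repByAlgSp1_chart h𝒳 z U z)
  have hM : IsFibGrpd (fp z z).p :=
    isFibGrpd_fp (isFibGrpd_overCat U) (isFibGrpd_overCat U) h𝒳.isStack.1 z z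
  obtain ⟨a, ⟨ia⟩⟩ := exists_iso_overMap (BasedFunctor.comp w (fpFst z z))
  obtain ⟨b, ⟨ib⟩⟩ := exists_iso_overMap (BasedFunctor.comp w (fpSnd z z))
  have hab : BasedFunctor.comp (AlgSt.overMap a) z ≅ BasedFunctor.comp (AlgSt.overMap b) z :=
    isoWhiskerRight ia.symm z ≪≫ isoWhiskerLeft w (fpIso z z) ≪≫ isoWhiskerRight ib z
  have ha : Smooth a.left := mem_scheme_of_overMap Groth.Agent.AlgSpCov.standard_smooth
    (repByAlgSpWith_of_iso _ ia (repByAlgSpWith_comp good_smooth.bc good_smooth.comp good_smooth.det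
      (isFibGrpd_overCat P) hM hw (repByAlgSpWith_fpFst _ z hz)))
  -- the part of the chart over `Z` on the first side lies over `Z` on the second
  have : IsReduced (pullback a.left ι.left) :=
    Groth.Agent.GrpScheme.Homogeneous.isReduced_of_smooth (pullback.snd a.left ι.left)
  obtain ⟨l, hl⟩ := Groth.Agent.RedSub.exists_lift ι.left (pullback.fst a.left ι.left ≫ b.left) (by
    rintro _ ⟨p, rfl⟩
    refine hsat (a.left (pullback.fst a.left ι.left p)) _ ?_ ⟨pullback.snd a.left ι.left p, ?_⟩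
    · rw [← ofChart_overMap z a, Scheme.Hom.comp_apply, ← ofChart_overMap z b]
      exact congrFun (ofChart_congr hab) _
    · rw [← Scheme.Hom.comp_apply, ← Scheme.Hom.comp_apply, pullback.condition])
  -- lift the pair locally to the chart
  let F : overCat T ⥤ᵇ fp z z := fpLift (AlgSt.overMap (m ≫ ι)) (AlgSt.overMap k₂) j
  obtain ⟨R, hR, hlift⟩ := exists_locally_lift (z := w) (isFibGrpd_overCat P) hM
    (repByAlgSpWith_flat_of_smooth hw) (repByAlgSpWith_lfp_of_smooth hw) hws T F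
  refine glue_factor_scheme ι k₂ hR fun V g hg => ?_
  obtain ⟨t, ⟨it⟩⟩ := hlift g hg
  obtain ⟨p, ⟨ip⟩⟩ := exists_iso_overMap t
  have e₁ : p ≫ a = g ≫ m ≫ ι := overMap_injective
    (overMapCompIso p a ≪≫ isoWhiskerRight ip.symm (AlgSt.overMap a) ≪≫ isoWhiskerLeft t ia.symm ≪≫
      isoWhiskerRight it (fpFst z z) ≪≫ (overMapCompIso g (m ≫ ι)).symm)
  have e₂ : p ≫ b = g ≫ k₂ := overMap_injective
    (overMapCompIso p b ≪≫ isoWhiskerRight ip.symm (AlgSt.overMap b) ≪≫ isoWhiskerLeft t ib.symm ≪≫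
      isoWhiskerRight it (fpSnd z z) ≪≫ (overMapCompIso g k₂).symm)
  let q : V.left ⟶ pullback a.left ι.left := pullback.lift p.left (g ≫ m).left (by
    have := congrArg (fun r : V ⟶ U => r.left) e₁
    simpa [Category.assoc] using this)
  have hql : (q ≫ l) ≫ ι.left = (g ≫ k₂).left := by
    rw [← e₂, Category.assoc, hl, pullback.lift_fst_assoc]
    rfl
  exact ⟨Over.homMk (q ≫ l) (by
    rw [← Over.w ι, ← Category.assoc, hql]
    exact Over.w (g ≫ k₂)), Over.OverMorphism.ext hql⟩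

variable [IsClosedImmersion ι.left] (h𝒳 : AlgSt.IsAlgStack K 𝒳)
    (hz : AlgSt.RepByAlgSpWith (AlgSp.LocP @Smooth) z)
    (hzs : AlgSt.RepByAlgSpWith AlgSp.IsSurjectiveMor z)
    (hkey : ∀ g : Over U, redProp z ι (z.obj g) → ∃ m, m ≫ ι = g.hom)

include h𝒳 hz hzs hkey in
theorem exists_closed_criterion {B : Over S} (y : overCat B ⥤ᵇ 𝒳) :
    ∃ (B' : Over S) (j : B' ⟶ B), IsClosedImmersion j.left ∧
      ∀ g : (overCat B).obj, redProp z ι (y.obj g) ↔ ∃ m, m ≫ j = g.hom := by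
  have : Mono ι := Over.mono_of_mono_left ι
  obtain ⟨W, a, b, ⟨i₀⟩, -, hb1, hb2, hb3⟩ := exists_chart_fp h𝒳 z y
  have := hb1 (repByAlgSpWith_flat_of_smooth hz)
  have := hb2 (repByAlgSpWith_lfp_of_smooth hz)
  have := hb3 hzs
  have hcl := isClosedUnderIso_redProp z ι h𝒳.isStack.1
  have trans : ∀ {T : Over S} (g : T ⟶ W),
      redProp z ι (y.obj (Over.mk (g ≫ b))) ↔ redProp z ι (z.obj (Over.mk (g ≫ a))) := fun {T} g =>
    ⟨hcl.of_iso (isoApp i₀ (Over.mk g)).symm, hcl.of_iso (isoApp i₀ (Over.mk g))⟩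
  let W' : Over S := pullback a ι
  let j' : W' ⟶ W := pullback.fst a ι
  have hj' : IsClosedImmersion j'.left := MorphismProperty.of_isPullback (P := @IsClosedImmersion)
    (((IsPullback.of_hasPullback a ι).flip).map (Over.forget S)) ‹_›
  have : Mono j' := inferInstance
  let q : (AlgSp.yon S).obj W' ⟶ (AlgSp.yon S).obj B := (AlgSp.yon S).map (j' ≫ b)
  let eZ := Sheaf.toImage q
  let i := Sheaf.imageι q
  have hfac : eZ ≫ i = q := Sheaf.toImage_ι q
  have : Sheaf.IsLocallySurjective eZ := (Sheaf.isLocallySurjective_iff_epi _).2 inferInstance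
  -- factorization gives the property
  have factA : ∀ {T : Over S} (k : T ⟶ B), (∃ f, f ≫ i = (AlgSp.yon S).map k) →
      redProp z ι (y.obj (Over.mk k)) := by
    rintro T k ⟨f, hf⟩
    obtain ⟨R₀, hR₀, hl⟩ := Groth.Agent.AlgSp.exists_cover_lift eZ f
    refine redProp_of_local z ι (x := y.obj (Over.mk k)) (V := T) (y.w_obj _)
      (R := Sieve.generate (fun V (g : V ⟶ T) => ∃ x, x ≫ eZ = (AlgSp.yon S).map g ≫ f))
      (Groth.Agent.AlgSp.mem_of_cover hR₀ fun V g hg => Sieve.le_generate _ _ _ (hl g hg)) ?_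
    rintro V _ ⟨V', r, g, ⟨x, hx⟩, rfl⟩
    obtain ⟨x', rfl⟩ := (AlgSp.yon S).map_surjective x
    have e : (r ≫ g) ≫ k = ((r ≫ x') ≫ j') ≫ b := (AlgSp.yon S).map_injective (by
      have := congrArg (fun t => (AlgSp.yon S).map r ≫ t ≫ i) hx
      simp only [Category.assoc, hfac, q, hf] at this
      simp only [Functor.map_comp, Category.assoc] at this ⊢
      exact this.symm)
    let κ : (Over.mk ((r ≫ g) ≫ k) : Over B) ⟶ Over.mk k := Over.homMk (r ≫ g) rfl
    refine ⟨y.obj (Over.mk ((r ≫ g) ≫ k)), y.map κ, y.w_obj _, ?_, ?_⟩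
    · rw [w_map, show (overCat B).p.map κ = r ≫ g from rfl]
      simp
    · rw [e, trans, Category.assoc, show j' ≫ a = pullback.snd a ι ≫ ι from pullback.condition,
        ← Category.assoc]
      exact redProp_base z ι _
  -- the property gives factorization
  have factB : ∀ {T : Over S} (k : T ⟶ B), redProp z ι (y.obj (Over.mk k)) →
      ∃ f, f ≫ i = (AlgSp.yon S).map k := by
    intro T k hk
    have sq := (IsPullback.of_hasPullback k b).flip.map (Over.forget S)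
    have : Flat (pullback.fst k b).left := MorphismProperty.of_isPullback (P := @Flat) sq ‹_›
    have : Surjective (pullback.fst k b).left := MorphismProperty.of_isPullback (P := @Surjective) sq ‹_›
    have : LocallyOfFinitePresentation (pullback.fst k b).left :=
      MorphismProperty.of_isPullback (P := @LocallyOfFinitePresentation) sq ‹_›
    let κ : (Over.mk (pullback.fst k b ≫ k) : Over B) ⟶ Over.mk k := Over.homMk (pullback.fst k b) rfl
    have h1 : redProp z ι (y.obj (Over.mk (pullback.fst k b ≫ k))) :=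
      redProp_of_hom z ι h𝒳.isStack.1 (y.map κ) hk
    rw [pullback.condition, trans] at h1
    obtain ⟨m, hm⟩ := hkey _ h1
    refine glue_factor i _ (R := Sieve.generate (Presieve.singleton (pullback.fst k b)))
      (Groth.Agent.AlgSp.mem_of_fppf _ (Sieve.le_generate _ _ _ (Presieve.singleton_self _))) ?_
    rintro V _ ⟨V', r, g, hg, rfl⟩
    cases hg
    refine ⟨(AlgSp.yon S).map (r ≫ pullback.lift (pullback.snd k b) m hm.symm) ≫ eZ, ?_⟩
    rw [Category.assoc, hfac, ← Functor.map_comp, ← Functor.map_comp]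
    congr 1
    simp only [Category.assoc, j', pullback.lift_fst_assoc, pullback.condition]
  have : Sheaf.IsLocallySurjective ((AlgSp.yon S).map b) :=
    Groth.Agent.AlgSp.isLocallySurjective_of_fppf_lift _ fun T g => by
      obtain ⟨k, rfl⟩ := (AlgSp.yon S).map_surjective g
      have sq := (IsPullback.of_hasPullback k b).flip.map (Over.forget S)
      refine ⟨pullback k b, pullback.fst k b, (AlgSp.yon S).map (pullback.snd k b),
        MorphismProperty.of_isPullback (P := @Flat) sq ‹_›,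
        MorphismProperty.of_isPullback (P := @Surjective) sq ‹_›,
        MorphismProperty.of_isPullback (P := @LocallyOfFinitePresentation) sq ‹_›, ?_⟩
      rw [← Functor.map_comp, ← Functor.map_comp, pullback.condition]
  have sqb : IsPullback eZ ((AlgSp.yon S).map j') i ((AlgSp.yon S).map b) :=
    Glue.isPullback_of_points (by rw [hfac, ← Functor.map_comp]) fun T p g hpg => by
      obtain ⟨g', rfl⟩ := (AlgSp.yon S).map_surjective g
      have h1 := factA (g' ≫ b) ⟨p, by rw [hpg, Functor.map_comp]⟩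
      rw [trans] at h1
      obtain ⟨m, hm⟩ := hkey _ h1
      refine ⟨(AlgSp.yon S).map (pullback.lift g' m hm.symm), ⟨?_, ?_⟩, fun l hl => ?_⟩
      · rw [← cancel_mono i, Category.assoc, hfac, hpg, ← Functor.map_comp, ← Functor.map_comp]
        congr 1
        exact pullback.lift_fst_assoc _ _ _ _
      · rw [← Functor.map_comp]
        congr 1
        exact pullback.lift_fst _ _ _
      · rw [← cancel_mono ((AlgSp.yon S).map j'), hl.2, ← Functor.map_comp]
        congr 1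
        exact (pullback.lift_fst _ _ _).symm
  obtain ⟨B', j, e, hj, hjc⟩ := exists_iso_yon_of_repWith @IsClosedImmersion
    (Groth.Agent.AlgSp.repWith_isClosedImmersion_of_baseChange i _ sqb
      ((AlgSp.repWith_yon_map_iff _ _).2 hj'))
  refine ⟨B', j, hjc, fun g => ⟨fun hg => ?_, fun ⟨m, hm⟩ => factA g.hom
    ⟨(AlgSp.yon S).map m ≫ e.hom, by rw [Category.assoc, hj, ← Functor.map_comp, hm]⟩⟩⟩
  obtain ⟨f, hf⟩ := factB g.hom hg
  obtain ⟨m, hm⟩ := (AlgSp.yon S).map_surjective (f ≫ e.inv)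
  refine ⟨m, (AlgSp.yon S).map_injective ?_⟩
  rw [Functor.map_comp, hm, ← hj, Category.assoc, e.inv_hom_id_assoc]
  exact hf

include h𝒳 hz hzs hkey in
theorem isClosedImm_subIncl_redProp : AlgSt.IsClosedImm (AlgSt.subIncl 𝒳 (redProp z ι)) := by
  intro B y
  obtain ⟨B', j, hj, hcrit⟩ := exists_closed_criterion h𝒳 hz hzs hkey y
  have : Mono j := Over.mono_of_mono_left j
  obtain ⟨E, hE, -, ⟨iE⟩⟩ :=
    exists_equiv_of_criterion (isClosedUnderIso_redProp z ι h𝒳.isStack.1) j y hcrit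
  refine ⟨(AlgSp.ofScheme S).obj B', BasedFunctor.comp (AlgSt.toOverCat B') E,
    isEquivOver_comp (toOverCat_isEquivOver B') hE, ?_⟩
  have he : AlgSt.spMapOfOver (BasedFunctor.comp (BasedFunctor.comp (AlgSt.toOverCat B') E)
      (fpFst y (AlgSt.subIncl 𝒳 (redProp z ι)))) = (AlgSp.yon S).map j :=
    (spMapOfOver_congr (isoWhiskerLeft (AlgSt.toOverCat B') iE ≪≫ (toOverCatIso j).symm)).trans
      (spMapOfOver_ofSpMap_toOverCat ((AlgSp.yon S).map j))
  rw [he]
  exact (AlgSp.repWith_yon_map_iff _ _).2 hj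

include h𝒳 hz hzs hkey in
theorem isClosedSubstack_redProp : AlgSt.IsClosedSubstack 𝒳 (redProp z ι) K :=
  ⟨isClosedUnderIso_redProp z ι h𝒳.isStack.1,
    isAlgStack_of_rep (isFibGrpd_fullSub h𝒳.isStack.1 _ fun a h => redProp_of_hom z ι h𝒳.isStack.1 a h)
      h𝒳 _ (repByAlgSp1_of_with (isClosedImm_subIncl_redProp h𝒳 hz hzs hkey)),
    isClosedImm_subIncl_redProp h𝒳 hz hzs hkey⟩

include h𝒳 hkey in
theorem redChart_rep {P : MorphismProperty (AlgSp.Sp S)} (hP : AlgSt.RepByAlgSpWith P z) :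
    AlgSt.RepByAlgSpWith P (redChart z ι) := by
  have : Mono ι := Over.mono_of_mono_left ι
  have hcl := isClosedUnderIso_redProp z ι h𝒳.isStack.1
  obtain ⟨E, hE, ⟨iE⟩, -⟩ := exists_equiv_of_criterion hcl ι z fun g =>
    ⟨hkey g, fun ⟨m, hm⟩ => by
      have h := redProp_base z ι m
      rw [hm] at h
      exact hcl.of_iso (z.toFunctor.mapIso (Over.isoMk (Iso.refl _) (Category.id_comp _))) h⟩
  exact repByAlgSpWith_of_iso _ iE
    (repByAlgSpWith_comp_isEquivOver (repByAlgSpWith_fpSnd _ _ hP) hE)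

end

theorem exists_reduced_closedSubstack (h𝒳 : AlgSt.IsAlgStack K 𝒳) (T : Set (AlgSt.Points 𝒳))
    (hT : IsClosed T) :
    ∃ Q : 𝒳.obj → Prop, AlgSt.IsClosedSubstack 𝒳 Q K ∧
      Set.range (AlgSt.Points.map (AlgSt.subIncl 𝒳 Q)) = T ∧
      AlgSt.SmoothLocally (fun X => IsReduced X) (AlgSt.fullSub 𝒳 Q) := by
  obtain ⟨U, z, hz, hzs⟩ := h𝒳.atlas
  let C : TopologicalSpace.Closeds U.left :=
    ⟨AlgSt.Points.ofChart z ⁻¹' T, hT.preimage (continuous_ofChart h𝒳 z)⟩
  let I := Scheme.IdealSheafData.vanishingIdeal C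
  let Z : Over S := Over.mk (I.subschemeι ≫ U.hom)
  let ι : Z ⟶ U := Over.homMk I.subschemeι
  have : IsReduced Z.left := inferInstanceAs (IsReduced I.subscheme)
  have : IsClosedImmersion ι.left := inferInstanceAs (IsClosedImmersion I.subschemeι)
  have : Mono ι := Over.mono_of_mono_left ι
  have hιr : Set.range ι.left = (C : Set U.left) := Groth.Agent.RedSub.range_vanishingIdeal_subschemeι C
  have hkey : ∀ g : Over U, redProp z ι (z.obj g) → ∃ m, m ≫ ι = g.hom := fun g hg =>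
    exists_factor_of_redProp z ι h𝒳.isStack.1 (fun k₁ k₂ j h => factor_of_iso h𝒳 hz
      (fun u u' huu hu => by
        rw [hιr] at hu ⊢
        change AlgSt.Points.ofChart z u' ∈ T
        rw [← huu]
        exact hu) k₁ k₂ j h) g hg
  have hQ := isClosedSubstack_redProp h𝒳 hz hzs hkey
  refine ⟨redProp z ι, hQ, ?_, fun U' x hx => ?_⟩
  · refine Set.Subset.antisymm ?_ fun P hP => ?_
    · rintro _ ⟨R, rfl⟩
      obtain ⟨p, rfl⟩ := AlgSt.Points.mk_surjective R
      obtain ⟨Cov, hCov, hc⟩ := Groth.Agent.AlgSp.exists_cover_of_mem p.obj.property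
      obtain ⟨σ, W, c, rfl⟩ := Cov.exists_eq_ofArrows
      obtain ⟨hs, -⟩ := (Scheme.ofArrows_mem_precoverage_iff _).1 hCov
      have : Nonempty ↥(𝒳.p.obj p.obj.obj).left := by
        rw [show 𝒳.p.obj p.obj.obj = Over.mk p.str from p.lies]
        exact inferInstanceAs (Nonempty (PrimeSpectrum p.K))
      obtain ⟨t₀, w, -⟩ : ∃ (i : σ) (w : ↥(W i)), True := by
        obtain ⟨i, w, -⟩ := hs (Classical.arbitrary ↥(𝒳.p.obj p.obj.obj).left)
        exact ⟨i, w, trivial⟩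
      obtain ⟨m, φ, -⟩ := hc (c t₀) (Presieve.ofArrows.mk t₀)
      let V : Over S := Over.mk (c t₀ ≫ (𝒳.p.obj p.obj.obj).hom)
      have h1 : ptsProp T (z.obj (Over.mk (m ≫ ι))) :=
        (ptsProp_chart_iff h𝒳.isStack.1 z _ T).2 fun t => hιr.le ⟨m.left t, rfl⟩
      let d : (Over.mk ((W t₀).fromSpecResidueField w ≫ V.hom) : Over S) ⟶ V :=
        Over.homMk ((W t₀).fromSpecResidueField w) rfl
      obtain ⟨o, eo, χ, -⟩ := grpd_exists_lift h𝒳.isStack.1 (z.obj (Over.mk (m ≫ ι)))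
        (d ≫ eqToHom (z.w_obj (Over.mk (m ≫ ι))).symm)
      let r : AlgSt.FPt 𝒳 := ⟨_, (W t₀).fromSpecResidueField w ≫ V.hom, o, eo⟩
      have : AlgSt.Points.mk r = AlgSt.Points.map (AlgSt.subIncl 𝒳 (redProp z ι)) (AlgSt.Points.mk p) :=
        AlgSt.Points.sound ⟨r, 𝟙 _, χ ≫ φ, trivial⟩
      rw [← this]
      exact h1 r χ
    · obtain ⟨u, rfl⟩ := ofChart_surjective h𝒳.isStack.1 hzs P
      obtain ⟨v, rfl⟩ := hιr.ge (show u ∈ (C : Set U.left) from hP)
      refine ⟨AlgSt.Points.ofChart (redChart z ι) v, ?_⟩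
      rw [map_ofChart, ← ofChart_overMap z ι v]
      rfl
  · obtain ⟨W, a, b, -, ha, hb, -, hsurj⟩ := exists_chart_fp_smooth hQ.2.1 hx (redChart_rep h𝒳 hkey hz)
    have := hsurj (redChart_rep h𝒳 hkey hzs)
    have : IsReduced W.left := Groth.Agent.GrpScheme.Homogeneous.isReduced_of_smooth b.left
    exact Groth.Agent.LimTop.isReduced_of_flat_surjective a.left

end Groth.Agent.StFib
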