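import Groth.Agent.StFib.Diag

/-!
The square of diagonals attached to a fully faithful morphism.
-/

set_option backward.isDefEq.respectTransparency false
set_option backward.isDefEq.respectTransparency.types false

universe v₅ u₅ v₃ u₃ v₂ u₂ v u

open CategoryTheory CategoryTheory.Limits FibCat

namespace Groth.Agent.StFib

variable {C : Type u} [Category.{v} C]
variable {𝒳 : BasedCategory.{v₂, u₂} C} {𝒳' : BasedCategory.{v₃, u₃} C} {𝒴 : BasedCategory.{v₅, u₅} C}

theorem mono_diag_cart (i : 𝒳 ⥤ᵇ 𝒳') (g : 𝒳' ⥤ᵇ 𝒴) [i.toFunctor.Full] [i.toFunctor.Faithful] :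
    IsTwoCartOver
      (F := fpLift (BasedFunctor.comp (fpFst (BasedFunctor.comp i g) (BasedFunctor.comp i g)) i)
        (BasedFunctor.comp (fpSnd (BasedFunctor.comp i g) (BasedFunctor.comp i g)) i)
        (fpIso (BasedFunctor.comp i g) (BasedFunctor.comp i g)))
      (G := diag g) (diag (BasedFunctor.comp i g)) i (Iso.refl _) := by
  refine fpLift_isEquivOver_mk _ _ _ (fun {w w'} φ ψ h _ => congrArg (fun k => k.hom.fst) h)
    (fun {w w'} a b h => ?_) fun z => ?_
  · have h1 : i.map a.hom.fst ≫ 𝟙 _ = 𝟙 _ ≫ b := congrArg (fun k => k.hom.fst) h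
    have h2 : i.map a.hom.snd ≫ 𝟙 _ = 𝟙 _ ≫ b := congrArg (fun k => k.hom.snd) h
    have h1' : i.map a.hom.fst = b := by simpa using h1
    have h2' : i.map a.hom.snd = b := by simpa using h2
    exact ⟨a.hom.fst, fp_hom_ext rfl (i.toFunctor.map_injective (h1'.trans h2'.symm)), h1'⟩
  · let u : i.obj z.obj.fst.obj.fst ≅ z.obj.snd := fpIsoFst z.obj.iso
    let v : i.obj z.obj.fst.obj.snd ≅ z.obj.snd := fpIsoSnd z.obj.iso
    have hu : Vert u.hom := vert_fp_iff.1 (vert_fp_iso z)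
    have hv : Vert v.hom := vert_fp_snd (vert_fp_iso z)
    have hw : g.map u.hom ≫ 𝟙 _ = z.obj.fst.obj.iso.hom ≫ g.map v.hom := z.obj.iso.hom.hom.w
    let w : z.obj.fst.obj.fst ≅ z.obj.fst.obj.snd := i.toFunctor.preimageIso (u ≪≫ v.symm)
    have hwi : i.map w.hom = u.hom ≫ v.inv := by simp [w]
    refine ⟨z.obj.fst.obj.fst, fpIsoMk (Iso.refl _) w ?_, u, Vert.id _, fp_hom_ext ?_ ?_⟩
    · change g.map (i.map (𝟙 _)) ≫ z.obj.fst.obj.iso.hom = 𝟙 _ ≫ g.map (i.map w.hom)
      rw [hwi, Functor.map_id, Functor.map_id, Category.id_comp, Category.id_comp, Functor.map_comp]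
      rw [Category.comp_id] at hw
      rw [hw, Category.assoc, ← Functor.map_comp, v.hom_inv_id, Functor.map_id]
      exact (Category.comp_id _).symm
    · change i.map (𝟙 _) ≫ u.hom = 𝟙 _ ≫ u.hom
      rw [Functor.map_id]
    · change i.map w.hom ≫ v.hom = 𝟙 _ ≫ u.hom
      rw [hwi, Category.assoc, v.inv_hom_id]
      simp <;> rfl

end Groth.Agent.StFib
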