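import Groth.Agent.StFib.Compact
import Groth.Agent.AlgSpCov.Instances
import Groth.Prelude.Def_AlgSpCov

/-!
Standard properties of morphisms of algebraic spaces are smooth local on source and target.
-/

set_option backward.isDefEq.respectTransparency false
set_option backward.isDefEq.respectTransparency.types false
set_option linter.unusedVariables false

universe u

open CategoryTheory CategoryTheory.Limits AlgebraicGeometry Opposite

namespace Groth.Agent.StFib

variable {S : Scheme.{u}}

/-- What makes a property of morphisms of schemes smooth local on source and target. -/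
structure SmoothLocalProp (P : MorphismProperty Scheme.{u}) : Prop where
  standard : Groth.Agent.AlgSpCov.Standard P
  of_smooth : ∀ ⦃A B : Scheme.{u}⦄ (e : A ⟶ B), Smooth e → P e
  source : IsZariskiLocalAtSource P
  descend : ∀ ⦃X Y Z : Scheme.{u}⦄ (e : X ⟶ Y) (h : Y ⟶ Z), Smooth e → Surjective e → P (e ≫ h) → P h

theorem smoothLocalProp_flat : SmoothLocalProp.{u} @Flat :=
  ⟨Groth.Agent.AlgSpCov.standard_flat, fun _ _ _ h => have : Smooth _ := h; inferInstance, inferInstance,
    fun _ _ _ e h he hs => Groth.Agent.AlgSpCov.flat_of_comp_smooth e h⟩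

theorem smoothLocalProp_lft : SmoothLocalProp.{u} @LocallyOfFiniteType :=
  ⟨Groth.Agent.AlgSpCov.standard_locallyOfFiniteType, fun _ _ _ h => have : Smooth _ := h; inferInstance,
    inferInstance, fun _ _ _ e h he hs => Groth.Agent.AlgSpCov.locallyOfFiniteType_of_comp_smooth e h⟩

theorem smoothLocalProp_lfp : SmoothLocalProp.{u} @LocallyOfFinitePresentation :=
  ⟨Groth.Agent.AlgSpCov.standard_locallyOfFinitePresentation,
    fun _ _ _ h => have : Smooth _ := h; inferInstance, inferInstance,
    fun _ _ _ e h he hs => Groth.Agent.AlgSpCov.locallyOfFinitePresentation_of_comp_smooth e h⟩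

theorem smoothLocalProp_smooth : SmoothLocalProp.{u} @Smooth :=
  ⟨Groth.Agent.AlgSpCov.standard_smooth, fun _ _ _ h => h, inferInstance,
    fun _ _ _ e h he hs => Groth.Agent.AlgSpCov.smooth_of_comp_smooth e h⟩

theorem locP_mono_scheme {P Q : MorphismProperty Scheme.{u}} (hPQ : ∀ ⦃A B : Scheme.{u}⦄ (e : A ⟶ B), P e → Q e)
    {F G : AlgSp.Sp S} {f : F ⟶ G} (hf : AlgSp.LocP P f) : AlgSp.LocP Q f :=
  fun _ _ a b h ha hb w => hPQ _ (hf a b h ha hb w)

theorem isSmoothLocalST_locP {P : MorphismProperty Scheme.{u}} (hP : SmoothLocalProp P) :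
    AlgSp.IsSmoothLocalST (S := S) (AlgSp.LocP P) where
  precomp X Y Z _ hY hZ f g hf hg :=
    have := hP.standard.comp
    Groth.Agent.AlgSpCov.locP_comp hP.standard.etaleLocal hY hZ (locP_mono_scheme hP.of_smooth hf) hg
  baseChange X Y X' Y' hX hY _ _ f g f' g' sq _ hf :=
    have := hP.standard.bc
    Groth.Agent.AlgSpCov.locP_baseChange hP.standard.etaleLocal hX hY sq hf
  locality X Y hX hY f := by
    have := hP.standard.comp
    have := hP.standard.bc
    have := hP.source
    have hid : ∀ F : AlgSp.Sp S, AlgSp.LocP @Smooth (𝟙 F) := fun F =>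
      Groth.Agent.AlgSpCov.locP_of_repWith Groth.Agent.AlgSpCov.standard_smooth.etaleLocal
        (repWith_of_isIso @Smooth)
    refine ⟨fun hf x => ⟨X, Y, 𝟙 X, 𝟙 Y, f, x, hX, hY, hid X, hid Y, by simp, by simp, hf⟩, fun H => ?_⟩
    intro U V α β h hα hβ w
    have H' : ∀ u : ↥U.left, ∃ (W : Over S) (c : W ⟶ U), Smooth c.left ∧
        u ∈ Set.range c.left ∧ P (c ≫ h).left := by
      intro u
      obtain ⟨A, B, a, b, k, v, hA, hB, ha, hb, hk, hv, hPk⟩ := H (AlgSp.Points.ofPt α u)
      have hM := Groth.Agent.AlgSp.isAlgSpace_pullback hX hA (isAlgSpace_yon U) a α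
      obtain ⟨W, w', hwe, hws⟩ := hM.atlas
      obtain ⟨c, hc⟩ := (AlgSp.yon S).map_surjective (w' ≫ pullback.snd a α)
      have he : AlgSp.RepWith @Etale (w' ≫ pullback.fst a α) :=
        Groth.Agent.AlgSpCov.repWith_comp hwe
          (MorphismProperty.of_isPullback (IsPullback.of_hasPullback a α).flip hα)
      have hsm : AlgSp.LocP @Smooth ((AlgSp.yon S).map c) := hc ▸ Groth.Agent.AlgSpCov.locP_comp
        Groth.Agent.AlgSpCov.standard_smooth.etaleLocal hM (isAlgSpace_yon U)
        (Groth.Agent.AlgSpCov.locP_of_repWith Groth.Agent.AlgSpCov.standard_smooth.etaleLocal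
          (repWith_mono' (P := @Etale) (Q := @Smooth) (fun _ _ f hf => have : Etale f := hf
            inferInstance) hwe))
        (Groth.Agent.AlgSpCov.locP_baseChange Groth.Agent.AlgSpCov.standard_smooth.etaleLocal hA hX
          (IsPullback.of_hasPullback a α) ha)
      have haf : AlgSp.LocP P (a ≫ f) := by
        rw [hk]
        exact Groth.Agent.AlgSpCov.locP_comp hP.standard.etaleLocal hB hY hPk
          (locP_mono_scheme hP.of_smooth hb)
      refine ⟨W, c, hsm (𝟙 _) (𝟙 _) c (AlgSp.repWith_id _ _) (AlgSp.repWith_id _ _) (by simp), ?_,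
        haf (w' ≫ pullback.fst a α) β (c ≫ h) he hβ ?_⟩
      · obtain ⟨m, hm1, hm2⟩ := Groth.Agent.AlgSpB.exists_of_isPullback
          (IsPullback.of_hasPullback a α).flip (AlgSp.Points.schemeHomeo U u) v
          (by rw [hv]; exact AlgSp.Points.map_ofPt _ _ _)
        obtain ⟨t, rfl⟩ := Groth.Agent.AlgSpB.surjective_ofPt hws m
        refine ⟨t, (AlgSp.Points.schemeHomeo U).injective ?_⟩
        rw [← AlgSp.Points.map_yon_map_apply, hc]
        exact (AlgSp.Points.map_ofPt _ _ _).trans (hm1 ▸ by
          rw [AlgSp.Points.map_ofPt, ← Category.id_comp (w' ≫ pullback.snd a α)]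
          exact (AlgSp.Points.map_ofPt _ _ _).symm)
      · rw [Category.assoc, ← Category.assoc (pullback.fst a α), pullback.condition, Functor.map_comp, hc,
          Category.assoc, Category.assoc, Category.assoc, w]
    choose W c hc hu hPc using H'
    let g : (∐ fun u => (W u).left) ⟶ U.left := Sigma.desc fun u => (c u).left
    have : Smooth g := IsZariskiLocalAtSource.sigmaDesc fun u => hc u
    have : Surjective g := by
      refine ⟨fun u => ?_⟩
      obtain ⟨t, ht⟩ := hu u
      refine ⟨Sigma.ι (fun u => (W u).left) u t, ?_⟩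
      rw [← Scheme.Hom.comp_apply, Sigma.ι_desc]
      exact ht
    refine hP.descend g h.left inferInstance inferInstance ?_
    have e : g ≫ h.left = Sigma.desc fun u => (c u ≫ h).left := by
      apply Sigma.hom_ext; intro u; simp [g]
    rw [e]
    exact IsZariskiLocalAtSource.sigmaDesc fun u => hPc u

end Groth.Agent.StFib
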