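import Groth.Agent.StFib.LocQMore
import Groth.Agent.StFib.SmoothLocal

/-!
Composite and base-changed smooth chart squares, and cancellation for properties read on them.
-/

set_option backward.isDefEq.respectTransparency false
set_option backward.isDefEq.respectTransparency.types false
set_option linter.unusedVariables false

universe u

open CategoryTheory CategoryTheory.Limits AlgebraicGeometry Opposite FibCat

namespace Groth.Agent.StFib

variable {S : Scheme.{u}} {𝒳 𝒴 𝒵 𝒲 : AlgSt.Cat S}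

/-- A functor into a fibre product is the lift of its components. -/
theorem exists_fpLift_of_functor {f : 𝒳 ⥤ᵇ 𝒵} {y : 𝒴 ⥤ᵇ 𝒵} (w : 𝒲 ⥤ᵇ fp f y) {x : 𝒲 ⥤ᵇ 𝒳}
    {k : 𝒲 ⥤ᵇ 𝒴} (ix : BasedFunctor.comp w (fpFst f y) ≅ x) (ik : BasedFunctor.comp w (fpSnd f y) ≅ k) :
    ∃ α : BasedFunctor.comp x f ≅ BasedFunctor.comp k y, Nonempty (w ≅ fpLift x k α) := by
  let α : BasedFunctor.comp x f ≅ BasedFunctor.comp k y :=
    isoWhiskerRight ix.symm f ≪≫ isoWhiskerLeft w (fpIso f y) ≪≫ isoWhiskerRight ik y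
  refine ⟨α, ⟨isoMk (F := w) (G := fpLift x k α)
    (fun a => fpIsoMk (isoApp ix a) (isoApp ik a) (by
      change f.map (isoApp ix a).hom ≫ (f.map (isoApp ix a).inv ≫ (w.obj a).obj.iso.hom ≫
          y.map (isoApp ik a).hom) = (w.obj a).obj.iso.hom ≫ y.map (isoApp ik a).hom
      rw [← Category.assoc, ← CategoryTheory.Functor.map_comp, Iso.hom_inv_id,
        CategoryTheory.Functor.map_id, Category.id_comp]))
    (fun a => vert_fp_iff.2 (vert_isoApp ix a))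
    (fun {a b} φ => fp_hom_ext (F := f) (G := y) (isoApp_naturality ix φ) (isoApp_naturality ik φ))⟩⟩

variable {P : MorphismProperty (AlgSp.Sp S)}

/-- A smooth square of a composite, built from smooth squares of the two maps. -/
theorem exists_comp_square (h𝒳 : AlgSt.IsAlgStack Scheme.fppfPrecoverage 𝒳)
    (h𝒴 : AlgSt.IsAlgStack Scheme.fppfPrecoverage 𝒴) (h𝒵 : AlgSt.IsAlgStack Scheme.fppfPrecoverage 𝒵)
    (f : 𝒳 ⥤ᵇ 𝒴) (g : 𝒴 ⥤ᵇ 𝒵) {W : Over S} {z : overCat W ⥤ᵇ 𝒵}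
    (hz : AlgSt.RepByAlgSpWith (AlgSp.LocP @Smooth) z) (hzs : AlgSt.RepByAlgSpWith AlgSp.IsSurjectiveMor z) :
    ∃ (U V : Over S) (x : overCat U ⥤ᵇ 𝒳) (y : overCat V ⥤ᵇ 𝒴) (h₁ : U ⟶ V) (h₂ : V ⟶ W)
      (_ : BasedFunctor.comp x f ≅ BasedFunctor.comp (AlgSt.overMap h₁) y)
      (_ : BasedFunctor.comp y g ≅ BasedFunctor.comp (AlgSt.overMap h₂) z),
      AlgSt.RepByAlgSpWith (AlgSp.LocP @Smooth) x ∧ AlgSt.RepByAlgSpWith AlgSp.IsSurjectiveMor x ∧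
      AlgSt.RepByAlgSpWith (AlgSp.LocP @Smooth) y ∧ AlgSt.RepByAlgSpWith AlgSp.IsSurjectiveMor y ∧
      (AlgSt.IsSurjective f → Surjective h₁.left) ∧
      (∀ P : MorphismProperty (AlgSp.Sp S), AlgSp.IsSmoothLocalST P → AlgSt.LocQ P f →
        P ((AlgSp.yon S).map h₁)) ∧
      (∀ P : MorphismProperty (AlgSp.Sp S), AlgSp.IsSmoothLocalST P → AlgSt.LocQ P g →
        P ((AlgSp.yon S).map h₂)) ∧
      (∀ P : MorphismProperty (AlgSp.Sp S), AlgSp.IsSmoothLocalST P →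
        AlgSt.LocQ P (BasedFunctor.comp f g) → P ((AlgSp.yon S).map (h₁ ≫ h₂))) := by
  obtain ⟨V, y, h₂, β, hy, hys, hl₂, hls₂⟩ := exists_smooth_square h𝒴 h𝒵 g hz
  obtain ⟨U, x, h₁, α, hx, hxs, hl₁, hls₁⟩ := exists_smooth_square h𝒳 h𝒴 f hy
  refine ⟨U, V, x, y, h₁, h₂, α, β, hx, hxs (hys hzs), hy, hys hzs, fun hfs => ⟨fun v => ?_⟩,
    fun P hP hQ => mem_of_locQ hP h𝒳 h𝒴 hQ α hy hl₁,
    fun P hP hQ => mem_of_locQ hP h𝒴 h𝒵 hQ β hz hl₂, fun P hP hQ => ?_⟩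
  · obtain ⟨p, hp⟩ := hfs (AlgSt.Points.ofChart y v)
    obtain ⟨r, -, hr⟩ := exists_points_fp_of_map_eq (isFibGrpd_overCat V) h𝒳.isStack.1 h𝒴.isStack.1
      y f p (AlgSt.Points.ofChart (BasedFunctor.id _) v) (hp.trans (ofChart_eq_map y v))
    obtain ⟨u, rfl⟩ := ofChart_surjective (isFibGrpd_fp h𝒳.isStack.1 (isFibGrpd_overCat V)
      h𝒴.isStack.1 f y) hls₁ r
    refine ⟨u, ?_⟩
    have := congrArg ptMap hr
    rw [ptMap_ofChart_id] at this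
    exact ((congrArg ptMap (ofChart_overMap (BasedFunctor.id (overCat V)) h₁ u)).trans
      (ptMap_ofChart_id _)).symm.trans this
  · obtain ⟨C, hC, ⟨iC1⟩, ⟨iC2⟩⟩ := exists_fp_congr (F := f) (F' := f) (G := y)
      (G' := BasedFunctor.comp (fpLift y (AlgSt.overMap h₂) β) (fpFst g z)) (Iso.refl _) (Iso.refl _)
    let R := fpMap (F := f) (G := fpFst g z) (F' := f)
      (G' := BasedFunctor.comp (fpLift y (AlgSt.overMap h₂) β) (fpFst g z)) (BasedFunctor.id _)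
      (fpLift y (AlgSt.overMap h₂) β) (BasedFunctor.id _) (Iso.refl _) (Iso.refl _)
    obtain ⟨E, hE, ⟨iE1⟩, ⟨iE2⟩⟩ := exists_fp_of_cart _ _ _ (fpLift_self_isEquivOver g z) f
    let ψ : overCat U ⥤ᵇ fp (BasedFunctor.comp f g) z :=
      BasedFunctor.comp (fpLift x (AlgSt.overMap h₁) α) (BasedFunctor.comp (BasedFunctor.comp C R) E)
    obtain ⟨γ, ⟨iγ⟩⟩ := exists_fpLift_of_functor ψ (x := x) (k := AlgSt.overMap (h₁ ≫ h₂))
      (isoWhiskerLeft (BasedFunctor.comp (fpLift x (AlgSt.overMap h₁) α) (BasedFunctor.comp C R)) iE1 ≪≫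
        isoWhiskerLeft (fpLift x (AlgSt.overMap h₁) α) iC1)
      (isoWhiskerLeft (BasedFunctor.comp (fpLift x (AlgSt.overMap h₁) α) (BasedFunctor.comp C R)) iE2 ≪≫
        isoWhiskerRight (isoWhiskerLeft (fpLift x (AlgSt.overMap h₁) α) iC2) (AlgSt.overMap h₂) ≪≫
        (overMapCompIso h₁ h₂).symm)
    have hFy : IsFibGrpd (fp f y).p :=
      isFibGrpd_fp h𝒳.isStack.1 (isFibGrpd_overCat V) h𝒴.isStack.1 f y
    have hFF : IsFibGrpd (fp f (fpFst g z)).p := isFibGrpd_fp h𝒳.isStack.1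
      (isFibGrpd_fp h𝒴.isStack.1 (isFibGrpd_overCat W) h𝒵.isStack.1 g z) h𝒴.isStack.1 _ _
    refine mem_of_locQ hP h𝒳 h𝒵 hQ γ hz (repByAlgSpWith_of_iso _ iγ ?_)
    refine repByAlgSpWith_comp good_smooth.bc good_smooth.comp good_smooth.det (isFibGrpd_overCat U) hFy
      hl₁ ?_
    have h1 := repByAlgSpWith_comp_isEquivOver (E := C) (repByAlgSpWith_fpMap_right _ hl₂ f (fpFst g z)) hC
    obtain ⟨d, hd, ⟨j⟩, ⟨j'⟩⟩ := isEquivOver_symm hE
    exact (repByAlgSpWith_iff_of_equiv _ (BasedFunctor.id _) d (isEquivOver_id _) hd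
      (f := BasedFunctor.comp C R) (f' := BasedFunctor.comp (BasedFunctor.comp C R) E)
      (isoWhiskerLeft (BasedFunctor.comp C R) j)).1 h1

/-- A smooth square of a base change, built from a smooth square. -/
theorem exists_baseChange_square (h𝒳 : AlgSt.IsAlgStack Scheme.fppfPrecoverage 𝒳)
    (h𝒴 : AlgSt.IsAlgStack Scheme.fppfPrecoverage 𝒴) (h𝒵 : AlgSt.IsAlgStack Scheme.fppfPrecoverage 𝒵)
    {f : 𝒳 ⥤ᵇ 𝒴} {g : 𝒵 ⥤ᵇ 𝒴} {U V W : Over S} {x : overCat U ⥤ᵇ 𝒳} {y : overCat V ⥤ᵇ 𝒴}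
    {h : U ⟶ V} (α : BasedFunctor.comp x f ≅ BasedFunctor.comp (AlgSt.overMap h) y)
    (hl : AlgSt.RepByAlgSpWith (AlgSp.LocP @Smooth) (fpLift x (AlgSt.overMap h) α))
    {z : overCat W ⥤ᵇ 𝒵} (hz : AlgSt.RepByAlgSpWith (AlgSp.LocP @Smooth) z) (a : W ⟶ V)
    (j : BasedFunctor.comp (AlgSt.overMap a) y ≅ BasedFunctor.comp z g)
    (hP : AlgSp.IsSmoothLocalST P) (hQ : AlgSt.LocQ P (fpFst g f)) :
    P ((AlgSp.yon S).map (pullback.fst a h)) := by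
  obtain ⟨N, hN, ⟨iN1⟩, ⟨iN2⟩⟩ := exists_equiv_pullback a h
  obtain ⟨C1, hC1, ⟨iC11⟩, -⟩ := exists_fp_congr (F := AlgSt.overMap a) (F' := AlgSt.overMap a)
    (G := AlgSt.overMap h) (G' := BasedFunctor.comp (fpLift x (AlgSt.overMap h) α) (fpSnd f y))
    (Iso.refl _) (Iso.refl _)
  let R1 := fpMap (F := AlgSt.overMap a) (G := fpSnd f y) (F' := AlgSt.overMap a)
    (G' := BasedFunctor.comp (fpLift x (AlgSt.overMap h) α) (fpSnd f y)) (BasedFunctor.id _)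
    (fpLift x (AlgSt.overMap h) α) (BasedFunctor.id _) (Iso.refl _) (Iso.refl _)
  have : (BasedFunctor.id (overCat V)).toFunctor.Full := inferInstanceAs (𝟭 _).Full
  have : (BasedFunctor.id (overCat V)).toFunctor.Faithful := inferInstanceAs (𝟭 _).Faithful
  let Sw := fpMap (F := AlgSt.overMap a) (G := fpFst y f) (F' := AlgSt.overMap a) (G' := fpSnd f y)
    (BasedFunctor.id _) (fpSwap f y) (BasedFunctor.id _) (Iso.refl _) (Iso.refl _)
  have hSw : IsEquivOver Sw :=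
    fpMap_isEquivOver _ _ _ _ _ (isEquivOver_id _) (fpSwap_isEquivOver f y)
  obtain ⟨E, hE, ⟨iE1⟩, -⟩ := exists_fp_of_cart _ _ _ (fpLift_self_isEquivOver y f) (AlgSt.overMap a)
  obtain ⟨C2, hC2, ⟨iC21⟩, -⟩ := exists_fp_congr (F := BasedFunctor.comp (AlgSt.overMap a) y)
    (F' := BasedFunctor.comp z g) (G := f) (G' := f) j.symm (Iso.refl _)
  obtain ⟨E', hE', ⟨iE'⟩, -⟩ := exists_fp_of_cart _ _ _ (fpLift_self_isEquivOver g f) z
  obtain ⟨d, hd, ⟨p⟩, ⟨p'⟩⟩ := isEquivOver_symm hE'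
  let D := BasedFunctor.comp d (fpSwap z (fpFst g f))
  let EQ := BasedFunctor.comp (BasedFunctor.comp Sw (BasedFunctor.comp E C2)) D
  have hEQ : IsEquivOver EQ := isEquivOver_comp (isEquivOver_comp hSw (isEquivOver_comp hE hC2))
    (isEquivOver_comp hd (fpSwap_isEquivOver _ _))
  let NR := BasedFunctor.comp (BasedFunctor.comp N C1) R1
  let ψ : overCat (pullback a h) ⥤ᵇ fp (fpFst g f) z := BasedFunctor.comp NR EQ
  have hψ : AlgSt.RepByAlgSpWith (AlgSp.LocP @Smooth) ψ := by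
    have h1 : AlgSt.RepByAlgSpWith (AlgSp.LocP @Smooth) NR :=
      repByAlgSpWith_comp_isEquivOver (repByAlgSpWith_fpMap_right _ hl _ _) (isEquivOver_comp hN hC1)
    obtain ⟨e, he, ⟨q⟩, -⟩ := isEquivOver_symm hEQ
    exact (repByAlgSpWith_iff_of_equiv _ (BasedFunctor.id _) e (isEquivOver_id _) he
      (f := NR) (f' := ψ) (isoWhiskerLeft NR q)).1 h1
  obtain ⟨γ, ⟨iγ⟩⟩ := exists_fpLift_of_functor ψ (x := BasedFunctor.comp ψ (fpFst (fpFst g f) z))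
    (k := AlgSt.overMap (pullback.fst a h)) (Iso.refl _)
    (isoWhiskerLeft (BasedFunctor.comp NR (BasedFunctor.comp (BasedFunctor.comp Sw (BasedFunctor.comp E C2)) d))
        iE'.symm ≪≫
      isoWhiskerLeft (BasedFunctor.comp NR (BasedFunctor.comp Sw (BasedFunctor.comp E C2)))
        (isoWhiskerRight p' (fpFst (BasedFunctor.comp z g) f)) ≪≫
      isoWhiskerLeft (BasedFunctor.comp NR (BasedFunctor.comp Sw E)) iC21 ≪≫
      isoWhiskerLeft (BasedFunctor.comp NR Sw) iE1 ≪≫ isoWhiskerLeft N iC11 ≪≫ iN1)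
  exact mem_of_locQ hP (isAlgStack_fp h𝒴.isStack h𝒴.diag h𝒵 h𝒳 g f) h𝒵 hQ γ hz
    (repByAlgSpWith_of_iso _ iγ hψ)

end Groth.Agent.StFib
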