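import Groth.Agent.StFib.OpenSub
import Groth.Agent.StFib.LocQSquares
import Groth.Agent.StFib.Compact

/-!
The open locus of a chart on which a morphism of algebraic stacks is smooth.
-/

set_option backward.isDefEq.respectTransparency false
set_option backward.isDefEq.respectTransparency.types false
set_option linter.unusedVariables false

universe u

open CategoryTheory CategoryTheory.Limits AlgebraicGeometry Opposite FibCat TopologicalSpace Topology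

namespace Groth.Agent.StFib

variable {S : Scheme.{u}} {𝒳 𝒴 𝒲 : AlgSt.Cat S}

local notation "K" => Scheme.fppfPrecoverage

theorem of_comp_fullyFaithful {P : MorphismProperty (AlgSp.Sp S)} (g : 𝒲 ⥤ᵇ 𝒳) (i : 𝒳 ⥤ᵇ 𝒴)
    [i.toFunctor.Full] [i.toFunctor.Faithful] (hc : AlgSt.RepByAlgSpWith P (BasedFunctor.comp g i)) :
    AlgSt.RepByAlgSpWith P g := by
  refine repByAlgSpWith_of_cart P (f := BasedFunctor.comp g i) (g := i) g (BasedFunctor.id _) (Iso.refl _) ?_ hc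
  refine fpLift_isEquivOver_mk _ _ _ (fun φ ψ _ h => h) (fun {w w'} a b h => ⟨b, ?_, rfl⟩) fun z => ?_
  · apply i.toFunctor.map_injective
    change i.map a ≫ 𝟙 _ = 𝟙 _ ≫ i.map (g.map b) at h
    simpa using h.symm
  · let a : g.obj z.obj.snd ≅ z.obj.fst := i.toFunctor.preimageIso z.obj.iso.symm
    have ha : i.map a.hom = z.obj.iso.inv := i.toFunctor.map_preimage _
    refine ⟨z.obj.snd, a, Iso.refl _, Vert.of_map i (by rw [ha]; exact (vert_fp_iso z).inv), ?_⟩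
    rw [ha, Iso.inv_hom_id]
    change 𝟙 _ = 𝟙 _ ≫ i.map (g.map (𝟙 z.obj.snd))
    simp

/-- The open subscheme of a slice. -/
def openOver (U : Over S) (O : U.left.Opens) : Over S := Over.mk (O.ι ≫ U.hom)

/-- Its inclusion. -/
def openIncl (U : Over S) (O : U.left.Opens) : openOver U O ⟶ U := Over.homMk O.ι rfl

theorem rep_smooth_openIncl_comp {U : Over S} {x : overCat U ⥤ᵇ 𝒳}
    (hx : AlgSt.RepByAlgSpWith (AlgSp.LocP @Smooth) x) (O : U.left.Opens) :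
    AlgSt.RepByAlgSpWith (AlgSp.LocP @Smooth) (BasedFunctor.comp (AlgSt.overMap (openIncl U O)) x) :=
  repByAlgSpWith_comp good_smooth.bc good_smooth.comp good_smooth.det (isFibGrpd_overCat _)
    (isFibGrpd_overCat U) (repByAlgSpWith_overMap_locP Groth.Agent.AlgSpCov.standard_smooth (openIncl U O)
      (inferInstanceAs (Smooth O.ι))) hx

theorem chart_mem_ptsProp (h𝒳 : IsFibGrpd 𝒳.p) {U : Over S} (x : overCat U ⥤ᵇ 𝒳) (O : U.left.Opens)
    (T : Set (AlgSt.Points 𝒳)) (hO : ∀ t ∈ O, AlgSt.Points.ofChart x t ∈ T) (w : (overCat (openOver U O)).obj) :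
    ptsProp T ((BasedFunctor.comp (AlgSt.overMap (openIncl U O)) x).obj w) :=
  (ptsProp_chart_iff h𝒳 (BasedFunctor.comp (AlgSt.overMap (openIncl U O)) x) w T).2 fun t => by
    rw [ofChart_overMap]
    exact hO _ (w.hom.left t).2

/-- Where a morphism is smooth on an open substack, every smooth chart square of it is smooth. -/
theorem smooth_restrict_of_locQ (h𝒳 : AlgSt.IsAlgStack K 𝒳) (h𝒴 : AlgSt.IsAlgStack K 𝒴) {f : 𝒳 ⥤ᵇ 𝒴}
    {U V : Over S} {x : overCat U ⥤ᵇ 𝒳} {y : overCat V ⥤ᵇ 𝒴} {h : U ⟶ V}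
    (α : BasedFunctor.comp x f ≅ BasedFunctor.comp (AlgSt.overMap h) y)
    (hy : AlgSt.RepByAlgSpWith (AlgSp.LocP @Smooth) y)
    (hl : AlgSt.RepByAlgSpWith (AlgSp.LocP @Smooth) (fpLift x (AlgSt.overMap h) α))
    {Q : 𝒳.obj → Prop} (hQ : AlgSt.IsOpenSubstack 𝒳 Q K)
    (hf : AlgSt.LocQ (AlgSp.LocP @Smooth) (BasedFunctor.comp (AlgSt.subIncl 𝒳 Q) f))
    (O : U.left.Opens)
    (hO : ∀ t ∈ O, AlgSt.Points.ofChart x t ∈ Set.range (AlgSt.Points.map (AlgSt.subIncl 𝒳 Q))) :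
    Smooth (O.ι ≫ h.left) := by
  let i := AlgSt.subIncl 𝒳 Q
  let j := openIncl U O
  let xO : overCat (openOver U O) ⥤ᵇ AlgSt.fullSub 𝒳 Q :=
    subLift (BasedFunctor.comp (AlgSt.overMap j) x) fun w =>
      (mem_openSubstack_iff h𝒳 hQ _).2 (chart_mem_ptsProp h𝒳.isStack.1 x O _ hO w)
  let α' : BasedFunctor.comp xO (BasedFunctor.comp i f) ≅ BasedFunctor.comp (AlgSt.overMap (j ≫ h)) y :=
    isoWhiskerLeft (AlgSt.overMap j) α ≪≫ isoWhiskerRight (overMapCompIso j h).symm y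
  let M : fp (BasedFunctor.comp i f) y ⥤ᵇ fp f y :=
    fpLift (BasedFunctor.comp (fpFst (BasedFunctor.comp i f) y) i) (fpSnd (BasedFunctor.comp i f) y)
      (fpIso (BasedFunctor.comp i f) y)
  have : M.toFunctor.Faithful := ⟨fun {a b} φ ψ e => fp_hom_ext
    (i.toFunctor.map_injective (congrArg (fun k => k.hom.fst) e)) (congrArg (fun k => k.hom.snd) e :)⟩
  have : M.toFunctor.Full := ⟨fun {a b} k => by
    obtain ⟨φ, hφ⟩ := i.toFunctor.map_surjective k.hom.fst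
    refine ⟨fpHom φ k.hom.snd ?_, fp_hom_ext hφ rfl⟩
    change f.map (i.map φ) ≫ _ = _
    rw [hφ]
    exact k.hom.w⟩
  let g := fpLift xO (AlgSt.overMap (j ≫ h)) α'
  let e : BasedFunctor.comp (AlgSt.overMap j) (fpLift x (AlgSt.overMap h) α) ≅ BasedFunctor.comp g M :=
    isoMk (F := BasedFunctor.comp (AlgSt.overMap j) (fpLift x (AlgSt.overMap h) α))
      (G := BasedFunctor.comp g M)
      (fun a => fpIsoMk (Iso.refl _) (isoApp (overMapCompIso j h).symm a) (by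
        change f.map (𝟙 _) ≫ (isoApp (isoWhiskerLeft (AlgSt.overMap j) α ≪≫
          isoWhiskerRight (overMapCompIso j h).symm y) a).hom =
            (isoApp α ((AlgSt.overMap j).obj a)).hom ≫ y.map (isoApp (overMapCompIso j h).symm a).hom
        rw [CategoryTheory.Functor.map_id, Category.id_comp]
        rfl))
      (fun a => Vert.id _)
      (fun {a b} φ => fp_hom_ext (F := f) (G := y) ((Category.comp_id _).trans (Category.id_comp _).symm)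
        (isoApp_naturality (overMapCompIso j h).symm φ))
  have hg : AlgSt.RepByAlgSpWith (AlgSp.LocP @Smooth) g :=
    of_comp_fullyFaithful g M (repByAlgSpWith_of_iso _ e (rep_smooth_openIncl_comp hl O))
  exact AlgSp.locP_yon_map (mem_of_locQ (isSmoothLocalST_locP smoothLocalProp_smooth) hQ.2.1 h𝒴 hf α' hy hg)

/-- A morphism smooth on an open piece of a chart is smooth on the open substack it covers. -/
theorem locQ_smooth_ptsProp (h𝒳 : AlgSt.IsAlgStack K 𝒳) {f : 𝒳 ⥤ᵇ 𝒴}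
    {U V : Over S} {x : overCat U ⥤ᵇ 𝒳} {y : overCat V ⥤ᵇ 𝒴} {h : U ⟶ V}
    (α : BasedFunctor.comp x f ≅ BasedFunctor.comp (AlgSt.overMap h) y)
    (hx : AlgSt.RepByAlgSpWith (AlgSp.LocP @Smooth) x) (hy : AlgSt.RepByAlgSpWith (AlgSp.LocP @Smooth) y)
    {T : Set (AlgSt.Points 𝒳)} (hT : IsOpen T) (O : U.left.Opens)
    (hOT : AlgSt.Points.ofChart x '' O = T) (hs : Smooth (O.ι ≫ h.left)) :
    AlgSt.LocQ (AlgSp.LocP @Smooth) (BasedFunctor.comp (AlgSt.subIncl 𝒳 (ptsProp T)) f) := by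
  let i := AlgSt.subIncl 𝒳 (ptsProp T)
  let j := openIncl U O
  obtain ⟨-, hA, hi⟩ := isOpenSubstack_ptsProp h𝒳 hT
  let xO : overCat (openOver U O) ⥤ᵇ AlgSt.fullSub 𝒳 (ptsProp T) :=
    subLift (BasedFunctor.comp (AlgSt.overMap j) x)
      (chart_mem_ptsProp h𝒳.isStack.1 x O T fun t ht => hOT ▸ Set.mem_image_of_mem _ ht)
  let α' : BasedFunctor.comp xO (BasedFunctor.comp i f) ≅ BasedFunctor.comp (AlgSt.overMap (j ≫ h)) y :=
    isoWhiskerLeft (AlgSt.overMap j) α ≪≫ isoWhiskerRight (overMapCompIso j h).symm y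
  have hxO : AlgSt.RepByAlgSpWith (AlgSp.LocP @Smooth) xO :=
    of_comp_fullyFaithful xO i (rep_smooth_openIncl_comp hx O)
  refine ⟨openOver U O, V, xO, y, j ≫ h, α', hxO, ?_, hy, ?_⟩
  · refine (isSurjective_iff_rep (isAlgStack_of_repByAlgSp (repByAlgSp_overCat _)) hA
      (repByAlgSp1_of_with hxO)).1 fun P => ?_
    obtain ⟨t, ht, htP⟩ : AlgSt.Points.map i P ∈ AlgSt.Points.ofChart x '' O := by
      rw [hOT]
      exact (range_subIncl_ptsProp T h𝒳.isStack.1).subset ⟨P, rfl⟩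
    refine ⟨AlgSt.Points.ofChart (BasedFunctor.id _) ⟨t, ht⟩,
      points_map_injective_of_isMono hA.isStack.1 h𝒳.isStack.1 i ?_ ?_⟩
    · exact repByAlgSpWith_mono hi fun F V m hm => Groth.Agent.AlgSp.mono_of_repWith
        (fun f hf => (have : IsOpenImmersion f := hf; inferInstance : Mono f)) m hm
    · rw [← ofChart_eq_map, ← htP, map_ofChart]
      exact ofChart_overMap x j ⟨t, ht⟩
  · exact Groth.Agent.AlgSpCov.locP_of_repWith Groth.Agent.AlgSpCov.standard_smooth.etaleLocal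
      ((AlgSp.repWith_yon_map_iff _ _).2 hs)

theorem smooth_sSup_opens {A B : Scheme.{u}} (g : A ⟶ B) :
    Smooth ((sSup {O : A.Opens | Smooth (O.ι ≫ g)} : A.Opens).ι ≫ g) := by
  set W : A.Opens := sSup {O : A.Opens | Smooth (O.ι ≫ g)}
  refine IsZariskiLocalAtSource.of_iSup_eq_top (P := @Smooth) (fun O : {O : A.Opens // Smooth (O.ι ≫ g)} => W.ι ⁻¹ᵁ O.1) ?_ ?_
  · refine Opens.ext (Set.eq_univ_of_forall fun a => ?_)
    obtain ⟨O, hO, haO⟩ := Opens.mem_sSup.1 a.2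
    exact Opens.mem_iSup.2 ⟨⟨O, hO⟩, haO⟩
  · intro O
    have := O.2
    rw [← Category.assoc, ← morphismRestrict_ι, Category.assoc]
    infer_instance

theorem exists_largest_smooth (h𝒳 : AlgSt.IsAlgStack K 𝒳) (h𝒴 : AlgSt.IsAlgStack K 𝒴) (f : 𝒳 ⥤ᵇ 𝒴) :
    ∃ Q : 𝒳.obj → Prop, AlgSt.IsOpenSubstack 𝒳 Q K ∧
      AlgSt.LocQ (AlgSp.LocP @Smooth) (BasedFunctor.comp (AlgSt.subIncl 𝒳 Q) f) ∧
      ∀ Q' : 𝒳.obj → Prop, AlgSt.IsOpenSubstack 𝒳 Q' K →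
        AlgSt.LocQ (AlgSp.LocP @Smooth) (BasedFunctor.comp (AlgSt.subIncl 𝒳 Q') f) → ∀ a, Q' a → Q a := by
  obtain ⟨V, y, hy, hys⟩ := h𝒴.atlas
  obtain ⟨U, x, h, α, hx, hxs, hl, -⟩ := exists_smooth_square h𝒳 h𝒴 f hy
  let W : U.left.Opens := sSup {O : U.left.Opens | Smooth (O.ι ≫ h.left)}
  let T := AlgSt.Points.ofChart x '' W
  have hT : IsOpen T :=
    isOpenMap_ofChart h𝒳 (repByAlgSpWith_flat_of_smooth hx) (repByAlgSpWith_lfp_of_smooth hx) _ W.isOpen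
  refine ⟨ptsProp T, isOpenSubstack_ptsProp h𝒳 hT,
    locQ_smooth_ptsProp h𝒳 α hx hy hT W rfl (smooth_sSup_opens h.left), fun Q' hQ' hf' => ?_⟩
  refine (openSubstack_le_iff h𝒳 hQ' (isOpenSubstack_ptsProp h𝒳 hT)).2 fun P hP => ?_
  rw [range_subIncl_ptsProp T h𝒳.isStack.1]
  obtain ⟨t, rfl⟩ := ofChart_surjective h𝒳.isStack.1 (hxs hys) P
  let O : U.left.Opens := ⟨_, (isOpen_range_openSubstack h𝒳 hQ').preimage (continuous_ofChart h𝒳 x)⟩
  exact ⟨t, Opens.mem_sSup.2 ⟨O, smooth_restrict_of_locQ h𝒳 h𝒴 α hy hl hQ' hf' O fun _ ht => ht, hP⟩, rfl⟩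

theorem ptsProp_map_iff {𝒳' : AlgSt.Cat S} (h𝒳' : IsFibGrpd 𝒳'.p) (h𝒳 : IsFibGrpd 𝒳.p) (g : 𝒳' ⥤ᵇ 𝒳)
    (R : Set (AlgSt.Points 𝒳)) (a : 𝒳'.obj) :
    ptsProp R (g.obj a) ↔ ptsProp (AlgSt.Points.map g ⁻¹' R) a := by
  refine ⟨fun h p b => h (p.map g) (g.map b), fun h p b => ?_⟩
  let d : Over.mk p.str ⟶ 𝒳'.p.obj a := eqToHom p.lies.symm ≫ 𝒳.p.map b ≫ eqToHom (g.w_obj a)
  obtain ⟨a', ea, c, hc⟩ := grpd_exists_lift h𝒳' a d
  obtain ⟨χ, -, -⟩ := grpd_exists_vert_fac h𝒳 (g.map c) b (p.lies.trans ((g.w_obj a').trans ea).symm)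
    (by rw [w_map, hc]; simp [d])
  exact (AlgSt.Points.sound ⟨p, 𝟙 _, χ.hom, trivial⟩ :
    AlgSt.Points.mk p = AlgSt.Points.map g (AlgSt.Points.mk ⟨p.K, p.str, a', ea⟩)) ▸
      h ⟨p.K, p.str, a', ea⟩ c

/-- A composite of two smooth squares is a smooth square. -/
theorem exists_smooth_comp_fpLift {𝒳' : AlgSt.Cat S} (h𝒳' : AlgSt.IsAlgStack K 𝒳')
    (h𝒳 : AlgSt.IsAlgStack K 𝒳) (h𝒴 : AlgSt.IsAlgStack K 𝒴) {g : 𝒳' ⥤ᵇ 𝒳} {f : 𝒳 ⥤ᵇ 𝒴} {U V W : Over S}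
    {x : overCat U ⥤ᵇ 𝒳'} {y : overCat V ⥤ᵇ 𝒳} {z : overCat W ⥤ᵇ 𝒴} {h₁ : U ⟶ V} {h₂ : V ⟶ W}
    (α : BasedFunctor.comp x g ≅ BasedFunctor.comp (AlgSt.overMap h₁) y)
    (β : BasedFunctor.comp y f ≅ BasedFunctor.comp (AlgSt.overMap h₂) z)
    (hl₁ : AlgSt.RepByAlgSpWith (AlgSp.LocP @Smooth) (fpLift x (AlgSt.overMap h₁) α))
    (hl₂ : AlgSt.RepByAlgSpWith (AlgSp.LocP @Smooth) (fpLift y (AlgSt.overMap h₂) β)) :
    ∃ γ : BasedFunctor.comp x (BasedFunctor.comp g f) ≅ BasedFunctor.comp (AlgSt.overMap (h₁ ≫ h₂)) z,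
      AlgSt.RepByAlgSpWith (AlgSp.LocP @Smooth) (fpLift x (AlgSt.overMap (h₁ ≫ h₂)) γ) := by
  obtain ⟨C, hC, ⟨iC1⟩, ⟨iC2⟩⟩ := exists_fp_congr (F := g) (F' := g) (G := y)
    (G' := BasedFunctor.comp (fpLift y (AlgSt.overMap h₂) β) (fpFst f z)) (Iso.refl _) (Iso.refl _)
  let R := fpMap (F := g) (G := fpFst f z) (F' := g)
    (G' := BasedFunctor.comp (fpLift y (AlgSt.overMap h₂) β) (fpFst f z)) (BasedFunctor.id _)
    (fpLift y (AlgSt.overMap h₂) β) (BasedFunctor.id _) (Iso.refl _) (Iso.refl _)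
  obtain ⟨E, hE, ⟨iE1⟩, ⟨iE2⟩⟩ := exists_fp_of_cart _ _ _ (fpLift_self_isEquivOver f z) g
  let ψ : overCat U ⥤ᵇ fp (BasedFunctor.comp g f) z :=
    BasedFunctor.comp (fpLift x (AlgSt.overMap h₁) α) (BasedFunctor.comp (BasedFunctor.comp C R) E)
  obtain ⟨γ, ⟨iγ⟩⟩ := exists_fpLift_of_functor ψ (x := x) (k := AlgSt.overMap (h₁ ≫ h₂))
    (isoWhiskerLeft (BasedFunctor.comp (fpLift x (AlgSt.overMap h₁) α) (BasedFunctor.comp C R)) iE1 ≪≫
      isoWhiskerLeft (fpLift x (AlgSt.overMap h₁) α) iC1)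
    (isoWhiskerLeft (BasedFunctor.comp (fpLift x (AlgSt.overMap h₁) α) (BasedFunctor.comp C R)) iE2 ≪≫
      isoWhiskerRight (isoWhiskerLeft (fpLift x (AlgSt.overMap h₁) α) iC2) (AlgSt.overMap h₂) ≪≫
      (overMapCompIso h₁ h₂).symm)
  refine ⟨γ, repByAlgSpWith_of_iso _ iγ ?_⟩
  refine repByAlgSpWith_comp good_smooth.bc good_smooth.comp good_smooth.det (isFibGrpd_overCat U)
    (isFibGrpd_fp h𝒳'.isStack.1 (isFibGrpd_overCat V) h𝒳.isStack.1 g y) hl₁ ?_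
  have h1 := repByAlgSpWith_comp_isEquivOver (E := C) (repByAlgSpWith_fpMap_right _ hl₂ g (fpFst f z)) hC
  obtain ⟨d, hd, ⟨j⟩, -⟩ := isEquivOver_symm hE
  exact (repByAlgSpWith_iff_of_equiv _ (BasedFunctor.id _) d (isEquivOver_id _) hd
    (f := BasedFunctor.comp C R) (f' := BasedFunctor.comp (BasedFunctor.comp C R) E)
    (isoWhiskerLeft (BasedFunctor.comp C R) j)).1 h1

/-- The largest open substack on which a morphism is smooth commutes with smooth precomposition. -/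
theorem largest_smooth_precomp {𝒳' : AlgSt.Cat S} (h𝒳' : AlgSt.IsAlgStack K 𝒳') (h𝒳 : AlgSt.IsAlgStack K 𝒳)
    (h𝒴 : AlgSt.IsAlgStack K 𝒴) (g : 𝒳' ⥤ᵇ 𝒳) (hg : AlgSt.LocQ (AlgSp.LocP @Smooth) g) (f : 𝒳 ⥤ᵇ 𝒴)
    (Q : 𝒳.obj → Prop) (hQ₁ : AlgSt.IsOpenSubstack 𝒳 Q K)
    (hQ₂ : AlgSt.LocQ (AlgSp.LocP @Smooth) (BasedFunctor.comp (AlgSt.subIncl 𝒳 Q) f))
    (hQ₃ : ∀ Q' : 𝒳.obj → Prop, AlgSt.IsOpenSubstack 𝒳 Q' K →
      AlgSt.LocQ (AlgSp.LocP @Smooth) (BasedFunctor.comp (AlgSt.subIncl 𝒳 Q') f) → ∀ a, Q' a → Q a) :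
    AlgSt.IsOpenSubstack 𝒳' (fun a ↦ Q (g.obj a)) K ∧
      AlgSt.LocQ (AlgSp.LocP @Smooth)
        (BasedFunctor.comp (AlgSt.subIncl 𝒳' (fun a ↦ Q (g.obj a))) (BasedFunctor.comp g f)) ∧
      ∀ Q' : 𝒳'.obj → Prop, AlgSt.IsOpenSubstack 𝒳' Q' K →
        AlgSt.LocQ (AlgSp.LocP @Smooth) (BasedFunctor.comp (AlgSt.subIncl 𝒳' Q') (BasedFunctor.comp g f)) →
        ∀ a, Q' a → Q (g.obj a) := by
  have hP := isSmoothLocalST_locP (S := S) smoothLocalProp_smooth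
  let R := Set.range (AlgSt.Points.map (AlgSt.subIncl 𝒳 Q))
  have hR : IsOpen R := isOpen_range_openSubstack h𝒳 hQ₁
  have hpre : (fun a ↦ Q (g.obj a)) = ptsProp (AlgSt.Points.map g ⁻¹' R) := funext fun a => propext
    ((mem_openSubstack_iff h𝒳 hQ₁ _).trans (ptsProp_map_iff h𝒳'.isStack.1 h𝒳.isStack.1 g R a))
  have hT' : IsOpen (AlgSt.Points.map g ⁻¹' R) := hR.preimage (continuous_points_map h𝒳 g)
  obtain ⟨W, z, hz, hzs⟩ := h𝒴.atlas
  obtain ⟨V, y, h₂, β, hy, hys, hl₂, -⟩ := exists_smooth_square h𝒳 h𝒴 f hz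
  obtain ⟨U, x, h₁, α, hx, hxs, hl₁, -⟩ := exists_smooth_square h𝒳' h𝒳 g hy
  have hh₁ : Smooth h₁.left := AlgSp.locP_yon_map (mem_of_locQ hP h𝒳' h𝒳 hg α hy hl₁)
  obtain ⟨γ, hlγ⟩ := exists_smooth_comp_fpLift h𝒳' h𝒳 h𝒴 α β hl₁ hl₂
  have hmap : ∀ t, AlgSt.Points.map g (AlgSt.Points.ofChart x t) = AlgSt.Points.ofChart y (h₁.left t) :=
    fun t => by rw [map_ofChart, ofChart_congr α, ofChart_overMap]
  refine ⟨by rw [hpre]; exact isOpenSubstack_ptsProp h𝒳' hT', ?_, fun Q' hQ' hf' a ha => ?_⟩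
  · rw [hpre]
    let O₂ : V.left.Opens := ⟨_, hR.preimage (continuous_ofChart h𝒳 y)⟩
    have h₂s := smooth_restrict_of_locQ h𝒳 h𝒴 β hz hl₂ hQ₁ hQ₂ O₂ fun _ ht => ht
    refine locQ_smooth_ptsProp h𝒳' γ hx hz hT' (h₁.left ⁻¹ᵁ O₂) ?_ ?_
    · ext P
      constructor
      · rintro ⟨t, ht, rfl⟩
        rw [Set.mem_preimage, hmap]
        exact ht
      · intro hP'
        obtain ⟨t, rfl⟩ := ofChart_surjective h𝒳'.isStack.1 (hxs (hys hzs)) P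
        exact ⟨t, (hmap t ▸ hP' : AlgSt.Points.ofChart y (h₁.left t) ∈ R), rfl⟩
    · change Smooth (_ ≫ h₁.left ≫ h₂.left)
      rw [← Category.assoc, ← morphismRestrict_ι, Category.assoc]
      infer_instance
  · let O : U.left.Opens := ⟨_, (isOpen_range_openSubstack h𝒳' hQ').preimage (continuous_ofChart h𝒳' x)⟩
    have hO : Smooth (O.ι ≫ h₁.left ≫ h₂.left) :=
      smooth_restrict_of_locQ h𝒳' h𝒴 γ hz hlγ hQ' hf' O fun _ ht => ht
    let u := O.ι ≫ h₁.left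
    let E : V.left.Opens := ⟨Set.range u, u.isOpenMap.isOpen_range⟩
    have : Surjective (u ∣_ E) := ⟨fun e => by
      obtain ⟨o, ho⟩ : e.1 ∈ Set.range u := e.2
      refine ⟨⟨o, show u o ∈ E from ho ▸ e.2⟩, Subtype.ext ?_⟩
      exact (morphismRestrict_base_coe u E _).trans ho⟩
    have hE : Smooth (E.ι ≫ h₂.left) := by
      refine smoothLocalProp_smooth.descend (u ∣_ E) _ inferInstance this ?_
      rw [← Category.assoc, morphismRestrict_ι, Category.assoc, Category.assoc]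
      infer_instance
    let T := AlgSt.Points.ofChart y '' E
    have hT : IsOpen T :=
      isOpenMap_ofChart h𝒳 (repByAlgSpWith_flat_of_smooth hy) (repByAlgSpWith_lfp_of_smooth hy) _ E.isOpen
    have hle := (openSubstack_le_iff h𝒳 (isOpenSubstack_ptsProp h𝒳 hT) hQ₁).1
      (hQ₃ _ (isOpenSubstack_ptsProp h𝒳 hT) (locQ_smooth_ptsProp h𝒳 β hy hz hT E rfl hE))
    rw [range_subIncl_ptsProp T h𝒳.isStack.1] at hle
    refine (congrFun hpre a).mpr fun p b => ?_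
    obtain ⟨t, ht⟩ := ofChart_surjective h𝒳'.isStack.1 (hxs (hys hzs)) (AlgSt.Points.mk p)
    have htO : t ∈ O := (ht.symm ▸ (mem_openSubstack_iff h𝒳' hQ' a).1 ha p b :
      AlgSt.Points.ofChart x t ∈ _)
    rw [Set.mem_preimage, ← ht, hmap]
    exact hle ⟨_, ⟨⟨t, htO⟩, rfl⟩, rfl⟩

end Groth.Agent.StFib
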