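import Groth.Agent.StFib.GenLocus
import Groth.Agent.StFib.SmoothLocus
import Groth.Agent.StFib.DiagComp
import Groth.Agent.StFib.DiagConv

/-!
The largest open substack on which a property of representable morphisms holds.
-/

set_option backward.isDefEq.respectTransparency false
set_option backward.isDefEq.respectTransparency.types false
set_option linter.unusedVariables false

universe u

open CategoryTheory CategoryTheory.Limits AlgebraicGeometry Opposite FibCat TopologicalSpace Topology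

namespace Groth.Agent.StFib

variable {S : Scheme.{u}} {𝒳 𝒴 𝒵 𝒲 : AlgSt.Cat S} {P Q R : MorphismProperty (AlgSp.Sp S)}

local notation "K" => Scheme.fppfPrecoverage

theorem detected_of_isLocalOnBase_fppf (hP : AlgSp.IsLocalOnBase AlgSp.IsFppfCover P) : DetectedOnSchemes P := by
  intro V A hV hA b h
  obtain ⟨U, p, hpe, hps⟩ := hA.atlas
  have h1 : AlgSp.LocP @Flat p := Groth.Agent.AlgSpCov.locP_of_repWith Groth.Agent.AlgSpCov.standard_flat.etaleLocal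
    (Groth.Agent.AlgSp.repWith_mono (Q := @Flat) (fun f hf => have : Etale f := hf; inferInstance) hpe)
  have h2 : AlgSp.LocP @LocallyOfFinitePresentation p := Groth.Agent.AlgSpCov.locP_of_repWith
    Groth.Agent.AlgSpCov.standard_locallyOfFinitePresentation.etaleLocal
    (Groth.Agent.AlgSp.repWith_mono (Q := @LocallyOfFinitePresentation) (fun f hf => have : Etale f := hf; inferInstance) hpe)
  refine (hP (ι := PUnit.{u + 1}) (fun _ => (AlgSp.yon S).obj U) (fun _ => p) hA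
    (fun _ => isAlgSpace_yon U) ⟨fun _ => ⟨h1, h2⟩, fun x => ⟨⟨⟩, ?_⟩⟩ b hV
    (fun _ => pullback b p) (fun _ => pullback.snd b p) (fun _ => pullback.fst b p)
    (fun _ => Groth.Agent.AlgSp.isAlgSpace_pullback hA hV (isAlgSpace_yon U) b p)
    (fun _ => IsPullback.of_hasPullback b p)).2 fun _ => h p
  obtain ⟨u, rfl⟩ := Groth.Agent.AlgSpB.surjective_ofPt hps x
  exact ⟨AlgSp.Points.ofPt (𝟙 _) u, by rw [AlgSp.Points.map_ofPt, Category.id_comp]⟩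

/-- A representable morphism with `P` has `P` on the base change to an algebraic space. -/
theorem mem_chartMap (hPb : StableBC P) (hdet : DetectedOnSchemes P) {g : 𝒳 ⥤ᵇ 𝒴}
    (hg : AlgSt.RepByAlgSpWith P g) {A B : AlgSp.Space S} {y : AlgSt.ofSp B.obj ⥤ᵇ 𝒴}
    {e : AlgSt.ofSp A.obj ⥤ᵇ fp y g} (he : IsEquivOver e) : P (chartMap e).hom := by
  obtain ⟨i⟩ : Nonempty (BasedFunctor.comp e (fpFst y g) ≅ AlgSt.ofSpMap (chartMap e).hom) := exists_iso_pshMap _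
  refine mem_of_repByAlgSpWith_ofSpMap hPb hdet A.property B.property _
    ((repByAlgSpWith_iff_of_equiv P e (BasedFunctor.id _) he (isEquivOver_id _) (f := fpFst y g)
      (f' := AlgSt.ofSpMap (chartMap e).hom) i.symm).1 (repByAlgSpWith_fpFst P y hg))

theorem mem_ptsProp_of_range (h𝒲 : IsFibGrpd 𝒲.p) (h𝒳 : IsFibGrpd 𝒳.p) (c : 𝒲 ⥤ᵇ 𝒳)
    {T : Set (AlgSt.Points 𝒳)} (h : ∀ p, AlgSt.Points.map c p ∈ T) (w : 𝒲.obj) : ptsProp T (c.obj w) :=
  fun p a => by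
    let d : Over.mk p.str ⟶ 𝒲.p.obj w := eqToHom p.lies.symm ≫ 𝒳.p.map a ≫ eqToHom (c.w_obj w)
    obtain ⟨w', ew, b, hb⟩ := grpd_exists_lift h𝒲 w d
    obtain ⟨χ, -, -⟩ := grpd_exists_vert_fac h𝒳 (c.map b) a
      (p.lies.trans ((c.w_obj w').trans ew).symm) (by rw [w_map, hb]; simp [d])
    rw [(AlgSt.Points.sound ⟨p, 𝟙 _, χ.hom, trivial⟩ :
      AlgSt.Points.mk p = AlgSt.Points.map c (AlgSt.Points.mk ⟨p.K, p.str, w', ew⟩))]
    exact h (AlgSt.Points.mk ⟨p.K, p.str, w', ew⟩)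

theorem range_map_ofSpMap {A W : AlgSp.Sp S} (w : W ⟶ A) :
    Set.range (AlgSt.Points.map (AlgSt.ofSpMap w)) = toSpPt ⁻¹' Set.range (AlgSp.Points.map w) := by
  ext p
  constructor
  · rintro ⟨q, rfl⟩
    exact ⟨toSpPt q, (toSpPt_map _ _).symm⟩
  · rintro ⟨q, hq⟩
    obtain ⟨q, rfl⟩ := toSpPt_bijective.2 q
    exact ⟨q, toSpPt_bijective.1 (by rw [toSpPt_map, hq])⟩

theorem space_chart_surjective (h𝒳 : AlgSt.IsAlgStack K 𝒳) {f : 𝒳 ⥤ᵇ 𝒴} {A B : AlgSp.Space S}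
    {v : AlgSt.ofSp B.obj ⥤ᵇ 𝒴} (hv : AlgSt.RepByAlgSpWith (AlgSp.LocP @Smooth) v)
    (hvs : AlgSt.RepByAlgSpWith AlgSp.IsSurjectiveMor v) {e : AlgSt.ofSp A.obj ⥤ᵇ fp v f} (he : IsEquivOver e) :
    Function.Surjective (AlgSt.Points.map (BasedFunctor.comp e (fpSnd v f))) :=
  (isSurjective_iff_rep (isAlgStack_of_repByAlgSp (repByAlgSp_ofSp A.property)) h𝒳
    (repByAlgSp1_of_with (repByAlgSpWith_comp_isEquivOver (repByAlgSpWith_fpSnd _ v hv) he))).2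
    (repByAlgSpWith_comp_isEquivOver (repByAlgSpWith_fpSnd _ v hvs) he)

theorem exists_space_chart (h𝒳 : AlgSt.IsAlgStack K 𝒳) (h𝒴 : AlgSt.IsAlgStack K 𝒴) (f : 𝒳 ⥤ᵇ 𝒴)
    (hf : AlgSt.RepByAlgSp1 f) :
    ∃ (A B : AlgSp.Space S) (v : AlgSt.ofSp B.obj ⥤ᵇ 𝒴) (e : AlgSt.ofSp A.obj ⥤ᵇ fp v f),
      AlgSt.RepByAlgSpWith (AlgSp.LocP @Smooth) v ∧ AlgSt.RepByAlgSpWith AlgSp.IsSurjectiveMor v ∧
        IsEquivOver e := by
  obtain ⟨V, v₁, hv₁, hvs₁⟩ := h𝒴.atlas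
  obtain ⟨A, e, he⟩ := repByAlgSp_fp h𝒳.isStack.1 h𝒴.isStack.1 f (BasedFunctor.comp (AlgSt.toOverCat V) v₁) hf
    (repByAlgSp_ofSp (isAlgSpace_yon V))
  exact ⟨A, ⟨(AlgSp.yon S).obj V, isAlgSpace_yon V⟩, _, e,
    repByAlgSpWith_comp_isEquivOver hv₁ (toOverCat_isEquivOver V),
    repByAlgSpWith_comp_isEquivOver hvs₁ (toOverCat_isEquivOver V), he⟩

/-- An open subspace of a chart presents the chart of the open substack it is the preimage of. -/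
theorem exists_chart_ptsProp (h𝒳 : AlgSt.IsAlgStack K 𝒳) {f : 𝒳 ⥤ᵇ 𝒴} {A B W : AlgSp.Space S}
    {v : AlgSt.ofSp B.obj ⥤ᵇ 𝒴} {e : AlgSt.ofSp A.obj ⥤ᵇ fp v f} (he : IsEquivOver e)
    (T : Set (AlgSt.Points 𝒳)) {w : W ⟶ A} (hw : AlgSp.RepWith @IsOpenImmersion w.hom)
    (hT : Set.range (AlgSt.Points.map (AlgSt.ofSpMap w.hom)) =
      AlgSt.Points.map (BasedFunctor.comp e (fpSnd v f)) ⁻¹' T) :
    ∃ E : AlgSt.ofSp W.obj ⥤ᵇ fp v (BasedFunctor.comp (AlgSt.subIncl 𝒳 (ptsProp T)) f),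
      IsEquivOver E ∧ chartMap E = w ≫ chartMap e := by
  let i := AlgSt.subIncl 𝒳 (ptsProp T)
  let j := AlgSt.ofSpMap w.hom
  let u := BasedFunctor.comp e (fpSnd v f)
  have hWg : IsFibGrpd (AlgSt.ofSp W.obj).p := Stk.isFibGrpd_ofPsh _
  have hAg : IsFibGrpd (AlgSt.ofSp A.obj).p := Stk.isFibGrpd_ofPsh _
  have hjI : AlgSt.IsOpenImm j := repByAlgSpWith_ofSpMap
    (fun _ _ _ _ _ _ _ _ a b a' b' sq h => MorphismProperty.of_isPullback sq h) W.property A.property _ hw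
  obtain ⟨hjfull, hjfaith⟩ := fullyFaithful_of_isMono hWg hAg j
    (repByAlgSpWith_mono hjI fun F V m hm => Groth.Agent.AlgSp.mono_of_repWith
      (fun g hg => (have : IsOpenImmersion g := hg; inferInstance : Mono g)) m hm)
  have := full_of_isEquivOver he
  have := faithful_of_isEquivOver he
  obtain ⟨k₀⟩ : Nonempty (BasedFunctor.comp e (fpFst v f) ≅ AlgSt.ofSpMap (chartMap e).hom) := exists_iso_pshMap _
  let L : AlgSt.ofSp W.obj ⥤ᵇ AlgSt.fullSub 𝒳 (ptsProp T) := subLift (BasedFunctor.comp j u) fun z =>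
    mem_ptsProp_of_range hWg h𝒳.isStack.1 (BasedFunctor.comp j u) (fun p => by
      have : AlgSt.Points.map j p ∈ AlgSt.Points.map u ⁻¹' T := hT.subset ⟨p, rfl⟩
      rwa [Set.mem_preimage, ← Function.comp_apply (f := AlgSt.Points.map u), ← points_map_comp] at this) z
  obtain ⟨α, ⟨iα⟩⟩ := exists_fpLift_of_functor (BasedFunctor.comp j e)
    (x := BasedFunctor.comp j (AlgSt.ofSpMap (chartMap e).hom)) (k := BasedFunctor.comp j u)
    (isoWhiskerLeft j k₀) (Iso.refl _)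
  let E : AlgSt.ofSp W.obj ⥤ᵇ fp v (BasedFunctor.comp i f) :=
    fpLift (BasedFunctor.comp j (AlgSt.ofSpMap (chartMap e).hom)) L α
  let M : fp v (BasedFunctor.comp i f) ⥤ᵇ fp v f :=
    fpLift (fpFst v (BasedFunctor.comp i f)) (BasedFunctor.comp (fpSnd v (BasedFunctor.comp i f)) i)
      (fpIso v (BasedFunctor.comp i f))
  have : M.toFunctor.Faithful := ⟨fun {a b} φ ψ h => fp_hom_ext (congrArg (fun k => k.hom.fst) h :)
    (i.toFunctor.map_injective (congrArg (fun k => k.hom.snd) h))⟩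
  have : M.toFunctor.Full := ⟨fun {a b} k => by
    obtain ⟨φ, hφ⟩ := i.toFunctor.map_surjective k.hom.snd
    refine ⟨fpHom k.hom.fst φ ?_, fp_hom_ext rfl hφ⟩
    change _ = _ ≫ f.map (i.map φ)
    rw [hφ]
    exact k.hom.w⟩
  let iEM : BasedFunctor.comp j e ≅ BasedFunctor.comp E M := iα
  let iN : (BasedFunctor.comp j e).toFunctor ≅ (BasedFunctor.comp E M).toFunctor :=
    NatIso.ofComponents (fun z => isoApp iEM z) (fun φ => isoApp_naturality iEM φ)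
  have : (BasedFunctor.comp j e).toFunctor.Full := inferInstanceAs (j.toFunctor ⋙ e.toFunctor).Full
  have : (BasedFunctor.comp j e).toFunctor.Faithful := inferInstanceAs (j.toFunctor ⋙ e.toFunctor).Faithful
  have : (E.toFunctor ⋙ M.toFunctor).Full := Functor.Full.of_iso iN
  have : (E.toFunctor ⋙ M.toFunctor).Faithful := Functor.Faithful.of_iso iN
  have : E.toFunctor.Full := Functor.Full.of_comp_faithful E.toFunctor M.toFunctor
  have : E.toFunctor.Faithful := Functor.Faithful.of_comp E.toFunctor M.toFunctor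
  have hA := isAlgStack_of_repByAlgSp (repByAlgSp_ofSp A.property)
  have hW := isAlgStack_of_repByAlgSp (repByAlgSp_ofSp W.property)
  obtain ⟨Qw, ⟨-, ⟨j', hj', ⟨φj⟩⟩, -, hopen⟩, -⟩ := exists_unique_locClosed_image hW hA j
    (repByAlgSpWith_mono hjI fun F V m hm => Groth.Agent.AlgSp.repWith_mono
      (Q := @IsImmersion) (fun g hg => (have : IsOpenImmersion g := hg; inferInstance : IsImmersion g)) hm)
  have hQw : AlgSt.IsOpenSubstack (AlgSt.ofSp A.obj) Qw K := hopen hjI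
  have hrange : Set.range (AlgSt.Points.map (AlgSt.subIncl (AlgSt.ofSp A.obj) Qw)) =
      AlgSt.Points.map u ⁻¹' T := by
    rw [← hT, ← points_map_congr φj, points_map_comp, Set.range_comp,
      (isHomeomorph_points_map hQw.2.1 hj').bijective.2.range_eq, Set.image_univ]
  refine ⟨E, isEquivOver_mk _ fun z => ?_, ?_⟩
  · obtain ⟨ω, r, hr⟩ := exists_vert_iso_of_isEquivOver he (M.obj z)
    have hω : Qw ω := by
      rw [mem_openSubstack_iff hA hQw, hrange]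
      refine (ptsProp_map_iff hAg h𝒳.isStack.1 u T ω).1 ?_
      exact ptsProp_of_hom r.hom.hom.snd z.obj.snd.property
    obtain ⟨z', r', hr'⟩ := exists_vert_iso_of_isEquivOver hj' ⟨ω, hω⟩
    let s : j.obj z' ≅ ω := (isoApp φj z').symm ≪≫ (AlgSt.subIncl _ Qw).toFunctor.mapIso r'
    have hs : Vert s.hom := (vert_isoApp φj z').inv.comp (hr'.map (AlgSt.subIncl _ Qw))
    let t : M.obj (E.obj z') ≅ M.obj z := (isoApp iEM z').symm ≪≫ e.toFunctor.mapIso s ≪≫ r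
    have ht : Vert t.hom := (vert_isoApp iEM z').inv.comp ((hs.map e).comp hr)
    refine ⟨z', M.toFunctor.preimageIso t, Vert.of_map M ?_⟩
    simpa using ht
  · apply InducedCategory.hom_ext
    apply ObjectProperty.hom_ext
    exact (pshMap_congr (Iso.refl (Stk.ofPshMap (w.hom.hom ≫ (chartMap e).hom.hom)))).trans (pshMap_ofPshMap _)

/-- The image in the stack of the open locus of a chart is an open substack on which `P` holds. -/
theorem rep_of_locus (D : LocusData P Q R)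
    (h₂ : ∀ (X Y : AlgSp.Space S) (g : X ⟶ Y), AlgSp.LocP @Smooth g.hom → R g.hom)
    (hPb : StableBC P) (hP : AlgSp.IsLocalOnBase AlgSp.IsFppfCover P)
    (h𝒳 : AlgSt.IsAlgStack K 𝒳) (h𝒴 : AlgSt.IsAlgStack K 𝒴) {f : 𝒳 ⥤ᵇ 𝒴} (hf : AlgSt.RepByAlgSp1 f)
    {A B : AlgSp.Space S} {v : AlgSt.ofSp B.obj ⥤ᵇ 𝒴} (hv : AlgSt.RepByAlgSpWith (AlgSp.LocP @Smooth) v)
    (hvs : AlgSt.RepByAlgSpWith AlgSp.IsSurjectiveMor v) {e : AlgSt.ofSp A.obj ⥤ᵇ fp v f} (he : IsEquivOver e)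
    (hQe : Q (chartMap e).hom) :
    ∃ T : Set (AlgSt.Points 𝒳), IsOpen T ∧
      AlgSt.RepByAlgSpWith P (BasedFunctor.comp (AlgSt.subIncl 𝒳 (ptsProp T)) f) ∧
      ∀ p, toSpPt p ∈ lset P (chartMap e) → AlgSt.Points.map (BasedFunctor.comp e (fpSnd v f)) p ∈ T := by
  let u := BasedFunctor.comp e (fpSnd v f)
  have hu : AlgSt.RepByAlgSpWith (AlgSp.LocP @Smooth) u :=
    repByAlgSpWith_comp_isEquivOver (repByAlgSpWith_fpSnd _ v hv) he
  let L := toSpPt ⁻¹' lset P (chartMap e)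
  obtain ⟨W, w, hw⟩ := D.exists_largest A B (chartMap e) hQe
  have hLo : IsOpen L := by
    change IsOpen (toSpPt ⁻¹' lset P (chartMap e))
    rw [← hw.range_eq]
    exact (Groth.Agent.AlgSpB.isOpen_range_of_isOpenImmersion hw.1).preimage
      (isHomeomorph_toSpPt A.property).continuous
  let T := AlgSt.Points.map u '' L
  have hT : IsOpen T := isOpenMap_points_map_space h𝒳 (repByAlgSpWith_flat_of_smooth hu)
    (repByAlgSpWith_lfp_of_smooth hu) _ hLo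
  have hsat : AlgSt.Points.map u ⁻¹' T = L := by
    refine subset_antisymm (fun p' hp' => ?_) (fun p hp => ⟨p, hp, rfl⟩)
    obtain ⟨p, hp, hpp⟩ := hp'
    exact lset_saturated D h₂ h𝒳 h𝒴 hv he hQe p p' hpp hp
  have hrange : Set.range (AlgSt.Points.map (AlgSt.ofSpMap w.hom)) = L := by
    change _ = toSpPt ⁻¹' lset P (chartMap e)
    rw [← hw.range_eq, range_map_ofSpMap]
  obtain ⟨E, hE, hEmap⟩ := exists_chart_ptsProp h𝒳 he T hw.1 (hrange.trans hsat.symm)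
  have hio := isOpenSubstack_ptsProp h𝒳 hT
  have hrep : AlgSt.RepByAlgSp1 (BasedFunctor.comp (AlgSt.subIncl 𝒳 (ptsProp T)) f) :=
    repByAlgSp1_iff_with_top.2 (repByAlgSpWith_comp (fun _ _ _ _ _ _ _ _ _ _ _ _ _ _ => trivial)
      (fun _ _ _ _ _ _ _ _ _ _ => trivial) (fun _ _ _ _ _ _ => trivial)
      (isFibGrpd_fullSub h𝒳.isStack.1 _ ptsProp_of_hom) h𝒳.isStack.1
      (repByAlgSp1_iff_with_top.1 (repByAlgSp1_of_with hio.2.2)) (repByAlgSp1_iff_with_top.1 hf))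
  refine ⟨T, hT, repByAlgSpWith_of_locally_lift hPb hP hrep
    (exists_locally_lift (Stk.isFibGrpd_ofPsh _) h𝒴.isStack.1 (repByAlgSpWith_flat_of_smooth hv)
      (repByAlgSpWith_lfp_of_smooth hv) hvs) ?_, fun p hp => ⟨p, hp, rfl⟩⟩
  have hWP : P (chartMap E).hom := hEmap ▸ hw.2.1
  obtain ⟨iE⟩ : Nonempty (BasedFunctor.comp E (fpFst v (BasedFunctor.comp (AlgSt.subIncl 𝒳 (ptsProp T)) f)) ≅
    AlgSt.ofSpMap (chartMap E).hom) := exists_iso_pshMap _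
  exact (repByAlgSpWith_iff_of_equiv P E (BasedFunctor.id _) hE (isEquivOver_id _)
    (f' := AlgSt.ofSpMap (chartMap E).hom) iE.symm).2
    (repByAlgSpWith_ofSpMap hPb W.property B.property _ hWP)

/-- An open substack with `P` meets a chart inside the open locus of the chart. -/
theorem mem_lset_of_rep (hPb : StableBC P) (hP : AlgSp.IsLocalOnBase AlgSp.IsFppfCover P)
    (h𝒳 : AlgSt.IsAlgStack K 𝒳) {f : 𝒳 ⥤ᵇ 𝒴} {A B : AlgSp.Space S} {v : AlgSt.ofSp B.obj ⥤ᵇ 𝒴}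
    {e : AlgSt.ofSp A.obj ⥤ᵇ fp v f} (he : IsEquivOver e) {Q₁ : 𝒳.obj → Prop}
    (hQ₁ : AlgSt.IsOpenSubstack 𝒳 Q₁ K) (hP₁ : AlgSt.RepByAlgSpWith P (BasedFunctor.comp (AlgSt.subIncl 𝒳 Q₁) f))
    (p : AlgSt.Points (AlgSt.ofSp A.obj))
    (hp : AlgSt.Points.map (BasedFunctor.comp e (fpSnd v f)) p ∈ Set.range (AlgSt.Points.map (AlgSt.subIncl 𝒳 Q₁))) :
    toSpPt p ∈ lset P (chartMap e) := by
  let u := BasedFunctor.comp e (fpSnd v f)
  let T₁ := Set.range (AlgSt.Points.map (AlgSt.subIncl 𝒳 Q₁))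
  have hQeq : Q₁ = ptsProp T₁ := funext fun a => propext (mem_openSubstack_iff h𝒳 hQ₁ a)
  have hT₁ : IsOpen (toSpPt '' (AlgSt.Points.map u ⁻¹' T₁)) :=
    (isHomeomorph_toSpPt A.property).isOpenMap _
      ((isOpen_range_openSubstack h𝒳 hQ₁).preimage (continuous_points_map h𝒳 u))
  obtain ⟨W₁, w₁, hw₁, hr₁⟩ := Groth.Agent.AlgSpB.exists_openSubspace A hT₁
  obtain ⟨E₁, hE₁, hE₁map⟩ := exists_chart_ptsProp h𝒳 he T₁ hw₁ (by
    rw [range_map_ofSpMap, hr₁, Set.preimage_image_eq _ toSpPt_bijective.1])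
  rw [hQeq] at hP₁
  exact ⟨W₁, w₁, hw₁, hE₁map ▸ mem_chartMap hPb (detected_of_isLocalOnBase_fppf hP) hP₁ hE₁,
    hr₁.ge ⟨p, hp, rfl⟩⟩

theorem exists_largest_rep (D : LocusData P Q R)
    (h₂ : ∀ (X Y : AlgSp.Space S) (g : X ⟶ Y), AlgSp.LocP @Smooth g.hom → R g.hom)
    (hPb : StableBC P) (hQb : StableBC Q) (hP : AlgSp.IsLocalOnBase AlgSp.IsFppfCover P)
    (hQ : AlgSp.IsLocalOnBase AlgSp.IsFppfCover Q)
    (h𝒳 : AlgSt.IsAlgStack K 𝒳) (h𝒴 : AlgSt.IsAlgStack K 𝒴) (f : 𝒳 ⥤ᵇ 𝒴) (hf : AlgSt.RepByAlgSpWith Q f) :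
    ∃ Q₀ : 𝒳.obj → Prop, AlgSt.IsOpenSubstack 𝒳 Q₀ K ∧
      AlgSt.RepByAlgSpWith P (BasedFunctor.comp (AlgSt.subIncl 𝒳 Q₀) f) ∧
        ∀ Q₁ : 𝒳.obj → Prop, AlgSt.IsOpenSubstack 𝒳 Q₁ K →
          AlgSt.RepByAlgSpWith P (BasedFunctor.comp (AlgSt.subIncl 𝒳 Q₁) f) → ∀ y, Q₁ y → Q₀ y := by
  obtain ⟨A, B, v, e, hv, hvs, he⟩ := exists_space_chart h𝒳 h𝒴 f (repByAlgSp1_of_with hf)
  obtain ⟨T, hT, hrep, hle⟩ := rep_of_locus D h₂ hPb hP h𝒳 h𝒴 (repByAlgSp1_of_with hf) hv hvs he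
    (mem_chartMap hQb (detected_of_isLocalOnBase_fppf hQ) hf he)
  refine ⟨ptsProp T, isOpenSubstack_ptsProp h𝒳 hT, hrep, fun Q₁ hQ₁ hP₁ => ?_⟩
  refine (openSubstack_le_iff h𝒳 hQ₁ (isOpenSubstack_ptsProp h𝒳 hT)).2 fun x hx => ?_
  rw [range_subIncl_ptsProp T h𝒳.isStack.1]
  obtain ⟨p, rfl⟩ := space_chart_surjective h𝒳 hv hvs he x
  exact hle p (mem_lset_of_rep hPb hP h𝒳 he hQ₁ hP₁ p hx)

/-- The equivalence exhibiting the preimage of a substack as a base change. -/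
theorem preimage_cart (h𝒳 : IsFibGrpd 𝒳.p) {z : 𝒵 ⥤ᵇ 𝒴} {f : 𝒳 ⥤ᵇ 𝒴} (Q₀ : 𝒳.obj → Prop) :
    IsEquivOver (fpLift (F := z) (G := BasedFunctor.comp (AlgSt.subIncl 𝒳 Q₀) f)
      (BasedFunctor.comp (AlgSt.subIncl (fp z f) fun b => Q₀ b.obj.snd) (fpFst z f))
      (subLift (BasedFunctor.comp (AlgSt.subIncl (fp z f) fun b => Q₀ b.obj.snd) (fpSnd z f)) fun b => b.property)
      (isoWhiskerLeft (AlgSt.subIncl (fp z f) fun b => Q₀ b.obj.snd) (fpIso z f))) := by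
  refine fpLift_isEquivOver_mk _ _ _
    (fun φ ψ h1 h2 => ObjectProperty.hom_ext _ (fp_hom_ext h1 (congrArg (fun k => k.hom) h2)))
    (fun {w w'} a b h => ⟨ObjectProperty.homMk (fpHom a b.hom h), rfl, ObjectProperty.hom_ext _ rfl⟩) fun x => ?_
  refine ⟨⟨fpMk x.obj.fst x.obj.snd.obj ⟨x.obj.iso.hom, x.obj.iso.inv, x.obj.iso.hom_inv_id, x.obj.iso.inv_hom_id⟩
    (vert_fp_iso x), x.obj.snd.property⟩, Iso.refl _, Iso.refl _, Vert.id _, ?_⟩
  change z.map (𝟙 _) ≫ x.obj.iso.hom = x.obj.iso.hom ≫ f.map (𝟙 _)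
  simp
  exact (Category.comp_id _).symm

theorem largest_rep_baseChange (D : LocusData P Q R)
    (h₂ : ∀ (X Y : AlgSp.Space S) (g : X ⟶ Y), AlgSp.LocP @Smooth g.hom → R g.hom)
    (hPb : StableBC P) (hQb : StableBC Q) (hRb : StableBC R) (hP : AlgSp.IsLocalOnBase AlgSp.IsFppfCover P)
    (hQ : AlgSp.IsLocalOnBase AlgSp.IsFppfCover Q) (hR : AlgSp.IsLocalOnBase AlgSp.IsFppfCover R)
    (h𝒳 : AlgSt.IsAlgStack K 𝒳) (h𝒴 : AlgSt.IsAlgStack K 𝒴) (h𝒵 : AlgSt.IsAlgStack K 𝒵)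
    (f : 𝒳 ⥤ᵇ 𝒴) (hf : AlgSt.RepByAlgSpWith Q f) (Q₀ : 𝒳.obj → Prop) (hQ₀ : AlgSt.IsOpenSubstack 𝒳 Q₀ K)
    (hQ₀P : AlgSt.RepByAlgSpWith P (BasedFunctor.comp (AlgSt.subIncl 𝒳 Q₀) f))
    (hQ₀max : ∀ Q₁ : 𝒳.obj → Prop, AlgSt.IsOpenSubstack 𝒳 Q₁ K →
      AlgSt.RepByAlgSpWith P (BasedFunctor.comp (AlgSt.subIncl 𝒳 Q₁) f) → ∀ y, Q₁ y → Q₀ y)
    (z : 𝒵 ⥤ᵇ 𝒴) (hz : AlgSt.RepByAlgSpWith R z) :
    AlgSt.IsOpenSubstack (FibCat.fp z f) (fun b ↦ Q₀ b.obj.snd) K ∧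
      AlgSt.RepByAlgSpWith P
        (BasedFunctor.comp (AlgSt.subIncl (FibCat.fp z f) fun b ↦ Q₀ b.obj.snd) (FibCat.fpFst z f)) ∧
        ∀ Q₁ : (FibCat.fp z f).obj → Prop, AlgSt.IsOpenSubstack (FibCat.fp z f) Q₁ K →
          AlgSt.RepByAlgSpWith P (BasedFunctor.comp (AlgSt.subIncl (FibCat.fp z f) Q₁) (FibCat.fpFst z f)) →
            ∀ b, Q₁ b → Q₀ b.obj.snd := by
  have hG : AlgSt.IsAlgStack K (fp z f) := isAlgStack_fp h𝒴.isStack h𝒴.diag h𝒵 h𝒳 z f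
  let R₀ := Set.range (AlgSt.Points.map (AlgSt.subIncl 𝒳 Q₀))
  have hpre : (fun b : (fp z f).obj ↦ Q₀ b.obj.snd) = ptsProp (AlgSt.Points.map (fpSnd z f) ⁻¹' R₀) :=
    funext fun b => propext ((mem_openSubstack_iff h𝒳 hQ₀ _).trans
      (ptsProp_map_iff hG.isStack.1 h𝒳.isStack.1 (fpSnd z f) R₀ b))
  have hTo : IsOpen (AlgSt.Points.map (fpSnd z f) ⁻¹' R₀) :=
    (isOpen_range_openSubstack h𝒳 hQ₀).preimage (continuous_points_map h𝒳 _)
  refine ⟨by rw [hpre]; exact isOpenSubstack_ptsProp hG hTo,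
    repByAlgSpWith_of_cart P _ _ _ (preimage_cart h𝒳.isStack.1 Q₀) hQ₀P, fun Q₁ hQ₁ hP₁ b hb => ?_⟩
  obtain ⟨A, B, v, e, hv, hvs, he⟩ := exists_space_chart h𝒳 h𝒴 f (repByAlgSp1_of_with hf)
  have hQe := mem_chartMap hQb (detected_of_isLocalOnBase_fppf hQ) hf he
  obtain ⟨T, hT, hrep, hle⟩ := rep_of_locus D h₂ hPb hP h𝒳 h𝒴 (repByAlgSp1_of_with hf) hv hvs he hQe
  have hTR : T ⊆ R₀ := by
    rw [← range_subIncl_ptsProp T h𝒳.isStack.1]
    exact (openSubstack_le_iff h𝒳 (isOpenSubstack_ptsProp h𝒳 hT) hQ₀).1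
      (hQ₀max _ (isOpenSubstack_ptsProp h𝒳 hT) hrep)
  obtain ⟨B', eB, heB⟩ := repByAlgSp_fp h𝒵.isStack.1 h𝒴.isStack.1 z v (repByAlgSp1_of_with hz)
    (repByAlgSp_ofSp B.property)
  let k := chartMap eB
  have hRk : R k.hom := mem_chartMap hRb (detected_of_isLocalOnBase_fppf hR) hz heB
  obtain ⟨ik⟩ : Nonempty (BasedFunctor.comp eB (fpFst v z) ≅ AlgSt.ofSpMap k.hom) := exists_iso_pshMap _
  let zB := BasedFunctor.comp eB (fpSnd v z)
  have hzB : ∀ Q' : MorphismProperty (AlgSp.Sp S), AlgSt.RepByAlgSpWith Q' v → AlgSt.RepByAlgSpWith Q' zB :=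
    fun Q' h => repByAlgSpWith_comp_isEquivOver (repByAlgSpWith_fpSnd _ v h) heB
  obtain ⟨A', e', g, he', sq, ⟨J⟩⟩ := exists_chart_pull he k
  have : (BasedFunctor.id 𝒴).toFunctor.Full := inferInstanceAs (𝟭 _).Full
  have : (BasedFunctor.id 𝒴).toFunctor.Faithful := inferInstanceAs (𝟭 _).Faithful
  let C := fpMap (F := BasedFunctor.comp zB z) (G := f) (F' := BasedFunctor.comp (AlgSt.ofSpMap k.hom) v) (G' := f)
    (BasedFunctor.id _) (BasedFunctor.id _) (BasedFunctor.id _)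
    (isoWhiskerLeft eB (fpIso v z).symm ≪≫ isoWhiskerRight ik v) (Iso.refl _)
  have hC : IsEquivOver C := fpMap_isEquivOver _ _ _ _ _ (isEquivOver_id _) (isEquivOver_id _)
  obtain ⟨d, hd, -, ⟨q⟩⟩ := isEquivOver_symm (fpPaste_isEquivOver z f zB)
  let e'' := BasedFunctor.comp (BasedFunctor.comp e' C) d
  have he'' : IsEquivOver e'' := isEquivOver_comp (isEquivOver_comp he' hC) hd
  have hmap : chartMap e'' = chartMap e' := by
    apply InducedCategory.hom_ext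
    apply ObjectProperty.hom_ext
    exact pshMap_congr (isoWhiskerLeft (BasedFunctor.comp e' C)
      (isoWhiskerRight q (fpFst (BasedFunctor.comp zB z) f)))
  let u'' := BasedFunctor.comp e'' (fpSnd zB (fpFst z f))
  let jj : BasedFunctor.comp u'' (fpSnd z f) ≅
      BasedFunctor.comp (AlgSt.ofSpMap g.hom) (BasedFunctor.comp e (fpSnd v f)) :=
    isoWhiskerLeft (BasedFunctor.comp e' C) (isoWhiskerRight q (fpSnd (BasedFunctor.comp zB z) f)) ≪≫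
      isoWhiskerRight J (fpSnd v f)
  refine (congrFun hpre b).mpr fun x c => ?_
  obtain ⟨p, hp⟩ := space_chart_surjective hG (hzB _ hv) (hzB _ hvs) he'' (AlgSt.Points.mk x)
  have h1 := mem_lset_of_rep hPb hP hG he'' hQ₁ hP₁ p (hp.symm ▸ (mem_openSubstack_iff hG hQ₁ b).1 hb x c)
  rw [hmap, D.lset_preimage sq hQe hRk, Set.mem_preimage, ← toSpPt_map] at h1
  rw [Set.mem_preimage, ← hp, ← Function.comp_apply (f := AlgSt.Points.map (fpSnd z f)), ← points_map_comp,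
    points_map_congr jj, points_map_comp, Function.comp_apply]
  exact hTR (hle _ h1)

end Groth.Agent.StFib
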