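import Groth.Agent.StFib.DiagLft
import Groth.Agent.StFib.QC
import Groth.Agent.StFib.Props2

/-!
Properties of the diagonal from flat covers with that property.
-/

set_option backward.isDefEq.respectTransparency false
set_option backward.isDefEq.respectTransparency.types false

universe u

open CategoryTheory CategoryTheory.Limits AlgebraicGeometry Opposite FibCat

namespace Groth.Agent.StFib

variable {S : Scheme.{u}} {𝒳 : AlgSt.Cat S}

theorem diag_toSelf_of_chart {P : MorphismProperty Scheme.{u}}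
    (hP : Groth.Agent.AlgSpCov.Standard P)
    (hc : ∀ ⦃A B C : Scheme.{u}⦄ (h : A ⟶ B) (k : B ⟶ C), P (h ≫ k) → P h)
    (hloc : AlgSp.IsLocalOnBase AlgSp.IsFppfCover (AlgSp.LocP (S := S) P))
    (hg : IsFibGrpd 𝒳.p) (hd : AlgSt.RepByAlgSp1 (diag (toSelf 𝒳))) {U : Over S} {x : overCat U ⥤ᵇ 𝒳}
    (h1 : AlgSt.RepByAlgSpWith (AlgSp.LocP @Flat) x)
    (h2 : AlgSt.RepByAlgSpWith (AlgSp.LocP @LocallyOfFinitePresentation) x)
    (hxs : AlgSt.RepByAlgSpWith AlgSp.IsSurjectiveMor x)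
    (h3 : AlgSt.RepByAlgSpWith (AlgSp.LocP P) x) :
    AlgSt.RepByAlgSpWith (AlgSp.LocP P) (diag (toSelf 𝒳)) := by
  obtain ⟨F, e, he⟩ := repByAlgSp_selfOver (S := S)
  have hself : IsFibGrpd (selfOver (C := Over S)).p :=
    isFibGrpd_of_isEquivOver he (Stk.isFibGrpd_ofPsh _)
  let t := toSelf 𝒳
  refine repByAlgSpWith_of_locally_lift (good_locP hP).bc hloc hd
    (exists_locally_lift (isFibGrpd_fp (isFibGrpd_overCat U) (isFibGrpd_overCat U) hself _ _)
      (isFibGrpd_fp hg hg hself t t)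
      (repByAlgSpWith_compPhi _ (good_locP Groth.Agent.AlgSpCov.standard_flat) hg h1)
      (repByAlgSpWith_compPhi _ (good_locP Groth.Agent.AlgSpCov.standard_locallyOfFinitePresentation)
        hg h2)
      (repByAlgSpWith_compPhi _ good_surjective hg hxs)) ?_
  let u : fp x x ⥤ᵇ fp (BasedFunctor.comp x t) (BasedFunctor.comp x t) :=
    fpLift (fpFst x x) (fpSnd x x) (isoWhiskerRight (fpIso x x) t)
  have hcart := comp_cart x x t (isoWhiskerRight (fpIso x x) t) fun _ => rfl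
  refine (repByAlgSpWith_iff_of_equiv _ _ (BasedFunctor.id _) hcart (isEquivOver_id _)
    (f := fpFst (compPhi x x t) (diag t)) (f' := u) (Iso.refl _)).2 ?_
  refine repByAlgSpWith_cancel (Q := ⊤) (good_locP hP).bc
    (fun A B C _ _ hC a b _ hab => locP_of_comp hP.etaleLocal hc hC a b hab)
    (q := fpFst (BasedFunctor.comp x t) (BasedFunctor.comp x t))
    (repByAlgSpWith_fpFst _ _ (repByAlgSp1_iff_with_top.1
      (repByAlgSp1_of_repByAlgSp (repByAlgSp_overCat U) repByAlgSp_selfOver _))) ?_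
  exact repByAlgSpWith_fpFst _ x h3

theorem diag_toSelf_of_space_cover {P : MorphismProperty Scheme.{u}}
    (hP : Groth.Agent.AlgSpCov.Standard P)
    (hc : ∀ ⦃A B C : Scheme.{u}⦄ (h : A ⟶ B) (k : B ⟶ C), P (h ≫ k) → P h)
    (hloc : AlgSp.IsLocalOnBase AlgSp.IsFppfCover (AlgSp.LocP (S := S) P))
    (h : AlgSt.IsAlgStack Scheme.fppfPrecoverage 𝒳) (W : AlgSp.Space S) (w : AlgSt.ofSp W.obj ⥤ᵇ 𝒳)
    (h1 : AlgSt.RepByAlgSpWith (AlgSp.LocP @Flat) w)
    (h2 : AlgSt.RepByAlgSpWith (AlgSp.LocP @LocallyOfFinitePresentation) w)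
    (hxs : AlgSt.RepByAlgSpWith AlgSp.IsSurjectiveMor w)
    (h3 : AlgSt.RepByAlgSpWith (AlgSp.LocP P) w) :
    AlgSt.RepByAlgSpWith (AlgSp.LocP P) (diag (toSelf 𝒳)) := by
  obtain ⟨V, v, hv, hvs⟩ := (isDM_of_repByAlgSp (repByAlgSp_ofSp W.property)).2
  have hW := (isAlgStack_ofSp W.property).isStack.1
  have step : ∀ {R : MorphismProperty Scheme.{u}}, Groth.Agent.AlgSpCov.Standard R →
      AlgSt.RepByAlgSpWith (AlgSp.LocP R) w →
      AlgSt.RepByAlgSpWith (AlgSp.LocP R) (BasedFunctor.comp v w) := fun hR hw =>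
    repByAlgSpWith_comp (good_locP hR).bc (good_locP hR).comp (good_locP hR).det (isFibGrpd_overCat V) hW
      (repByAlgSpWith_mono hv fun F T m hm A B a b k ha hb e =>
        hR.of_etale _ (Groth.Agent.AlgSpCov.locP_etale_of_isEtaleMor hm a b k ha hb e)) hw
  exact diag_toSelf_of_chart hP hc hloc h.isStack.1 h.diag (x := BasedFunctor.comp v w)
    (step Groth.Agent.AlgSpCov.standard_flat h1)
    (step Groth.Agent.AlgSpCov.standard_locallyOfFinitePresentation h2)
    (repByAlgSpWith_comp good_surjective.bc good_surjective.comp good_surjective.det (isFibGrpd_overCat V) hW hvs hxs)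
    (step hP h3)

end Groth.Agent.StFib
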