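import Groth.Agent.StFib.SourceLocal
import Groth.Agent.StFib.DiagLft
import Groth.Agent.AlgSp.UnivClosed

/-!
Separation conditions read off the double diagonal.
-/

set_option backward.isDefEq.respectTransparency false
set_option backward.isDefEq.respectTransparency.types false
set_option linter.unusedVariables false

universe u

open CategoryTheory CategoryTheory.Limits AlgebraicGeometry Opposite FibCat

namespace Groth.Agent.StFib

variable {S : Scheme.{u}} {𝒳 𝒴 : AlgSt.Cat S}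

local notation "K" => Scheme.fppfPrecoverage

theorem isQuasiSeparatedMor_iff_diag_diag (h𝒳 : AlgSt.IsAlgStack K 𝒳) (h𝒴 : AlgSt.IsAlgStack K 𝒴)
    (f : 𝒳 ⥤ᵇ 𝒴) :
    AlgSt.IsQuasiSeparatedMor f ↔
      AlgSt.RepByAlgSpWith AlgSp.IsQuasiCompactMor (diag f) ∧
        AlgSt.RepByAlgSpWith AlgSp.IsQuasiCompactMor (diag (diag f)) := by
  have hr : AlgSt.RepByAlgSp1 (diag f) := repByAlgSp1_of_with (lft_diag h𝒳 h𝒴 f)
  refine ⟨fun h => ⟨repByAlgSpWith_mono h fun _ _ _ hm => hm.1,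
    ((tfae_quasiSeparated hr).out 0 1).1 (repByAlgSpWith_mono h fun _ _ _ hm => hm.2)⟩, fun ⟨h1, h2⟩ => ?_⟩
  exact repByAlgSpWith_inf h𝒳.isStack.1 (isFibGrpd_fp h𝒳.isStack.1 h𝒳.isStack.1 h𝒴.isStack.1 f f)
    good_quasiCompact good_quasiSeparated h1 (((tfae_quasiSeparated hr).out 1 0).1 h2)

theorem isSeparatedMor_of_diag_diag (h𝒳 : AlgSt.IsAlgStack K 𝒳) (h𝒴 : AlgSt.IsAlgStack K 𝒴)
    (f : 𝒳 ⥤ᵇ 𝒴) (h1 : AlgSt.RepByAlgSpWith AlgSp.IsUnivClosedMor (diag f))
    (h2 : AlgSt.RepByAlgSpWith AlgSp.IsUnivClosedMor (diag (diag f))) : AlgSt.IsSeparatedMor f := by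
  have hl := lft_diag h𝒳 h𝒴 f
  have hs : AlgSt.RepByAlgSpWith AlgSp.IsSeparatedMor (diag f) :=
    ((tfae_separated (repByAlgSp1_of_with hl)).out 3 0).1 h2
  intro T y
  obtain ⟨A, e, he, -⟩ := h1 T y
  have hu := mem_of_rep_chart good_univClosed.bc good_univClosed.det h1 y A e he
  exact ⟨A, e, he, mem_of_rep_chart good_separated.bc good_separated.det hs y A e he,
    ⟨mem_of_rep_chart good_lft.bc good_lft.det hl y A e he,
      Groth.Agent.AlgSp.isQuasiCompactMor_of_isUnivClosedMor A.property (isAlgSpace_yon T) _ hu⟩, hu⟩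

end Groth.Agent.StFib
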