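import Groth.Agent.StFib.LocQBasic
import Groth.Agent.StFib.DescCriteria

/-!
Composition, base change and representable criteria for properties read on smooth chart squares.
-/

set_option backward.isDefEq.respectTransparency false
set_option backward.isDefEq.respectTransparency.types false
set_option linter.unusedVariables false

universe u

open CategoryTheory CategoryTheory.Limits AlgebraicGeometry Opposite FibCat

namespace Groth.Agent.StFib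

variable {S : Scheme.{u}} {𝒳 𝒴 𝒵 : AlgSt.Cat S} {P : MorphismProperty (AlgSp.Sp S)}

theorem locQ_comp (hP : AlgSp.IsSmoothLocalST P)
    (hPc : ∀ ⦃X₁ Y₁ Z₁ : AlgSp.Sp S⦄, AlgSp.IsAlgSpace X₁ → AlgSp.IsAlgSpace Y₁ → AlgSp.IsAlgSpace Z₁ →
      ∀ (a : X₁ ⟶ Y₁) (b : Y₁ ⟶ Z₁), P a → P b → P (a ≫ b))
    (h𝒳 : AlgSt.IsAlgStack Scheme.fppfPrecoverage 𝒳) (h𝒴 : AlgSt.IsAlgStack Scheme.fppfPrecoverage 𝒴)
    (h𝒵 : AlgSt.IsAlgStack Scheme.fppfPrecoverage 𝒵) {f : 𝒳 ⥤ᵇ 𝒴} {g : 𝒴 ⥤ᵇ 𝒵}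
    (hf : AlgSt.LocQ P f) (hg : AlgSt.LocQ P g) : AlgSt.LocQ P (BasedFunctor.comp f g) := by
  obtain ⟨W, z, hz, hzs⟩ := h𝒵.atlas
  obtain ⟨V, y, h₂, β, hy, hys, hl₂, -⟩ := exists_smooth_square h𝒴 h𝒵 g hz
  obtain ⟨U, x, h₁, α, hx, hxs, hl₁, -⟩ := exists_smooth_square h𝒳 h𝒴 f hy
  refine ⟨U, W, x, z, h₁ ≫ h₂,
    isoWhiskerRight α g ≪≫ isoWhiskerLeft (AlgSt.overMap h₁) β ≪≫
      isoWhiskerRight (overMapCompIso h₁ h₂).symm z, hx, hxs (hys hzs), hz, ?_⟩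
  rw [Functor.map_comp]
  exact hPc (isAlgSpace_yon U) (isAlgSpace_yon V) (isAlgSpace_yon W) _ _
    (mem_of_locQ hP h𝒳 h𝒴 hf α hy hl₁) (mem_of_locQ hP h𝒴 h𝒵 hg β hz hl₂)

theorem locQ_fpFst (hP : AlgSp.IsSmoothLocalST P) (hPb : StableBC P)
    (h𝒳 : AlgSt.IsAlgStack Scheme.fppfPrecoverage 𝒳) (h𝒴 : AlgSt.IsAlgStack Scheme.fppfPrecoverage 𝒴)
    (h𝒵 : AlgSt.IsAlgStack Scheme.fppfPrecoverage 𝒵) {f : 𝒳 ⥤ᵇ 𝒴} (g : 𝒵 ⥤ᵇ 𝒴)
    (hf : AlgSt.LocQ P f) : AlgSt.LocQ P (fpFst g f) := by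
  obtain ⟨V, y, hy, hys⟩ := h𝒴.atlas
  obtain ⟨U, x, h, α, hx, hxs, hl, hls⟩ := exists_smooth_square h𝒳 h𝒴 f hy
  obtain ⟨V', y', hy', hys'⟩ := h𝒵.atlas
  obtain ⟨W, w, hw, hws⟩ := atlasProp_smooth.atlas (repByAlgSp1_chart h𝒴 y V' (BasedFunctor.comp y' g))
  have hM : IsFibGrpd (fp (BasedFunctor.comp y' g) y).p :=
    isFibGrpd_fp (isFibGrpd_overCat V') (isFibGrpd_overCat V) h𝒴.isStack.1 _ _
  obtain ⟨b, ⟨ib⟩⟩ := exists_iso_overMap (BasedFunctor.comp w (fpFst (BasedFunctor.comp y' g) y))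
  obtain ⟨a, ⟨ia⟩⟩ := exists_iso_overMap (BasedFunctor.comp w (fpSnd (BasedFunctor.comp y' g) y))
  let j : BasedFunctor.comp (AlgSt.overMap a) y ≅
      BasedFunctor.comp (BasedFunctor.comp (AlgSt.overMap b) y') g :=
    isoWhiskerRight ia.symm y ≪≫ isoWhiskerLeft w (fpIso (BasedFunctor.comp y' g) y).symm ≪≫
      isoWhiskerRight ib (BasedFunctor.comp y' g)
  let z := BasedFunctor.comp (AlgSt.overMap b) y'
  have hz : ∀ Q : MorphismProperty (AlgSp.Sp S), Good Q → AlgSt.RepByAlgSpWith Q w →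
      AlgSt.RepByAlgSpWith Q y → AlgSt.RepByAlgSpWith Q y' → AlgSt.RepByAlgSpWith Q z :=
    fun Q hQ h1 h2 h3 => repByAlgSpWith_comp hQ.bc hQ.comp hQ.det (isFibGrpd_overCat W)
      (isFibGrpd_overCat V')
      (repByAlgSpWith_of_iso _ ib (repByAlgSpWith_comp hQ.bc hQ.comp hQ.det (isFibGrpd_overCat W) hM h1
        (repByAlgSpWith_fpFst Q (BasedFunctor.comp y' g) h2))) h3
  -- the chart `W ×_V U` of `𝒵 ×_𝒴 𝒳`
  obtain ⟨N, hN, ⟨iN1⟩, ⟨iN2⟩⟩ := exists_equiv_pullback a h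
  obtain ⟨C1, hC1, ⟨iC11⟩, -⟩ := exists_fp_congr (F := AlgSt.overMap a) (F' := AlgSt.overMap a)
    (G := AlgSt.overMap h) (G' := BasedFunctor.comp (fpLift x (AlgSt.overMap h) α) (fpSnd f y))
    (Iso.refl _) (Iso.refl _)
  let R1 := fpMap (F := AlgSt.overMap a) (G := fpSnd f y) (F' := AlgSt.overMap a)
    (G' := BasedFunctor.comp (fpLift x (AlgSt.overMap h) α) (fpSnd f y)) (BasedFunctor.id _)
    (fpLift x (AlgSt.overMap h) α) (BasedFunctor.id _) (Iso.refl _) (Iso.refl _)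
  have : (BasedFunctor.id (overCat V)).toFunctor.Full := inferInstanceAs (𝟭 _).Full
  have : (BasedFunctor.id (overCat V)).toFunctor.Faithful := inferInstanceAs (𝟭 _).Faithful
  let Sw := fpMap (F := AlgSt.overMap a) (G := fpFst y f) (F' := AlgSt.overMap a) (G' := fpSnd f y)
    (BasedFunctor.id _) (fpSwap f y) (BasedFunctor.id _) (Iso.refl _) (Iso.refl _)
  have hSw : IsEquivOver Sw :=
    fpMap_isEquivOver _ _ _ _ _ (isEquivOver_id _) (fpSwap_isEquivOver f y)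
  obtain ⟨E, hE, ⟨iE1⟩, -⟩ := exists_fp_of_cart _ _ _ (fpLift_self_isEquivOver y f) (AlgSt.overMap a)
  obtain ⟨C2, hC2, ⟨iC21⟩, -⟩ := exists_fp_congr (F := BasedFunctor.comp (AlgSt.overMap a) y)
    (F' := BasedFunctor.comp z g) (G := f) (G' := f) j.symm (Iso.refl _)
  let L := fpMap (F := g) (G := f) (F' := BasedFunctor.comp z g) (G' := f) z (BasedFunctor.id _)
    (BasedFunctor.id _) (Iso.refl _) (Iso.refl _)
  let ψ : overCat (pullback a h) ⥤ᵇ fp g f :=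
    BasedFunctor.comp (BasedFunctor.comp (BasedFunctor.comp N C1) R1)
      (BasedFunctor.comp (BasedFunctor.comp Sw (BasedFunctor.comp E C2)) L)
  have hFy := isFibGrpd_fp h𝒳.isStack.1 (isFibGrpd_overCat V) h𝒴.isStack.1 f y
  have hmid : IsFibGrpd (fp (AlgSt.overMap a) (fpSnd f y)).p :=
    isFibGrpd_fp (isFibGrpd_overCat W) hFy (isFibGrpd_overCat V) _ _
  have hψ : ∀ Q : MorphismProperty (AlgSp.Sp S), Good Q →
      AlgSt.RepByAlgSpWith Q (fpLift x (AlgSt.overMap h) α) → AlgSt.RepByAlgSpWith Q z →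
      AlgSt.RepByAlgSpWith Q ψ := fun Q hQ h1 h2 =>
    repByAlgSpWith_comp hQ.bc hQ.comp hQ.det (isFibGrpd_overCat _) hmid
      (repByAlgSpWith_comp_isEquivOver (repByAlgSpWith_fpMap_right Q h1 _ _) (isEquivOver_comp hN hC1))
      (repByAlgSpWith_comp_isEquivOver (repByAlgSpWith_fpMap_left Q h2 g f)
        (isEquivOver_comp hSw (isEquivOver_comp hE hC2)))
  let k : BasedFunctor.comp ψ (fpFst g f) ≅
      BasedFunctor.comp (AlgSt.overMap (pullback.fst a h)) z :=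
    isoWhiskerLeft (BasedFunctor.comp (BasedFunctor.comp (BasedFunctor.comp N C1) R1)
        (BasedFunctor.comp Sw E)) (isoWhiskerRight iC21 z) ≪≫
      isoWhiskerLeft (BasedFunctor.comp (BasedFunctor.comp (BasedFunctor.comp N C1) R1) Sw)
        (isoWhiskerRight iE1 z) ≪≫
      isoWhiskerRight (isoWhiskerLeft N iC11 ≪≫ iN1) z
  refine ⟨_, W, ψ, z, pullback.fst a h, k, hψ _ good_smooth hl (hz _ good_smooth hw hy hy'),
    hψ _ good_surjective hls (hz _ good_surjective hws hys hys'), hz _ good_smooth hw hy hy', ?_⟩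
  exact hPb (isAlgSpace_yon _) (isAlgSpace_yon _) (isAlgSpace_yon _) (isAlgSpace_yon _) _ _ _ _
    ((IsPullback.of_hasPullback a h).flip.map (AlgSp.yon S)) (mem_of_locQ hP h𝒳 h𝒴 hf α hy hl)

/-- A chart of a category equivalent to a space is a map to the space. -/
theorem exists_map_of_chart (A : AlgSp.Space S) (e : AlgSt.ofSp A.obj ⥤ᵇ 𝒳) (he : IsEquivOver e)
    {U : Over S} (l : overCat U ⥤ᵇ 𝒳) :
    ∃ m : (AlgSp.yon S).obj U ⟶ A.obj,
      Nonempty (BasedFunctor.comp (AlgSt.toOverCat U) l ≅ BasedFunctor.comp (AlgSt.ofSpMap m) e) ∧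
      ∀ Q : MorphismProperty (AlgSp.Sp S), Good Q → AlgSt.RepByAlgSpWith Q l → Q m := by
  obtain ⟨d, hd, -, ⟨j⟩⟩ := isEquivOver_symm he
  let Φ := BasedFunctor.comp (BasedFunctor.comp (AlgSt.toOverCat U) l) d
  obtain ⟨k⟩ := exists_iso_pshMap (P := ((AlgSp.yon S).obj U).obj) (Q := A.obj.obj) Φ
  let m : (AlgSp.yon S).obj U ⟶ A.obj := ObjectProperty.homMk (pshMap Φ)
  have i : BasedFunctor.comp (AlgSt.toOverCat U) l ≅ BasedFunctor.comp (AlgSt.ofSpMap m) e :=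
    (isoWhiskerLeft (BasedFunctor.comp (AlgSt.toOverCat U) l) j).symm ≪≫ isoWhiskerRight k e
  exact ⟨m, ⟨i⟩, fun Q hQ hl => mem_of_repByAlgSpWith_ofSpMap hQ.bc hQ.det (isAlgSpace_yon U) A.property m
    ((repByAlgSpWith_iff_of_equiv Q (AlgSt.toOverCat U) e (toOverCat_isEquivOver U) he
      (f := l) (f' := AlgSt.ofSpMap m) i.symm).1 hl)⟩

theorem spMapOfOver_ofSpMap_toOverCat {A : AlgSp.Sp S} {T : Over S} (a : A ⟶ (AlgSp.yon S).obj T) :
    AlgSt.spMapOfOver (BasedFunctor.comp (AlgSt.ofSpMap a) (AlgSt.toOverCat T)) = a := by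
  ext W x
  exact congrArg ULift.up (Category.id_comp _)

/-- The map of spaces of a smooth square. -/
theorem exists_map_of_square {f : 𝒳 ⥤ᵇ 𝒴} {U V : Over S} {x : overCat U ⥤ᵇ 𝒳} {y : overCat V ⥤ᵇ 𝒴}
    {h : U ⟶ V} (α : BasedFunctor.comp x f ≅ BasedFunctor.comp (AlgSt.overMap h) y)
    (A : AlgSp.Space S) (e : AlgSt.ofSp A.obj ⥤ᵇ fp y f) (he : IsEquivOver e) :
    ∃ m : (AlgSp.yon S).obj U ⟶ A.obj,
      m ≫ AlgSt.spMapOfOver (BasedFunctor.comp e (fpFst y f)) = (AlgSp.yon S).map h ∧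
      ∀ Q : MorphismProperty (AlgSp.Sp S), Good Q →
        AlgSt.RepByAlgSpWith Q (fpLift x (AlgSt.overMap h) α) → Q m := by
  let l := BasedFunctor.comp (fpLift x (AlgSt.overMap h) α) (fpSwap f y)
  obtain ⟨m, ⟨i⟩, hm⟩ := exists_map_of_chart A e he l
  refine ⟨m, ?_, fun Q hQ hl => hm Q hQ ?_⟩
  · rw [← spMapOfOver_ofSpMap_comp, ← spMapOfOver_ofSpMap_toOverCat ((AlgSp.yon S).map h)]
    exact spMapOfOver_congr (isoWhiskerRight i.symm (fpFst y f) ≪≫ (toOverCatIso h).symm)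
  · obtain ⟨d, hd, ⟨j⟩, ⟨j'⟩⟩ := isEquivOver_symm (fpSwap_isEquivOver f y)
    refine (repByAlgSpWith_iff_of_equiv Q (BasedFunctor.id _) d (isEquivOver_id _) hd
      (f := fpLift x (AlgSt.overMap h) α) (f' := l) ?_).1 hl
    exact isoWhiskerLeft (fpLift x (AlgSt.overMap h) α) j

theorem mem_of_rep_square (hP : AlgSp.IsSmoothLocalST P) {f : 𝒳 ⥤ᵇ 𝒴}
    {U V : Over S} {x : overCat U ⥤ᵇ 𝒳} {y : overCat V ⥤ᵇ 𝒴} {h : U ⟶ V}
    (α : BasedFunctor.comp x f ≅ BasedFunctor.comp (AlgSt.overMap h) y)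
    (A : AlgSp.Space S) (e : AlgSt.ofSp A.obj ⥤ᵇ fp y f) (he : IsEquivOver e)
    (hA : P (AlgSt.spMapOfOver (BasedFunctor.comp e (fpFst y f))))
    (hl : AlgSt.RepByAlgSpWith (AlgSp.LocP @Smooth) (fpLift x (AlgSt.overMap h) α)) :
    P ((AlgSp.yon S).map h) := by
  obtain ⟨m, hm, hQ⟩ := exists_map_of_square α A e he
  rw [← hm]
  exact hP.precomp (isAlgSpace_yon U) A.property (isAlgSpace_yon V) _ _ (hQ _ good_smooth hl) hA

theorem locQ_of_repByAlgSpWith (hP : AlgSp.IsSmoothLocalST P)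
    (h𝒳 : AlgSt.IsAlgStack Scheme.fppfPrecoverage 𝒳) (h𝒴 : AlgSt.IsAlgStack Scheme.fppfPrecoverage 𝒴)
    {f : 𝒳 ⥤ᵇ 𝒴} (hf : AlgSt.RepByAlgSpWith P f) : AlgSt.LocQ P f := by
  obtain ⟨V, y, hy, hys⟩ := h𝒴.atlas
  obtain ⟨U, x, h, α, hx, hxs, hl, -⟩ := exists_smooth_square h𝒳 h𝒴 f hy
  obtain ⟨A, e, he, hA⟩ := hf V y
  exact ⟨U, V, x, y, h, α, hx, hxs hys, hy, mem_of_rep_square hP α A e he hA hl⟩

theorem space_mem_of_locQ (hP : AlgSp.IsSmoothLocalST P)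
    (h𝒳 : AlgSt.IsAlgStack Scheme.fppfPrecoverage 𝒳) (h𝒴 : AlgSt.IsAlgStack Scheme.fppfPrecoverage 𝒴)
    {f : 𝒳 ⥤ᵇ 𝒴} (hf : AlgSt.LocQ P f) {V : Over S} {y : overCat V ⥤ᵇ 𝒴}
    (hy : AlgSt.RepByAlgSpWith (AlgSp.LocP @Smooth) y)
    (A : AlgSp.Space S) (e : AlgSt.ofSp A.obj ⥤ᵇ fp y f) (he : IsEquivOver e) :
    P (AlgSt.spMapOfOver (BasedFunctor.comp e (fpFst y f))) := by
  obtain ⟨U, x, h, α, -, -, hl, hls⟩ := exists_smooth_square h𝒳 h𝒴 f hy
  obtain ⟨m, hm, hQ⟩ := exists_map_of_square α A e he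
  refine (hP.locality A.property (isAlgSpace_yon V) _).2 fun p => ?_
  obtain ⟨q, hq⟩ := hQ _ good_surjective hls p
  exact ⟨_, _, m, 𝟙 _, (AlgSp.yon S).map h, q, isAlgSpace_yon U, isAlgSpace_yon V, hQ _ good_smooth hl,
    Groth.Agent.AlgSpCov.locP_of_repWith Groth.Agent.AlgSpCov.standard_smooth.etaleLocal
      (AlgSp.repWith_id _ _), by rw [hm, Category.comp_id], hq, mem_of_locQ hP h𝒳 h𝒴 hf α hy hl⟩

theorem repByAlgSpWith_of_locQ (hP : AlgSp.IsSmoothLocalST P) (hPb : StableBC P)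
    (hP₂ : AlgSp.IsLocalOnBase AlgSp.IsFppfCover P)
    (h𝒳 : AlgSt.IsAlgStack Scheme.fppfPrecoverage 𝒳) (h𝒴 : AlgSt.IsAlgStack Scheme.fppfPrecoverage 𝒴)
    {f : 𝒳 ⥤ᵇ 𝒴} (hf : AlgSt.RepByAlgSp1 f) (hfQ : AlgSt.LocQ P f) : AlgSt.RepByAlgSpWith P f := by
  obtain ⟨V, y, hy, hys⟩ := h𝒴.atlas
  obtain ⟨A, e, he⟩ := hf V y
  refine repByAlgSpWith_of_locally_lift hPb hP₂ hf
    (exists_locally_lift (isFibGrpd_overCat V) h𝒴.isStack.1 (repByAlgSpWith_flat_of_smooth hy)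
      (repByAlgSpWith_lfp_of_smooth hy) hys) ?_
  let a := AlgSt.spMapOfOver (BasedFunctor.comp e (fpFst y f))
  obtain ⟨ia⟩ := exists_iso_ofSpMap_toOverCat (A := A.obj) (BasedFunctor.comp e (fpFst y f))
  exact (repByAlgSpWith_iff_of_equiv P e (AlgSt.toOverCat V) he (toOverCat_isEquivOver V)
    (f := fpFst y f) (f' := AlgSt.ofSpMap a) ia).2
      (repByAlgSpWith_ofSpMap hPb A.property (isAlgSpace_yon V) a
        (space_mem_of_locQ hP h𝒳 h𝒴 hfQ hy A e he))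

theorem locQ_ofSpMap_iff (hP : AlgSp.IsSmoothLocalST P) (F G : AlgSp.Space S) (a : F ⟶ G) :
    AlgSt.LocQ P (AlgSt.ofSpMap a.hom) ↔ P a.hom := by
  obtain ⟨V, q, hqe, hqs⟩ := G.property.atlas
  have hF := isAlgStack_of_repByAlgSp (repByAlgSp_ofSp F.property)
  have hG := isAlgStack_of_repByAlgSp (repByAlgSp_ofSp G.property)
  let y := BasedFunctor.comp (AlgSt.ofOverCat V) (AlgSt.ofSpMap q)
  have hq : AlgSp.LocP @Smooth q := Groth.Agent.AlgSpCov.locP_of_repWith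
    Groth.Agent.AlgSpCov.standard_smooth.etaleLocal
    (repWith_mono' (P := @Etale) (Q := @Smooth) (fun _ _ f hf => have : Etale f := hf
      inferInstance) hqe)
  have hy : AlgSt.RepByAlgSpWith (AlgSp.LocP @Smooth) y :=
    repByAlgSpWith_atlas _ _ (fun _ _ _ h => locP_smooth_of_repWith h) G.property q
      (repWith_mono' (P := @Etale) (Q := @Smooth) (fun _ _ f hf => have : Etale f := hf
        inferInstance) hqe)
  have hys : AlgSt.RepByAlgSpWith AlgSp.IsSurjectiveMor y :=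
    repByAlgSpWith_atlas _ _ (fun _ _ _ h => isSurjectiveMor_of_repWith h) G.property q hqs
  obtain ⟨U, x, h, α, hx, hxs, hl, -⟩ := exists_smooth_square hF hG (AlgSt.ofSpMap a.hom) hy
  obtain ⟨mx, ⟨ix⟩, hQ⟩ := exists_map_of_chart (𝒳 := AlgSt.ofSp F.obj) F (BasedFunctor.id _)
    (isEquivOver_id _) x
  have hw : mx ≫ a.hom = (AlgSp.yon S).map h ≫ q := by
    apply ObjectProperty.hom_ext
    have i' : Stk.ofPshMap (mx ≫ a.hom).hom ≅ Stk.ofPshMap ((AlgSp.yon S).map h ≫ q).hom :=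
      isoWhiskerRight ix.symm (AlgSt.ofSpMap a.hom) ≪≫ isoWhiskerLeft (AlgSt.toOverCat U) α ≪≫
        isoWhiskerRight (toOverCatIso h).symm y
    exact (pshMap_ofPshMap _).symm.trans ((pshMap_congr i').trans (pshMap_ofPshMap _))
  constructor
  · intro hf
    refine (hP.locality F.property G.property _).2 fun p => ?_
    obtain ⟨r, hr⟩ := hQ _ good_surjective (hxs hys) p
    exact ⟨_, _, mx, q, (AlgSp.yon S).map h, r, isAlgSpace_yon U, isAlgSpace_yon V, hQ _ good_smooth hx,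
      hq, hw, hr, mem_of_locQ hP hF hG hf α hy hl⟩
  · intro ha
    refine ⟨U, V, x, y, h, α, hx, hxs hys, hy, ?_⟩
    obtain ⟨A, e, he⟩ := (repByAlgSp1_of_repByAlgSp (repByAlgSp_ofSp F.property)
      (repByAlgSp_ofSp G.property) (AlgSt.ofSpMap a.hom)) V y
    refine mem_of_rep_square hP α A e he ?_ hl
    have sq := (IsPullback.map (sheafToPresheaf (AlgSp.J S) (Type (u + 1)))
      (IsPullback.of_hasPullback a.hom q)).flip
    let N : AlgSt.ofSp (pullback a.hom q) ⥤ᵇ fp (AlgSt.ofSpMap q) (AlgSt.ofSpMap a.hom) :=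
      fpLift (Stk.ofPshMap (pullback.snd a.hom q).hom) (Stk.ofPshMap (pullback.fst a.hom q).hom)
        (pshSqIso sq.w)
    have hN : IsEquivOver N := pshSq_cart sq
    have : (BasedFunctor.id (AlgSt.ofSp G.obj)).toFunctor.Full := inferInstanceAs (𝟭 _).Full
    have : (BasedFunctor.id (AlgSt.ofSp G.obj)).toFunctor.Faithful := inferInstanceAs (𝟭 _).Faithful
    let M : fp (AlgSt.ofSpMap q) (AlgSt.ofSpMap a.hom) ⥤ᵇ fp y (AlgSt.ofSpMap a.hom) :=
      fpMap (F := y) (G := AlgSt.ofSpMap a.hom) (F' := AlgSt.ofSpMap q) (G' := AlgSt.ofSpMap a.hom)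
        (AlgSt.toOverCat V) (BasedFunctor.id _) (BasedFunctor.id _) (Iso.refl _) (Iso.refl _)
    have hM : IsEquivOver M := fpMap_isEquivOver _ _ _ _ _ (toOverCat_isEquivOver V) (isEquivOver_id _)
    have hQA := Groth.Agent.AlgSp.isAlgSpace_pullback G.property F.property (isAlgSpace_yon V) a.hom q
    obtain ⟨d, hd, -, ⟨j⟩⟩ := isEquivOver_symm he
    let Φ := BasedFunctor.comp (BasedFunctor.comp N M) d
    obtain ⟨k⟩ := exists_iso_pshMap (P := (pullback a.hom q).obj) (Q := A.obj.obj) Φ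
    let c : pullback a.hom q ⟶ A.obj := ObjectProperty.homMk (pshMap Φ)
    have : IsIso c.hom := isIso_pshMap (isEquivOver_comp (isEquivOver_comp hN hM) hd)
    have : IsIso ((sheafToPresheaf (AlgSp.J S) (Type (u + 1))).map c) := this
    have : IsIso c := isIso_of_fully_faithful (sheafToPresheaf (AlgSp.J S) (Type (u + 1))) c
    have hc : c ≫ AlgSt.spMapOfOver (BasedFunctor.comp e (fpFst y (AlgSt.ofSpMap a.hom))) =
        pullback.snd a.hom q := by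
      rw [← spMapOfOver_ofSpMap_comp, ← spMapOfOver_ofSpMap_toOverCat (pullback.snd a.hom q)]
      exact spMapOfOver_congr (isoWhiskerRight k.symm (BasedFunctor.comp e (fpFst y (AlgSt.ofSpMap a.hom))) ≪≫
        isoWhiskerRight (isoWhiskerLeft (BasedFunctor.comp N M) j) (fpFst y (AlgSt.ofSpMap a.hom)))
    have hb : P (pullback.snd a.hom q) := hP.baseChange F.property G.property hQA (isAlgSpace_yon V) _ _ _ _
      (IsPullback.of_hasPullback a.hom q) hq ha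
    have e' : inv c ≫ pullback.snd a.hom q =
        AlgSt.spMapOfOver (BasedFunctor.comp e (fpFst y (AlgSt.ofSpMap a.hom))) := by
      rw [IsIso.inv_comp_eq, hc]
    rw [← e']
    refine hP.precomp A.property hQA (isAlgSpace_yon V) _ _ ?_ hb
    exact Groth.Agent.AlgSpCov.locP_of_repWith Groth.Agent.AlgSpCov.standard_smooth.etaleLocal
      (repWith_of_isIso @Smooth)

end Groth.Agent.StFib
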