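import Groth.Agent.StFib.QC2
import Groth.Agent.S4360
import Mathlib.Topology.NoetherianSpace
import Mathlib.Topology.Sober
import Mathlib.AlgebraicGeometry.Noetherian

/-!
Locally Noetherian algebraic stacks: topology and immersions.
-/

set_option backward.isDefEq.respectTransparency false
set_option backward.isDefEq.respectTransparency.types false
set_option linter.unusedVariables false

universe u

open CategoryTheory CategoryTheory.Limits AlgebraicGeometry Opposite FibCat TopologicalSpace Topology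

namespace Groth.Agent.StFib

variable {S : Scheme.{u}} {𝒳 𝒴 : AlgSt.Cat S}

local notation "K" => Scheme.fppfPrecoverage

theorem exists_noetherian_open {X : Scheme.{u}} [IsLocallyNoetherian X] (t : X) :
    ∃ V : X.Opens, t ∈ V ∧ NoetherianSpace (V : Set X) := by
  obtain ⟨V, hV, htV, -⟩ := exists_isAffineOpen_mem_and_subset (x := t) (U := ⊤) trivial
  have : IsNoetherianRing Γ(X, V) := IsLocallyNoetherian.component_noetherian ⟨V, hV⟩
  have : NoetherianSpace V := noetherianSpace_of_isAffineOpen V hV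
  exact ⟨V, htV, this⟩

theorem exists_noetherian_nhd (h : AlgSt.IsAlgStack K 𝒳)
    (hN : AlgSt.SmoothLocally (fun T ↦ IsLocallyNoetherian T) 𝒳) (P : AlgSt.Points 𝒳) :
    ∃ W : Set (AlgSt.Points 𝒳), IsOpen W ∧ P ∈ W ∧ NoetherianSpace W := by
  obtain ⟨U, z, hz, hzs⟩ := h.atlas
  have : IsLocallyNoetherian U.left := hN U z hz
  obtain ⟨t, rfl⟩ := ofChart_surjective h.isStack.1 hzs P
  obtain ⟨V, htV, hV⟩ := exists_noetherian_open t
  refine ⟨AlgSt.Points.ofChart z '' (V : Set U.left), isOpenMap_ofChart h (repByAlgSpWith_flat_of_smooth hz)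
      (repByAlgSpWith_lfp_of_smooth hz) _ V.isOpen, ⟨t, htV, rfl⟩, ?_⟩
  exact noetherianSpace_of_surjective
    (fun v : (V : Set U.left) => (⟨AlgSt.Points.ofChart z v.1, v.1, v.2, rfl⟩ : ↥(AlgSt.Points.ofChart z '' (V : Set U.left))))
    (((continuous_ofChart h z).comp continuous_subtype_val).subtype_mk _)
    (fun ⟨Q, v, hv, hvQ⟩ => ⟨⟨v, hv⟩, Subtype.ext hvQ⟩)

theorem noetherianSpace_points (h : AlgSt.IsAlgStack K 𝒳) (hc : AlgSt.IsQuasiCompact 𝒳)
    (hN : AlgSt.SmoothLocally (fun T ↦ IsLocallyNoetherian T) 𝒳) : NoetherianSpace (AlgSt.Points 𝒳) := by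
  have := compactSpace_points h hc
  choose W hWo hWm hWn using exists_noetherian_nhd h hN
  obtain ⟨s, hs⟩ := isCompact_univ.elim_finite_subcover W hWo fun P _ => Set.mem_iUnion.2 ⟨P, hWm P⟩
  have : ∀ i : s, NoetherianSpace (W i.1) := fun i => hWn i.1
  have hu : NoetherianSpace (⋃ i : s, W i.1 : Set (AlgSt.Points 𝒳)) := NoetherianSpace.iUnion _
  rw [← noetherian_univ_iff]
  have he : (⋃ i : s, W i.1) = (Set.univ : Set (AlgSt.Points 𝒳)) := Set.eq_univ_iff_forall.2 fun P => by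
    obtain ⟨i, hi, hP⟩ := Set.mem_iUnion₂.1 (hs (Set.mem_univ P))
    exact Set.mem_iUnion.2 ⟨⟨i, hi⟩, hP⟩
  rwa [he] at hu

/-- Quasi-sobriety passes to images of locally Noetherian quasi-sober spaces under open surjections. -/
theorem quasiSober_of_isOpenMap {X Y : Type*} [TopologicalSpace X] [TopologicalSpace Y] [QuasiSober X]
    (hN : ∀ x : X, ∃ V : Set X, IsOpen V ∧ x ∈ V ∧ NoetherianSpace V) {π : X → Y} (hc : Continuous π)
    (ho : IsOpenMap π) (hs : Function.Surjective π) : QuasiSober Y := by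
  refine ⟨fun {T} hT hTc => ?_⟩
  obtain ⟨y, hy⟩ := hT.nonempty
  obtain ⟨x, rfl⟩ := hs y
  obtain ⟨V, hVo, hxV, hV⟩ := hN x
  let s : Closeds V := ⟨Subtype.val ⁻¹' (π ⁻¹' T), (hTc.preimage hc).preimage continuous_subtype_val⟩
  obtain ⟨C, hCf, hCi, hCs⟩ := NoetherianSpace.exists_finite_set_closeds_irreducible s
  have hsU : (s : Set V) = ⋃ t ∈ C, (t : Set V) := by
    have := congrArg (SetLike.coe) hCs
    rw [this]
    have hfin : IsClosed (⋃ t ∈ C, (t : Set V)) := hCf.isClosed_biUnion fun t _ => t.isClosed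
    refine Set.Subset.antisymm ?_ (Set.iUnion₂_subset fun t ht => (le_sSup ht : t ≤ sSup C))
    intro v hv
    exact (sSup_le fun t ht w hw => Set.mem_iUnion₂.2 ⟨t, ht, hw⟩ : sSup C ≤ (⟨_, hfin⟩ : Closeds V)) hv
  have himg : ∀ t : C, IsIrreducible ((Subtype.val : V → X) '' (t.1 : Set V)) := fun t =>
    (hCi t.1 t.2).image _ continuous_subtype_val.continuousOn
  let η : C → X := fun t => (himg t).genericPoint
  have := hCf.to_subtype
  have hcov : T ⊆ ⋃ t : C, closure {π (η t)} := by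
    have h1 : T ⊆ closure (T ∩ π '' V) :=
      subset_closure_inter_of_isPreirreducible_of_isOpen hT.2 (ho _ hVo) ⟨π x, hy, x, hxV, rfl⟩
    refine h1.trans ((closure_minimal ?_ (isClosed_iUnion_of_finite fun _ => isClosed_closure)))
    rintro _ ⟨hvT, v, hv, rfl⟩
    have : (⟨v, hv⟩ : V) ∈ (s : Set V) := hvT
    rw [hsU] at this
    obtain ⟨t, ht, hvt⟩ := Set.mem_iUnion₂.1 this
    refine Set.mem_iUnion.2 ⟨⟨t, ht⟩, ?_⟩
    have h2 : v ∈ closure {η ⟨t, ht⟩} := by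
      rw [(himg ⟨t, ht⟩).isGenericPoint_genericPoint_closure.def]
      exact subset_closure ⟨_, hvt, rfl⟩
    exact (image_closure_subset_closure_image hc).trans (by rw [Set.image_singleton]) ⟨v, h2, rfl⟩
  have hη : ∀ t : C, π (η t) ∈ T := fun t => by
    have hsub : closure ((Subtype.val : V → X) '' (t.1 : Set V)) ⊆ π ⁻¹' T :=
      closure_minimal (by
        rintro _ ⟨v, hv, rfl⟩
        have : v ∈ (s : Set V) := by rw [hsU]; exact Set.mem_iUnion₂.2 ⟨t.1, t.2, hv⟩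
        exact this) (hTc.preimage hc)
    exact hsub (himg t).isGenericPoint_genericPoint_closure.mem
  obtain ⟨z, hz, hTz⟩ := isIrreducible_iff_sUnion_isClosed.1 hT
    ((Set.toFinite (Set.univ : Set C)).toFinset.image fun t : C => closure {π (η t)}) (fun z hz => by
      obtain ⟨t, -, rfl⟩ := Finset.mem_image.1 hz; exact isClosed_closure) (by simpa using hcov)
  obtain ⟨t, -, rfl⟩ := Finset.mem_image.1 hz
  exact ⟨π (η t), Set.Subset.antisymm (closure_minimal (Set.singleton_subset_iff.2 (hη t)) hTc) hTz⟩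

theorem quasiSober_points (h : AlgSt.IsAlgStack K 𝒳)
    (hN : AlgSt.SmoothLocally (fun T ↦ IsLocallyNoetherian T) 𝒳) : QuasiSober (AlgSt.Points 𝒳) := by
  obtain ⟨U, z, hz, hzs⟩ := h.atlas
  have : IsLocallyNoetherian U.left := hN U z hz
  exact quasiSober_of_isOpenMap (fun t : U.left => let ⟨V, ht, hV⟩ := exists_noetherian_open t
      ⟨(V : Set U.left), V.isOpen, ht, hV⟩)
    (continuous_ofChart h z) (isOpenMap_ofChart h (repByAlgSpWith_flat_of_smooth hz)
      (repByAlgSpWith_lfp_of_smooth hz)) (ofChart_surjective h.isStack.1 hzs)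

/-! ## Immersions -/

theorem locallyNoetherian_of_isImm (h𝒳 : AlgSt.IsAlgStack K 𝒳) (h𝒴 : AlgSt.IsAlgStack K 𝒴) {j : 𝒳 ⥤ᵇ 𝒴}
    (hj : AlgSt.IsImm j) (hY : AlgSt.SmoothLocally (fun T ↦ IsLocallyNoetherian T) 𝒴) :
    AlgSt.SmoothLocally (fun T ↦ IsLocallyNoetherian T) 𝒳 :=
  smoothLocally_locallyNoetherian_of_lft h𝒳 h𝒴
    (locQ_of_repByAlgSpWith (isSmoothLocalST_locP smoothLocalProp_lft) h𝒳 h𝒴
      (repByAlgSpWith_mono hj fun F V m hm => Groth.Agent.AlgSpCov.locP_of_repWith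
        Groth.Agent.AlgSpCov.etaleLocal_locallyOfFiniteType (Groth.Agent.AlgSp.repWith_mono
          (fun g hg => (have : IsImmersion g := hg; inferInstance : LocallyOfFiniteType g)) hm))) hY

theorem isQuasiCompactMor_of_isImm (h𝒳 : AlgSt.IsAlgStack K 𝒳) (h𝒴 : AlgSt.IsAlgStack K 𝒴) {j : 𝒳 ⥤ᵇ 𝒴}
    (hj : AlgSt.IsImm j) (hY : AlgSt.SmoothLocally (fun T ↦ IsLocallyNoetherian T) 𝒴) :
    AlgSt.IsQuasiCompactMor K j := by
  obtain ⟨W, w, hw, hws⟩ := h𝒴.atlas
  have : IsLocallyNoetherian W.left := hY W w hw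
  have hWs := isAlgStack_overCat W
  obtain ⟨A, e, he, hA⟩ := hj W w
  obtain ⟨V, g, ι, hι, hg⟩ := exists_iso_yon_of_repWith @IsImmersion hA
  have : IsImmersion g.left := hg
  have : QuasiCompact g.left := Groth.Agent.S4360.result g.left fun y =>
    let ⟨U, hy, hU⟩ := exists_noetherian_open y; ⟨U, hy, hU⟩
  have ha : AlgSp.RepWith @QuasiCompact (AlgSt.spMapOfOver (BasedFunctor.comp e (fpFst w j))) := by
    refine (MorphismProperty.cancel_left_of_respectsIso (AlgSp.RepWith @QuasiCompact) ι.hom _).1 ?_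
    rw [hι]
    exact (AlgSp.repWith_yon_map_iff _ _).2 inferInstance
  obtain ⟨i⟩ := exists_iso_ofSpMap_toOverCat (A := A.obj) (BasedFunctor.comp e (fpFst w j))
  have hrep : AlgSt.RepByAlgSpWith AlgSp.IsQuasiCompactMor (fpFst w j) :=
    (repByAlgSpWith_iff_of_equiv AlgSp.IsQuasiCompactMor e (AlgSt.toOverCat W) he (toOverCat_isEquivOver W) i).2
      (repByAlgSpWith_ofSpMap good_quasiCompact.bc A.property (isAlgSpace_yon W) _
        (Groth.Agent.AlgSp.isQuasiCompactMor_of_repWith (isAlgSpace_yon W) ha))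
  exact isQuasiCompactMor_of_fppf h𝒳 h𝒴 hWs w
    (locQ_of_repByAlgSpWith (isSmoothLocalST_locP smoothLocalProp_flat) hWs h𝒴 (repByAlgSpWith_flat_of_smooth hw))
    (locQ_of_repByAlgSpWith (isSmoothLocalST_locP smoothLocalProp_lfp) hWs h𝒴 (repByAlgSpWith_lfp_of_smooth hw))
    ((isSurjective_iff_rep hWs h𝒴 (repByAlgSp1_of_with hws)).2 hws)
    (isQuasiCompactMor_of_rep (isAlgStack_fp h𝒴.isStack h𝒴.diag hWs h𝒳 w j) hWs hrep)

theorem isQuasiSeparatedMor_of_isImm {j : 𝒳 ⥤ᵇ 𝒴} (hj : AlgSt.IsImm j) : AlgSt.IsQuasiSeparatedMor j :=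
  (isQuasiSeparatedMor_iff_of_rep (repByAlgSp1_of_with hj)).2
    (repByAlgSpWith_mono hj fun F V m hm => by
      have : Mono m := Groth.Agent.AlgSp.mono_of_repWith (P := @IsImmersion) (fun f hf => (have : IsImmersion f := hf; inferInstance)) m hm
      exact repWith_diagonal_of_mono @QuasiCompact _)

theorem noetherian_of_isImm (h𝒳 : AlgSt.IsAlgStack K 𝒳) (h𝒴 : AlgSt.IsAlgStack K 𝒴) {j : 𝒳 ⥤ᵇ 𝒴}
    (hj : AlgSt.IsImm j) (hc : AlgSt.IsQuasiCompact 𝒴) (hs : AlgSt.IsQuasiSeparatedOver 𝒴)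
    (hY : AlgSt.SmoothLocally (fun T ↦ IsLocallyNoetherian T) 𝒴) :
    AlgSt.IsQuasiCompact 𝒳 ∧ AlgSt.IsQuasiSeparatedOver 𝒳 ∧
      AlgSt.SmoothLocally (fun T ↦ IsLocallyNoetherian T) 𝒳 := by
  refine ⟨?_, ?_, locallyNoetherian_of_isImm h𝒳 h𝒴 hj hY⟩
  · refine isQuasiCompact_of_surjective (f := fpSnd (BasedFunctor.id 𝒴) j)
      (isAlgStack_fp h𝒴.isStack h𝒴.diag h𝒴 h𝒳 _ _) h𝒳 (fun P => ?_)
      (isQuasiCompactMor_of_isImm h𝒳 h𝒴 hj hY 𝒴 h𝒴 hc (BasedFunctor.id 𝒴))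
    obtain ⟨R, -, hR⟩ := exists_points_fp_of_map_eq h𝒳.isStack.1 h𝒴.isStack.1 h𝒴.isStack.1 j
      (BasedFunctor.id 𝒴) (AlgSt.Points.map j P) P (by rw [points_map_id]; rfl)
    exact ⟨R, hR⟩
  · obtain ⟨i⟩ := exists_iso_toSelf (BasedFunctor.comp j (toSelf 𝒴))
    exact repByAlgSpWith_diag_of_iso _ i (diag_comp_mem good_qcqs h𝒳.isStack.1 h𝒴.isStack.1
      (isQuasiSeparatedMor_of_isImm hj) hs)

end Groth.Agent.StFib
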