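import Groth.Agent.StFib.LocQDescent

/-!
Lifting objects along jointly surjective fppf families of algebraic stacks.
-/

set_option backward.isDefEq.respectTransparency false
set_option backward.isDefEq.respectTransparency.types false
set_option linter.unusedVariables false

universe u

open CategoryTheory CategoryTheory.Limits AlgebraicGeometry Opposite FibCat

namespace Groth.Agent.StFib

variable {S : Scheme.{u}} {𝒳 𝒵 : AlgSt.Cat S}

local notation "K" => Scheme.fppfPrecoverage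

theorem mem_range_of_square (h𝒵 : AlgSt.IsAlgStack K 𝒵) (h𝒳 : AlgSt.IsAlgStack K 𝒳) {z : 𝒵 ⥤ᵇ 𝒳}
    {U V : Over S} {x : overCat U ⥤ᵇ 𝒵} {y : overCat V ⥤ᵇ 𝒳} {h : U ⟶ V}
    (α : BasedFunctor.comp x z ≅ BasedFunctor.comp (AlgSt.overMap h) y)
    (hls : AlgSt.RepByAlgSpWith AlgSp.IsSurjectiveMor (fpLift x (AlgSt.overMap h) α)) (v : ↥V.left)
    (hv : AlgSt.Points.ofChart y v ∈ Set.range (AlgSt.Points.map z)) : ∃ u : ↥U.left, h.left u = v := by
  obtain ⟨p, hp⟩ := hv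
  obtain ⟨r, -, hr⟩ := exists_points_fp_of_map_eq (isFibGrpd_overCat V) h𝒵.isStack.1 h𝒳.isStack.1
    y z p (AlgSt.Points.ofChart (BasedFunctor.id _) v) (hp.trans (ofChart_eq_map y v))
  obtain ⟨u, rfl⟩ := ofChart_surjective (isFibGrpd_fp h𝒵.isStack.1 (isFibGrpd_overCat V)
    h𝒳.isStack.1 z y) hls r
  refine ⟨u, ?_⟩
  have := congrArg ptMap hr
  rw [ptMap_ofChart_id] at this
  exact ((congrArg ptMap (ofChart_overMap (BasedFunctor.id (overCat V)) h u)).trans
    (ptMap_ofChart_id _)).symm.trans this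

theorem exists_fppf_cover_lift (h𝒳 : AlgSt.IsAlgStack K 𝒳)
    (J : Type u) (𝒳' : J → AlgSt.Cat S) (h𝒳' : ∀ j, AlgSt.IsAlgStack K (𝒳' j))
    (f : ∀ j, 𝒳' j ⥤ᵇ 𝒳)
    (hf₁ : ∀ j, AlgSt.LocQ (AlgSp.LocP @Flat) (f j))
    (hf₂ : ∀ j, AlgSt.LocQ (AlgSp.LocP @LocallyOfFinitePresentation) (f j))
    (hf₃ : ∀ p : AlgSt.Points 𝒳, ∃ j, p ∈ Set.range (AlgSt.Points.map (f j)))
    (U : Over S) (x : overCat U ⥤ᵇ 𝒳) :
    ∃ (ι : Type u) (V : ι → Over S) (g : ∀ i, V i ⟶ U) (c : ι → J),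
      (Presieve.ofArrows (fun i ↦ (V i).left) fun i ↦ (g i).left) ∈ Scheme.fppfPrecoverage U.left ∧
      ∀ i, ∃ x' : overCat (V i) ⥤ᵇ 𝒳' (c i),
        Nonempty (BasedFunctor.comp x' (f (c i)) ≅ BasedFunctor.comp (AlgSt.overMap (g i)) x) := by
  obtain ⟨V₀, y₀, hy₀, hys₀⟩ := h𝒳.atlas
  have H : ∀ j, ∃ (Z : Over S) (x₀ : overCat Z ⥤ᵇ 𝒳' j) (c : Z ⟶ V₀),
      Nonempty (BasedFunctor.comp x₀ (f j) ≅ BasedFunctor.comp (AlgSt.overMap c) y₀) ∧
      Flat c.left ∧ LocallyOfFinitePresentation c.left ∧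
      ∀ v, AlgSt.Points.ofChart y₀ v ∈ Set.range (AlgSt.Points.map (f j)) → ∃ u, c.left u = v := by
    intro j
    obtain ⟨Z, x₀, c, β, -, -, hlz, hlzs⟩ := exists_smooth_square (h𝒳' j) h𝒳 (f j) hy₀
    exact ⟨Z, x₀, c, ⟨β⟩,
      scheme_mem_of_locP (mem_of_locQ (isSmoothLocalST_locP smoothLocalProp_flat) (h𝒳' j) h𝒳 (hf₁ j) β hy₀ hlz),
      scheme_mem_of_locP (mem_of_locQ (isSmoothLocalST_locP smoothLocalProp_lfp) (h𝒳' j) h𝒳 (hf₂ j) β hy₀ hlz),
      fun v hv => mem_range_of_square (h𝒳' j) h𝒳 β hlzs v hv⟩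
  choose Z x₀ c β hc₁ hc₂ hc₃ using H
  obtain ⟨W, a, b, ⟨i⟩, -, hb1, hb2, hb3⟩ := exists_chart_fp h𝒳 y₀ x
  have := hb1 (repByAlgSpWith_flat_of_smooth hy₀)
  have := hb2 (repByAlgSpWith_lfp_of_smooth hy₀)
  have := hb3 hys₀
  refine ⟨J, fun j => pullback a (c j), fun j => pullback.fst a (c j) ≫ b, id, ?_, fun j =>
    ⟨BasedFunctor.comp (AlgSt.overMap (pullback.snd a (c j))) (x₀ j), ?_⟩⟩
  · rw [Scheme.fppfPrecoverage]
    refine (Scheme.ofArrows_mem_precoverage_iff _).2 ⟨fun t => ?_, fun j => ?_⟩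
    · obtain ⟨w, rfl⟩ := b.left.surjective t
      obtain ⟨j, hj⟩ := hf₃ (AlgSt.Points.ofChart y₀ (a.left w))
      obtain ⟨u, hu⟩ := hc₃ j (a.left w) hj
      have sq := (IsPullback.of_hasPullback a (c j)).map (Over.forget S)
      obtain ⟨q, hq, -⟩ := Scheme.Pullback.exists_preimage_pullback w u hu.symm
      refine ⟨j, sq.isoPullback.inv q, ?_⟩
      change ((pullback.fst a (c j)).left ≫ b.left) _ = _
      rw [Scheme.Hom.comp_apply]
      refine congrArg b.left ?_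
      refine Eq.trans ?_ hq
      exact (Scheme.Hom.comp_apply _ _ _).symm.trans
        (congrArg (fun g : pullback a.left (c j).left ⟶ W.left => g q) sq.isoPullback_inv_fst)
    · have sq := (IsPullback.of_hasPullback a (c j)).flip.map (Over.forget S)
      have : Flat (pullback.fst a (c j)).left := MorphismProperty.of_isPullback (P := @Flat) sq (hc₁ j)
      have : LocallyOfFinitePresentation (pullback.fst a (c j)).left :=
        MorphismProperty.of_isPullback (P := @LocallyOfFinitePresentation) sq (hc₂ j)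
      exact ⟨inferInstanceAs (Flat ((pullback.fst a (c j)).left ≫ b.left)),
        inferInstanceAs (LocallyOfFinitePresentation ((pullback.fst a (c j)).left ≫ b.left))⟩
  · obtain ⟨β⟩ := β j
    exact ⟨isoWhiskerLeft (AlgSt.overMap (pullback.snd a (c j))) β ≪≫
      isoWhiskerRight ((overMapCompIso (pullback.snd a (c j)) (c j)).symm ≪≫
        eqToIso (congrArg AlgSt.overMap pullback.condition.symm) ≪≫
        overMapCompIso (pullback.fst a (c j)) a) y₀ ≪≫
      isoWhiskerLeft (AlgSt.overMap (pullback.fst a (c j))) i ≪≫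
      isoWhiskerRight (overMapCompIso (pullback.fst a (c j)) b).symm x⟩

end Groth.Agent.StFib
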