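import Groth.Agent.StFib.StackCrit
import Groth.Agent.StFib.YonGlue
import Groth.Agent.StFib.Fp
import Groth.Agent.FibC.Basic
import Groth.Prelude.Def_AlgSt2

/-!
# The sheaf of isomorphisms of two objects and the diagonal
-/

set_option linter.unusedVariables false
set_option backward.isDefEq.respectTransparency false
set_option backward.isDefEq.respectTransparency.types false
set_option maxHeartbeats 1600000

universe u

open CategoryTheory CategoryTheory.Limits AlgebraicGeometry Opposite FibCat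

namespace Groth.Agent.StFib.Isom

open Groth.Agent.AlgSp (yEquiv yEquiv_map yEquiv_comp hom_ext_yon)

variable {S : Scheme.{u}} {𝒳 : BasedCategory.{u + 1, u + 2} (Over S)} {U : Over S}

/-- An isomorphism of the pullbacks of two objects. -/
structure Pt (x₁ x₂ : overCat U ⥤ᵇ 𝒳) (V : Over S) : Type (u + 1) where
  k : V ⟶ U
  φ : x₁.obj (Over.mk k) ⟶ x₂.obj (Over.mk k)
  hφ : Vert φ

variable {x₁ x₂ : overCat U ⥤ᵇ 𝒳}

theorem map_x (x : overCat U ⥤ᵇ 𝒳) {a b : (overCat U).obj} (γ : a ⟶ b) :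
    𝒳.p.map (x.map γ) = eqToHom (show 𝒳.p.obj (x.obj a) = a.left from x.w_obj a) ≫ γ.left ≫
      eqToHom (show b.left = 𝒳.p.obj (x.obj b) from (x.w_obj b).symm) := w_map x γ

theorem Pt.ext' {V : Over S} {x y : Pt x₁ x₂ V} (e : x.k = y.k)
    (h : ∀ (γ : (Over.mk x.k : (overCat U).obj) ⟶ Over.mk y.k), γ.left = 𝟙 V →
      x.φ ≫ x₂.map γ = x₁.map γ ≫ y.φ) : x = y := by
  obtain ⟨k, φ, hφ⟩ := x
  obtain ⟨k', φ', hφ'⟩ := y
  dsimp only at e
  subst e
  have := h (𝟙 _) rfl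
  rw [CategoryTheory.Functor.map_id, CategoryTheory.Functor.map_id, Category.comp_id, Category.id_comp] at this
  simp only at this
  subst this
  rfl

/-- `x` is the restriction of `y`. -/
def IsRes {V W : Over S} (g : W ⟶ V) (x : Pt x₁ x₂ W) (y : Pt x₁ x₂ V) : Prop :=
  ∃ w : g ≫ y.k = x.k,
    x.φ ≫ x₂.map (Over.homMk g w : (Over.mk x.k : (overCat U).obj) ⟶ Over.mk y.k) = x₁.map (Over.homMk g w) ≫ y.φ

theorem exists_res (h : IsFibGrpd 𝒳.p) {V W : Over S} (g : W ⟶ V) (y : Pt x₁ x₂ V) :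
    ∃ x : Pt x₁ x₂ W, IsRes g x y := by
  let γ : (Over.mk (g ≫ y.k) : (overCat U).obj) ⟶ Over.mk y.k := Over.homMk g rfl
  have e : 𝒳.p.obj (x₁.obj (Over.mk (g ≫ y.k))) = 𝒳.p.obj (x₂.obj (Over.mk (g ≫ y.k))) :=
    (x₁.w_obj _).trans (x₂.w_obj _).symm
  obtain ⟨χ, h1, h2⟩ := grpd_exists_fac h (x₂.map γ) (x₁.map γ ≫ y.φ) (eqToHom e) (by
    rw [Functor.map_comp, map_x, map_x, y.hφ.2]
    simp)
  exact ⟨⟨g ≫ y.k, χ, e, h1⟩, rfl, h2⟩

theorem isRes_id {V : Over S} (x : Pt x₁ x₂ V) : IsRes (𝟙 V) x x := by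
  refine ⟨Category.id_comp _, ?_⟩
  have : (Over.homMk (𝟙 V) (Category.id_comp _) : (Over.mk x.k : (overCat U).obj) ⟶ Over.mk x.k) = 𝟙 _ :=
    Over.OverMorphism.ext rfl
  rw [this, CategoryTheory.Functor.map_id, CategoryTheory.Functor.map_id, Category.comp_id, Category.id_comp]

theorem IsRes.comp {V W Z : Over S} {g : W ⟶ V} {g' : Z ⟶ W} {x : Pt x₁ x₂ Z} {y : Pt x₁ x₂ W}
    {z : Pt x₁ x₂ V} (h : IsRes g' x y) (h' : IsRes g y z) : IsRes (g' ≫ g) x z := by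
  obtain ⟨w, hw⟩ := h
  obtain ⟨w', hw'⟩ := h'
  refine ⟨by rw [Category.assoc, w', w], ?_⟩
  have : (Over.homMk (g' ≫ g) (show (g' ≫ g) ≫ z.k = x.k by rw [Category.assoc, w', w]) :
      (Over.mk x.k : (overCat U).obj) ⟶ Over.mk z.k) =
      (Over.homMk g' w : (Over.mk x.k : (overCat U).obj) ⟶ Over.mk y.k) ≫ (Over.homMk g w' : (Over.mk y.k : (overCat U).obj) ⟶ Over.mk z.k) :=
    Over.OverMorphism.ext rfl
  rw [this, Functor.map_comp, Functor.map_comp, reassoc_of% hw, hw', Category.assoc]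

theorem isRes_unique (h : IsFibGrpd 𝒳.p) {V W : Over S} {g : W ⟶ V} {x x' : Pt x₁ x₂ W} {y : Pt x₁ x₂ V}
    (hx : IsRes g x y) (hx' : IsRes g x' y) : x = x' := by
  obtain ⟨k, φ, hφ⟩ := x
  obtain ⟨k', φ', hφ'⟩ := x'
  obtain ⟨w, hw⟩ := hx
  obtain ⟨w', hw'⟩ := hx'
  obtain rfl : k = k' := w.symm.trans w'
  obtain rfl : φ = φ' := grpd_cancel h (x₂.map (Over.homMk g w : (Over.mk k : (overCat U).obj) ⟶ Over.mk y.k))
    (hw.trans hw'.symm) (hφ.2.trans hφ'.2.symm)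
  rfl

variable (h : IsFibGrpd 𝒳.p)

/-- Restriction of isomorphisms. -/
noncomputable def res {V W : Over S} (g : W ⟶ V) (y : Pt x₁ x₂ V) : Pt x₁ x₂ W := (exists_res h g y).choose

theorem isRes_res {V W : Over S} (g : W ⟶ V) (y : Pt x₁ x₂ V) : IsRes g (res h g y) y :=
  (exists_res h g y).choose_spec

theorem res_eq {V W : Over S} {g : W ⟶ V} {x : Pt x₁ x₂ W} {y : Pt x₁ x₂ V} (hx : IsRes g x y) :
    res h g y = x := isRes_unique h (isRes_res h g y) hx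

variable (x₁ x₂) in
/-- The presheaf of isomorphisms. -/
noncomputable def psh : (Over S)ᵒᵖ ⥤ Type (u + 1) where
  obj V := Pt x₁ x₂ V.unop
  map g := TypeCat.ofHom (res h g.unop)
  map_id V := by
    ext x
    exact res_eq h (isRes_id x)
  map_comp g g' := by
    ext x
    exact res_eq h ((isRes_res h g'.unop _).comp (isRes_res h g.unop x))

theorem isSheaf_psh (hm : ∀ {V : Over S} (R : Sieve V), R ∈ AlgSp.J S V → MorGlue 𝒳 R) :
    Presheaf.IsSheaf (AlgSp.J S) (psh x₁ x₂ h) := by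
  rw [isSheaf_iff_isSheaf_of_type]
  intro V T hT fam hfam
  rw [Presieve.compatible_iff_sieveCompatible] at hfam
  have hc : ∀ {W W' : Over S} (g : W' ⟶ W) (f : W ⟶ V) (hf : T f),
      IsRes g (fam (g ≫ f) (T.downward_closed hf g)) (fam f hf) := fun g f hf => by
    rw [show fam (g ≫ f) (T.downward_closed hf g) = res h g (fam f hf) from hfam f g hf]
    exact isRes_res h g _
  obtain ⟨tm, htm⟩ := Glue.exists_glue hT (X := (AlgSp.yon S).obj U) (fun W f hf => (AlgSp.yon S).map (fam f hf).k)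
    (fun W W' g f hf => by rw [← Functor.map_comp, (hc g f hf).choose])
  obtain ⟨k, rfl⟩ := (AlgSp.yon S).map_surjective tm
  have hk : ∀ {W : Over S} (f : W ⟶ V) (hf : T f), f ≫ k = (fam f hf).k := fun f hf =>
    (AlgSp.yon S).map_injective ((Functor.map_comp _ _ _).trans (htm f hf))
  let c : (overCat U).obj := Over.mk k
  let γ : ∀ {W : Over S} (f : W ⟶ V) (hf : T f), ((Over.mk (fam f hf).k : (overCat U).obj) ⟶ c) :=
    fun f hf => Over.homMk f (hk f hf)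
  have hA : 𝒳.p.obj (x₁.obj c) = V := x₁.w_obj c
  have hA' : 𝒳.p.obj (x₂.obj c) = V := x₂.w_obj c
  have hfac : ∀ (B : 𝒳.obj) (m : B ⟶ x₁.obj c) (hR : T (𝒳.p.map m ≫ eqToHom hA)),
      ∃ χ : B ≅ x₁.obj (Over.mk (fam _ hR).k), Vert χ.hom ∧ χ.hom ≫ x₁.map (γ _ hR) = m := fun B m hR =>
    grpd_exists_vert_fac h (x₁.map (γ _ hR)) m (x₁.w_obj (Over.mk (fam _ hR).k)).symm (by
      rw [map_x]
      simp [γ])
  choose χ hχ hχm using hfac
  let ν : ∀ (B : 𝒳.obj) (m : B ⟶ x₁.obj c), T (𝒳.p.map m ≫ eqToHom hA) → (B ⟶ x₂.obj c) := fun B m hR =>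
    (χ B m hR).hom ≫ (fam _ hR).φ ≫ x₂.map (γ _ hR)
  have hν : ∀ (B : 𝒳.obj) (m : B ⟶ x₁.obj c) hR {W : Over S} (f : W ⟶ V) (hf : T f)
      (ψ : B ⟶ x₁.obj (Over.mk (fam f hf).k)), ψ ≫ x₁.map (γ f hf) = m →
      ν B m hR = ψ ≫ (fam f hf).φ ≫ x₂.map (γ f hf) := by
    intro B m hR W f hf ψ hψ
    let g : 𝒳.p.obj B ⟶ W := 𝒳.p.map ψ ≫ eqToHom (x₁.w_obj _)
    have hgf : g ≫ f = 𝒳.p.map m ≫ eqToHom hA := by
      rw [← hψ, Functor.map_comp, map_x]
      simp [g, γ]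
    have e3 : ∀ {f₀ : 𝒳.p.obj B ⟶ V} (e : g ≫ f = f₀) (h₀ : T f₀), IsRes g (fam f₀ h₀) (fam f hf) := by
      rintro _ rfl h₀; exact hc g f hf
    obtain ⟨w, hw⟩ := e3 hgf hR
    let γg : (Over.mk (fam _ hR).k : (overCat U).obj) ⟶ Over.mk (fam f hf).k := Over.homMk g w
    have hγ : γg ≫ γ f hf = γ _ hR := Over.OverMorphism.ext hgf
    have : (χ B m hR).hom ≫ x₁.map γg = ψ := by
      apply grpd_cancel h (x₁.map (γ f hf))
      · rw [Category.assoc, ← Functor.map_comp, hγ, hχm, hψ]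
      · rw [Functor.map_comp, (hχ B m hR).2, map_x]
        simp [γg, g]
    change (χ B m hR).hom ≫ _ ≫ x₂.map (γ _ hR) = _
    rw [← this, ← hγ, Functor.map_comp, reassoc_of% hw, Category.assoc]
  obtain ⟨θ, ⟨hθv, hθ⟩, hθu⟩ := hm T hT (x₁.obj c) (x₂.obj c) hA hA' ν
    (fun B m hR => by
      simp only [ν, Functor.map_comp, (hχ B m hR).2, (fam _ hR).hφ.2, map_x]
      simp [γ])
    (fun B B' j m' hR' hR => (hν B (j ≫ m') hR _ hR' (j ≫ (χ B' m' hR').hom)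
      (by rw [Category.assoc, hχm])).trans (Category.assoc _ _ _))
  have hmem : ∀ {W : Over S} (f : W ⟶ V) (hf : T f), T (𝒳.p.map (x₁.map (γ f hf)) ≫ eqToHom hA) := fun f hf => by
    rw [map_x]
    simp only [Category.assoc, eqToHom_trans, eqToHom_refl]
    exact T.downward_closed (by simpa [γ] using hf) _
  refine ⟨⟨k, θ, hθv⟩, fun W f hf => res_eq h ⟨hk f hf, ?_⟩, fun y hy => ?_⟩
  · exact ((hθ _ _ (hmem f hf)).trans ((hν _ _ (hmem f hf) f hf (𝟙 _) (Category.id_comp _)).trans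
      (Category.id_comp _))).symm
  · have hy' : ∀ {W : Over S} (f : W ⟶ V) (hf : T f), IsRes f (fam f hf) y := fun f hf => by
      rw [← hy f hf]; exact isRes_res h f y
    have hyk : y.k = k := (AlgSp.yon S).map_injective (Glue.ext_of_cover hT fun W f hf => by
      rw [← Functor.map_comp, ← Functor.map_comp, hk f hf, (hy' f hf).choose])
    obtain ⟨yk, yφ, yv⟩ := y
    dsimp only at hyk
    subst hyk
    obtain rfl : yφ = θ := hθu yφ ⟨yv, fun B m hR => by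
      obtain ⟨w, hw⟩ := hy' _ hR
      change m ≫ yφ = (χ B m hR).hom ≫ (fam _ hR).φ ≫ x₂.map (γ _ hR)
      exact ((congrArg (· ≫ yφ) (hχm B m hR)).symm.trans (Category.assoc _ _ _)).trans
        (congrArg ((χ B m hR).hom ≫ ·) hw.symm)⟩
    rfl

variable (x₁ x₂) in
/-- The sheaf of isomorphisms. -/
noncomputable def sheaf (hm : ∀ {V : Over S} (R : Sieve V), R ∈ AlgSp.J S V → MorGlue 𝒳 R) : AlgSp.Sp S :=
  ⟨psh x₁ x₂ h, isSheaf_psh h hm⟩

/-- The fibre of the diagonal is the sheaf of isomorphisms. -/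
theorem exists_fp_diag (hm : ∀ {V : Over S} (R : Sieve V), R ∈ AlgSp.J S V → MorGlue 𝒳 R) {U : Over S}
    (z : overCat U ⥤ᵇ fp (toSelf 𝒳) (toSelf 𝒳)) :
    ∃ (e : AlgSt.ofSp (sheaf (BasedFunctor.comp z (fpFst _ _)) (BasedFunctor.comp z (fpSnd _ _)) h hm) ⥤ᵇ
        fp z (diag (toSelf 𝒳))), IsEquivOver e ∧
      ∀ a, AlgSt.secHom (BasedFunctor.comp e (fpFst z (diag (toSelf 𝒳)))) a = a.sec.k := by
  let x₁ : overCat U ⥤ᵇ 𝒳 := BasedFunctor.comp z (fpFst _ _)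
  let x₂ : overCat U ⥤ᵇ 𝒳 := BasedFunctor.comp z (fpSnd _ _)
  let I := sheaf x₁ x₂ h hm
  let d := diag (toSelf 𝒳)
  let inv' : ∀ {V : Over S} (x : Pt x₁ x₂ V), x₁.obj (Over.mk x.k) ≅ x₂.obj (Over.mk x.k) := fun x =>
    have := x.hφ.isIso h
    asIso x.φ
  let isoAt : ∀ {V : Over S} (x : Pt x₁ x₂ V), z.obj (Over.mk x.k) ≅ d.obj (x₁.obj (Over.mk x.k)) := fun x =>
    fpIsoMk (y := d.obj (x₁.obj (Over.mk x.k))) (Iso.refl _) (inv' x).symm (by
      have h1 := vert_fp_iso (z.obj (Over.mk x.k))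
      have h2 : Vert (inv' x).inv := Vert.inv (φ := inv' x) x.hφ
      change 𝒳.p.map (𝟙 _) ≫ 𝟙 _ = (z.obj (Over.mk x.k)).obj.iso.hom ≫ 𝒳.p.map (inv' x).inv
      have h3 : (z.obj (Over.mk x.k)).obj.iso.hom = eqToHom h1.base_eq := h1.2
      rw [h3, h2.2, CategoryTheory.Functor.map_id, Category.comp_id]
      exact ((eqToHom_trans (C := Over S) _ _).trans (eqToHom_refl (C := Over S) _ _)).symm)
  let gam : ∀ {a b : (AlgSt.ofSp I).obj} (f : a ⟶ b),
      ((Over.mk a.sec.k : (overCat U).obj) ⟶ Over.mk b.sec.k) := fun {a b} f =>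
    Over.homMk f.hom (by
      have := (isRes_res h f.hom b.sec).choose
      exact this.trans (congrArg Pt.k f.map_sec))
  have hrel : ∀ {a b : (AlgSt.ofSp I).obj} (f : a ⟶ b), a.sec.φ ≫ x₂.map (gam f) = x₁.map (gam f) ≫ b.sec.φ :=
    fun {a b} f => by
      have : IsRes f.hom a.sec b.sec := by
        have := isRes_res h f.hom b.sec
        rwa [show res h f.hom b.sec = a.sec from f.map_sec] at this
      exact this.choose_spec
  let E₀ : (AlgSt.ofSp I).obj ⥤ (fp z d).obj :=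
    { obj := fun a => fpMk (Over.mk a.sec.k) (x₁.obj (Over.mk a.sec.k)) (isoAt a.sec) (vert_fp_iff.2 (Vert.id _))
      map := fun {a b} f => fpHom (gam f) (x₁.map (gam f)) (by
        refine fp_hom_ext ?_ ?_
        · change x₁.map (gam f) ≫ 𝟙 _ = 𝟙 _ ≫ x₁.map (gam f)
          rw [Category.comp_id, Category.id_comp]
        · change x₂.map (gam f) ≫ (inv' b.sec).inv = (inv' a.sec).inv ≫ x₁.map (gam f)
          rw [Iso.eq_inv_comp, ← Category.assoc, Iso.comp_inv_eq]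
          exact hrel f)
      map_id := fun a => fp_hom_ext (Over.OverMorphism.ext rfl) (by
        change x₁.map _ = 𝟙 _
        rw [show gam (𝟙 a) = 𝟙 _ from Over.OverMorphism.ext rfl, CategoryTheory.Functor.map_id])
      map_comp := fun {a b c} f f' => fp_hom_ext (Over.OverMorphism.ext rfl) (by
        change x₁.map _ = x₁.map _ ≫ x₁.map _
        rw [← Functor.map_comp, show gam (f ≫ f') = gam f ≫ gam f' from Over.OverMorphism.ext rfl]) }
  let E : AlgSt.ofSp I ⥤ᵇ fp z d := { toFunctor := E₀, w := rfl }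
  have : E.toFunctor.Faithful := ⟨fun {a b} f f' hf => Stk.EltObj.hom_ext (congrArg (fun k => k.hom.fst.left) hf)⟩
  have : E.toFunctor.Full := ⟨fun {a b} k => by
    let γ : (Over.mk a.sec.k : (overCat U).obj) ⟶ Over.mk b.sec.k := k.hom.fst
    have w : z.map γ ≫ (isoAt b.sec).hom = (isoAt a.sec).hom ≫ d.map k.hom.snd := k.hom.w
    have w1 : x₁.map γ ≫ 𝟙 _ = 𝟙 _ ≫ k.hom.snd := congrArg (fun t => t.hom.fst) w
    have w2 : x₂.map γ ≫ (inv' b.sec).inv = (inv' a.sec).inv ≫ k.hom.snd := congrArg (fun t => t.hom.snd) w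
    rw [Category.comp_id, Category.id_comp] at w1
    rw [← w1, Iso.eq_inv_comp, ← Category.assoc, Iso.comp_inv_eq] at w2
    let f : a ⟶ b := ⟨γ.left, res_eq h ⟨Over.w γ, w2⟩⟩
    refine ⟨f, fp_hom_ext (Over.OverMorphism.ext rfl) ?_⟩
    rw [← w1]
    exact congrArg x₁.map (Over.OverMorphism.ext rfl)⟩
  refine ⟨E, Groth.Agent.FibC.isEquivOver_of_fullyFaithful E fun x => ?_,
    fun a => (Category.id_comp _).trans rfl⟩
  let g := x.obj.fst
  let i₁ : x₁.obj g ≅ x.obj.snd := fpIsoFst x.obj.iso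
  let i₂ : x₂.obj g ≅ x.obj.snd := fpIsoSnd x.obj.iso
  have hx := vert_fp_iso x
  have hv1 : Vert i₁.hom := vert_fp_iff.1 hx
  have hv2 : Vert i₂.hom := vert_fp_snd hx
  let p : Pt x₁ x₂ g.left := ⟨g.hom, i₁.hom ≫ i₂.inv, hv1.comp hv2.inv⟩
  let a : (AlgSt.ofSp I).obj := ⟨g.left, p⟩
  refine ⟨a, fpIsoMk (x := E.obj a) (Iso.refl _) i₁ ?_, Vert.isHomLift (vert_fp_iff.2 (Vert.id _)) rfl⟩
  refine fp_hom_ext ?_ ?_
  · change x₁.map (𝟙 g) ≫ i₁.hom = 𝟙 _ ≫ i₁.hom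
    rw [CategoryTheory.Functor.map_id]
  · change x₂.map (𝟙 g) ≫ i₂.hom = (inv' p).inv ≫ i₁.hom
    rw [CategoryTheory.Functor.map_id, Category.id_comp, Iso.eq_inv_comp]
    change (i₁.hom ≫ i₂.inv) ≫ i₂.hom = i₁.hom
    rw [Category.assoc, Iso.inv_hom_id, Category.comp_id]

end Groth.Agent.StFib.Isom
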