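import Groth.Agent.StFib.SpTorsorProps
import Groth.Agent.StFib.IsomSheaf
import Groth.Agent.AlgSp.Space
import Groth.Agent.StFib.RepPsh

/-!
# The diagonal of a quotient stack
-/

set_option linter.unusedVariables false
set_option backward.isDefEq.respectTransparency false
set_option backward.isDefEq.respectTransparency.types false
set_option maxHeartbeats 1600000

universe u

open CategoryTheory CategoryTheory.Limits AlgebraicGeometry Opposite MonoidalCategory CartesianMonoidalCategory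
  MonObj FibCat

namespace Groth.Agent.StFib.SpTors

open Groth.Agent.AlgSp (yEquiv yEquiv_map yEquiv_comp hom_ext_yon)

variable {S : Scheme.{u}} {B : AlgSp.Sp S} {G : Over B} [GrpObj G] {X : Over B} {aX : AlgSp.GAction G X}

local notation "K" => Scheme.fppfPrecoverage

variable {U : Over S}

/-- The torsor of a chart. -/
abbrev chartObj (x : overCat U ⥤ᵇ AlgSt.SpQuotSt K G aX) : AlgSt.SpQuotObj K G aX := x.obj (Over.mk (𝟙 U))

/-- The structure map of the torsor of a chart, to the chart. -/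
noncomputable def chartπ (x : overCat U ⥤ᵇ AlgSt.SpQuotSt K G aX) : (chartObj x).P.left ⟶ (AlgSp.yon S).obj U :=
  (chartObj x).π.left ≫ (AlgSp.yon S).map (eqToHom (x.w_obj (Over.mk (𝟙 U))))

/-- A point as an element. -/
noncomputable abbrev elt {F : AlgSp.Sp S} {W : Over S} (p : (AlgSp.yon S).obj W ⟶ F) : (AlgSt.ofSp F).obj :=
  ⟨W, yEquiv p⟩

theorem secYon_elt {F : Over B} {W : Over S} (p : (AlgSp.yon S).obj W ⟶ F.left) :
    AlgSt.secYon (X := F) (elt p) = p := Equiv.symm_apply_apply _ p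

theorem ptBase_chart (x : overCat U ⥤ᵇ AlgSt.SpQuotSt K G aX) {W : Over S}
    (p : (AlgSp.yon S).obj W ⟶ (chartObj x).P.left) (k : W ⟶ U) :
    ptBase (chartObj x) (elt p) ≫ eqToHom (x.w_obj (Over.mk (𝟙 U))) = k ↔ p ≫ chartπ x = (AlgSp.yon S).map k := by
  rw [← (AlgSp.yon S).map_injective.eq_iff, Functor.map_comp, ptBase_spec, secYon_elt, Category.assoc]
  rfl

theorem base_toId (x : overCat U ⥤ᵇ AlgSt.SpQuotSt K G aX) (h : (overCat U).obj) :
    (x.map (overToId h)).base ≫ eqToHom (x.w_obj (Over.mk (𝟙 U))) = eqToHom (x.w_obj h) ≫ h.hom := by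
  have := w_map x (overToId h)
  change (x.map (overToId h)).base = _ at this
  rw [this]
  simp only [Category.assoc, eqToHom_trans, eqToHom_refl]
  exact congrArg (_ ≫ ·) (Category.comp_id h.hom)

theorem exists_chi (x : overCat U ⥤ᵇ AlgSt.SpQuotSt K G aX) {W : Over S}
    (p : (AlgSp.yon S).obj W ⟶ (chartObj x).P.left) (k : W ⟶ U) (hk : p ≫ chartπ x = (AlgSp.yon S).map k) :
    ∃ χ : (AlgSt.spQuotMap K G aX).obj (ptX (chartObj x) (elt p)) ≅ x.obj (Over.mk k), Vert χ.hom ∧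
      χ.hom ≫ x.map (overToId (Over.mk k)) = ptHom (chartObj x) (elt p) :=
  grpd_exists_vert_fac isFibGrpd (x.map (overToId (Over.mk k))) (ptHom (chartObj x) (elt p))
    (x.w_obj (Over.mk k)).symm (by
      rw [← cancel_mono (eqToHom (x.w_obj (Over.mk (𝟙 U))))]
      change (_ ≫ (x.map (overToId (Over.mk k))).base) ≫ _ = ptBase (chartObj x) (elt p) ≫ _
      rw [Category.assoc, base_toId, (ptBase_chart x p k).2 hk, eqToHom_trans_assoc, eqToHom_refl]
      exact Category.id_comp _)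

/-- A version of `exists_pt` keeping the base. -/
theorem exists_pt_base {A : AlgSt.SpQuotObj K G aX} {a : (AlgSt.ofSp X.left).obj}
    (m : (AlgSt.spQuotMap K G aX).obj a ⟶ A) :
    ∃ (q : (AlgSp.yon S).obj a.base ⟶ A.P.left) (i : a ⟶ ptX A (elt q)), i.hom = 𝟙 a.base ∧
      (AlgSt.spQuotMap K G aX).map i ≫ ptHom A (elt q) = m := by
  let q : (AlgSp.yon S).obj a.base ⟶ A.P.left := (unitSec (G := G) _ ≫ m.top).left
  have hsec : AlgSt.secYon (ptX A (elt q)) = AlgSt.secYon a := by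
    rw [secYon_ptX, secYon_elt]
    change (unitSec (G := G) _ ≫ m.top).left ≫ A.φ.left = (AlgSt.secOver a).left
    rw [← Over.comp_left, Category.assoc, m.wφ]
    exact congrArg (fun k => k.left) (unitSec_act aX _)
  have hx : A.φ.left.hom.app _ (elt q).sec = a.sec := ((AlgSp.J S).uliftYonedaEquiv).symm.injective hsec
  let i : a ⟶ ptX A (elt q) := ⟨𝟙 a.base, (psh_map_id _ _).trans hx⟩
  refine ⟨q, i, rfl, ?_⟩
  have hπ : ptBase A (elt q) = m.base := by
    apply (AlgSp.yon S).map_injective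
    rw [ptBase_spec, secYon_elt]
    change (unitSec (G := G) _ ≫ m.top).left ≫ A.π.left = _
    rw [← Over.comp_left, Category.assoc, m.cart.w]
    refine congrArg (fun k : Over.mk (AlgSt.secYon a ≫ X.hom) ⟶ Over.mk A.b => k.left)
      (?_ : _ = AlgSt.bHom m.base m.wb)
    exact (Category.assoc _ _ _).symm.trans
      ((congrArg (· ≫ AlgSt.bHom m.base m.wb) (unitSec_snd (G := G) _)).trans (Category.id_comp _))
  refine AlgSt.SpQuotObj.hom_ext ((Category.id_comp _).trans hπ) ?_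
  change (G ◁ _) ≫ (G ◁ ptOver A (elt q)) ≫ A.act.act = m.top
  rw [trivial_top m, ← MonoidalCategory.whiskerLeft_comp_assoc]
  congr 2
  refine Over.OverMorphism.ext ?_
  change (AlgSp.yon S).map (𝟙 a.base) ≫ AlgSt.secYon (X := A.P) (elt q) = q
  rw [secYon_elt, CategoryTheory.Functor.map_id]
  exact Category.id_comp _

variable (x₁ x₂ : overCat U ⥤ᵇ AlgSt.SpQuotSt K G aX)

/-- The point `q` is the image of the point `p` under the isomorphism `x`. -/
def Rel {W : Over S} (x : Isom.Pt x₁ x₂ W) (p : (AlgSp.yon S).obj W ⟶ (chartObj x₁).P.left)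
    (q : (AlgSp.yon S).obj W ⟶ (chartObj x₂).P.left) : Prop :=
  ∃ (χ : (AlgSt.spQuotMap K G aX).obj (ptX (chartObj x₁) (elt p)) ⟶ x₁.obj (Over.mk x.k))
    (i : ptX (chartObj x₁) (elt p) ⟶ ptX (chartObj x₂) (elt q)),
    i.hom = 𝟙 W ∧ Vert χ ∧ χ ≫ x₁.map (overToId (Over.mk x.k)) = ptHom (chartObj x₁) (elt p) ∧
      χ ≫ x.φ ≫ x₂.map (overToId (Over.mk x.k)) = (AlgSt.spQuotMap K G aX).map i ≫ ptHom (chartObj x₂) (elt q)

variable {x₁ x₂}

theorem secs_of_hom {W : Over S} {p : (AlgSp.yon S).obj W ⟶ (chartObj x₁).P.left}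
    {q : (AlgSp.yon S).obj W ⟶ (chartObj x₂).P.left} (i : ptX (chartObj x₁) (elt p) ⟶ ptX (chartObj x₂) (elt q))
    (hi : i.hom = 𝟙 W) : p ≫ (chartObj x₁).φ.left = q ≫ (chartObj x₂).φ.left := by
  apply yEquiv.injective
  rw [yEquiv_comp, yEquiv_comp]
  refine i.map_sec.symm.trans ?_
  rw [hi]
  exact psh_map_id _ _

theorem exists_rel {W : Over S} (p : (AlgSp.yon S).obj W ⟶ (chartObj x₁).P.left)
    (q : (AlgSp.yon S).obj W ⟶ (chartObj x₂).P.left) (k : W ⟶ U) (hp : p ≫ chartπ x₁ = (AlgSp.yon S).map k)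
    (hq : q ≫ chartπ x₂ = (AlgSp.yon S).map k) (hφ : p ≫ (chartObj x₁).φ.left = q ≫ (chartObj x₂).φ.left) :
    ∃ x : Isom.Pt x₁ x₂ W, x.k = k ∧ Rel x₁ x₂ x p q := by
  obtain ⟨χ, hχ, hχm⟩ := exists_chi x₁ p k hp
  obtain ⟨χ₂, hχ₂, hχ₂m⟩ := exists_chi x₂ q k hq
  let i : ptX (chartObj x₁) (elt p) ⟶ ptX (chartObj x₂) (elt q) := ⟨𝟙 W, (psh_map_id _ _).trans (by
    have := congrArg yEquiv hφ
    rw [yEquiv_comp, yEquiv_comp] at this
    exact this.symm)⟩
  have hi : Vert ((AlgSt.spQuotMap K G aX).map i) := Vert.map _ ⟨rfl, rfl⟩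
  refine ⟨⟨k, χ.inv ≫ (AlgSt.spQuotMap K G aX).map i ≫ χ₂.hom, hχ.inv.comp (hi.comp hχ₂)⟩, rfl, χ.hom, i, rfl,
    hχ, hχm, ?_⟩
  simp only [Category.assoc, Iso.hom_inv_id_assoc]
  rw [hχ₂m]

theorem rel_unique {W : Over S} {x x' : Isom.Pt x₁ x₂ W} {p : (AlgSp.yon S).obj W ⟶ (chartObj x₁).P.left}
    {q : (AlgSp.yon S).obj W ⟶ (chartObj x₂).P.left} (hk : x.k = x'.k) (h : Rel x₁ x₂ x p q)
    (h' : Rel x₁ x₂ x' p q) : x = x' := by
  obtain ⟨k, φ, hφ⟩ := x
  obtain ⟨k', φ', hφ'⟩ := x'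
  dsimp only at hk
  subst hk
  obtain ⟨χ, i, hi, hχ, hχm, hm⟩ := h
  obtain ⟨χ', i', hi', hχ', hχm', hm'⟩ := h'
  obtain rfl : χ = χ' := grpd_cancel isFibGrpd _ (hχm.trans hχm'.symm) (hχ.2.trans hχ'.2.symm)
  obtain rfl : i = i' := Stk.EltObj.hom_ext (hi.trans hi'.symm)
  have := hχ.isIso isFibGrpd
  obtain rfl : φ = φ' := grpd_cancel isFibGrpd _ ((cancel_epi χ).1 (hm.trans hm'.symm)) (hφ.2.trans hφ'.2.symm)
  rfl

theorem rel_unique_pt {W : Over S} {x : Isom.Pt x₁ x₂ W} {p : (AlgSp.yon S).obj W ⟶ (chartObj x₁).P.left}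
    {q q' : (AlgSp.yon S).obj W ⟶ (chartObj x₂).P.left} (h : Rel x₁ x₂ x p q) (h' : Rel x₁ x₂ x p q') :
    q = q' := by
  obtain ⟨χ, i, hi, hχ, hχm, hm⟩ := h
  obtain ⟨χ', i', hi', hχ', hχm', hm'⟩ := h'
  obtain rfl : χ = χ' := grpd_cancel isFibGrpd _ (hχm.trans hχm'.symm) (hχ.2.trans hχ'.2.symm)
  have key : ∀ {q : (AlgSp.yon S).obj W ⟶ (chartObj x₂).P.left}
      (i : ptX (chartObj x₁) (elt p) ⟶ ptX (chartObj x₂) (elt q)), i.hom = 𝟙 W →
      (unitSec (G := G) _ ≫ ((AlgSt.spQuotMap K G aX).map i ≫ ptHom (chartObj x₂) (elt q)).top).left = q := by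
    intro q i hi
    change (unitSec (G := G) (Over.mk (AlgSt.secYon (ptX (chartObj x₁) (elt p)) ≫ X.hom)) ≫
      (G ◁ AlgSt.bHom i.hom _) ≫ (ptHom (chartObj x₂) (elt q)).top).left = q
    rw [← Category.assoc, unitSec_whisker, Category.assoc, unit_ptHom]
    change (AlgSp.yon S).map i.hom ≫ AlgSt.secYon (X := (chartObj x₂).P) (elt q) = q
    rw [hi, secYon_elt]
    exact (congrArg (· ≫ q) ((AlgSp.yon S).map_id W)).trans (Category.id_comp q)
  rw [← key i hi, ← key i' hi', hm.symm.trans hm']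

theorem exists_rel_pt {W : Over S} (x : Isom.Pt x₁ x₂ W) (p : (AlgSp.yon S).obj W ⟶ (chartObj x₁).P.left)
    (hp : p ≫ chartπ x₁ = (AlgSp.yon S).map x.k) :
    ∃ q, Rel x₁ x₂ x p q ∧ q ≫ chartπ x₂ = (AlgSp.yon S).map x.k ∧
      p ≫ (chartObj x₁).φ.left = q ≫ (chartObj x₂).φ.left := by
  obtain ⟨χ, hχ, hχm⟩ := exists_chi x₁ p x.k hp
  obtain ⟨q, i, hi, him⟩ := exists_pt_base (χ.hom ≫ x.φ ≫ x₂.map (overToId (Over.mk x.k)) :
    (AlgSt.spQuotMap K G aX).obj (ptX (chartObj x₁) (elt p)) ⟶ chartObj x₂)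
  refine ⟨q, ⟨χ.hom, i, hi, hχ, hχm, him.symm⟩, ?_, secs_of_hom i hi⟩
  refine (ptBase_chart x₂ q x.k).1 ?_
  have e := congrArg (fun t => t.base ≫ eqToHom (x₂.w_obj (Over.mk (𝟙 U)))) him
  have e1 : χ.hom.base = eqToHom hχ.base_eq := hχ.2
  have e2 : x.φ.base = eqToHom x.hφ.base_eq := x.hφ.2
  change (((AlgSt.spQuotMap K G aX).map i).base ≫ ptBase (chartObj x₂) (elt q)) ≫ _ =
    (χ.hom.base ≫ x.φ.base ≫ (x₂.map (overToId (Over.mk x.k))).base) ≫ _ at e
  rw [show ((AlgSt.spQuotMap K G aX).map i).base = 𝟙 W from hi, Category.assoc, Category.assoc, Category.assoc,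
    base_toId, e1, e2] at e
  refine ((Category.id_comp _).symm.trans e).trans ?_
  rw [eqToHom_trans_assoc, eqToHom_trans_assoc, eqToHom_refl]
  exact Category.id_comp _

theorem rel_res {V W : Over S} {g : W ⟶ V} {x' : Isom.Pt x₁ x₂ W} {x : Isom.Pt x₁ x₂ V}
    (hres : Isom.IsRes g x' x) {p : (AlgSp.yon S).obj V ⟶ (chartObj x₁).P.left}
    {q : (AlgSp.yon S).obj V ⟶ (chartObj x₂).P.left} (hp : p ≫ chartπ x₁ = (AlgSp.yon S).map x.k)
    (h : Rel x₁ x₂ x p q) :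
    Rel x₁ x₂ x' ((AlgSp.yon S).map g ≫ p) ((AlgSp.yon S).map g ≫ q) := by
  obtain ⟨χ, i, hi, hχ, hχm, hm⟩ := h
  obtain ⟨w, hw⟩ := hres
  let gm : (Over.mk x'.k : (overCat U).obj) ⟶ Over.mk x.k := Over.homMk g w
  have hto : gm ≫ overToId (Over.mk x.k) = overToId (Over.mk x'.k) := Over.OverMorphism.ext (over_w gm)
  let gp : elt ((AlgSp.yon S).map g ≫ p) ⟶ elt p := ⟨g, (yEquiv_map g p).symm⟩
  let gq : elt ((AlgSp.yon S).map g ≫ q) ⟶ elt q := ⟨g, (yEquiv_map g q).symm⟩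
  let i' : ptX (chartObj x₁) (elt ((AlgSp.yon S).map g ≫ p)) ⟶ ptX (chartObj x₂) (elt ((AlgSp.yon S).map g ≫ q)) :=
    ⟨𝟙 W, (psh_map_id _ _).trans (by
      have := congrArg yEquiv (congrArg ((AlgSp.yon S).map g ≫ ·) (secs_of_hom i hi))
      rw [← Category.assoc, ← Category.assoc, yEquiv_comp, yEquiv_comp] at this
      exact this.symm)⟩
  obtain ⟨χ', hχ', hχm'⟩ := exists_chi x₁ ((AlgSp.yon S).map g ≫ p) x'.k (by
    rw [Category.assoc, hp, ← Functor.map_comp, w])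
  have hcomm : χ'.hom ≫ x₁.map gm = (AlgSt.spQuotMap K G aX).map (ptXMap (chartObj x₁) gp) ≫ χ := by
    apply grpd_cancel isFibGrpd (x₁.map (overToId (Over.mk x.k)))
    · rw [Category.assoc, ← Functor.map_comp, hto, hχm', Category.assoc, hχm, ptHom_nat]
    · rw [Functor.map_comp, Functor.map_comp, hχ'.2, hχ.2, Isom.map_x, w_map]
      simp [gm, ptXMap, gp]
  refine ⟨χ'.hom, i', rfl, hχ', hχm', ?_⟩
  have e1 : ptXMap (chartObj x₁) gp ≫ i = i' ≫ ptXMap (chartObj x₂) gq := Stk.EltObj.hom_ext (by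
    change g ≫ i.hom = 𝟙 W ≫ g
    rw [hi]; exact (Category.comp_id g).trans (Category.id_comp g).symm)
  calc χ'.hom ≫ x'.φ ≫ x₂.map (overToId (Over.mk x'.k))
      = χ'.hom ≫ (x'.φ ≫ x₂.map gm) ≫ x₂.map (overToId (Over.mk x.k)) := by
        rw [Category.assoc, ← Functor.map_comp, hto]
    _ = (χ'.hom ≫ x₁.map gm) ≫ x.φ ≫ x₂.map (overToId (Over.mk x.k)) := by rw [hw]; simp only [Category.assoc]; rfl
    _ = (AlgSt.spQuotMap K G aX).map (ptXMap (chartObj x₁) gp) ≫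
        (AlgSt.spQuotMap K G aX).map i ≫ ptHom (chartObj x₂) (elt q) := by rw [hcomm, Category.assoc, hm]
    _ = _ := by
      rw [← Category.assoc, ← Functor.map_comp, e1, Functor.map_comp, Category.assoc, ptHom_nat]

variable (z : overCat U ⥤ᵇ fp (toSelf (AlgSt.SpQuotSt K G aX)) (toSelf (AlgSt.SpQuotSt K G aX)))

theorem morGlue' {V : Over S} (R : Sieve V) (hR : R ∈ AlgSp.J S V) : MorGlue (AlgSt.SpQuotSt K G aX) R :=
  morGlue R hR

/-- The sheaf of isomorphisms of two torsors. -/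
noncomputable def isom (x₁ x₂ : overCat U ⥤ᵇ AlgSt.SpQuotSt K G aX) : AlgSp.Sp S :=
  Isom.sheaf x₁ x₂ isFibGrpd morGlue'

theorem isom_k {x₁ x₂ : overCat U ⥤ᵇ AlgSt.SpQuotSt K G aX} (πI : isom x₁ x₂ ⟶ (AlgSp.yon S).obj U)
    (hπ : ∀ {W : Over S} (x : (AlgSp.yon S).obj W ⟶ isom x₁ x₂),
      x ≫ πI = (AlgSp.yon S).map (yEquiv x : Isom.Pt x₁ x₂ W).k)
    {V : Over S} (f : V ⟶ U) (s : (AlgSp.yon S).obj V ⟶ (chartObj x₁).P.left)
    (hs : s ≫ chartπ x₁ = (AlgSp.yon S).map f) :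
    ∃ top : pullback (prod.lift (chartπ x₂) (chartObj x₂).φ.left)
        (prod.lift ((AlgSp.yon S).map f) (s ≫ (chartObj x₁).φ.left)) ⟶ isom x₁ x₂,
      IsPullback top (pullback.snd _ _) πI ((AlgSp.yon S).map f) := by
  let l₂ := prod.lift (chartπ x₂) (chartObj x₂).φ.left
  let l₁ := prod.lift ((AlgSp.yon S).map f) (s ≫ (chartObj x₁).φ.left)
  have hdata : ∀ (W : Over S) (l : (AlgSp.yon S).obj W ⟶ pullback l₂ l₁), ∃ x : Isom.Pt x₁ x₂ W,
      (AlgSp.yon S).map x.k = (l ≫ pullback.snd l₂ l₁) ≫ (AlgSp.yon S).map f ∧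
        Rel x₁ x₂ x ((l ≫ pullback.snd l₂ l₁) ≫ s) (l ≫ pullback.fst l₂ l₁) := by
    intro W l
    have e := congrArg (l ≫ ·) (pullback.condition (f := l₂) (g := l₁))
    have h1 := congrArg (· ≫ prod.fst) e
    have h2 := congrArg (· ≫ prod.snd) e
    simp only [l₂, l₁, Category.assoc, prod.lift_fst, prod.lift_snd] at h1 h2
    obtain ⟨k, hk⟩ := (AlgSp.yon S).map_surjective (((l ≫ pullback.snd l₂ l₁) ≫ s) ≫ chartπ x₁)
    have hkf : (AlgSp.yon S).map k = (l ≫ pullback.snd l₂ l₁) ≫ (AlgSp.yon S).map f := by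
      rw [hk, Category.assoc, hs]
    obtain ⟨x, hx, hrel⟩ := exists_rel ((l ≫ pullback.snd l₂ l₁) ≫ s) (l ≫ pullback.fst l₂ l₁) k hk.symm
      (by rw [hkf, Category.assoc, Category.assoc]; exact h1) (by simp only [Category.assoc]; exact h2.symm)
    exact ⟨x, by rw [hx, hkf], hrel⟩
  choose x hxk hxrel using hdata
  obtain ⟨top, htop⟩ := Glue.exists_hom (X := pullback l₂ l₁) (Y := isom x₁ x₂)
    (fun W l => yEquiv.symm (x W l)) (fun {V' W} g l => by
      apply yEquiv.injective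
      rw [yEquiv_map, Equiv.apply_symm_apply, Equiv.apply_symm_apply]
      have hp : ((l ≫ pullback.snd l₂ l₁) ≫ s) ≫ chartπ x₁ = (AlgSp.yon S).map (x V' l).k := by
        rw [hxk, Category.assoc, hs]
      have hr := rel_res (Isom.isRes_res isFibGrpd g (x V' l)) hp (hxrel V' l)
      refine rel_unique ((AlgSp.yon S).map_injective ?_) (hxrel W ((AlgSp.yon S).map g ≫ l)) ?_
      · rw [hxk]
        refine Eq.trans ?_ (congrArg (AlgSp.yon S).map (Isom.isRes_res isFibGrpd g (x V' l)).choose)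
        rw [Functor.map_comp, hxk]
        simp only [Category.assoc]
      · simp only [Category.assoc] at hr ⊢
        exact hr)
  have hval : ∀ (W : Over S) (l : (AlgSp.yon S).obj W ⟶ pullback l₂ l₁),
      (yEquiv (l ≫ top) : Isom.Pt x₁ x₂ W) = x W l := fun W l =>
    (congrArg yEquiv (htop W l)).trans (Equiv.apply_symm_apply _ _)
  refine ⟨top, Glue.isPullback_of_points (hom_ext_yon fun W l => ?_) fun W y r hyr => ?_⟩
  · rw [← Category.assoc, ← Category.assoc, hπ, hval, hxk]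
  · rw [hπ] at hyr
    obtain ⟨q, hq, hqπ, hqφ⟩ := exists_rel_pt (yEquiv y : Isom.Pt x₁ x₂ W) (r ≫ s) (by
      rw [Category.assoc, hs, hyr])
    let l := pullback.lift (f := l₂) (g := l₁) q r (prod.hom_ext
      (by simp only [l₂, l₁, Category.assoc, prod.lift_fst]; rw [hqπ, hyr])
      (by simp only [l₂, l₁, Category.assoc, prod.lift_snd]; rw [← hqφ, Category.assoc]))
    have hl1 : l ≫ pullback.fst l₂ l₁ = q := pullback.lift_fst _ _ _
    have hl2 : l ≫ pullback.snd l₂ l₁ = r := pullback.lift_snd _ _ _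
    refine ⟨l, ⟨yEquiv.injective ?_, hl2⟩, fun l' hl' => ?_⟩
    · rw [hval]
      refine rel_unique ((AlgSp.yon S).map_injective (by rw [hxk, hl2, hyr])) (hxrel W l) ?_
      rw [hl1, hl2]
      exact hq
    · obtain ⟨e1, e2⟩ := hl'
      apply pullback.hom_ext
      · rw [hl1]
        have hr := hxrel W l'
        rw [← hval, e1, show l' ≫ pullback.snd l₂ l₁ = r from e2] at hr
        exact rel_unique_pt hr hq
      · exact e2.trans hl2.symm

end Groth.Agent.StFib.SpTors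

namespace Groth.Agent.StFib.SpTors

open Groth.Agent.AlgSp (yEquiv yEquiv_map yEquiv_comp hom_ext_yon)

variable {S : Scheme.{u}} {B : AlgSp.Sp S} {G : Over B} [GrpObj G]

local notation "K" => Scheme.fppfPrecoverage

theorem eq_of_terminal {X : Over B} (hX : IsTerminal X.left) {W : AlgSp.Sp S} (a b : W ⟶ X.left) : a = b :=
  hX.hom_ext a b

/-- The diagonal of a quotient of a terminal object. -/
theorem repByAlgSpWith_diag_of_terminal {X : Over B} {aX : AlgSp.GAction G X} (hXt : IsTerminal X.left)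
    {P : MorphismProperty (AlgSp.Sp S)} (hbc : StableBC P) (hloc : AlgSp.IsLocalOnBase AlgSp.IsFppfCover P)
    (hB : AlgSp.IsAlgSpace B) (hG : AlgSp.IsAlgSpace G.left) (hP : P G.hom) :
    AlgSt.RepByAlgSpWith P (diag (toSelf (AlgSt.SpQuotSt K G aX))) := by
  intro U z
  let x₁ : overCat U ⥤ᵇ AlgSt.SpQuotSt K G aX := BasedFunctor.comp z (fpFst _ _)
  let x₂ : overCat U ⥤ᵇ AlgSt.SpQuotSt K G aX := BasedFunctor.comp z (fpSnd _ _)
  obtain ⟨e, he, hk⟩ := Isom.exists_fp_diag (𝒳 := AlgSt.SpQuotSt K G aX) isFibGrpd morGlue' z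
  let πI : isom x₁ x₂ ⟶ (AlgSp.yon S).obj U :=
    AlgSt.spMapOfOver (BasedFunctor.comp e (fpFst z (diag (toSelf (AlgSt.SpQuotSt K G aX)))))
  have hπ : ∀ {W : Over S} (x : (AlgSp.yon S).obj W ⟶ isom x₁ x₂),
      x ≫ πI = (AlgSp.yon S).map (yEquiv x : Isom.Pt x₁ x₂ W).k := fun {W} x => by
    apply yEquiv.injective
    apply ULift.ext
    exact (hk ⟨W, yEquiv x⟩).trans (Category.id_comp _).symm
  let eU : (AlgSp.yon S).obj (chartObj x₁).base ≅ (AlgSp.yon S).obj U :=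
    (AlgSp.yon S).mapIso (eqToIso (x₁.w_obj (Over.mk (𝟙 U))))
  obtain ⟨J₀, V, f, s, hs, hcov⟩ := exists_cover_secs (chartObj x₁)
  let f' : ∀ i, V i ⟶ U := fun i => f i ≫ eqToHom (x₁.w_obj (Over.mk (𝟙 U)))
  have hs' : ∀ i, s i ≫ chartπ x₁ = (AlgSp.yon S).map (f' i) := fun i => by
    rw [chartπ, ← Category.assoc, hs, ← Functor.map_comp]
  choose top hsq using fun i => isom_k πI hπ (f' i) (s i) (hs' i)
  let l₂ := prod.lift (chartπ x₂) (chartObj x₂).φ.left
  let l₁ : ∀ i, _ := fun i => prod.lift ((AlgSp.yon S).map (f' i)) (s i ≫ (chartObj x₁).φ.left)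
  have hsame : ∀ i, IsPullback (pullback.fst l₂ (l₁ i)) (pullback.snd l₂ (l₁ i)) (chartπ x₂)
      ((AlgSp.yon S).map (f' i)) := fun i => by
    refine Glue.isPullback_of_points ?_ fun W p q hpq => ?_
    · have := congrArg (· ≫ prod.fst) (pullback.condition (f := l₂) (g := l₁ i))
      simpa [l₂, l₁] using this
    · have hw : p ≫ l₂ = q ≫ l₁ i := prod.hom_ext (by simpa [l₂, l₁] using hpq) (eq_of_terminal hXt _ _)
      exact ⟨pullback.lift p q hw, ⟨pullback.lift_fst _ _ _, pullback.lift_snd _ _ _⟩, fun l hl =>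
        pullback.hom_ext (hl.1.trans (pullback.lift_fst _ _ _).symm) (hl.2.trans (pullback.lift_snd _ _ _).symm)⟩
  have hA₂ : AlgSp.IsAlgSpace (chartObj x₂).P.left := isAlgSpace_torsor hB hG _
  have hpieces : ∀ i, AlgSp.IsAlgSpace (pullback l₂ (l₁ i)) := fun i =>
    Groth.Agent.AlgSp.isAlgSpace_of_isPullback' (isAlgSpace_yon U) hA₂ (isAlgSpace_yon _) (hsame i)
  have hP₂ : P (chartπ x₂) := by
    have sq : IsPullback (𝟙 _) (chartπ x₂) (chartObj x₂).π.left
        ((AlgSp.yon S).map (eqToHom (x₂.w_obj (Over.mk (𝟙 U))).symm)) :=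
      IsPullback.of_horiz_isIso ⟨by
        rw [Category.id_comp, chartπ, Category.assoc, ← Functor.map_comp, eqToHom_trans, eqToHom_refl,
          CategoryTheory.Functor.map_id]
        exact (Category.comp_id _).symm⟩
    exact hbc hA₂ (isAlgSpace_yon _) hA₂ (isAlgSpace_yon _) _ _ _ _ sq (prop_torsor hbc hloc hB hG hP (chartObj x₂))
  have hsq' : ∀ i, IsPullback (top i) (pullback.snd l₂ (l₁ i)) (πI ≫ eU.inv) ((AlgSp.yon S).map (f i)) := fun i =>
    (hsq i).of_iso (Iso.refl _) (Iso.refl _) (Iso.refl _) eU.symm ((Category.comp_id _).trans (Category.id_comp _).symm)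
      ((Category.comp_id _).trans (Category.id_comp _).symm) (Category.id_comp _).symm (by
        simp only [Iso.refl_hom, Category.id_comp]
        change (AlgSp.yon S).map (f i ≫ eqToHom _) ≫ eU.inv = _
        rw [Functor.map_comp, Category.assoc]
        exact (congrArg (_ ≫ ·) eU.hom_inv_id).trans (Category.comp_id _))
  have hI : AlgSp.IsAlgSpace (isom x₁ x₂) :=
    Groth.Agent.AlgSpB.Art.isAlgSpace_of_fppfCover (isAlgSpace_yon _)
      (fun i => (AlgSp.yon S).obj (V i)) (fun i => isAlgSpace_yon _) (fun i => (AlgSp.yon S).map (f i))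
      (fun i => (hcov.1 i).1) (fun i => (hcov.1 i).2) hcov.2 (πI ≫ eU.inv)
      (fun i => (hpieces i).of_iso (hsq' i).isoPullback)
  refine ⟨⟨isom x₁ x₂, hI⟩, e, he, ?_⟩
  have h1 : P (πI ≫ eU.inv) :=
    (hloc (fun i => (AlgSp.yon S).obj (V i)) _ (isAlgSpace_yon _) (fun i => isAlgSpace_yon _) hcov (πI ≫ eU.inv) hI
      _ (fun i => pullback.snd l₂ (l₁ i)) top hpieces hsq').2 fun i =>
        hbc hA₂ (isAlgSpace_yon _) (hpieces i) (isAlgSpace_yon _) _ _ _ _ (hsame i) hP₂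
  have sq : IsPullback (𝟙 _) πI (πI ≫ eU.inv) eU.inv := IsPullback.of_horiz_isIso ⟨Category.id_comp _⟩
  exact hbc hI (isAlgSpace_yon _) hI (isAlgSpace_yon _) _ _ _ _ sq h1

end Groth.Agent.StFib.SpTors
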