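import Groth.Agent.StFib.QuotTriv
import Groth.Agent.StFib.Psh
import Groth.Agent.StFib.Diag

/-!
# The action square over the quotient category with scheme torsors
-/

set_option linter.unusedVariables false
set_option backward.isDefEq.respectTransparency false
set_option backward.isDefEq.respectTransparency.types false

universe u

open CategoryTheory CategoryTheory.Limits AlgebraicGeometry MonoidalCategory CartesianMonoidalCategory
  MonObj GrpObj FibCat

namespace Groth.Agent.StFib.QuotTriv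

variable {S : Scheme.{u}} {G X : Over S} [GrpObj G] (aX : AlgGrp.Action G X)
variable (K : Precoverage Scheme.{u}) [K.HasIsos]

/-- A point of `X` as an object. -/
abbrev pt {T : Over S} (x : T ⟶ X) : (AlgSt.ofSch X).obj := ⟨T, ⟨x⟩⟩

theorem inv_spec {T : Over S} {x y : T ⟶ X} {g : T ⟶ G} (h : lift g y ≫ aX.act = x) :
    lift g⁻¹ x ≫ aX.act = y := by
  rw [← h, ← act_mul, inv_mul_cancel, act_one]

/-- Right multiplication by a point of `G`, as an isomorphism of trivial torsors. -/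
noncomputable def rmulIso {T : Over S} {x y : T ⟶ X} (g : T ⟶ G) (h : lift g y ≫ aX.act = x) :
    (AlgSt.quotMap K G aX).obj (pt x) ≅ (AlgSt.quotMap K G aX).obj (pt y) where
  hom := homPt (pt x) (pt y) (𝟙 T) g (by rw [Category.id_comp]; exact h)
  inv := homPt (pt y) (pt x) (𝟙 T) g⁻¹ (by rw [Category.id_comp]; exact inv_spec aX h)
  hom_inv_id := by
    refine AlgSt.QuotObj.hom_ext ?_ ?_
    · rw [AlgSt.QuotObj.comp_base, AlgSt.QuotObj.id_base]
      exact Category.comp_id (𝟙 T)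
    · rw [AlgSt.QuotObj.comp_top, AlgSt.QuotObj.id_top]
      refine (homPt_comp (aX := aX) (K := K) (a := pt x) (a' := pt y) (a'' := pt x) (𝟙 T) (𝟙 T) g g⁻¹ _ _).trans ?_
      simp only [Category.id_comp, mul_inv_cancel, MonObj.comp_one, _root_.mul_one, Category.comp_id, lift_fst_snd]
      rfl
  inv_hom_id := by
    refine AlgSt.QuotObj.hom_ext ?_ ?_
    · rw [AlgSt.QuotObj.comp_base, AlgSt.QuotObj.id_base]
      exact Category.comp_id (𝟙 T)
    · rw [AlgSt.QuotObj.comp_top, AlgSt.QuotObj.id_top]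
      refine (homPt_comp (aX := aX) (K := K) (a := pt y) (a' := pt x) (a'' := pt y) (𝟙 T) (𝟙 T) g⁻¹ g _ _).trans ?_
      simp only [Category.id_comp, inv_mul_cancel, MonObj.comp_one, _root_.mul_one, Category.comp_id, lift_fst_snd]
      rfl

theorem rmulIso_hom_base {T : Over S} {x y : T ⟶ X} (g : T ⟶ G) (h : lift g y ≫ aX.act = x) :
    (rmulIso aX K g h).hom.base = 𝟙 T := rfl

theorem rmulIso_hom_top {T : Over S} {x y : T ⟶ X} (g : T ⟶ G) (h : lift g y ≫ aX.act = x) :
    (rmulIso aX K g h).hom.top = lift (fst G T * (snd G T ≫ g)) (snd G T) :=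
  (homPt_top _ _ _ _ _).trans (by rw [Category.comp_id])

theorem rmul_nat {T T' : Over S} (b : T ⟶ T') (g : T ⟶ G) (g' : T' ⟶ G) (hb : b ≫ g' = g) :
    (G ◁ b) ≫ lift (fst G T' * (snd G T' ≫ g')) (snd G T') =
      lift (fst G T * (snd G T ≫ g)) (snd G T) ≫ (G ◁ b) := by
  apply CartesianMonoidalCategory.hom_ext
  · simp only [Category.assoc, lift_fst, whiskerLeft_fst, comp_mul, whiskerLeft_snd_assoc, hb]
  · simp only [Category.assoc, lift_snd, whiskerLeft_snd, lift_snd_assoc]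

theorem eq_of_rmul_nat {T T' : Over S} (b b' : T ⟶ T') (g : T ⟶ G) (g' : T' ⟶ G)
    (h : (G ◁ b) ≫ lift (fst G T' * (snd G T' ≫ g')) (snd G T') =
      lift (fst G T * (snd G T ≫ g)) (snd G T) ≫ (G ◁ b')) : b ≫ g' = g := by
  have := congrArg (fun k => lift (1 : T ⟶ G) (𝟙 T) ≫ k ≫ fst G T') h
  simpa only [Category.assoc, lift_fst, whiskerLeft_fst, comp_mul, whiskerLeft_snd_assoc, lift_snd_assoc,
    Category.id_comp, MonObj.comp_one, _root_.one_mul] using this

theorem act_spec {T : Over S} (z : T ⟶ G ⊗ X) :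
    lift (z ≫ fst G X) (z ≫ snd G X) ≫ aX.act = z ≫ aX.act := by
  rw [← comp_lift, lift_fst_snd, Category.comp_id]

/-- The component of the 2-isomorphism. -/
noncomputable def cellApp (w : (AlgSt.ofSch (G ⊗ X)).obj) :
    (AlgSt.quotMap K G aX).obj (pt (w.sec.down ≫ aX.act)) ≅
      (AlgSt.quotMap K G aX).obj (pt (w.sec.down ≫ snd G X)) :=
  rmulIso aX K (w.sec.down ≫ fst G X) (act_spec aX w.sec.down)

theorem rmul_nat_obj {T T' : Over S} {x y : T ⟶ X} {x' y' : T' ⟶ X} (g : T ⟶ G) (g' : T' ⟶ G)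
    (h : lift g y ≫ aX.act = x) (h' : lift g' y' ≫ aX.act = x')
    (m : (pt x : (AlgSt.ofSch X).obj) ⟶ pt x') (m' : (pt y : (AlgSt.ofSch X).obj) ⟶ pt y')
    (hm : m.hom = m'.hom) (hg : m.hom ≫ g' = g) :
    (AlgSt.quotMap K G aX).map m ≫ (rmulIso aX K g' h').hom =
      (rmulIso aX K g h).hom ≫ (AlgSt.quotMap K G aX).map m' := by
  refine AlgSt.QuotObj.hom_ext ?_ ?_
  · rw [AlgSt.QuotObj.comp_base, AlgSt.QuotObj.comp_base, rmulIso_hom_base, rmulIso_hom_base]
    exact (Category.comp_id m.hom).trans (hm.trans (Category.id_comp m'.hom).symm)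
  · rw [AlgSt.QuotObj.comp_top, AlgSt.QuotObj.comp_top, rmulIso_hom_top, rmulIso_hom_top]
    change (G ◁ m.hom) ≫ _ = _ ≫ (G ◁ m'.hom)
    rw [← hm]
    exact rmul_nat m.hom g g' hg

/-- The 2-isomorphism of the action square. -/
noncomputable def cell :
    BasedFunctor.comp (AlgSt.ofSpMap ((AlgSp.yon S).map aX.act)) (AlgSt.quotMap K G aX) ≅
      BasedFunctor.comp (AlgSt.ofSpMap ((AlgSp.yon S).map (CartesianMonoidalCategory.snd G X)))
        (AlgSt.quotMap K G aX) :=
  isoMk (cellApp aX K) (fun w => ⟨rfl, rfl⟩) (fun {w w'} f =>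
    rmul_nat_obj aX K _ _ _ _ ((AlgSt.ofSpMap ((AlgSp.yon S).map aX.act)).map f)
      ((AlgSt.ofSpMap ((AlgSp.yon S).map (CartesianMonoidalCategory.snd G X))).map f) rfl
      ((Category.assoc _ _ _).symm.trans (congrArg (fun k => k ≫ fst G X) (congrArg ULift.down f.map_sec))))

theorem cart_cell :
    IsTwoCartOver (AlgSt.ofSpMap ((AlgSp.yon S).map aX.act))
      (AlgSt.ofSpMap ((AlgSp.yon S).map (CartesianMonoidalCategory.snd G X))) (cell aX K) := by
  refine fpLift_isEquivOver_mk _ _ _ (fun {w w'} φ ψ h _ => ?_) (fun {w w'} a b h => ?_) (fun z => ?_)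
  · exact Stk.EltObj.hom_ext (congrArg (fun k => k.hom) h)
  · let ab : w.base ⟶ w'.base := a.hom
    have hab : ab = b.hom :=
      ((Category.comp_id _).symm.trans (congrArg (fun k => k.base) h)).trans (Category.id_comp _)
    have htop : (G ◁ ab) ≫ (cellApp aX K w').hom.top = (cellApp aX K w).hom.top ≫ (G ◁ b.hom) :=
      congrArg (fun k => k.top) h
    rw [cellApp, cellApp, rmulIso_hom_top, rmulIso_hom_top] at htop
    have hg : ab ≫ w'.sec.down ≫ fst G X = w.sec.down ≫ fst G X := eq_of_rmul_nat _ _ _ _ htop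
    have hx : b.hom ≫ w'.sec.down ≫ snd G X = w.sec.down ≫ snd G X := congrArg ULift.down b.map_sec
    refine ⟨⟨ab, congrArg ULift.up ?_⟩, Stk.EltObj.hom_ext rfl, Stk.EltObj.hom_ext hab⟩
    change ab ≫ w'.sec.down = w.sec.down
    apply CartesianMonoidalCategory.hom_ext
    · rw [Category.assoc]; exact hg
    · rw [Category.assoc, hab]; exact hx
  · obtain ⟨g, hg, ht⟩ := exists_pt z.obj.iso.hom
    obtain ⟨hb, hv⟩ := vert_fp_iso z
    let w : (AlgSt.ofSch (G ⊗ X)).obj :=
      ⟨z.obj.fst.base, ⟨lift g (z.obj.iso.hom.base ≫ z.obj.snd.sec.down)⟩⟩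
    have hv' : z.obj.iso.hom.base = eqToHom hb := hv
    have e1 : eqToHom (rfl : z.obj.fst.base = z.obj.fst.base) ≫ z.obj.fst.sec.down = w.sec.down ≫ aX.act := by
      rw [eqToHom_refl, Category.id_comp]; exact hg.symm
    have e2 : eqToHom hb ≫ z.obj.snd.sec.down = w.sec.down ≫ snd G X :=
      (congrArg (fun k => k ≫ z.obj.snd.sec.down) hv'.symm).trans (lift_snd _ _).symm
    refine ⟨w, eltIso rfl (congrArg ULift.up e1), eltIso hb (congrArg ULift.up e2),
      vert_eltIso _ _, AlgSt.QuotObj.hom_ext ?_ ?_⟩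
    · change eqToHom (rfl : z.obj.fst.base = z.obj.fst.base) ≫ z.obj.iso.hom.base = 𝟙 z.obj.fst.base ≫ eqToHom hb
      rw [hv', eqToHom_refl]
    · change (G ◁ eqToHom (rfl : z.obj.fst.base = z.obj.fst.base)) ≫ z.obj.iso.hom.top =
        (cellApp aX K w).hom.top ≫ (G ◁ eqToHom hb)
      rw [cellApp, rmulIso_hom_top, eqToHom_refl, MonoidalCategory.whiskerLeft_id]
      refine (Category.id_comp _).trans (ht.trans ?_)
      have eg : w.sec.down ≫ fst G X = g := lift_fst _ _
      rw [eg, hv']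
      change lift (fst G z.obj.fst.base * snd G z.obj.fst.base ≫ g) (snd G z.obj.fst.base ≫ eqToHom hb) =
        lift (fst G z.obj.fst.base * snd G z.obj.fst.base ≫ g) (snd G z.obj.fst.base) ≫
          (G ◁ (eqToHom hb : z.obj.fst.base ⟶ z.obj.snd.base))
      rw [lift_whiskerLeft]

end Groth.Agent.StFib.QuotTriv
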