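import Groth.Agent.IsoCls.BGClass
import Groth.Agent.IsoCls.NeutralSec
import Groth.Agent.StFib.BGDiag.TorsorChart
import Groth.Agent.StFib.StackSpace
import Groth.Agent.StFib.QuotTrivCart
import Groth.Agent.S12795
import Groth.Agent.StFib.SliceDMAtlas
import Groth.Agent.AlgSpB.Art.Wrap
import Groth.Prelude.Def_StGerb2

/-!
# The monomorphism from the classifying stack of the stabilizer of a section
-/

set_option linter.unusedVariables false
set_option linter.unusedTactic false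
set_option backward.isDefEq.respectTransparency false
set_option backward.isDefEq.respectTransparency.types false

universe u

open CategoryTheory CategoryTheory.Limits AlgebraicGeometry Opposite FibCat
open MonoidalCategory CartesianMonoidalCategory MonObj

namespace Groth.Agent.StFib.BGMono

open Groth.Agent.IsoCls (bT bM trivSieve VA res vfib BGc)
open Groth.Agent.StFib.QuotTriv (pt)

variable {S : Scheme.{u}} {𝒳 : AlgSt.Cat S}

local notation "T₀" => Over.mk (𝟙 S)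
local notation "hT" => (Over.mkIdTerminal : IsTerminal (Over.mk (𝟙 S)))

section substack

/-- The objects which are locally isomorphic to a section. -/
def locX (x : overCat (Over.mk (𝟙 S)) ⥤ᵇ 𝒳) : ObjectProperty 𝒳.obj := fun z =>
  trivSieve Over.mkIdTerminal x z ∈ AlgSp.J S (𝒳.p.obj z)

variable (x : overCat (Over.mk (𝟙 S)) ⥤ᵇ 𝒳)

/-- The substack of the objects locally isomorphic to a section. -/
abbrev Sub : AlgSt.Cat S := BasedCategory.ofFunctor ((locX x).ι ⋙ 𝒳.p)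

theorem trivSieve_of_iso {z z' : 𝒳.obj} (e : z ⟶ z') (he : Vert e) (hz : locX x z) : locX x z' := by
  obtain ⟨hb, hbe⟩ := he
  refine (AlgSp.J S).superset_covering ?_ ((AlgSp.J S).pullback_stable (eqToHom hb.symm) hz)
  rintro V f ⟨ν, hν⟩
  refine ⟨ν ≫ e, IsHomLift.of_fac 𝒳.p f _ (x.w_obj _) rfl ?_⟩
  rw [Functor.map_comp, IsHomLift.fac' 𝒳.p (f ≫ eqToHom hb.symm) ν, hbe]
  simp

theorem locX_of_hom (h : IsFibGrpd 𝒳.p) ⦃y z : 𝒳.obj⦄ (φ : y ⟶ z) (hz : locX x z) : locX x y := by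
  refine (AlgSp.J S).superset_covering ?_ ((AlgSp.J S).pullback_stable (𝒳.p.map φ) hz)
  rintro V f ⟨ν, hν⟩
  obtain ⟨χ, hχ, hχe⟩ := grpd_exists_fac h φ ν (eqToHom (x.w_obj _) ≫ f) (by
    rw [IsHomLift.fac' 𝒳.p (f ≫ 𝒳.p.map φ) ν]
    simp)
  exact ⟨χ, IsHomLift.of_fac 𝒳.p f χ (x.w_obj _) rfl (by rw [hχ]; simp)⟩

theorem isStack_sub (h : Stk.IsStack (AlgSp.J S) 𝒳) : Stk.IsStack (AlgSp.J S) (Sub x) := by
  refine Groth.Agent.S12795.result (AlgSp.J S) h (locX x) (fun y z φ hz => ⟨y, Iso.refl y, locX_of_hom x h.1 φ hz,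
    IsHomLift.of_fac 𝒳.p _ _ rfl rfl (by simp)⟩) fun U R hR z hz H => ?_
  subst hz
  refine ⟨z, Iso.refl z, ?_, IsHomLift.of_fac 𝒳.p _ _ rfl rfl (by simp)⟩
  refine (AlgSp.J S).transitive hR _ fun V f hf => ?_
  obtain ⟨y, φ, hφ⟩ := h.1.exists_lift (x := z) f
  obtain ⟨y', e, hy', he⟩ := H f hf y φ hφ
  have hb : 𝒳.p.obj y' = V := IsHomLift.codomain_eq 𝒳.p (𝟙 V) e.hom
  subst hb
  refine (AlgSp.J S).superset_covering ?_ hy'
  rintro W g ⟨ν, hν⟩
  have : 𝒳.p.IsHomLift (𝟙 (𝒳.p.obj y')) e.inv := inferInstance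
  have h2 : 𝒳.p.IsHomLift f (e.inv ≫ φ) := IsHomLift.comp_lift_id_left' 𝒳.p (𝒳.p.obj y') _ _ _
  exact ⟨ν ≫ e.inv ≫ φ, (inferInstance : 𝒳.p.IsHomLift (g ≫ f) (ν ≫ e.inv ≫ φ))⟩

theorem locX_obj (b : (overCat T₀).obj) : locX x (x.obj b) := by
  refine (AlgSp.J S).superset_covering ?_ ((AlgSp.J S).top_mem _)
  rintro V f -
  let k : bT hT V ⟶ b := Over.homMk (f ≫ eqToHom (x.w_obj b)) ((hT).hom_ext _ _)
  refine ⟨x.map k, IsHomLift.of_fac 𝒳.p f _ (x.w_obj _) rfl ?_⟩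
  rw [w_map]
  change f = eqToHom _ ≫ (eqToHom _ ≫ (f ≫ eqToHom _) ≫ eqToHom _) ≫ eqToHom _
  simp

/-- The section, as a section of the substack. -/
def secSub : overCat T₀ ⥤ᵇ Sub x where
  toFunctor := ObjectProperty.lift _ x.toFunctor fun b => locX_obj x b
  w := x.w

theorem trivSieve_secSub (z : (Sub x).obj) : trivSieve hT (secSub x) z ∈ AlgSp.J S ((Sub x).p.obj z) := by
  refine (AlgSp.J S).superset_covering ?_ z.property
  rintro V f ⟨ν, hν⟩
  refine ⟨ObjectProperty.homMk ν, IsHomLift.of_fac (Sub x).p f _ (x.w_obj _) rfl ?_⟩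
  change f = eqToHom _ ≫ 𝒳.p.map ν ≫ eqToHom _
  rw [IsHomLift.fac' 𝒳.p f ν]
  simp

end substack

section automorphisms

variable (G : Over S) [GrpObj G]

/-- The section of the classifying stack given by the trivial torsor. -/
noncomputable def secBG : overCat T₀ ⥤ᵇ BGc G :=
  BasedFunctor.comp (AlgSt.ofOverCat (𝟙_ (Over S)))
    (AlgSt.quotMap Scheme.fppfPrecoverage G (AlgSt.trivAction G))

theorem triv_act {V : Over S} (g : V ⟶ G) (z z' : V ⟶ 𝟙_ (Over S)) :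
    lift g z ≫ (AlgSt.trivAction G).act = z' :=
  toUnit_unique _ _

/-- Translations of the trivial torsor. -/
noncomputable def rmulHom (V : Over S) (g : V ⟶ G) :
    (secBG G).obj (bT hT V) ≅ (secBG G).obj (bT hT V) :=
  QuotTriv.rmulIso (AlgSt.trivAction G) Scheme.fppfPrecoverage g (triv_act G g _ _)

theorem rmulHom_top (V : Over S) (g : V ⟶ G) :
    (rmulHom G V g).hom.top = lift (fst G V * (snd G V ≫ g)) (snd G V) :=
  QuotTriv.rmulIso_hom_top _ _ _ _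

theorem rmulHom_comp (V : Over S) (g g' : V ⟶ G) :
    (rmulHom G V g).hom ≫ (rmulHom G V g').hom = (rmulHom G V (g * g')).hom := by
  refine AlgSt.QuotObj.hom_ext ?_ ?_
  · change 𝟙 V ≫ 𝟙 V = 𝟙 V
    simp
  · change (rmulHom G V g).hom.top ≫ (rmulHom G V g').hom.top = (rmulHom G V (g * g')).hom.top
    rw [rmulHom_top, rmulHom_top, rmulHom_top, comp_lift, comp_mul, lift_fst, lift_snd_assoc, lift_snd,
      comp_mul]
    exact congrArg (lift · _) (mul_assoc _ _ _)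

theorem exists_autBG (hg : IsFibGrpd (BGc G).p) (V : Over S) :
    ∃ E : (V ⟶ G) ≃* VA (secBG G) (bT hT V), ∀ g, (E g).hom.1 = (rmulHom G V g⁻¹).hom := by
  have hlift : ∀ g, (BGc G).p.IsHomLift (𝟙 V) (rmulHom G V g).hom := fun g =>
    IsHomLift.of_fac (BGc G).p _ _ rfl rfl (by
      change 𝟙 V = 𝟙 _ ≫ 𝟙 V ≫ 𝟙 _
      simp)
  choose E hE using fun g : V ⟶ G => VA.exists_of_hom hg (secBG G) (b := bT hT V) _ (hlift g⁻¹)
  have hmul : ∀ g g', E (g * g') = E g * E g' := fun g g' => VA.ext (by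
    rw [IsoCls.VA.mul_hom, hE, hE, hE, rmulHom_comp, mul_inv_rev])
  have hbij : Function.Bijective E := by
    refine ⟨fun g g' h => inv_injective ?_, fun e => ?_⟩
    · have h1 : (rmulHom G V g⁻¹).hom.top = (rmulHom G V g'⁻¹).hom.top :=
        congrArg (fun k => k.top) ((hE g).symm.trans ((congrArg (fun t => t.hom.1) h).trans (hE g')))
      rw [rmulHom_top, rmulHom_top] at h1
      have h2 := congrArg (fun k => lift (1 : V ⟶ G) (𝟙 V) ≫ k ≫ fst G V) h1
      simp only [lift_fst, comp_mul, lift_snd_assoc, Category.id_comp] at h2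
      exact (_root_.one_mul _).symm.trans (h2.trans (_root_.one_mul _))
    · obtain ⟨g, hg', ht⟩ := QuotTriv.exists_pt e.hom.1
      have hb : e.hom.1.base = 𝟙 V := by
        have : (BGc G).p.IsHomLift (𝟙 V) e.hom.1 := e.hom.2
        have h3 := IsHomLift.fac' (BGc G).p (𝟙 V) e.hom.1
        change e.hom.1.base = _ at h3
        rw [h3]
        simp
        rfl
      refine ⟨g⁻¹, VA.ext ?_⟩
      rw [hE, inv_inv]
      refine AlgSt.QuotObj.hom_ext hb.symm ?_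
      rw [rmulHom_top, ht, hb]
      exact congrArg (lift _) (Category.comp_id _).symm
  exact ⟨MulEquiv.ofBijective (MulHom.mk E hmul) hbij, hE⟩

theorem rmulHom_natural {V' V : Over S} (k : V' ⟶ V) (g : V ⟶ G) :
    (rmulHom G V' (k ≫ g)).hom ≫ (secBG G).map (bM hT k) =
      (secBG G).map (bM hT k) ≫ (rmulHom G V g).hom :=
  (QuotTriv.rmul_nat_obj (aX := AlgSt.trivAction G) (K := Scheme.fppfPrecoverage) (k ≫ g) g
    (triv_act G _ _ _) (triv_act G _ _ _)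
    ((AlgSt.ofOverCat (𝟙_ (Over S))).map (bM hT k)) ((AlgSt.ofOverCat (𝟙_ (Over S))).map (bM hT k)) rfl rfl).symm

theorem exists_autSec {G : Over S} [GrpObj G] (x : overCat (Over.mk (𝟙 S)) ⥤ᵇ 𝒳)
    (r : Gerb.AutRep x (Gerb.ptsGrp (Over.mk (𝟙 S)) G)) (h𝒳 : IsFibGrpd 𝒳.p) (hs : IsFibGrpd (Sub x).p) :
    ∃ θ : ∀ V, (V ⟶ G) ≃* VA (secSub x) (bT hT V),
      ∀ {V' V : Over S} (k : V' ⟶ V) (g : V ⟶ G),
        (θ V' (k ≫ g)).hom.1 ≫ (secSub x).map (bM hT k) = (secSub x).map (bM hT k) ≫ (θ V g).hom.1 := by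
  let c : ∀ V : Over S, (Over.iteratedSliceForward T₀).obj (bT hT V) ≅ V := fun V =>
    Over.isoMk (Iso.refl _) (by
      change 𝟙 V.left ≫ V.hom = ((hT).from V).left
      rw [Category.id_comp, ← Over.w ((hT).from V)]
      exact Category.comp_id _)
  have hlift : ∀ V (g : V ⟶ G), (Sub x).p.IsHomLift (𝟙 V)
      (ObjectProperty.homMk ((r.iso (bT hT V) ((c V).hom ≫ g)).hom.1) :
        (secSub x).obj (bT hT V) ⟶ (secSub x).obj (bT hT V)) := fun V g => by
    have h0 : 𝒳.p.IsHomLift (𝟙 _) (r.iso (bT hT V) ((c V).hom ≫ g)).hom.1 :=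
      (r.iso (bT hT V) ((c V).hom ≫ g)).hom.2
    have hv : Vert (r.iso (bT hT V) ((c V).hom ≫ g)).hom.1 := vert_of_isHomLift h0
    refine IsHomLift.of_fac (Sub x).p _ _ (x.w_obj _) (x.w_obj _) ?_
    change 𝟙 V = eqToHom _ ≫ 𝒳.p.map _ ≫ eqToHom _
    erw [hv.2]
    exact ((congrArg (fun m => eqToHom (x.w_obj (bT hT V)).symm ≫ m) (Category.id_comp _)).trans
      (eqToHom_trans _ _)).symm
  choose θ hθ using fun V g => VA.exists_of_hom hs (secSub x) (b := bT hT V) _ (hlift V g)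
  have hθ' : ∀ V g, (θ V g).hom.1.hom = (r.iso (bT hT V) ((c V).hom ≫ g)).hom.1 := fun V g =>
    congrArg (fun k => k.hom) (hθ V g)
  have hmul : ∀ V g g', θ V (g * g') = θ V g * θ V g' := fun V g g' => VA.ext (ObjectProperty.hom_ext _ (by
    rw [IsoCls.VA.mul_hom]
    change (θ V (g * g')).hom.1.hom = (θ V g').hom.1.hom ≫ (θ V g).hom.1.hom
    rw [hθ', hθ', hθ', comp_mul]
    exact congrArg (fun e => e.hom.1)
      (map_mul (r.iso (bT hT V)) ((c V).hom ≫ g) ((c V).hom ≫ g'))))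
  have hbij : ∀ V, Function.Bijective (θ V) := fun V => by
    refine ⟨fun g g' h => ?_, fun e => ?_⟩
    · have h1 : (r.iso (bT hT V) ((c V).hom ≫ g)).hom.1 = (r.iso (bT hT V) ((c V).hom ≫ g')).hom.1 := by
        rw [← hθ', ← hθ', h]
      exact (cancel_epi (c V).hom).1 ((r.iso (bT hT V)).injective (Aut.ext (Functor.Fiber.hom_ext h1)))
    · have hv : Vert (e.hom.1.hom : x.obj (bT hT V) ⟶ x.obj (bT hT V)) := by
        have h2 : (Sub x).p.IsHomLift (𝟙 V) e.hom.1 := e.hom.2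
        exact (vert_of_isHomLift h2 : Vert (𝒳 := Sub x) e.hom.1)
      have hiso := hv.isIso h𝒳
      have hl : 𝒳.p.IsHomLift (𝟙 (𝒳.p.obj (x.obj (bT hT V)))) e.hom.1.hom := vert_iff.1 hv
      let α : Gerb.AutO (x.obj (bT hT V)) := Groth.Agent.GalCohAux.GerbGlue.autOf e.hom.1.hom hl
      obtain ⟨a, ha⟩ := (r.iso (bT hT V)).surjective α
      refine ⟨(c V).inv ≫ a, VA.ext (ObjectProperty.hom_ext _ ?_)⟩
      refine (hθ' V _).trans ?_
      rw [Iso.hom_inv_id_assoc, ha]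
      rfl
  refine ⟨fun V => MulEquiv.ofBijective (MulHom.mk (θ V) (hmul V)) (hbij V), fun {V' V} k g => ?_⟩
  refine ObjectProperty.hom_ext _ ?_
  change (θ V' (k ≫ g)).hom.1.hom ≫ x.map (bM hT k) = x.map (bM hT k) ≫ (θ V g).hom.1.hom
  rw [hθ', hθ']
  refine Eq.trans ?_ (r.natural (bM hT k) ((c V).hom ≫ g))
  congr 3

end automorphisms

section main

variable (G : Over S) [GrpObj G] [IsAffineHom G.hom]

theorem isStack_BG : Stk.IsStack (AlgSp.J S) (BGc G) := QuotBr.isStack (aX := AlgSt.trivAction G)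

theorem trivSieve_secBG (A : (BGc G).obj) : trivSieve hT (secBG G) A ∈ AlgSp.J S ((BGc G).p.obj A) := by
  let e : (secBG G).obj (FibC.overTop T₀) ⟶ IsoCls.trivTors G T₀ :=
    { base := 𝟙 T₀
      top := 𝟙 (G ⊗ T₀)
      eqv := by
        change (AlgSt.leftMul G T₀).act ≫ 𝟙 _ = (G ◁ 𝟙 (G ⊗ T₀)) ≫ (AlgSt.leftMul G T₀).act
        rw [Category.comp_id, MonoidalCategory.whiskerLeft_id, Category.id_comp]
      cart :=
        have : IsIso (𝟙 (G ⊗ T₀)) := IsIso.id _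
        have : IsIso (𝟙 T₀) := IsIso.id _
        IsPullback.of_horiz_isIso ⟨by
        change 𝟙 (G ⊗ T₀) ≫ snd G T₀ = snd G T₀ ≫ 𝟙 T₀
        simp⟩
      wφ := toUnit_unique _ _ }
  exact IsoCls.trivSieve_mem hT (isStack_BG G).1 (secBG G) e (IsHomLift.of_fac (BGc G).p _ _ rfl rfl (by
    change 𝟙 T₀ = 𝟙 _ ≫ 𝟙 T₀ ≫ 𝟙 _
    simp)) A

/-- The functor from the classifying stack of the stabilizer. -/
theorem exists_fullyFaithful (h𝒳 : Stk.IsStack (AlgSp.J S) 𝒳) (x : overCat T₀ ⥤ᵇ 𝒳)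
    (r : Gerb.AutRep x (Gerb.ptsGrp T₀ G)) :
    ∃ j : BGc G ⥤ᵇ 𝒳, j.toFunctor.Full ∧ j.toFunctor.Faithful ∧
      Nonempty (BasedFunctor.comp (secBG G) j ≅ x) := by
  have hB := isStack_BG G
  have hs := isStack_sub x h𝒳
  choose E hE using exists_autBG G hB.1
  obtain ⟨θ, hθ⟩ := exists_autSec x r h𝒳.1 hs.1
  obtain ⟨F, hF, m, hm⟩ := IsoCls.exists_isEquivOver_of_neutral' hT (secBG G) (secSub x)
    (fun V => (E V).symm.trans (θ V)) hB hs (fun {V' V} k e => by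
      obtain ⟨g, rfl⟩ := (E V).surjective e
      have h1 : res hB.1 (secBG G) (bM hT k) (E V g) = E V' (k ≫ g) := by
        refine IsoCls.res_eq hB.1 _ ?_
        rw [hE, hE, ← GrpObj.comp_inv]
        exact rmulHom_natural G k g⁻¹
      refine IsoCls.res_eq hs.1 _ ?_
      rw [h1, MulEquiv.trans_apply, MulEquiv.trans_apply, MulEquiv.symm_apply_apply, MulEquiv.symm_apply_apply]
      exact hθ k g) (trivSieve_secBG G) (trivSieve_secSub x)
  have := full_of_isEquivOver hF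
  have := faithful_of_isEquivOver hF
  let inc : Sub x ⥤ᵇ 𝒳 := { toFunctor := (locX x).ι, w := rfl }
  refine ⟨BasedFunctor.comp F inc,
    @Functor.Full.comp _ _ _ _ _ _ F.toFunctor inc.toFunctor (full_of_isEquivOver hF)
      (inferInstanceAs (locX x).ι.Full),
    @Functor.Faithful.comp _ _ _ _ _ _ F.toFunctor inc.toFunctor (faithful_of_isEquivOver hF)
      (inferInstanceAs (locX x).ι.Faithful), ?_⟩
  have e0 : bT hT T₀ = Over.mk (𝟙 T₀) := congrArg Over.mk ((hT).hom_ext _ _)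
  have hv : Vert (inc.map m) := Vert.map inc (vert_of_isHomLift hm)
  have hk : Vert ((BasedFunctor.comp (secBG G) (BasedFunctor.comp F inc)).map (eqToHom e0.symm) ≫
      CategoryTheory.inv (inc.map m) (I := hv.isIso h𝒳.1) ≫ x.map (eqToHom e0)) :=
    (Vert.map _ (vert_eqToHom e0.symm)).comp
      ((Vert.inv (φ := @asIso _ _ _ _ (inc.map m) (hv.isIso h𝒳.1)) hv).comp (Vert.map x (vert_eqToHom e0)))
  have := hk.isIso h𝒳.1
  obtain ⟨α, -⟩ := exists_overIso h𝒳.1 (BasedFunctor.comp (secBG G) (BasedFunctor.comp F inc)) x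
    (asIso _) hk
  exact ⟨α⟩

end main

section mono

theorem isMono_of_repByAlgSp1 {𝒳 𝒴 : AlgSt.Cat S} (f : 𝒳 ⥤ᵇ 𝒴) (hf : AlgSt.RepByAlgSp1 f)
    [f.toFunctor.Full] [f.toFunctor.Faithful] : AlgSt.IsMono f := by
  intro U y
  obtain ⟨A, e, he⟩ := hf U y
  refine ⟨A, e, he, ?_⟩
  have := full_of_isEquivOver he
  have := faithful_of_isEquivOver he
  let Φ := BasedFunctor.comp e (fpFst y f)
  suffices Mono (AlgSt.spMapOfOver Φ).hom by
    exact (sheafToPresheaf (AlgSp.J S) (Type (u + 1))).mono_of_mono_map this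
  refine (NatTrans.mono_iff_mono_app (AlgSt.spMapOfOver Φ).hom).2 fun T => ?_
  rw [CategoryTheory.mono_iff_injective]
  intro s t hst
  have hst' : AlgSt.secHom Φ ⟨T.unop, s⟩ = AlgSt.secHom Φ ⟨T.unop, t⟩ := congrArg ULift.down hst
  let z := e.obj ⟨T.unop, s⟩
  let z' := e.obj ⟨T.unop, t⟩
  have hb : (overCat U).p.obj z.obj.fst = (overCat U).p.obj z'.obj.fst :=
    (Φ.w_obj ⟨T.unop, s⟩).trans (Φ.w_obj ⟨T.unop, t⟩).symm
  let m : z.obj.fst ⟶ z'.obj.fst := Over.homMk (eqToHom hb) (by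
    have h1 : eqToHom (Φ.w_obj ⟨T.unop, s⟩).symm ≫ z.obj.fst.hom =
        eqToHom (Φ.w_obj ⟨T.unop, t⟩).symm ≫ z'.obj.fst.hom := hst'
    change eqToHom hb ≫ z'.obj.fst.hom = z.obj.fst.hom
    rw [← cancel_epi (eqToHom (Φ.w_obj ⟨T.unop, s⟩).symm), h1, eqToHom_trans_assoc])
  have hm : Vert m := ⟨hb, rfl⟩
  let β := z.obj.iso.inv ≫ y.map m ≫ z'.obj.iso.hom
  have hβ : Vert β := (vert_fp_iso z).inv.comp ((hm.map y).comp (vert_fp_iso z'))
  let k : z ⟶ z' := fpHom m (f.toFunctor.preimage β) (by simp [β])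
  have hk : Vert k := vert_fp_iff.2 hm
  obtain ⟨c, hc⟩ := e.toFunctor.map_surjective k
  have hcv : Vert c := Vert.of_map e (hc.symm ▸ hk)
  exact ofPsh_eq_of_vert (s := s) (t := t) hcv

/-- A setoid stack with a flat, lfp, surjective map from an algebraic space is an algebraic space. -/
theorem repByAlgSp_of_fppf_cover {𝒢 𝒬 : AlgSt.Cat S} (hs : IsFibSetoid 𝒢.p)
    (hst : Stk.IsStack (AlgSp.J S) 𝒢) (hP : AlgSt.RepByAlgSp 𝒬) (q : 𝒬 ⥤ᵇ 𝒢)
    (hq : AlgSt.RepByAlgSpWith (AlgSp.IsSurjectiveMor ⊓ AlgSp.LocP @Flat ⊓ AlgSp.LocP @LocallyOfFinitePresentation) q) :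
    AlgSt.RepByAlgSp 𝒢 := by
  obtain ⟨A, eA, heA⟩ := hP
  let R : MorphismProperty (AlgSp.Sp S) :=
    AlgSp.IsSurjectiveMor ⊓ AlgSp.LocP @Flat ⊓ AlgSp.LocP @LocallyOfFinitePresentation
  have := (((good_surjective (S := S)).inf (good_locP Groth.Agent.AlgSpCov.standard_flat)).inf
    (good_locP Groth.Agent.AlgSpCov.standard_locallyOfFinitePresentation)).bc.of_respects
  have hE := toClassPsh_isEquivOver hs
  let Φ : AlgSt.ofSp A.obj ⥤ᵇ Stk.ofPsh (classPsh 𝒢 hs.1) :=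
    BasedFunctor.comp eA (BasedFunctor.comp q (toClassPsh hs.1))
  obtain ⟨k⟩ := exists_iso_pshMap Φ
  have ha' : AlgSp.RepBySpWith (Restr R) (pshMap Φ) := (repBySpWith_iff (Restr R) _).2
    ((repByAlgSpWith_iff_of_equiv (Restr R) (f := BasedFunctor.comp q (toClassPsh hs.1))
      (f' := Stk.ofPshMap (pshMap Φ)) eA (BasedFunctor.id _) heA (isEquivOver_id _) k.symm).1
      (SliceDM.repByAlgSpWith_comp_equiv' (repByAlgSpWith_restr hq) hE))
  have ha : AlgSp.RepBySpWith R (pshMap Φ) := fun T ξ F' fst snd sq =>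
    let ⟨h, hA, hQ⟩ := ha' ξ fst snd sq
    ⟨h, hA, hQ hA (isAlgSpace_yon T)⟩
  have hsh : Presheaf.IsSheaf (AlgSp.J S) (classPsh 𝒢 hs.1) :=
    (isSheaf_iff_isSheaf_of_type _ _).2 ((Groth.Agent.StkLib.isStack_ofPsh_iff (AlgSp.J S)).1
      ((isStack_iff_of_isEquivOver (AlgSp.J S) hE).1 hst))
  have hF : AlgSp.IsAlgSpace (⟨classPsh 𝒢 hs.1, hsh⟩ : AlgSp.Sp S) :=
    AlgSpB.Art.isAlgSpace_of_repBy A.property (F := ⟨classPsh 𝒢 hs.1, hsh⟩) (ObjectProperty.homMk (pshMap Φ)) ha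
  exact (repByAlgSp_iff_of_equiv hE).2 (repByAlgSp_ofPsh ⟨hsh, hF⟩)

end mono

/-- The monomorphism from the classifying stack. -/
theorem exists_isMono (h𝒳 : AlgSt.IsAlgStack Scheme.fppfPrecoverage 𝒳) (x : overCat T₀ ⥤ᵇ 𝒳)
    (G : Over S) [GrpObj G] [IsAffineHom G.hom] [Flat G.hom] [LocallyOfFinitePresentation G.hom]
    (r : Gerb.AutRep x (Gerb.ptsGrp T₀ G)) :
    ∃ j : BGc G ⥤ᵇ 𝒳, AlgSt.IsMono j ∧
      Nonempty (BasedFunctor.comp (AlgSt.quotMap Scheme.fppfPrecoverage G (AlgSt.trivAction G)) j ≅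
        BasedFunctor.comp (AlgSt.toOverCat T₀) x) := by
  obtain ⟨j, hfull, hfaith, ⟨i⟩⟩ := exists_fullyFaithful G h𝒳.isStack x r
  refine ⟨j, ?_, ⟨isoWhiskerLeft (AlgSt.toOverCat T₀) i⟩⟩
  refine isMono_of_repByAlgSp1 j fun U y => ?_
  have hB : Stk.IsStack (AlgSp.J S) (BGc G) := isStack_BG G
  have hgs : IsFibSetoid (fp y j).p := isFibSetoid_fp y j (isFibSetoid_overCat U) hB.1 h𝒳.isStack.1
  have hst : Stk.IsStack (AlgSp.J S) (fp y j) :=
    isStack_fp _ y j (isStack_overCat_fppf U) hB (isPrestack_of_isStack h𝒳.isStack)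
  obtain ⟨A, e, he⟩ := repByAlgSp1_chart h𝒳 x U y
  obtain ⟨C, hC, -, -⟩ := exists_fp_congr (F := y) (F' := y) (G := x) (G' := BasedFunctor.comp (secBG G) j)
    (Iso.refl _) i
  let R := fpMap (F := y) (G := j) (F' := y) (G' := BasedFunctor.comp (secBG G) j)
    (BasedFunctor.id _) (secBG G) (BasedFunctor.id _) (Iso.refl _) (Iso.refl _)
  have hP : AlgSt.RepByAlgSp (fp y x) := ⟨A, e, he⟩
  have h1 : AlgSt.RepByAlgSpWith (AlgSp.LocP @Flat) (secBG G) :=
    QuotBr.repByAlgSpWith_quotMap' (good_locP Groth.Agent.AlgSpCov.standard_flat).bc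
      (fppfLocal_of_fpqc (Groth.Agent.S10530.result S))
      (QuotBr.locP_hom Groth.Agent.AlgSpCov.etaleLocal_flat inferInstance)
  have h2 : AlgSt.RepByAlgSpWith (AlgSp.LocP @LocallyOfFinitePresentation) (secBG G) :=
    QuotBr.repByAlgSpWith_quotMap' (good_locP Groth.Agent.AlgSpCov.standard_locallyOfFinitePresentation).bc
      (fppfLocal_of_fpqc (Groth.Agent.S10527.result S))
      (QuotBr.locP_hom Groth.Agent.AlgSpCov.etaleLocal_locallyOfFinitePresentation inferInstance)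
  have h3 : AlgSt.RepByAlgSpWith AlgSp.IsSurjectiveMor (secBG G) :=
    QuotBr.repByAlgSpWith_quotMap' good_surjective.bc SliceDM.fppfLocal_surjective SpTors.surjective_hom
  have hg := good_surjective (S := S)
  have hgf := good_locP (S := S) Groth.Agent.AlgSpCov.standard_flat
  have hgl := good_locP (S := S) Groth.Agent.AlgSpCov.standard_locallyOfFinitePresentation
  have hq0 := repByAlgSpWith_inf (isFibGrpd_overCat _) hB.1 (hg.inf hgf) hgl
    (repByAlgSpWith_inf (isFibGrpd_overCat _) hB.1 hg hgf h3 h1) h2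
  exact repByAlgSp_of_fppf_cover hgs hst hP (BasedFunctor.comp C R)
    (repByAlgSpWith_comp_isEquivOver (repByAlgSpWith_fpMap_right _ hq0 y j) hC)

end Groth.Agent.StFib.BGMono
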