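import Groth.Agent.StFib.QuotBridge
import Groth.Agent.StFib.Rep

/-!
# The canonical maps to quotient stacks agree
-/

set_option linter.unusedVariables false
set_option backward.isDefEq.respectTransparency false
set_option backward.isDefEq.respectTransparency.types false
set_option maxHeartbeats 1600000

universe u

open CategoryTheory CategoryTheory.Limits AlgebraicGeometry Opposite MonoidalCategory CartesianMonoidalCategory
  MonObj FibCat

namespace Groth.Agent.StFib.QuotBr

variable {S : Scheme.{u}} {G X : Over S} [GrpObj G] {aX : AlgGrp.Action G X}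

local notation "K" => Scheme.fppfPrecoverage

theorem secYon_sch (a : (AlgSt.ofSch X).obj) :
    AlgSt.secYon (S := S) (X := (toH S).obj X) a = (AlgSp.yon S).map a.sec.down := by
  refine ((AlgSp.J S).uliftYonedaEquiv).injective ?_
  rw [Equiv.apply_symm_apply]
  exact ULift.ext _ _ (Category.id_comp _).symm

/-- The point of a trivial torsor, as a sheaf. -/
noncomputable def jj (a : (AlgSt.ofSch X).obj) :
    Over.mk (AlgSt.secYon (S := S) (X := (toH S).obj X) a ≫ ((toH S).obj X).hom) ⟶ (toH S).obj a.base :=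
  Over.homMk (𝟙 _) ((hSTerminal S).hom_ext _ _)

theorem map_mul_pts {Y : Over S} (f g : Y ⟶ G) : (toH S).map (f * g) = (toH S).map f * (toH S).map g := by
  rw [Hom.mul_def, Hom.mul_def, Functor.map_comp,
    show (MonObj.mul : _ ⟶ (toH S).obj G) = Functor.LaxMonoidal.μ (toH S) G G ≫ (toH S).map MonObj.mul from rfl,
    ← Category.assoc (lift _ _), Functor.Monoidal.lift_μ]

theorem top_fst (a : (AlgSt.ofSch X).obj) :
    (((toH S).obj G ◁ jj a) ≫ Functor.LaxMonoidal.μ (toH S) G a.base) ≫ (toH S).map (fst G a.base) = fst _ _ := by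
  rw [Category.assoc, Functor.Monoidal.μ_fst, whiskerLeft_fst]

theorem top_snd (a : (AlgSt.ofSch X).obj) :
    (((toH S).obj G ◁ jj a) ≫ Functor.LaxMonoidal.μ (toH S) G a.base) ≫ (toH S).map (snd G a.base) = snd _ _ ≫ jj a := by
  rw [Category.assoc, Functor.Monoidal.μ_snd, whiskerLeft_snd]

theorem hom_ext_prod {W : Over (hS S)} {Y Z : Over S} {f g : W ⟶ (toH S).obj (Y ⊗ Z)}
    (h1 : f ≫ (toH S).map (fst Y Z) = g ≫ (toH S).map (fst Y Z))
    (h2 : f ≫ (toH S).map (snd Y Z) = g ≫ (toH S).map (snd Y Z)) : f = g := by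
  rw [← cancel_mono (Functor.Monoidal.μIso (toH S) Y Z).inv]
  apply CartesianMonoidalCategory.hom_ext <;> simpa

/-- The comparison of trivial torsors. -/
noncomputable def trivHom (a : (AlgSt.ofSch X).obj) :
    (AlgSt.spQuotMap K ((toH S).obj G) (actH aX)).obj a ⟶ objE ((AlgSt.quotMap K G aX).obj a) where
  base := 𝟙 a.base
  wb := (hSTerminal S).hom_ext _ _
  top := ((toH S).obj G ◁ jj a) ≫ Functor.LaxMonoidal.μ (toH S) G a.base
  eqv := by
    change (AlgSt.spLeftMul _ _).act ≫ _ = ((toH S).obj G ◁ _) ≫ Functor.LaxMonoidal.μ (toH S) G (G ⊗ a.base) ≫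
      (toH S).map (AlgSt.leftMul G a.base).act
    apply hom_ext_prod
    · rw [Category.assoc, top_fst, AlgSt.spLeftMul, lift_fst, Category.assoc, Category.assoc, ← Functor.map_comp,
        AlgSt.leftMul, lift_fst, map_mul_pts, MonObj.comp_mul, MonObj.comp_mul, Functor.Monoidal.μ_fst,
        whiskerLeft_fst, Functor.map_comp, Functor.Monoidal.μ_snd_assoc, whiskerLeft_snd_assoc, top_fst]
    · rw [Category.assoc, top_snd, AlgSt.spLeftMul, lift_snd_assoc]
      simp only [Category.assoc]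
      rw [← Functor.map_comp, AlgSt.leftMul, lift_snd, Functor.map_comp, Functor.Monoidal.μ_snd_assoc,
        whiskerLeft_snd_assoc, top_snd]
  cart := by
    have hj : IsIso (jj (S := S) (X := X) a) := by
      have : IsIso ((Over.forget (hS S)).map (jj (S := S) (X := X) a)) := by
        change IsIso (𝟙 ((AlgSp.yon S).obj a.base))
        infer_instance
      exact isIso_of_reflects_iso _ (Over.forget (hS S))
    have hb : IsIso (AlgSt.bHom (b := AlgSt.secYon (S := S) (X := (toH S).obj X) a ≫ ((toH S).obj X).hom)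
        (b' := (objE ((AlgSt.quotMap K G aX).obj a)).b) (𝟙 a.base) ((hSTerminal S).hom_ext _ _)) := by
      have : IsIso ((Over.forget (hS S)).map (AlgSt.bHom (b := AlgSt.secYon (S := S) (X := (toH S).obj X) a ≫ ((toH S).obj X).hom)
          (b' := (objE ((AlgSt.quotMap K G aX).obj a)).b) (𝟙 a.base) ((hSTerminal S).hom_ext _ _))) := by
        change IsIso ((AlgSp.yon S).map (𝟙 a.base))
        infer_instance
      exact isIso_of_reflects_iso _ (Over.forget (hS S))
    refine @IsPullback.of_horiz_isIso _ _ _ _ _ _ _ _ _ _ inferInstance hb ⟨?_⟩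
    change _ ≫ (toH S).map (snd G a.base) = _
    rw [top_snd]
    exact congrArg (snd _ _ ≫ ·) (Over.OverMorphism.ext ((AlgSp.yon S).map_id a.base).symm)
  wφ := by
    change (((toH S).obj G ◁ jj a) ≫ Functor.LaxMonoidal.μ (toH S) G a.base) ≫ (toH S).map ((G ◁ a.sec.down) ≫ aX.act) = _ ≫ (actH aX).act
    have e : AlgSt.secOver (S := S) (X := (toH S).obj X) a = jj a ≫ (toH S).map a.sec.down :=
      Over.OverMorphism.ext ((secYon_sch a).trans (Category.id_comp _).symm)
    rw [e, MonoidalCategory.whiskerLeft_comp, Functor.map_comp, actH_act]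
    simp only [Category.assoc]
    congr 1
    exact (Functor.LaxMonoidal.μ_natural_right_assoc _ _ _ _).symm

theorem isStack_of_affine [IsAffineHom G.hom] :
    Stk.IsStack (QuotSh.J Scheme.fppfPrecoverage S) (AlgSt.QuotSt K G aX) := isStack

/-- The canonical maps correspond. -/
theorem exists_quotMap_iso :
    Nonempty (BasedFunctor.comp (AlgSt.quotMap K G aX) (E aX) ≅
      BasedFunctor.comp (BasedFunctor.id (AlgSt.ofSch X))
        (AlgSt.spQuotMap K ((toH S).obj G) (actH aX))) := by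
  have hv : ∀ a, Vert (𝒳 := AlgSt.SpQuotSt K ((toH S).obj G) (actH aX)) (trivHom (aX := aX) a) := fun a =>
    ⟨rfl, rfl⟩
  have : ∀ a, IsIso (trivHom (aX := aX) a :
      (AlgSt.spQuotMap K ((toH S).obj G) (actH aX)).obj a ⟶ (E aX).obj ((AlgSt.quotMap K G aX).obj a)) :=
    fun a => (hv a).isIso SpTors.isFibGrpd
  refine ⟨(isoMk (F := BasedFunctor.comp (BasedFunctor.id (AlgSt.ofSch X)) (AlgSt.spQuotMap K ((toH S).obj G) (actH aX)))
    (G := BasedFunctor.comp (AlgSt.quotMap K G aX) (E aX))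
    (fun a => asIso (trivHom (aX := aX) a :
      (AlgSt.spQuotMap K ((toH S).obj G) (actH aX)).obj a ⟶ (E aX).obj ((AlgSt.quotMap K G aX).obj a)))
    hv fun {a b} f => ?_).symm⟩
  refine AlgSt.SpQuotObj.hom_ext ((Category.comp_id f.hom).trans (Category.id_comp f.hom).symm) ?_
  apply hom_ext_prod
  · change (((toH S).obj G ◁ AlgSt.bHom f.hom _) ≫ (((toH S).obj G ◁ jj b) ≫ Functor.LaxMonoidal.μ (toH S) G b.base)) ≫ _ = ((((toH S).obj G ◁ jj a) ≫ Functor.LaxMonoidal.μ (toH S) G a.base) ≫ (toH S).map (G ◁ f.hom)) ≫ _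
    rw [Category.assoc ((toH S).obj G ◁ AlgSt.bHom _ _), top_fst, whiskerLeft_fst,
      Category.assoc (((toH S).obj G ◁ jj a) ≫ Functor.LaxMonoidal.μ (toH S) G a.base), ← Functor.map_comp, whiskerLeft_fst, top_fst]
  · change (((toH S).obj G ◁ AlgSt.bHom f.hom _) ≫ (((toH S).obj G ◁ jj b) ≫ Functor.LaxMonoidal.μ (toH S) G b.base)) ≫ _ = ((((toH S).obj G ◁ jj a) ≫ Functor.LaxMonoidal.μ (toH S) G a.base) ≫ (toH S).map (G ◁ f.hom)) ≫ _
    rw [Category.assoc ((toH S).obj G ◁ AlgSt.bHom _ _), top_snd, whiskerLeft_snd_assoc,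
      Category.assoc (((toH S).obj G ◁ jj a) ≫ Functor.LaxMonoidal.μ (toH S) G a.base), ← Functor.map_comp, whiskerLeft_snd,
      Functor.map_comp, ← Category.assoc (((toH S).obj G ◁ jj a) ≫ Functor.LaxMonoidal.μ (toH S) G a.base), top_snd,
      Category.assoc]
    refine congrArg (snd _ _ ≫ ·) (Over.OverMorphism.ext ?_)
    exact (Category.comp_id _).trans (Category.id_comp _).symm

theorem repByAlgSpWith_quotMap [IsAffineHom G.hom] {P : MorphismProperty (AlgSp.Sp S)} (hbc : StableBC P)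
    (hloc : AlgSp.IsLocalOnBase AlgSp.IsFppfCover P) (hP : P ((toH S).obj G).hom) :
    AlgSt.RepByAlgSpWith P (AlgSt.quotMap K G aX) := by
  obtain ⟨e⟩ := exists_quotMap_iso (aX := aX)
  exact (repByAlgSpWith_iff_of_equiv P (BasedFunctor.id _) (E aX) (isEquivOver_id _) isEquivOver_E e).1
    (SpTors.repByAlgSpWith_quotMap hbc hloc isAlgSpace_hS (isAlgSpace_toH G) hP)

theorem repByAlgSpWith_quotMap' [IsAffineHom G.hom] {P : MorphismProperty (AlgSp.Sp S)} (hbc : StableBC P)
    (hloc : AlgSp.IsLocalOnBase AlgSp.IsFppfCover P) (hP : P ((toH S).obj G).hom) :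
    AlgSt.RepByAlgSpWith P (BasedFunctor.comp (AlgSt.ofOverCat X) (AlgSt.quotMap K G aX)) :=
  (repByAlgSpWith_iff_of_equiv P (f := AlgSt.quotMap K G aX) (AlgSt.ofOverCat X) (BasedFunctor.id _)
    ⟨AlgSt.toOverCat X, ⟨Iso.refl _⟩, ⟨Iso.refl _⟩⟩ (isEquivOver_id _) (Iso.refl _)).1
    (repByAlgSpWith_quotMap hbc hloc hP)

theorem toH_hom_eq : ((toH S).obj G).hom = (AlgSp.yon S).map (Over.homMk G.hom (Category.comp_id _) : G ⟶ Over.mk (𝟙 S)) :=
  (hSTerminal S).hom_ext _ _

theorem locP_hom {P : MorphismProperty Scheme.{u}} [P.IsStableUnderBaseChange] (hP : Groth.Agent.AlgSpCov.EtaleLocal P)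
    (h : P G.hom) : AlgSp.LocP P ((toH S).obj G).hom := by
  rw [toH_hom_eq]
  exact Groth.Agent.AlgSpCov.locP_of_repWith hP ((AlgSp.repWith_yon_map_iff _ _).2 h)

end Groth.Agent.StFib.QuotBr
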