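import Groth.Agent.StFib.QuotTriv
import Groth.Agent.StFib.Psh
import Groth.Prelude.Def_AlgSt5

/-!
# Invariant maps descend to the quotient category
-/

set_option linter.unusedVariables false
set_option backward.isDefEq.respectTransparency false
set_option backward.isDefEq.respectTransparency.types false

universe u

open CategoryTheory CategoryTheory.Limits AlgebraicGeometry Opposite MonoidalCategory CartesianMonoidalCategory
  MonObj GrpObj FibCat

namespace Groth.Agent.StFib.QuotTriv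

variable {S : Scheme.{u}} {G X : Over S} [GrpObj G] {aX : AlgGrp.Action G X}

local notation "K" => Scheme.fppfPrecoverage

/-- The local sections of a torsor, on a covering sieve. -/
theorem exists_sieve_secs (A : AlgSt.QuotObj K G aX) :
    ∃ R : Sieve A.base, R ∈ AlgSp.J S A.base ∧
      ∀ ⦃V : Over S⦄ (g : V ⟶ A.base), R g → ∃ s : V ⟶ A.P, s ≫ A.π = g := by
  obtain ⟨R₀, hR₀, hs⟩ := A.loc
  refine ⟨(Sieve.overEquiv A.base).symm (Sieve.generate R₀), ?_, fun V g hg => ?_⟩
  · exact GrothendieckTopology.overEquiv_symm_mem_over _ _ _ (Precoverage.generate_mem_toGrothendieck hR₀)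
  · obtain ⟨W, h, f, hf, e⟩ := (Sieve.overEquiv_symm_iff _ _).1 hg
    obtain ⟨s, hs⟩ := hs f hf
    have hs' : s ≫ A.π.left = f := hs
    have e' : (h ≫ s) ≫ A.π.left = g.left := by rw [Category.assoc, hs', e]
    refine ⟨Over.homMk (h ≫ s) ?_, Over.OverMorphism.ext e'⟩
    rw [← Over.w A.π, ← Category.assoc, e', Over.w g]

/-- Two sections of a torsor over the same point differ by a point of the group. -/
theorem exists_diff (A : AlgSt.QuotObj K G aX) {V : Over S} (s t : V ⟶ A.P) (h : s ≫ A.π = t ≫ A.π) :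
    ∃ g : V ⟶ G, lift g t ≫ A.act.act = s := by
  obtain ⟨l, h1, h2⟩ := A.cart.exists_lift s t h
  exact ⟨l ≫ fst G A.P, by rw [← h2, ← comp_lift, lift_fst_snd, Category.comp_id, h1]⟩

variable {M : AlgSp.Sp S} (f : (AlgSp.yon S).obj X ⟶ M)

/-- The value of `f` at a point. -/
noncomputable abbrev fpt {V : Over S} (x : V ⟶ X) : M.obj.obj (op V) := f.hom.app (op V) ⟨x⟩

theorem fpt_comp {V W : Over S} (k : W ⟶ V) (x : V ⟶ X) : M.obj.map k.op (fpt f x) = fpt f (k ≫ x) := by
  exact (NatTrans.naturality_apply f.hom k.op ⟨x⟩).symm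

variable {f}

theorem fpt_inv (hf : (AlgSp.yon S).map aX.act ≫ f = (AlgSp.yon S).map (snd G X) ≫ f) {V : Over S}
    (g : V ⟶ G) (x : V ⟶ X) : fpt f (lift g x ≫ aX.act) = fpt f x := by
  have h := congrArg (fun k => k.hom.app (op V) ⟨lift g x⟩) hf
  change fpt f (lift g x ≫ aX.act) = fpt f (lift g x ≫ snd G X) at h
  rwa [lift_snd] at h

variable (f)

/-- The value of `f` on a torsor. -/
def IsVal (A : AlgSt.QuotObj K G aX) (m : M.obj.obj (op A.base)) : Prop :=
  ∀ ⦃V : Over S⦄ (s : V ⟶ A.P), M.obj.map (s ≫ A.π).op m = fpt f (s ≫ A.φ)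

theorem isVal_unique {A : AlgSt.QuotObj K G aX} {m m' : M.obj.obj (op A.base)} (h : IsVal f A m)
    (h' : IsVal f A m') : m = m' := by
  obtain ⟨R, hR, hs⟩ := exists_sieve_secs A
  refine (((isSheaf_iff_isSheaf_of_type _ _).1 M.property).isSeparated R hR).ext fun V g hg => ?_
  obtain ⟨s, rfl⟩ := hs g hg
  rw [h s, h' s]

variable (hf : (AlgSp.yon S).map aX.act ≫ f = (AlgSp.yon S).map (snd G X) ≫ f)

include hf in
theorem exists_isVal (A : AlgSt.QuotObj K G aX) : ∃ m, IsVal f A m := by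
  obtain ⟨R, hR, hs⟩ := exists_sieve_secs A
  choose σ hσ using hs
  have key : ∀ {V : Over S} (s t : V ⟶ A.P), s ≫ A.π = t ≫ A.π → fpt f (s ≫ A.φ) = fpt f (t ≫ A.φ) := by
    intro V s t hst
    obtain ⟨g, rfl⟩ := exists_diff A s t hst
    rw [Category.assoc, A.eqv, lift_whiskerLeft_assoc, fpt_inv hf]
  let fam : Presieve.FamilyOfElements M.obj R.arrows := fun V g hg => fpt f (σ g hg ≫ A.φ)
  have hc : fam.Compatible := by
    rw [Presieve.compatible_iff_sieveCompatible]
    intro V W g k hg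
    change fpt f (σ (k ≫ g) _ ≫ A.φ) = M.obj.map k.op (fpt f (σ g hg ≫ A.φ))
    rw [fpt_comp, ← Category.assoc]
    exact key _ _ (by rw [hσ, Category.assoc, hσ])
  obtain ⟨m, hm, -⟩ := ((isSheaf_iff_isSheaf_of_type _ _).1 M.property) R hR fam hc
  refine ⟨m, fun V s => ?_⟩
  refine (((isSheaf_iff_isSheaf_of_type _ _).1 M.property).isSeparated _
    ((AlgSp.J S).pullback_stable (s ≫ A.π) hR)).ext fun W g hg => ?_
  have h1 := hm (g ≫ s ≫ A.π) hg
  rw [fpt_comp, psh_map_map (P := M.obj)]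
  refine h1.trans ?_
  change fpt f (σ _ hg ≫ A.φ) = _
  refine (key _ (g ≫ s) ((hσ _ hg).trans (Category.assoc _ _ _).symm)).trans ?_
  exact congrArg (fpt f) (Category.assoc _ _ _)

/-- The value of `f` on a torsor. -/
noncomputable def val (A : AlgSt.QuotObj K G aX) : M.obj.obj (op A.base) := (exists_isVal f hf A).choose

theorem isVal_val (A : AlgSt.QuotObj K G aX) : IsVal f A (val f hf A) := (exists_isVal f hf A).choose_spec

include hf in
theorem val_map {A A' : AlgSt.QuotObj K G aX} (h : A ⟶ A') : M.obj.map h.base.op (val f hf A') = val f hf A := by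
  refine isVal_unique f (fun V s => ?_) (isVal_val f hf A)
  rw [psh_map_map (P := M.obj)]
  have e := isVal_val f hf A' (s ≫ h.top)
  rw [Category.assoc, Category.assoc, h.wφ, h.cart.w] at e
  rw [Category.assoc]
  exact e

/-- The descended functor. -/
noncomputable def desc : AlgSt.QuotSt K G aX ⥤ᵇ AlgSt.ofSp M where
  toFunctor :=
    { obj := fun A => ⟨A.base, val f hf A⟩
      map := fun {A A'} h => ⟨h.base, val_map f hf h⟩
      map_id := fun A => Stk.EltObj.hom_ext rfl
      map_comp := fun h h' => Stk.EltObj.hom_ext rfl }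
  w := rfl

theorem eltObj_ext {P : (Over S)ᵒᵖ ⥤ Type (u + 1)} {a b : (Stk.ofPsh P).obj} (h : a.base = b.base)
    (hs : P.map (eqToHom h).op b.sec = a.sec) : a = b := by
  obtain ⟨T, x⟩ := a
  obtain ⟨T', y⟩ := b
  cases h
  obtain rfl : y = x := by simpa using hs
  rfl

theorem eqToHom_hom {P : (Over S)ᵒᵖ ⥤ Type (u + 1)} {a b : (Stk.ofPsh P).obj} (h : a = b) :
    (eqToHom h : a ⟶ b).hom = eqToHom (congrArg (fun k => k.base) h) := by
  subst h; rfl

theorem basedFunctor_ext {𝒳 : BasedCategory.{u, u + 1} (Over S)} {P : (Over S)ᵒᵖ ⥤ Type (u + 1)}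
    (F F' : 𝒳 ⥤ᵇ Stk.ofPsh P) (h : ∀ a, F.obj a = F'.obj a) : F = F' := by
  obtain ⟨F₀, hF⟩ := F
  obtain ⟨F₁, hF'⟩ := F'
  obtain rfl : F₀ = F₁ := by
    refine CategoryTheory.Functor.ext h fun a b k => Stk.EltObj.hom_ext ?_
    have e1 : (F₀.map k).hom = eqToHom (congrArg (fun F => F.obj a) hF) ≫ 𝒳.p.map k ≫
        eqToHom (congrArg (fun F => F.obj b) hF).symm := Functor.congr_hom hF k
    have e2 : (F₁.map k).hom = eqToHom (congrArg (fun F => F.obj a) hF') ≫ 𝒳.p.map k ≫
        eqToHom (congrArg (fun F => F.obj b) hF').symm := Functor.congr_hom hF' k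
    change (F₀.map k).hom = (eqToHom (h a)).hom ≫ (F₁.map k).hom ≫ (eqToHom (h b).symm).hom
    rw [e1, e2, eqToHom_hom, eqToHom_hom]
    simp
  rfl

theorem desc_comp : BasedFunctor.comp (AlgSt.quotMap K G aX) (desc f hf) = AlgSt.ofSpMap f := by
  refine basedFunctor_ext _ _ fun a => eltObj_ext (rfl : a.base = a.base) ?_
  let A := (AlgSt.quotMap K G aX).obj a
  have h := isVal_val f hf A (lift (1 : a.base ⟶ G) (𝟙 a.base) : a.base ⟶ A.P)
  change M.obj.map (lift (1 : a.base ⟶ G) (𝟙 a.base) ≫ snd G a.base).op _ =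
    fpt f (lift (1 : a.base ⟶ G) (𝟙 a.base) ≫ (G ◁ a.sec.down) ≫ aX.act) at h
  rw [lift_snd, lift_whiskerLeft_assoc, Category.id_comp, act_one, psh_map_id (P := M.obj)] at h
  exact (psh_map_id (P := M.obj) _ _).trans h.symm

theorem desc_unique (φ : AlgSt.QuotSt K G aX ⥤ᵇ AlgSt.ofSp M)
    (hφ : BasedFunctor.comp (AlgSt.quotMap K G aX) φ = AlgSt.ofSpMap f) : φ = desc f hf := by
  refine basedFunctor_ext _ _ fun A => eltObj_ext (φ.w_obj A) ?_
  have key : IsVal f A (M.obj.map (eqToHom (φ.w_obj A).symm).op (φ.obj A).sec) := fun V s => by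
    let a : (AlgSt.ofSch X).obj := ⟨V, ⟨s ≫ A.φ⟩⟩
    let h := homTriv a A (s ≫ A.π) s rfl rfl
    have hw : (φ.map h).hom = eqToHom (φ.w_obj ((AlgSt.quotMap K G aX).obj a)) ≫ (s ≫ A.π) ≫
        eqToHom (φ.w_obj A).symm := w_map φ h
    have hm := (φ.map h).map_sec
    rw [hw] at hm
    have he : φ.obj ((AlgSt.quotMap K G aX).obj a) = (AlgSt.ofSpMap f).obj a :=
      congrArg (fun F => F.obj a) hφ
    have := congrArg (M.obj.map (eqToHom (φ.w_obj ((AlgSt.quotMap K G aX).obj a)).symm).op) hm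
    refine ((psh_map_map (P := M.obj) _ _ _).trans (eltObj_map_eq (P := M.obj) _ _ ?_ _)).trans
      (((psh_map_map (P := M.obj) _ _ _).symm.trans this).trans ?_)
    · rw [eqToHom_trans_assoc, eqToHom_refl]
      exact (Category.id_comp _).symm
    have aux : ∀ {x y : (AlgSt.ofSp M).obj} (e : x = y) (e' : y.base = x.base),
        M.obj.map (eqToHom e').op x.sec = y.sec := by
      intro x y e e'; subst e; exact psh_map_id _ _
    exact aux he _
  have := isVal_unique f key (isVal_val f hf A)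
  exact (congrArg (M.obj.map (eqToHom (φ.w_obj A)).op) this.symm).trans
    (psh_map_eqToHom_cancel (P := M.obj) _ _ _)

end Groth.Agent.StFib.QuotTriv
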