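import Groth.Agent.AlgSpB.Art.DVRThrough
import Groth.Agent.SubtrLib.Basic
import Groth.Agent.FDesc.ProConsImage
import Mathlib.AlgebraicGeometry.ZariskisMainTheorem
import Mathlib.AlgebraicGeometry.Morphisms.FlatMono
import Mathlib.RingTheory.Polynomial.Basic

/-!
# Valuative criterion for a monomorphism to be an immersion
-/

set_option backward.isDefEq.respectTransparency false
set_option backward.isDefEq.respectTransparency.types false
set_option linter.unusedVariables false

universe u

open CategoryTheory CategoryTheory.Limits AlgebraicGeometry IsLocalRing TopologicalSpace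

namespace Groth.Agent.StFib

/-- A monomorphism locally of finite presentation lifts field-valued points of its image. -/
theorem exists_field_lift {Y X : Scheme.{u}} (h : Y ⟶ X) [Mono h] [LocallyOfFinitePresentation h]
    {k : Type u} [Field k] (s : Spec (CommRingCat.of k) ⟶ X) (hs : ∀ p, s p ∈ Set.range h) :
    ∃ m : Spec (CommRingCat.of k) ⟶ Y, m ≫ h = s := by
  let g := pullback.fst s h
  have : Flat g := inferInstance
  have : IsOpenImmersion g := IsOpenImmersion.of_flat_of_mono g
  have : Surjective g := ⟨by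
    rw [← Set.range_eq_univ, Scheme.Pullback.range_fst]
    exact Set.eq_univ_of_forall hs⟩
  have : IsIso g := (isIso_iff_isOpenImmersion_and_epi_base g).2
    ⟨inferInstance, (TopCat.epi_iff_surjective _).2 g.surjective⟩
  exact ⟨inv g ≫ pullback.snd _ _, by
    rw [Category.assoc, ← pullback.condition, IsIso.inv_hom_id_assoc]⟩

/-- Maps from discrete valuation rings with both points in the image lift. -/
def DVRLift {Y X : Scheme.{u}} (h : Y ⟶ X) : Prop :=
  ∀ (A : Type u) [CommRing A] [IsDomain A] [IsDiscreteValuationRing A] (t : Spec (CommRingCat.of A) ⟶ X),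
    t (SubtrLib.gen A) ∈ Set.range h → t (closedPoint A) ∈ Set.range h → ∃ l, l ≫ h = t

theorem dvrLift_restrict {Y X : Scheme.{u}} {h : Y ⟶ X} (H : DVRLift h) (O : X.Opens) :
    DVRLift (h ∣_ O) := by
  intro A _ _ _ t h1 h2
  have mem : ∀ p, t p ∈ Set.range (h ∣_ O) → (t ≫ O.ι) p ∈ Set.range h := fun p hp => by
    obtain ⟨y, hy⟩ := hp
    refine ⟨(h ⁻¹ᵁ O).ι y, ?_⟩
    rw [← Scheme.Hom.comp_apply, ← morphismRestrict_ι, Scheme.Hom.comp_apply, hy]
    rfl
  obtain ⟨l, hl⟩ := H A (t ≫ O.ι) (mem _ h1) (mem _ h2)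
  exact ⟨(isPullback_morphismRestrict h O).lift t l hl.symm, IsPullback.lift_fst _ _ _ _⟩

/-- The points at infinity of the normalization avoid the image. -/
theorem not_mem_range_of_not_mem {Y X : Scheme.{u}} (h : Y ⟶ X) [Mono h] [QuasiCompact h]
    [LocallyOfFinitePresentation h] [IsAffine X] [IsLocallyNoetherian X] (H : DVRLift h)
    (n : h.normalization) (hn : n ∉ Set.range h.toNormalization) :
    h.fromNormalization n ∉ Set.range h := by
  rintro ⟨y, hy⟩
  let N := h.normalization
  let u := h.toNormalization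
  let π := h.fromNormalization
  have hinj : Function.Injective h := h.injective
  have : IsAffine N := isAffine_of_isAffineHom π
  have hyn : u y ≠ n := fun e => hn ⟨y, e⟩
  -- a function separating the two points
  have hne : (N.isoSpec.hom (u y) : PrimeSpectrum Γ(N, ⊤)).asIdeal ≠
      (N.isoSpec.hom n : PrimeSpectrum Γ(N, ⊤)).asIdeal := fun e =>
    hyn (N.isoSpec.hom.homeomorph.injective (PrimeSpectrum.ext e))
  obtain ⟨b, hb⟩ : ∃ b : Γ(N, ⊤), ¬ (b ∈ (N.isoSpec.hom (u y) : PrimeSpectrum Γ(N, ⊤)).asIdeal ↔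
      b ∈ (N.isoSpec.hom n : PrimeSpectrum Γ(N, ⊤)).asIdeal) := by
    by_contra hc
    push Not at hc
    exact hne (Ideal.ext hc)
  let ev : CommRingCat.of (Polynomial Γ(X, ⊤)) ⟶ Γ(N, ⊤) :=
    CommRingCat.ofHom (Polynomial.eval₂RingHom π.appTop.hom b)
  let q : N ⟶ Spec (CommRingCat.of (Polynomial Γ(X, ⊤))) := N.isoSpec.hom ≫ Spec.map ev
  let p' : Spec (CommRingCat.of (Polynomial Γ(X, ⊤))) ⟶ X :=
    Spec.map (CommRingCat.ofHom Polynomial.C : Γ(X, ⊤) ⟶ CommRingCat.of (Polynomial Γ(X, ⊤))) ≫
      X.isoSpec.inv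
  have hev : (CommRingCat.ofHom Polynomial.C : Γ(X, ⊤) ⟶ CommRingCat.of (Polynomial Γ(X, ⊤))) ≫ ev =
      π.appTop := by
    ext r
    exact Polynomial.eval₂_C _ _
  have hq : q ≫ p' = π := by
    simp only [q, p', Category.assoc]
    rw [← Spec.map_comp_assoc, hev, Scheme.isoSpec_hom_naturality_assoc]
    simp
  have hqb : ∀ z : N, (Polynomial.X : Polynomial Γ(X, ⊤)) ∈ (q z : PrimeSpectrum (Polynomial Γ(X, ⊤))).asIdeal ↔
      b ∈ (N.isoSpec.hom z : PrimeSpectrum Γ(N, ⊤)).asIdeal := fun z => by
    change ev.hom Polynomial.X ∈ (N.isoSpec.hom z : PrimeSpectrum Γ(N, ⊤)).asIdeal ↔ _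
    rw [show ev.hom Polynomial.X = b from Polynomial.eval₂_X _ _]
  have hqne : q (u y) ≠ q n := fun e => hb ((hqb _).symm.trans ((iff_of_eq (by rw [e])).trans (hqb _)))
  have : IsNoetherianRing Γ(X, ⊤) :=
    IsLocallyNoetherian.component_noetherian ⟨⊤, isAffineOpen_top X⟩
  have : IsLocallyNoetherian (Spec (CommRingCat.of (Polynomial Γ(X, ⊤)))) :=
    have : IsNoetherianRing (CommRingCat.of (Polynomial Γ(X, ⊤))) :=
      inferInstanceAs (IsNoetherianRing (Polynomial Γ(X, ⊤)))
    inferInstance
  let h' := u ≫ q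
  have hh' : h' ≫ p' = h := by
    simp only [h', Category.assoc, hq]
    exact h.toNormalization_fromNormalization
  have : LocallyOfFiniteType (h' ≫ p') := by rw [hh']; infer_instance
  have : LocallyOfFiniteType h' := locallyOfFiniteType_of_comp h' p'
  have huniv : ProCons.IsProConstructible (Set.univ : Set Y) :=
    FDesc.ProConsImage.isProConstructible_of_isClosed_cons fun W _ => by
      rw [Set.preimage_univ]; exact @isClosed_univ _ (constructibleTopology _)
  obtain ⟨_, ⟨y', -, rfl⟩, hs⟩ := LimTop.exists_specializes_of_mem_closure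
    (FDesc.ProConsImage.isProConstructible_image u huniv) (y := n) (by
      rw [Set.image_univ]
      have := (h.toNormalization).denseRange
      exact this n)
  have hpn : p' (q n) = h y := by
    rw [← Scheme.Hom.comp_apply, hq]
    exact hy.symm
  have hne' : h' y' ≠ q n := fun e => by
    have : h y' = h y := by rw [← hpn, ← e, ← Scheme.Hom.comp_apply, hh']
    obtain rfl := hinj this
    exact hqne e
  obtain ⟨A, _, _, _, x, g, hxg, hgc, hxy⟩ := AlgSpB.Art.exists_dvr_through h' y' (q n)
    (hs.map q.continuous) hne'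
  let iK := Spec.map (CommRingCat.ofHom (algebraMap A (FractionRing A)))
  have e1 : iK ≫ g ≫ p' = x ≫ h := by rw [← Category.assoc, ← hxg, Category.assoc, hh']
  let t₀ : Spec (CommRingCat.of (FractionRing A)) := closedPoint (FractionRing A)
  obtain ⟨l, hl⟩ := H A (g ≫ p') (by
    rw [← SubtrLib.range_fracMap (V := A) t₀, ← Scheme.Hom.comp_apply, e1, Scheme.Hom.comp_apply]
    exact ⟨_, rfl⟩) (by
    rw [Scheme.Hom.comp_apply, hgc, hpn]
    exact ⟨y, rfl⟩)
  have hlx : iK ≫ l = x := by rw [← cancel_mono h, Category.assoc, hl, e1]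
  have hgen : SubtrLib.gen A ∈ Set.range iK := ⟨t₀, SubtrLib.range_fracMap (V := A) t₀⟩
  have : IsDominant iK := ⟨fun z => closure_mono (s := {SubtrLib.gen A})
    (Set.singleton_subset_iff.2 hgen) (specializes_iff_mem_closure.1 (SubtrLib.gen_specializes z))⟩
  have heq : l ≫ h' = g := ext_of_isDominant_of_isSeparated p' (by rw [Category.assoc, hh', hl]) iK
    (by rw [← Category.assoc, hlx, hxg])
  have hly : l (closedPoint A) = y := hinj (by
    rw [← Scheme.Hom.comp_apply, hl, Scheme.Hom.comp_apply, hgc, hpn])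
  apply hqne
  rw [← hgc, ← heq]
  simp only [h', Scheme.Hom.comp_apply, hly]
  rfl

/-- A monomorphism with the lifting property is an immersion. -/
theorem isImmersion_of_dvrLift {Y X : Scheme.{u}} (h : Y ⟶ X) [Mono h] [QuasiCompact h]
    [LocallyOfFinitePresentation h] [IsLocallyNoetherian X] (H : DVRLift h) : IsImmersion h := by
  have loc : ∀ y : Y, ∃ O : X.Opens, h y ∈ O ∧ IsClosedImmersion (h ∣_ O) := by
    intro y
    obtain ⟨V, hV, hyV, -⟩ := exists_isAffineOpen_mem_and_subset (X := X) (x := h y) (U := ⊤) trivial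
    have : IsAffine V.toScheme := hV
    let g := h ∣_ V
    have hP := (isPullback_morphismRestrict h V).flip
    have : Mono g := MorphismProperty.of_isPullback (P := MorphismProperty.monomorphisms Scheme.{u}) hP ‹_›
    have : QuasiCompact g := MorphismProperty.of_isPullback (P := @QuasiCompact) hP ‹_›
    have : LocallyOfFinitePresentation g :=
      MorphismProperty.of_isPullback (P := @LocallyOfFinitePresentation) hP ‹_›
    obtain ⟨U, hU, hUq⟩ := g.exists_isIso_morphismRestrict_toNormalization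
    have hUtop : g.toNormalization ⁻¹ᵁ U = ⊤ := by
      refine top_le_iff.1 fun z _ => ?_
      change z ∈ (g.toNormalization ⁻¹ᵁ U).1
      rw [hUq]
      exact g.mem_quasiFiniteLocus.1 (g.quasiFiniteLocus_eq_top.ge trivial)
    have : IsOpenImmersion g.toNormalization := by
      have e : (g.toNormalization ⁻¹ᵁ U).ι ≫ g.toNormalization = (g.toNormalization ∣_ U) ≫ U.ι :=
        (morphismRestrict_ι _ _).symm
      have : IsIso (g.toNormalization ⁻¹ᵁ U).ι := by
        rw [hUtop, ← Scheme.topIso_hom]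
        infer_instance
      have : g.toNormalization = inv (g.toNormalization ⁻¹ᵁ U).ι ≫ (g.toNormalization ∣_ U) ≫ U.ι := by
        rw [← e, IsIso.inv_hom_id_assoc]
      rw [this]
      infer_instance
    let C : Set V.toScheme := g.fromNormalization '' (Set.range g.toNormalization)ᶜ
    have hC : IsClosed C := g.fromNormalization.isClosedMap _
      g.toNormalization.isOpenEmbedding.isOpen_range.isClosed_compl
    let O' : V.toScheme.Opens := ⟨Cᶜ, hC.isOpen_compl⟩
    let y₀ : (h ⁻¹ᵁ V).toScheme := ⟨y, hyV⟩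
    have hy₀ : g y₀ ∈ O' := by
      rintro ⟨n, hn, hng⟩
      exact not_mem_range_of_not_mem g (dvrLift_restrict H V) n hn ⟨y₀, hng.symm⟩
    have hiso : IsIso (g.toNormalization ∣_ (g.fromNormalization ⁻¹ᵁ O')) := by
      have : IsOpenImmersion (g.toNormalization ∣_ (g.fromNormalization ⁻¹ᵁ O')) := inferInstance
      refine (isIso_iff_isOpenImmersion_and_epi_base _).2
        ⟨inferInstance, (TopCat.epi_iff_surjective _).2 fun z => ?_⟩
      have hz : z.1 ∈ Set.range g.toNormalization :=
        Classical.not_not.1 fun hn => z.2 ⟨_, hn, rfl⟩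
      obtain ⟨w, hw⟩ := hz
      exact ⟨⟨w, by change g.toNormalization w ∈ g.fromNormalization ⁻¹ᵁ O'; rw [hw]; exact z.2⟩,
        Subtype.ext ((morphismRestrict_base_coe _ _ _).trans hw)⟩
    have hint : IsIntegralHom (g ∣_ O') := by
      have : IsIntegralHom (g.fromNormalization ∣_ O') := inferInstance
      have e : IsIntegralHom ((g.toNormalization ≫ g.fromNormalization) ∣_ O') := by
        rw [morphismRestrict_comp]
        infer_instance
      rwa [g.toNormalization_fromNormalization] at e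
    have hP' := (isPullback_morphismRestrict g O').flip
    have : Mono (g ∣_ O') :=
      MorphismProperty.of_isPullback (P := MorphismProperty.monomorphisms Scheme.{u}) hP' ‹_›
    have : IsFinite (g ∣_ O') :=
      (IsFinite.iff_isIntegralHom_and_locallyOfFiniteType _).2 ⟨hint, inferInstance⟩
    have hcl : IsClosedImmersion (g ∣_ O') :=
      (IsClosedImmersion.iff_isFinite_and_mono _).2 ⟨this, inferInstance⟩
    refine ⟨V.ι ''ᵁ O', ⟨g y₀, hy₀, ?_⟩, ?_⟩
    · change (g ≫ V.ι) y₀ = h y
      rw [morphismRestrict_ι]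
      rfl
    · exact (MorphismProperty.arrow_mk_iso_iff @IsClosedImmersion (morphismRestrictRestrict h V O')).1 hcl
  choose O hyO hO using loc
  let W : X.Opens := ⨆ y, O y
  have hr : Set.range h ⊆ Set.range W.ι := by
    rw [Scheme.Opens.range_ι]
    rintro _ ⟨y, rfl⟩
    exact Opens.mem_iSup.2 ⟨y, hyO y⟩
  let h₁ : Y ⟶ W.toScheme := IsOpenImmersion.lift W.ι h hr
  have hfac : h₁ ≫ W.ι = h := IsOpenImmersion.lift_fac _ _ _
  have : IsClosedImmersion h₁ := by
    rw [IsZariskiLocalAtTarget.iff_of_iSup_eq_top (P := @IsClosedImmersion) (fun y => W.ι ⁻¹ᵁ O y)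
      (top_le_iff.1 fun z _ => by
        obtain ⟨y, hy⟩ := Opens.mem_iSup.1 (show W.ι z ∈ W from z.2)
        exact Opens.mem_iSup.2 ⟨y, hy⟩)]
    intro y
    have hcl : IsClosedImmersion ((h₁ ≫ W.ι) ∣_ O y) := by rw [hfac]; exact hO y
    rw [morphismRestrict_comp] at hcl
    have : IsClosedImmersion (W.ι ∣_ O y) := by
      have : IsOpenImmersion (W.ι ∣_ O y) := inferInstance
      have : Surjective (W.ι ∣_ O y) := ⟨fun z => ⟨⟨⟨z.1, Opens.mem_iSup.2 ⟨y, z.2⟩⟩, z.2⟩, Subtype.ext (morphismRestrict_base_coe _ _ _)⟩⟩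
      have : IsIso (W.ι ∣_ O y) := (isIso_iff_isOpenImmersion_and_epi_base _).2
        ⟨inferInstance, (TopCat.epi_iff_surjective _).2 (W.ι ∣_ O y).surjective⟩
      infer_instance
    exact IsClosedImmersion.of_comp (h₁ ∣_ (W.ι ⁻¹ᵁ O y)) (W.ι ∣_ O y)
  rw [← hfac]
  infer_instance

end Groth.Agent.StFib
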