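import Groth.Agent.StFib.QCLift
import Groth.Agent.StFib.ImmersionCrit
import Groth.Agent.StFib.Props
import Groth.Agent.S10538

/-!
# Monomorphisms of stacks which are quasi-compact immersions
-/

set_option backward.isDefEq.respectTransparency false
set_option backward.isDefEq.respectTransparency.types false
set_option linter.unusedVariables false

universe u

open CategoryTheory CategoryTheory.Limits AlgebraicGeometry Opposite FibCat

namespace Groth.Agent.StFib

variable {S : Scheme.{u}} {𝒳 𝒴 : AlgSt.Cat S}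


theorem rep_immersion_of_lifts (h𝒳 : AlgSt.IsAlgStack Scheme.fppfPrecoverage 𝒳)
    (hnoeth : AlgSt.SmoothLocally (fun X => IsLocallyNoetherian X) 𝒳) (f : 𝒴 ⥤ᵇ 𝒳)
    (hrep : AlgSt.RepByAlgSp1 f)
    (hlfp : AlgSt.RepByAlgSpWith (AlgSp.LocP @LocallyOfFinitePresentation) f)
    (ha : AlgSt.IsMono f)
    (hb : ∀ (A : Type u) [CommRing A] [IsDomain A] [IsDiscreteValuationRing A] (K : Type u) [Field K] [Algebra A K]
      [IsFractionRing A K] (sA : Spec (CommRingCat.of A) ⟶ S) (a : overCat (Over.mk sA) ⥤ᵇ 𝒳),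
      (∃ yK : overCat (Over.mk (Spec.map (CommRingCat.ofHom (algebraMap A K)) ≫ sA)) ⥤ᵇ 𝒴,
          Nonempty (BasedFunctor.comp yK f ≅ BasedFunctor.comp (AlgSt.overMap (Over.homMk (Spec.map (CommRingCat.ofHom (algebraMap A K))) rfl : Over.mk ((Spec.map (CommRingCat.ofHom (algebraMap A K))) ≫ sA) ⟶ Over.mk sA)) a)) →
      (∃ yk : overCat (Over.mk (Spec.map (CommRingCat.ofHom (IsLocalRing.residue A)) ≫ sA)) ⥤ᵇ 𝒴,
          Nonempty (BasedFunctor.comp yk f ≅ BasedFunctor.comp (AlgSt.overMap (Over.homMk (Spec.map (CommRingCat.ofHom (IsLocalRing.residue A))) rfl : Over.mk ((Spec.map (CommRingCat.ofHom (IsLocalRing.residue A))) ≫ sA) ⟶ Over.mk sA)) a)) →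
      ∃ y : overCat (Over.mk sA) ⥤ᵇ 𝒴, Nonempty (BasedFunctor.comp y f ≅ a))
    (hc : ∀ (A : Type u) [CommRing A] [IsDomain A] (sA : Spec (CommRingCat.of A) ⟶ S)
      (a : overCat (Over.mk sA) ⥤ᵇ 𝒳) (D : Set ↥(Spec (CommRingCat.of A))), Dense D →
      (∀ p ∈ D, ∃ yp : overCat (Over.mk ((Spec (CommRingCat.of A)).fromSpecResidueField p ≫ sA)) ⥤ᵇ 𝒴,
          Nonempty (BasedFunctor.comp yp f ≅ BasedFunctor.comp (AlgSt.overMap (Over.homMk ((Spec (CommRingCat.of A)).fromSpecResidueField p) rfl : Over.mk (((Spec (CommRingCat.of A)).fromSpecResidueField p) ≫ sA) ⟶ Over.mk sA)) a)) →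
      ∃ U : (Spec (CommRingCat.of A)).Opens, (U : Set ↥(Spec (CommRingCat.of A))).Nonempty ∧
        ∃ yU : overCat (Over.mk (U.ι ≫ sA)) ⥤ᵇ 𝒴,
          Nonempty (BasedFunctor.comp yU f ≅ BasedFunctor.comp (AlgSt.overMap (Over.homMk (U.ι) rfl : Over.mk ((U.ι) ≫ sA) ⟶ Over.mk sA)) a)) :
    AlgSt.RepByAlgSpWith (AlgSp.RepWith (@IsImmersion ⊓ @QuasiCompact)) f := by
  obtain ⟨V, z, hz, hzs⟩ := h𝒳.atlas
  have : IsLocallyNoetherian V.left := hnoeth V z hz
  have hgood := good_repWith (S := S) (@IsImmersion ⊓ @QuasiCompact)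
  refine (repByAlgSpWith_iff_fpFst_cover hgood.bc
    (fppfLocal_of_fpqc (Groth.Agent.S10538.result S)) h𝒳.isStack.1 (isFibGrpd_overCat V) hrep
    (repByAlgSpWith_flat_of_smooth hz) (repByAlgSpWith_lfp_of_smooth hz) hzs).2 ?_
  obtain ⟨Y, h, E, hE, hm, hh, ⟨iE⟩⟩ := exists_mono_chart f z hlfp ha
  have : QuasiCompact h.left := quasiCompact_chart hE iE hc
  have hDVR : DVRLift h.left := by
    intro A _ _ _ t h1 h2
    let sA : Spec (CommRingCat.of A) ⟶ S := t ≫ V.hom
    let tt : Over.mk sA ⟶ V := Over.homMk t rfl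
    have lift : ∀ {k : Type u} [Field k] (φ : A →+* k),
        (∀ p, t (Spec.map (CommRingCat.ofHom φ) p) ∈ Set.range h.left) →
        ∃ y : overCat (Over.mk (Spec.map (CommRingCat.ofHom φ) ≫ sA)) ⥤ᵇ 𝒴,
          Nonempty (BasedFunctor.comp y f ≅ BasedFunctor.comp (AlgSt.overMap (Over.homMk (Spec.map (CommRingCat.ofHom φ)) rfl : Over.mk (Spec.map (CommRingCat.ofHom φ) ≫ sA) ⟶ Over.mk sA)) (BasedFunctor.comp (AlgSt.overMap tt) z)) := by
      intro k _ φ hp
      obtain ⟨m, hm'⟩ := exists_field_lift h.left (Spec.map (CommRingCat.ofHom φ) ≫ t) hp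
      let r : Over.mk (Spec.map (CommRingCat.ofHom φ) ≫ sA) ⟶ Over.mk sA :=
        Over.homMk (Spec.map (CommRingCat.ofHom φ)) rfl
      exact exists_lift_of_factor iE r tt (Over.homMk m (by
        rw [← Over.w h, reassoc_of% hm']
        rfl)) (Over.OverMorphism.ext hm')
    obtain ⟨y, ⟨i⟩⟩ := hb A (FractionRing A) sA (BasedFunctor.comp (AlgSt.overMap tt) z)
      (lift (algebraMap A (FractionRing A)) fun p => by rw [SubtrLib.range_fracMap]; exact h1)
      (lift (IsLocalRing.residue A) fun p => by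
        have e : Spec.map (CommRingCat.ofHom (IsLocalRing.residue A)) p = IsLocalRing.closedPoint A := by
          have hp : (p : PrimeSpectrum (IsLocalRing.ResidueField A)) = IsLocalRing.closedPoint _ := Subsingleton.elim _ _
          rw [hp]
          exact IsLocalRing.comap_closedPoint (IsLocalRing.residue A)
        rw [e]; exact h2)
    obtain ⟨k, hk⟩ := exists_factor_of_lift hE iE tt y i
    exact ⟨k.left, congrArg (fun m : Over.mk sA ⟶ V => m.left) hk⟩
  have := isImmersion_of_dvrLift h.left hDVR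
  have hq : AlgSp.RepWith (@IsImmersion ⊓ @QuasiCompact) ((AlgSp.yon S).map h) :=
    (AlgSp.repWith_yon_map_iff _ _).2 ⟨this, ‹_›⟩
  exact (repByAlgSpWith_iff_of_equiv _ E (BasedFunctor.id _) hE (isEquivOver_id _)
    (f := fpFst z f) (f' := AlgSt.overMap h) iE.symm).2
    ((repByAlgSpWith_iff_of_equiv _ (AlgSt.toOverCat Y) (AlgSt.toOverCat V)
      (toOverCat_isEquivOver Y) (toOverCat_isEquivOver V) (toOverCatIso h)).2
      (repByAlgSpWith_ofSpMap hgood.bc (isAlgSpace_yon Y) (isAlgSpace_yon V) _ hq))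

end Groth.Agent.StFib
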