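import Groth.Agent.StFib.DescCriteria
import Groth.Agent.StFib.DiagConv
import Groth.Agent.StFib.AtlasProps
import Groth.Agent.StFib.LocQMore
import Groth.Agent.StFib.EndTrans
import Groth.Agent.StFib.Props2
import Groth.Agent.RedSub.Basic
import Groth.Agent.AlgSp.QCMor
import Groth.Agent.S10519
import Groth.Agent.S10613
import Mathlib.AlgebraicGeometry.Morphisms.FlatMono
import Mathlib.AlgebraicGeometry.Noetherian

/-!
# Quasi-compactness of monomorphisms from a generic lifting property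
-/

set_option backward.isDefEq.respectTransparency false
set_option backward.isDefEq.respectTransparency.types false
set_option linter.unusedVariables false

universe u

open CategoryTheory CategoryTheory.Limits AlgebraicGeometry Opposite FibCat TopologicalSpace

namespace Groth.Agent.StFib

/-- Lifting on a nonempty open, as soon as a dense set of points lifts. -/
def DenseLift {Y X : Scheme.{u}} (h : Y ⟶ X) : Prop :=
  ∀ (A : CommRingCat.{u}) [IsDomain A] (t : Spec A ⟶ X) (D : Set ↥(Spec A)), Dense D →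
    (∀ p ∈ D, t p ∈ Set.range h) →
      ∃ U : (Spec A).Opens, (U : Set ↥(Spec A)).Nonempty ∧ ∃ l : U.toScheme ⟶ Y, l ≫ h = U.ι ≫ t

theorem denseLift_restrict {Y X : Scheme.{u}} {h : Y ⟶ X} (H : DenseLift h) (O : X.Opens) :
    DenseLift (h ∣_ O) := by
  intro A _ t D hD hp
  obtain ⟨U, hU, l, hl⟩ := H A (t ≫ O.ι) D hD (fun p hpD => by
    obtain ⟨y, hy⟩ := hp p hpD
    refine ⟨(h ⁻¹ᵁ O).ι y, ?_⟩
    rw [← Scheme.Hom.comp_apply, ← morphismRestrict_ι, Scheme.Hom.comp_apply, hy]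
    rfl)
  refine ⟨U, hU, (isPullback_morphismRestrict h O).lift (U.ι ≫ t) l (by rw [hl, Category.assoc]), ?_⟩
  exact IsPullback.lift_fst _ _ _ _

/-- A monomorphism to a Noetherian affine scheme with generic lifting has quasi-compact source. -/
theorem compactSpace_of_denseLift {Y X : Scheme.{u}} (h : Y ⟶ X) [Mono h] [IsAffine X]
    [IsLocallyNoetherian X] (H : DenseLift h) : CompactSpace Y := by
  have hinj : Function.Injective h := h.injective
  have : IsNoetherianRing Γ(X, ⊤) :=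
    IsLocallyNoetherian.component_noetherian ⟨⊤, isAffineOpen_top X⟩
  have : NoetherianSpace X := noetherianSpace_of_isAffine
  suffices ∀ Z : Closeds X, IsCompact (h ⁻¹' (Z : Set X)) from isCompact_univ_iff.1 (by
    simpa using this ⊤)
  intro Z
  apply wellFounded_lt.induction Z; clear Z
  intro Z IH
  by_cases hne : (Z : Set X).Nonempty
  swap
  · rw [Set.not_nonempty_iff_eq_empty.1 hne]; simp
  by_cases hirr : IsPreirreducible (Z : Set X)
  swap
  · simp only [isPreirreducible_iff_isClosed_union_isClosed, not_forall, not_or] at hirr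
    obtain ⟨z₁, z₂, hz₁, hz₂, hsub, hn₁, hn₂⟩ := hirr
    lift z₁ to Closeds X using hz₁
    lift z₂ to Closeds X using hz₂
    have h1 := IH (Z ⊓ z₁) (inf_lt_left.2 hn₁)
    have h2 := IH (Z ⊓ z₂) (inf_lt_left.2 hn₂)
    convert h1.union h2 using 1
    rw [Closeds.coe_inf, Closeds.coe_inf, ← Set.preimage_union, ← Set.inter_union_distrib_left,
      Set.inter_eq_left.2 hsub]
  by_cases hdense : (Z : Set X) ⊆ closure (Set.range h ∩ (Z : Set X))
  swap
  · let Z' : Closeds X := ⟨closure (Set.range h ∩ (Z : Set X)), isClosed_closure⟩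
    have hle : Z' ≤ Z := closure_minimal Set.inter_subset_right Z.isClosed
    have hlt : Z' < Z := lt_of_le_not_ge hle hdense
    convert IH Z' hlt using 1
    exact Set.Subset.antisymm (fun y hy => subset_closure ⟨⟨y, rfl⟩, hy⟩) (Set.preimage_mono hle)
  -- `Z` as an integral affine scheme
  let I := Scheme.IdealSheafData.vanishingIdeal Z
  have hr : Set.range I.subschemeι = (Z : Set X) := Groth.Agent.RedSub.range_vanishingIdeal_subschemeι Z
  have : IrreducibleSpace I.subscheme := by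
    have hi : IsPreirreducible (Set.univ : Set I.subscheme) := by
      intro u v hu hv hune hvne
      obtain ⟨u', hu', rfl⟩ := I.subschemeι.isClosedEmbedding.toIsInducing.isOpen_iff.1 hu
      obtain ⟨v', hv', rfl⟩ := I.subschemeι.isClosedEmbedding.toIsInducing.isOpen_iff.1 hv
      obtain ⟨x, -, hx⟩ := hune
      obtain ⟨x', -, hx'⟩ := hvne
      obtain ⟨z, hz, hzu, hzv⟩ := hirr u' v' hu' hv' ⟨_, hr.le ⟨x, rfl⟩, hx⟩ ⟨_, hr.le ⟨x', rfl⟩, hx'⟩
      obtain ⟨w, rfl⟩ := hr.ge hz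
      exact ⟨w, trivial, hzu, hzv⟩
    have hn : Nonempty I.subscheme := by
      obtain ⟨z, hz⟩ := hne
      obtain ⟨w, -⟩ := hr.ge hz
      exact ⟨w⟩
    exact { isPreirreducible_univ := hi, toNonempty := hn }
  have : IsReduced I.subscheme := inferInstance
  have : IsIntegral I.subscheme := isIntegral_of_irreducibleSpace_of_isReduced _
  have : IsAffine I.subscheme := isAffine_of_isAffineHom I.subschemeι
  let A := Γ(I.subscheme, ⊤)
  let t : Spec A ⟶ X := I.subscheme.isoSpec.inv ≫ I.subschemeι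
  have htr : Set.range t = (Z : Set X) := by
    rw [← hr]
    ext x
    exact ⟨fun ⟨w, hw⟩ => ⟨_, hw⟩, fun ⟨w, hw⟩ => ⟨I.subscheme.isoSpec.hom w, by
      rw [← Scheme.Hom.comp_apply, Iso.hom_inv_id_assoc]; exact hw⟩⟩
  have htcl : Topology.IsClosedEmbedding t := t.isClosedEmbedding
  obtain ⟨U, hU, l, hl⟩ := H A t (t ⁻¹' Set.range h) (fun p => by
    rw [htcl.toIsEmbedding.toIsInducing.closure_eq_preimage_closure_image]
    refine closure_mono ?_ (hdense (htr.le ⟨p, rfl⟩))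
    rintro x ⟨hx, hxZ⟩
    obtain ⟨w, rfl⟩ := htr.ge hxZ
    exact ⟨w, hx, rfl⟩) (fun p hp => hp)
  have : NoetherianSpace (Spec A) := htcl.toIsEmbedding.toIsInducing.noetherianSpace
  have : CompactSpace U.toScheme := isCompact_iff_compactSpace.1 (NoetherianSpace.isCompact _)
  -- the open part lifts, the rest is handled by induction
  let W : Closeds X := ⟨t '' (U : Set (Spec A))ᶜ, htcl.isClosedMap _ U.isOpen.isClosed_compl⟩
  have hW : W < Z := by
    refine lt_of_le_not_ge (fun x hx => ?_) fun hge => ?_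
    · obtain ⟨p, -, rfl⟩ := hx
      exact htr.le ⟨p, rfl⟩
    · obtain ⟨p, hp⟩ := hU
      obtain ⟨q, hq, hqp⟩ := hge (htr.le ⟨p, rfl⟩)
      exact hq (htcl.injective hqp ▸ hp)
  convert (isCompact_range l.continuous).union (IH W hW) using 1
  ext y
  refine ⟨fun hy => ?_, ?_⟩
  · obtain ⟨p, hp⟩ := htr.ge hy
    by_cases hpU : p ∈ U
    · refine Or.inl ⟨⟨p, hpU⟩, hinj ?_⟩
      rw [← Scheme.Hom.comp_apply, hl, Scheme.Hom.comp_apply]
      exact hp
    · exact Or.inr ⟨p, hpU, hp⟩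
  · rintro (⟨w, rfl⟩ | ⟨p, -, hp⟩)
    · refine htr.le ⟨U.ι w, ?_⟩
      rw [← Scheme.Hom.comp_apply, ← hl, Scheme.Hom.comp_apply]
    · exact htr.le ⟨p, hp⟩

/-- A monomorphism locally of finite presentation has a section over the residue field of a point of its image. -/
theorem exists_residue_lift {Y X : Scheme.{u}} (h : Y ⟶ X) [Mono h] [LocallyOfFinitePresentation h]
    (x : X) (hx : x ∈ Set.range h) :
    ∃ m : Spec (X.residueField x) ⟶ Y, m ≫ h = X.fromSpecResidueField x := by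
  let g := pullback.fst (X.fromSpecResidueField x) h
  have : Flat g := inferInstance
  have : IsOpenImmersion g := IsOpenImmersion.of_flat_of_mono g
  have : Surjective g := ⟨by
    rw [← Set.range_eq_univ, Scheme.Pullback.range_fst]
    refine Set.eq_univ_of_forall fun s => ?_
    change X.fromSpecResidueField x s ∈ Set.range h
    rw [Scheme.fromSpecResidueField_apply]
    exact hx⟩
  have : IsIso g := (isIso_iff_isOpenImmersion_and_epi_base g).2
    ⟨inferInstance, (TopCat.epi_iff_surjective _).2 g.surjective⟩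
  exact ⟨inv g ≫ pullback.snd _ _, by
    rw [Category.assoc, ← pullback.condition, IsIso.inv_hom_id_assoc]⟩

variable {S : Scheme.{u}} {𝒳 𝒴 : AlgSt.Cat S}

local notation "K" => Scheme.fppfPrecoverage

/-- The base change of a monomorphism locally of finite presentation to a scheme is a scheme. -/
theorem exists_mono_chart (f : 𝒴 ⥤ᵇ 𝒳) {V : Over S} (z : overCat V ⥤ᵇ 𝒳)
    (hlfp : AlgSt.RepByAlgSpWith (AlgSp.LocP @LocallyOfFinitePresentation) f) (ha : AlgSt.IsMono f) :
    ∃ (Y : Over S) (h : Y ⟶ V) (E : overCat Y ⥤ᵇ fp z f), IsEquivOver E ∧ Mono h.left ∧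
      LocallyOfFinitePresentation h.left ∧
      Nonempty (BasedFunctor.comp E (fpFst z f) ≅ AlgSt.overMap h) := by
  have hgood := (good_locP (S := S) Groth.Agent.AlgSpCov.standard_locallyOfFinitePresentation)
  obtain ⟨A₁, e₁, he₁, hm⟩ := ha V z
  obtain ⟨ia⟩ := exists_iso_ofSpMap_toOverCat (BasedFunctor.comp e₁ (fpFst z f))
  let a₁ := AlgSt.spMapOfOver (BasedFunctor.comp e₁ (fpFst z f))
  have : Mono a₁ := hm
  have hlfp₁ : AlgSp.LocP @LocallyOfFinitePresentation a₁ :=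
    mem_of_repByAlgSpWith_ofSpMap hgood.bc hgood.det A₁.property (isAlgSpace_yon V) a₁
      ((repByAlgSpWith_iff_of_equiv _ e₁ (AlgSt.toOverCat V) he₁ (toOverCat_isEquivOver V)
        (f := fpFst z f) (f' := AlgSt.ofSpMap a₁) ia).1 (repByAlgSpWith_fpFst _ z hlfp))
  have hlft : AlgSp.LocP @LocallyOfFiniteType a₁ := fun U W b c k hb hc' w =>
    have : LocallyOfFinitePresentation k.left := hlfp₁ b c k hb hc' w
    inferInstance
  have : Mono (ObjectProperty.homMk a₁ : A₁ ⟶ (AlgSp.ofScheme S).obj V).hom := hm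
  obtain ⟨hR, -, -⟩ := (Groth.Agent.S10613.result (X := A₁) (Y := (AlgSp.ofScheme S).obj V)
    (ObjectProperty.homMk a₁)).2.2.2 ⟨hlft, this⟩
  have hRW : AlgSp.RepWith @LocallyOfFinitePresentation a₁ :=
    Groth.Agent.AlgSpCov.repWith_of_locP Groth.Agent.AlgSpCov.etaleLocal_locallyOfFinitePresentation
      A₁.property (isAlgSpace_yon V) hR hlfp₁
  obtain ⟨Y, h, ι, hι, hh⟩ := exists_iso_yon_of_repWith _ hRW
  have : LocallyOfFinitePresentation h.left := hh
  have : Mono ((AlgSp.yon S).map h) := by rw [← hι]; infer_instance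
  have : Mono h := (AlgSp.yon S).mono_of_mono_map ‹_›
  have : Mono h.left := inferInstanceAs (Mono ((Over.forget S).map h))
  -- the chart of the fibre product
  let E : overCat Y ⥤ᵇ fp z f :=
    BasedFunctor.comp (AlgSt.ofOverCat Y) (BasedFunctor.comp (AlgSt.ofSpMap ι.hom) e₁)
  have hE : IsEquivOver E := isEquivOver_comp ⟨AlgSt.toOverCat Y, ⟨Iso.refl _⟩, ⟨Iso.refl _⟩⟩
    (isEquivOver_comp (isEquivOver_ofSpMap_iso ι) he₁)
  let iE : BasedFunctor.comp E (fpFst z f) ≅ AlgSt.overMap h :=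
    isoWhiskerLeft (BasedFunctor.comp (AlgSt.ofOverCat Y) (AlgSt.ofSpMap ι.hom)) ia.symm ≪≫
      eqToIso (show BasedFunctor.comp (AlgSt.ofOverCat Y)
          (BasedFunctor.comp (AlgSt.ofSpMap (ι.hom ≫ a₁)) (AlgSt.toOverCat V)) =
        BasedFunctor.comp (AlgSt.ofOverCat Y)
          (BasedFunctor.comp (AlgSt.ofSpMap ((AlgSp.yon S).map h)) (AlgSt.toOverCat V)) by rw [hι]) ≪≫
      isoWhiskerLeft (AlgSt.ofOverCat Y) (toOverCatIso h).symm
  exact ⟨Y, h, E, hE, inferInstance, hh, ⟨iE⟩⟩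

/-- A map into the base of a chart lifts when its chart does. -/
theorem exists_lift_of_factor {f : 𝒴 ⥤ᵇ 𝒳} {V Y : Over S} {z : overCat V ⥤ᵇ 𝒳} {h : Y ⟶ V}
    {E : overCat Y ⥤ᵇ fp z f} (iE : BasedFunctor.comp E (fpFst z f) ≅ AlgSt.overMap h) {T B : Over S}
    (r : T ⟶ B) (tt : B ⟶ V) (k : T ⟶ Y) (hk : k ≫ h = r ≫ tt) :
    ∃ y : overCat T ⥤ᵇ 𝒴,
      Nonempty (BasedFunctor.comp y f ≅ BasedFunctor.comp (AlgSt.overMap r) (BasedFunctor.comp (AlgSt.overMap tt) z)) := by
  refine ⟨BasedFunctor.comp (BasedFunctor.comp (AlgSt.overMap k) E) (fpSnd z f), ⟨?_⟩⟩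
  exact isoWhiskerLeft (BasedFunctor.comp (AlgSt.overMap k) E) (fpIso z f).symm ≪≫
    isoWhiskerRight (isoWhiskerLeft (AlgSt.overMap k) iE ≪≫ (overMapCompIso k h).symm ≪≫
      eqToIso (congrArg AlgSt.overMap hk) ≪≫ overMapCompIso r tt) z

/-- A lift gives a factorization through the chart. -/
theorem exists_factor_of_lift {f : 𝒴 ⥤ᵇ 𝒳} {V Y : Over S} {z : overCat V ⥤ᵇ 𝒳} {h : Y ⟶ V}
    {E : overCat Y ⥤ᵇ fp z f} (hE : IsEquivOver E) (iE : BasedFunctor.comp E (fpFst z f) ≅ AlgSt.overMap h)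
    {T : Over S} (c : T ⟶ V) (y : overCat T ⥤ᵇ 𝒴)
    (i : BasedFunctor.comp y f ≅ BasedFunctor.comp (AlgSt.overMap c) z) : ∃ k : T ⟶ Y, k ≫ h = c := by
  let F : overCat T ⥤ᵇ fp z f := fpLift (AlgSt.overMap c) y i.symm
  obtain ⟨d, hd, -, ⟨jd⟩⟩ := isEquivOver_symm hE
  obtain ⟨k, ⟨ik⟩⟩ := exists_iso_overMap (BasedFunctor.comp F d)
  exact ⟨k, overMap_injective
    (overMapCompIso k h ≪≫ isoWhiskerRight ik.symm (AlgSt.overMap h) ≪≫
      isoWhiskerLeft (BasedFunctor.comp F d) iE.symm ≪≫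
      isoWhiskerRight (isoWhiskerLeft F jd) (fpFst z f))⟩

theorem quasiCompact_chart {f : 𝒴 ⥤ᵇ 𝒳} {V Y : Over S} [IsLocallyNoetherian V.left] {z : overCat V ⥤ᵇ 𝒳}
    {h : Y ⟶ V} [Mono h.left] [LocallyOfFinitePresentation h.left] {E : overCat Y ⥤ᵇ fp z f}
    (hE : IsEquivOver E) (iE : BasedFunctor.comp E (fpFst z f) ≅ AlgSt.overMap h)
    (hc : ∀ (A : Type u) [CommRing A] [IsDomain A] (sA : Spec (CommRingCat.of A) ⟶ S)
      (a : overCat (Over.mk sA) ⥤ᵇ 𝒳) (D : Set ↥(Spec (CommRingCat.of A))), Dense D →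
      (∀ p ∈ D, ∃ yp : overCat (Over.mk ((Spec (CommRingCat.of A)).fromSpecResidueField p ≫ sA)) ⥤ᵇ 𝒴,
          Nonempty (BasedFunctor.comp yp f ≅ BasedFunctor.comp (AlgSt.overMap (Over.homMk ((Spec (CommRingCat.of A)).fromSpecResidueField p) rfl : Over.mk (((Spec (CommRingCat.of A)).fromSpecResidueField p) ≫ sA) ⟶ Over.mk sA)) a)) →
      ∃ U : (Spec (CommRingCat.of A)).Opens, (U : Set ↥(Spec (CommRingCat.of A))).Nonempty ∧
        ∃ yU : overCat (Over.mk (U.ι ≫ sA)) ⥤ᵇ 𝒴,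
          Nonempty (BasedFunctor.comp yU f ≅ BasedFunctor.comp (AlgSt.overMap (Over.homMk (U.ι) rfl : Over.mk ((U.ι) ≫ sA) ⟶ Over.mk sA)) a)) :
    QuasiCompact h.left := by
  have hDL : DenseLift h.left := by
    intro A' _ t D hD hp
    let sA : Spec A' ⟶ S := t ≫ V.hom
    let tt : Over.mk sA ⟶ V := Over.homMk t rfl
    obtain ⟨U, hU, yU, ⟨iU⟩⟩ := hc A' sA (BasedFunctor.comp (AlgSt.overMap tt) z) D hD fun p hpD => by
      obtain ⟨m, hm'⟩ := exists_residue_lift h.left (t p) (hp p hpD)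
      let r : Over.mk ((Spec A').fromSpecResidueField p ≫ sA) ⟶ Over.mk sA :=
        Over.homMk ((Spec A').fromSpecResidueField p) rfl
      let k : Over.mk ((Spec A').fromSpecResidueField p ≫ sA) ⟶ Y :=
        Over.homMk (Spec.map (t.residueFieldMap p) ≫ m) (by
          rw [← Over.w h, Category.assoc, reassoc_of% hm',
            reassoc_of% (Scheme.Hom.SpecMap_residueFieldMap_fromSpecResidueField t p)]
          rfl)
      have hk : k ≫ h = r ≫ tt := Over.OverMorphism.ext (by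
        change (Spec.map (t.residueFieldMap p) ≫ m) ≫ h.left = (Spec A').fromSpecResidueField p ≫ t
        rw [Category.assoc, hm', Scheme.Hom.SpecMap_residueFieldMap_fromSpecResidueField])
      exact exists_lift_of_factor iE r tt k hk
    let r : Over.mk (U.ι ≫ sA) ⟶ Over.mk sA := Over.homMk U.ι rfl
    obtain ⟨k, hk⟩ := exists_factor_of_lift hE iE (r ≫ tt) yU
      (iU ≪≫ isoWhiskerRight (overMapCompIso r tt).symm z)
    exact ⟨U, hU, k.left, congrArg (fun m : Over.mk (U.ι ≫ sA) ⟶ V => m.left) hk⟩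
  have : QuasiCompact h.left := by
    rw [quasiCompact_iff_forall_isAffineOpen]
    intro O hO
    have : IsAffine O.toScheme := hO
    have : Mono (h.left ∣_ O) :=
      MorphismProperty.of_isPullback (P := MorphismProperty.monomorphisms Scheme.{u})
        (isPullback_morphismRestrict h.left O).flip ‹_›
    exact isCompact_iff_compactSpace.2 (compactSpace_of_denseLift _ (denseLift_restrict hDL O))
  infer_instance

theorem rep_quasiCompact_of_denseLift (h𝒳 : AlgSt.IsAlgStack K 𝒳)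
    (hnoeth : AlgSt.SmoothLocally (fun X => IsLocallyNoetherian X) 𝒳) (f : 𝒴 ⥤ᵇ 𝒳)
    (hrep : AlgSt.RepByAlgSp1 f)
    (hlfp : AlgSt.RepByAlgSpWith (AlgSp.LocP @LocallyOfFinitePresentation) f)
    (ha : AlgSt.IsMono f)
    (hc : ∀ (A : Type u) [CommRing A] [IsDomain A] (sA : Spec (CommRingCat.of A) ⟶ S)
      (a : overCat (Over.mk sA) ⥤ᵇ 𝒳) (D : Set ↥(Spec (CommRingCat.of A))), Dense D →
      (∀ p ∈ D, ∃ yp : overCat (Over.mk ((Spec (CommRingCat.of A)).fromSpecResidueField p ≫ sA)) ⥤ᵇ 𝒴,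
          Nonempty (BasedFunctor.comp yp f ≅ BasedFunctor.comp (AlgSt.overMap (Over.homMk ((Spec (CommRingCat.of A)).fromSpecResidueField p) rfl : Over.mk (((Spec (CommRingCat.of A)).fromSpecResidueField p) ≫ sA) ⟶ Over.mk sA)) a)) →
      ∃ U : (Spec (CommRingCat.of A)).Opens, (U : Set ↥(Spec (CommRingCat.of A))).Nonempty ∧
        ∃ yU : overCat (Over.mk (U.ι ≫ sA)) ⥤ᵇ 𝒴,
          Nonempty (BasedFunctor.comp yU f ≅ BasedFunctor.comp (AlgSt.overMap (Over.homMk (U.ι) rfl : Over.mk ((U.ι) ≫ sA) ⟶ Over.mk sA)) a)) :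
    AlgSt.RepByAlgSpWith AlgSp.IsQuasiCompactMor f := by
  obtain ⟨V, z, hz, hzs⟩ := h𝒳.atlas
  have : IsLocallyNoetherian V.left := hnoeth V z hz
  refine (repByAlgSpWith_iff_fpFst_cover good_quasiCompact.bc
    (fppfLocal_of_fpqc (Groth.Agent.S10519.result S)) h𝒳.isStack.1 (isFibGrpd_overCat V) hrep
    (repByAlgSpWith_flat_of_smooth hz) (repByAlgSpWith_lfp_of_smooth hz) hzs).2 ?_
  obtain ⟨Y, h, E, hE, hm, hh, ⟨iE⟩⟩ := exists_mono_chart f z hlfp ha
  have : QuasiCompact h.left := quasiCompact_chart hE iE hc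
  have hq : AlgSp.IsQuasiCompactMor ((AlgSp.yon S).map h) :=
    Groth.Agent.AlgSp.isQuasiCompactMor_of_repWith (isAlgSpace_yon V) ((AlgSp.repWith_yon_map_iff _ _).2 this)
  exact (repByAlgSpWith_iff_of_equiv _ E (BasedFunctor.id _) hE (isEquivOver_id _)
    (f := fpFst z f) (f' := AlgSt.overMap h) iE.symm).2
    ((repByAlgSpWith_iff_of_equiv _ (AlgSt.toOverCat Y) (AlgSt.toOverCat V)
      (toOverCat_isEquivOver Y) (toOverCat_isEquivOver V) (toOverCatIso h)).2
      (repByAlgSpWith_ofSpMap good_quasiCompact.bc (isAlgSpace_yon Y) (isAlgSpace_yon V) _ hq))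

end Groth.Agent.StFib
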