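import Groth.Agent.StFib.Points
import Groth.Agent.StFib.DescBase

/-!
Points of a category over schemes and scheme charts: `|(Sch/U)| = U`, every point comes from a chart,
surjective representable charts are surjective on points.
-/

set_option backward.isDefEq.respectTransparency false
set_option backward.isDefEq.respectTransparency.types false

universe w₃ t₃ w₂ t₂ u

open CategoryTheory CategoryTheory.Limits AlgebraicGeometry Opposite FibCat

namespace Groth.Agent.StFib

variable {S : Scheme.{u}}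
variable {𝒳 : BasedCategory.{w₂, t₂} (Over S)} {𝒴 : BasedCategory.{w₃, t₃} (Over S)}

/-- The scheme underlying a field point of `(Sch/U)`. -/
theorem fpt_left_eq {U : Over S} (p : AlgSt.FPt (overCat U)) :
    (Over.left p.obj).left = Spec (CommRingCat.of p.K) :=
  congrArg (fun T : Over S => T.left) p.lies

/-- The point of `U` underlying a field point of `(Sch/U)`. -/
noncomputable def ptOf {U : Over S} (p : AlgSt.FPt (overCat U)) : ↥U.left :=
  (Over.hom p.obj).left ((eqToHom (fpt_left_eq p).symm) (IsLocalRing.closedPoint p.K))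

theorem subsingleton_fpt {U : Over S} (p : AlgSt.FPt (overCat U)) :
    Subsingleton ↥(Over.left p.obj).left := by
  rw [fpt_left_eq p]
  change Subsingleton (PrimeSpectrum p.K)
  infer_instance

theorem ptOf_eq {U : Over S} (p : AlgSt.FPt (overCat U)) (a : ↥(Over.left p.obj).left) :
    ptOf p = (Over.hom p.obj).left a := by
  have := subsingleton_fpt p
  exact congrArg (fun b => (Over.hom p.obj).left b)
    (Subsingleton.elim ((eqToHom (fpt_left_eq p).symm) (IsLocalRing.closedPoint p.K)) a)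

theorem ptOf_rel {U : Over S} {p q : AlgSt.FPt (overCat U)} (h : AlgSt.FPt.Rel p q) :
    ptOf p = ptOf q := by
  obtain ⟨r, a, b, -⟩ := h
  let x := (eqToHom (fpt_left_eq r).symm) (IsLocalRing.closedPoint r.K)
  have key : ∀ {s : AlgSt.FPt (overCat U)} (c : r.obj ⟶ s.obj), ptOf s = ptOf r := fun {s} c => by
    rw [ptOf_eq s (c.left.left x), ptOf_eq r x, ← Scheme.Hom.comp_apply]
    exact congrArg (fun m : (Over.left r.obj).left ⟶ U.left => m x)
      (congrArg (fun m : Over.left r.obj ⟶ U => m.left) (Over.w c))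
  exact (key a).trans (key b).symm

/-- `|(Sch/U)| → U`. -/
noncomputable def ptMap {U : Over S} : AlgSt.Points (overCat U) → ↥U.left :=
  Quot.lift ptOf fun _ _ h => ptOf_rel h

theorem ptMap_ofChart_id {U : Over S} (t : ↥U.left) :
    ptMap (AlgSt.Points.ofChart (BasedFunctor.id (overCat U)) t) = t := by
  refine (ptOf_eq _ (IsLocalRing.closedPoint (U.left.residueField t))).trans ?_
  exact Scheme.fromSpecResidueField_apply _ _

theorem map_ofChart {U : Over S} (x : overCat U ⥤ᵇ 𝒳) (f : 𝒳 ⥤ᵇ 𝒴) (t : ↥U.left) :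
    AlgSt.Points.map f (AlgSt.Points.ofChart x t) = AlgSt.Points.ofChart (BasedFunctor.comp x f) t :=
  rfl

theorem ofChart_eq_map {U : Over S} (x : overCat U ⥤ᵇ 𝒳) (t : ↥U.left) :
    AlgSt.Points.ofChart x t =
      AlgSt.Points.map x (AlgSt.Points.ofChart (BasedFunctor.id (overCat U)) t) :=
  rfl

theorem ofChart_congr {U : Over S} {x x' : overCat U ⥤ᵇ 𝒳} (e : x ≅ x') :
    AlgSt.Points.ofChart x = AlgSt.Points.ofChart x' := by
  funext t
  rw [ofChart_eq_map x, ofChart_eq_map x', points_map_congr e]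

/-- A point of `(Sch/U)` is the point of the identity chart at its image. -/
theorem ofChart_id_ptOf {U : Over S} (p : AlgSt.FPt (overCat U)) :
    AlgSt.Points.ofChart (BasedFunctor.id (overCat U)) (ptOf p) = AlgSt.Points.mk p := by
  let c : Spec (CommRingCat.of p.K) ⟶ U.left := eqToHom (fpt_left_eq p).symm ≫ (Over.hom p.obj).left
  let x := IsLocalRing.closedPoint p.K
  have key : ∀ t : ↥U.left, c x = t → ∃ ψ : Spec (CommRingCat.of p.K) ⟶ Spec (U.left.residueField t),
      ψ ≫ U.left.fromSpecResidueField t = c := by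
    rintro t rfl
    exact ⟨_, Scheme.descResidueField_stalkClosedPointTo_fromSpecResidueField p.K U.left c⟩
  obtain ⟨ψ, hψ⟩ := key (ptOf p) (Scheme.Hom.comp_apply _ _ _)
  refine (AlgSt.Points.sound (p := p) (q := _) ⟨p, 𝟙 _, ?_, trivial⟩).symm
  let m : Over.left p.obj ⟶ Over.mk (U.left.fromSpecResidueField (ptOf p) ≫ U.hom) :=
    Over.homMk (eqToHom (fpt_left_eq p) ≫ ψ) (by
      change (eqToHom _ ≫ ψ) ≫ U.left.fromSpecResidueField (ptOf p) ≫ U.hom = _
      rw [Category.assoc, ← Category.assoc ψ, hψ]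
      simp only [c, Category.assoc, eqToHom_trans_assoc, eqToHom_refl, Category.id_comp]
      exact Over.w (Over.hom p.obj))
  exact Over.homMk m (Over.OverMorphism.ext (by
    change (eqToHom _ ≫ ψ) ≫ U.left.fromSpecResidueField (ptOf p) = _
    rw [Category.assoc, hψ]
    simp [c]))

theorem ofChart_id_surjective {U : Over S} :
    Function.Surjective (AlgSt.Points.ofChart (BasedFunctor.id (overCat U))) := fun P => by
  obtain ⟨p, rfl⟩ := AlgSt.Points.mk_surjective P
  exact ⟨ptOf p, ofChart_id_ptOf p⟩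

theorem ofChart_id_ptMap {U : Over S} (P : AlgSt.Points (overCat U)) :
    AlgSt.Points.ofChart (BasedFunctor.id (overCat U)) (ptMap P) = P := by
  obtain ⟨p, rfl⟩ := AlgSt.Points.mk_surjective P
  exact ofChart_id_ptOf p

theorem range_map_overCat {U : Over S} (x : overCat U ⥤ᵇ 𝒳) :
    Set.range (AlgSt.Points.map x) = Set.range (AlgSt.Points.ofChart x) := by
  ext P
  constructor
  · rintro ⟨Q, rfl⟩
    exact ⟨ptMap Q, by rw [ofChart_eq_map, ofChart_id_ptMap]⟩
  · rintro ⟨t, rfl⟩
    exact ⟨_, (ofChart_eq_map x t).symm⟩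

theorem ofChart_overMap {U V : Over S} (x : overCat U ⥤ᵇ 𝒳) (h : V ⟶ U) (t : ↥V.left) :
    AlgSt.Points.ofChart (BasedFunctor.comp (AlgSt.overMap h) x) t =
      AlgSt.Points.ofChart x (h.left t) := by
  rw [← map_ofChart (AlgSt.overMap h) x t, ofChart_eq_map x (h.left t)]
  congr 1
  rw [← ofChart_id_ptMap (AlgSt.Points.ofChart (AlgSt.overMap h) t)]
  congr 1
  refine (ptOf_eq _ (IsLocalRing.closedPoint (V.left.residueField t))).trans ?_
  exact congrArg h.left (Scheme.fromSpecResidueField_apply _ _)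

variable {𝒳 : AlgSt.Cat S}

/-- Every point comes from a chart defined on the spectrum of a field. -/
theorem exists_field_chart (h𝒳 : IsFibGrpd 𝒳.p) (P : AlgSt.Points 𝒳) :
    ∃ (T : Over S) (_ : Subsingleton ↥T.left) (t : ↥T.left) (y : overCat T ⥤ᵇ 𝒳),
      AlgSt.Points.ofChart y t = P := by
  obtain ⟨p, rfl⟩ := AlgSt.Points.mk_surjective P
  obtain ⟨y, i, hi⟩ := exists_overFunctor h𝒳 p.obj p.lies
  let q : AlgSt.FPt (overCat (Over.mk p.str)) := ⟨p.K, p.str, Over.mk (𝟙 _), rfl⟩
  refine ⟨Over.mk p.str, (by change Subsingleton (PrimeSpectrum p.K); infer_instance), ptOf q, y, ?_⟩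
  rw [ofChart_eq_map, ofChart_id_ptOf]
  exact AlgSt.Points.sound ⟨q.map y, 𝟙 _, i.hom, trivial⟩

/-- A representable surjective chart is surjective on points. -/
theorem ofChart_surjective (h𝒳 : IsFibGrpd 𝒳.p) {U : Over S} {x : overCat U ⥤ᵇ 𝒳}
    (hx : AlgSt.RepByAlgSpWith AlgSp.IsSurjectiveMor x) :
    Function.Surjective (AlgSt.Points.ofChart x) := by
  intro P
  obtain ⟨T, hT, t, y, rfl⟩ := exists_field_chart h𝒳 P
  obtain ⟨W, w, -, hws⟩ := atlasProp_smooth.atlas (repByAlgSp1_of_with hx T y)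
  have hM : IsFibGrpd (fp y x).p := isFibGrpd_fp (isFibGrpd_overCat T) (isFibGrpd_overCat U) h𝒳 y x
  obtain ⟨a, ⟨ia⟩⟩ := exists_iso_overMap (BasedFunctor.comp w (fpFst y x))
  obtain ⟨b, ⟨ib⟩⟩ := exists_iso_overMap (BasedFunctor.comp w (fpSnd y x))
  have := surjective_of_overMap (repByAlgSpWith_of_iso _ ia (repByAlgSpWith_comp good_surjective.bc
    good_surjective.comp good_surjective.det (isFibGrpd_overCat W) hM hws
    (repByAlgSpWith_fpFst _ y hx)))
  obtain ⟨z, hz⟩ := this.surj t
  refine ⟨b.left z, ?_⟩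
  rw [← hz, ← ofChart_overMap x b z, ← ofChart_overMap y a z]
  exact congrFun (ofChart_congr (isoWhiskerRight ib.symm x ≪≫ isoWhiskerLeft w (fpIso y x).symm ≪≫
    isoWhiskerRight ia y)) z

end Groth.Agent.StFib
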