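import Groth.Agent.StFib.QCLift
import Groth.Agent.StFib.DiagLft
import Groth.Agent.StFib.ProdMap
import Groth.Agent.StFib.QC2
import Groth.Agent.StFib.WellNighAffine
import Groth.Agent.StFib.PointsChart
import Groth.Agent.AlgSp.NormQf

/-!
# Quasi-compactness of the diagonal from the isomorphism spaces
-/

set_option backward.isDefEq.respectTransparency false
set_option backward.isDefEq.respectTransparency.types false
set_option linter.unusedVariables false

universe u

open CategoryTheory CategoryTheory.Limits AlgebraicGeometry Opposite FibCat TopologicalSpace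

namespace Groth.Agent.StFib

variable {S : Scheme.{u}} {𝒳 𝒴 : AlgSt.Cat S}

local notation "K" => Scheme.fppfPrecoverage

/-- A point of a stack is the point of a map from the spectrum of a field. -/
theorem exists_spec_field_chart (h𝒳 : IsFibGrpd 𝒳.p) (P : AlgSt.Points 𝒳) :
    ∃ (L : Type u) (_ : Field L) (s : Spec (CommRingCat.of L) ⟶ S) (t : ↥(Spec (CommRingCat.of L)))
      (y : overCat (Over.mk s) ⥤ᵇ 𝒳), AlgSt.Points.ofChart y t = P := by
  obtain ⟨p, rfl⟩ := AlgSt.Points.mk_surjective P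
  obtain ⟨y, i, hi⟩ := exists_overFunctor h𝒳 p.obj p.lies
  let q : AlgSt.FPt (overCat (Over.mk p.str)) := ⟨p.K, p.str, Over.mk (𝟙 _), rfl⟩
  refine ⟨p.K, inferInstance, p.str, ptOf q, y, ?_⟩
  rw [ofChart_eq_map, ofChart_id_ptOf]
  exact AlgSt.Points.sound ⟨q.map y, 𝟙 _, i.hom, trivial⟩

/-- Noetherian induction for compactness of preimages. -/
theorem isCompact_preimage_of_integral {X : Scheme.{u}} [IsAffine X] [IsLocallyNoetherian X]
    {P : Type*} [TopologicalSpace P] (π : P → ↥X)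
    (H : ∀ (A : CommRingCat.{u}) [IsDomain A] (t : Spec A ⟶ X), IsClosedImmersion t →
      Dense (t ⁻¹' Set.range π) →
        ∃ U : (Spec A).Opens, (U : Set ↥(Spec A)).Nonempty ∧ IsCompact (π ⁻¹' (t '' U))) :
    CompactSpace P := by
  have : IsNoetherianRing Γ(X, ⊤) :=
    IsLocallyNoetherian.component_noetherian ⟨⊤, isAffineOpen_top X⟩
  have : NoetherianSpace X := noetherianSpace_of_isAffine
  suffices ∀ Z : Closeds X, IsCompact (π ⁻¹' (Z : Set X)) from isCompact_univ_iff.1 (by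
    simpa using this ⊤)
  intro Z
  apply wellFounded_lt.induction Z; clear Z
  intro Z IH
  by_cases hne : (Z : Set X).Nonempty
  swap
  · rw [Set.not_nonempty_iff_eq_empty.1 hne]; simp
  by_cases hirr : IsPreirreducible (Z : Set X)
  swap
  · simp only [isPreirreducible_iff_isClosed_union_isClosed, not_forall, not_or] at hirr
    obtain ⟨z₁, z₂, hz₁, hz₂, hsub, hn₁, hn₂⟩ := hirr
    lift z₁ to Closeds X using hz₁
    lift z₂ to Closeds X using hz₂
    have h1 := IH (Z ⊓ z₁) (inf_lt_left.2 hn₁)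
    have h2 := IH (Z ⊓ z₂) (inf_lt_left.2 hn₂)
    convert h1.union h2 using 1
    rw [Closeds.coe_inf, Closeds.coe_inf, ← Set.preimage_union, ← Set.inter_union_distrib_left,
      Set.inter_eq_left.2 hsub]
  by_cases hdense : (Z : Set X) ⊆ closure (Set.range π ∩ (Z : Set X))
  swap
  · let Z' : Closeds X := ⟨closure (Set.range π ∩ (Z : Set X)), isClosed_closure⟩
    have hle : Z' ≤ Z := closure_minimal Set.inter_subset_right Z.isClosed
    have hlt : Z' < Z := lt_of_le_not_ge hle hdense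
    convert IH Z' hlt using 1
    exact Set.Subset.antisymm (fun y hy => subset_closure ⟨⟨y, rfl⟩, hy⟩) (Set.preimage_mono hle)
  let I := Scheme.IdealSheafData.vanishingIdeal Z
  have hr : Set.range I.subschemeι = (Z : Set X) := Groth.Agent.RedSub.range_vanishingIdeal_subschemeι Z
  have : IrreducibleSpace I.subscheme := by
    have hi : IsPreirreducible (Set.univ : Set I.subscheme) := by
      intro u v hu hv hune hvne
      obtain ⟨u', hu', rfl⟩ := I.subschemeι.isClosedEmbedding.toIsInducing.isOpen_iff.1 hu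
      obtain ⟨v', hv', rfl⟩ := I.subschemeι.isClosedEmbedding.toIsInducing.isOpen_iff.1 hv
      obtain ⟨x, -, hx⟩ := hune
      obtain ⟨x', -, hx'⟩ := hvne
      obtain ⟨z, hz, hzu, hzv⟩ := hirr u' v' hu' hv' ⟨_, hr.le ⟨x, rfl⟩, hx⟩ ⟨_, hr.le ⟨x', rfl⟩, hx'⟩
      obtain ⟨w, rfl⟩ := hr.ge hz
      exact ⟨w, trivial, hzu, hzv⟩
    have hn : Nonempty I.subscheme := by
      obtain ⟨z, hz⟩ := hne
      obtain ⟨w, -⟩ := hr.ge hz
      exact ⟨w⟩
    exact { isPreirreducible_univ := hi, toNonempty := hn }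
  have : IsIntegral I.subscheme := isIntegral_of_irreducibleSpace_of_isReduced _
  have : IsAffine I.subscheme := isAffine_of_isAffineHom I.subschemeι
  let A := Γ(I.subscheme, ⊤)
  let t : Spec A ⟶ X := I.subscheme.isoSpec.inv ≫ I.subschemeι
  have htr : Set.range t = (Z : Set X) := by
    rw [← hr]
    ext x
    exact ⟨fun ⟨w, hw⟩ => ⟨_, hw⟩, fun ⟨w, hw⟩ => ⟨I.subscheme.isoSpec.hom w, by
      rw [← Scheme.Hom.comp_apply, Iso.hom_inv_id_assoc]; exact hw⟩⟩
  have htcl : Topology.IsClosedEmbedding t := t.isClosedEmbedding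
  obtain ⟨U, hU, hUc⟩ := H A t inferInstance (fun p => by
    rw [htcl.toIsEmbedding.toIsInducing.closure_eq_preimage_closure_image]
    refine closure_mono ?_ (hdense (htr.le ⟨p, rfl⟩))
    rintro x ⟨hx, hxZ⟩
    obtain ⟨w, rfl⟩ := htr.ge hxZ
    exact ⟨w, hx, rfl⟩)
  let W : Closeds X := ⟨t '' (U : Set (Spec A))ᶜ, htcl.isClosedMap _ U.isOpen.isClosed_compl⟩
  have hW : W < Z := by
    refine lt_of_le_not_ge (fun x hx => ?_) fun hge => ?_
    · obtain ⟨p, -, rfl⟩ := hx
      exact htr.le ⟨p, rfl⟩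
    · obtain ⟨p, hp⟩ := hU
      obtain ⟨q, hq, hqp⟩ := hge (htr.le ⟨p, rfl⟩)
      exact hq (htcl.injective hqp ▸ hp)
  convert hUc.union (IH W hW) using 1
  change π ⁻¹' (Z : Set X) = π ⁻¹' (t '' (U : Set (Spec A))) ∪ π ⁻¹' (t '' (U : Set (Spec A))ᶜ)
  rw [← Set.preimage_union, ← Set.image_union, Set.union_compl_self, Set.image_univ, htr]

/-- The isomorphism space of two objects over a Noetherian affine scheme is quasi-compact. -/
theorem isQuasiCompact_isom (h𝒳 : AlgSt.IsAlgStack K 𝒳)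
    (hi : ∀ (U : Over S), IsAffine U.left → ∀ (x : FibCat.overCat U ⥤ᵇ 𝒳),
      ∃ (F : AlgSp.Space S) (e : AlgSt.ofSp F.obj ⥤ᵇ FibCat.fp (FibCat.fpLift x x (Iso.refl _)) (FibCat.diag (FibCat.toSelf 𝒳))),
        FibCat.IsEquivOver e ∧
          AlgSp.IsQuasiCompactMor (AlgSt.spMapOfOver (BasedFunctor.comp e (FibCat.fpFst _ _))))
    (hii : ∀ (U : Over S), IsAffine U.left → IsIntegral U.left → ∀ (x y : FibCat.overCat U ⥤ᵇ 𝒳)
      (D : Set ↥U.left), Dense D →
      (∀ t ∈ D, ∃ (L : Type u) (_ : Field L) (g : Spec (CommRingCat.of L) ⟶ U.left), Set.range g.base = {t} ∧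
        Nonempty (BasedFunctor.comp (AlgSt.overMap (Over.homMk g rfl : Over.mk (g ≫ U.hom) ⟶ U)) x ≅
          BasedFunctor.comp (AlgSt.overMap (Over.homMk g rfl : Over.mk (g ≫ U.hom) ⟶ U)) y)) →
      ∃ V : U.left.Opens, Dense (V : Set ↥U.left) ∧
        Nonempty (BasedFunctor.comp (AlgSt.overMap (Over.homMk V.ι rfl : Over.mk (V.ι ≫ U.hom) ⟶ U)) x ≅
          BasedFunctor.comp (AlgSt.overMap (Over.homMk V.ι rfl : Over.mk (V.ι ≫ U.hom) ⟶ U)) y))
    (T : Over S) [IsAffine T.left] [IsLocallyNoetherian T.left]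
    (w : overCat T ⥤ᵇ fp (toSelf 𝒳) (toSelf 𝒳)) :
    AlgSt.IsQuasiCompact (fp w (diag (toSelf 𝒳))) := by
  have hprod := isAlgStack_prod h𝒳 h𝒳
  have hM : AlgSt.IsAlgStack K (fp w (diag (toSelf 𝒳))) :=
    isAlgStack_fp hprod.isStack hprod.diag (isAlgStack_overCat T) h𝒳 _ _
  let t𝒳 := toSelf 𝒳
  let x₁ := BasedFunctor.comp w (fpFst t𝒳 t𝒳)
  let x₂ := BasedFunctor.comp w (fpSnd t𝒳 t𝒳)
  let π : AlgSt.Points (fp w (diag t𝒳)) → ↥T.left :=
    fun P => ptMap (AlgSt.Points.map (fpFst w (diag t𝒳)) P)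
  refine (isQuasiCompact_iff_compactSpace hM).2 (isCompact_preimage_of_integral π ?_)
  intro A hA t htc hD
  let A' : Over S := Over.mk (t ≫ T.hom)
  let τ : A' ⟶ T := Over.homMk t rfl
  obtain ⟨V, hV, ⟨γ⟩⟩ := hii A' (inferInstanceAs (IsAffine (Spec A))) (inferInstanceAs (IsIntegral (Spec A)))
    (BasedFunctor.comp (AlgSt.overMap τ) x₁) (BasedFunctor.comp (AlgSt.overMap τ) x₂)
    (t ⁻¹' Set.range π) hD fun p hp => by
      obtain ⟨P, hP⟩ := hp
      obtain ⟨L, hL, s, t0, m, rfl⟩ := exists_spec_field_chart hM.isStack.1 P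
      obtain ⟨c, ⟨ic⟩⟩ := exists_iso_overMap (BasedFunctor.comp m (fpFst w (diag t𝒳)))
      have hc0 : c.left t0 = t p := by
        rw [← hP]
        change _ = ptMap (AlgSt.Points.map _ (AlgSt.Points.ofChart m t0))
        rw [map_ofChart, ofChart_congr ic]
        exact ((ptMap_ofChart_id _).symm.trans (congrArg ptMap
          (ofChart_overMap (BasedFunctor.id _) c t0).symm))
      have : Subsingleton ↥(Spec (CommRingCat.of L)) := inferInstanceAs (Subsingleton (PrimeSpectrum L))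
      let cL : Spec (CommRingCat.of L) ⟶ T.left := c.left
      let q := pullback.fst cL t
      have : Surjective q := ⟨by
        rw [← Set.range_eq_univ, Scheme.Pullback.range_fst]
        refine Set.eq_univ_of_forall fun a => ⟨p, ?_⟩
        rw [Subsingleton.elim a t0]
        exact hc0.symm⟩
      have : IsIso q := isIso_of_isClosedImmersion_of_surjective q
      let g : Spec (CommRingCat.of L) ⟶ Spec A := inv q ≫ pullback.snd cL t
      have hg : g ≫ t = cL := by
        rw [Category.assoc, ← pullback.condition, IsIso.inv_hom_id_assoc]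
      have hgp : ∀ a, g a = p := fun a => t.isClosedEmbedding.injective (by
        change (g ≫ t) a = t p
        rw [hg, Subsingleton.elim a t0]
        exact hc0)
      refine ⟨L, hL, g, ?_, ?_⟩
      · refine Set.Subset.antisymm ?_ ?_
        · rintro _ ⟨a, rfl⟩
          exact hgp a
        · rintro _ rfl
          exact ⟨t0, hgp t0⟩
      · let g' : Over.mk (g ≫ A'.hom) ⟶ A' := Over.homMk g rfl
        let s' : Over.mk (g ≫ A'.hom) ⟶ Over.mk s := Over.homMk (𝟙 _) (by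
          change 𝟙 _ ≫ s = g ≫ (t ≫ T.hom)
          rw [← Category.assoc g t, hg, Category.id_comp]
          exact (Over.w c).symm)
        have hs : s' ≫ c = g' ≫ τ := Over.OverMorphism.ext ((Category.id_comp _).trans hg.symm)
        let m' := BasedFunctor.comp (AlgSt.overMap s') m
        have ia : BasedFunctor.comp m' (BasedFunctor.comp (fpSnd w (diag t𝒳)) (diag t𝒳)) ≅
            BasedFunctor.comp (BasedFunctor.comp (AlgSt.overMap g') (AlgSt.overMap τ)) w :=
          isoWhiskerLeft m' (fpIso w (diag t𝒳)).symm ≪≫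
            isoWhiskerRight (isoWhiskerLeft (AlgSt.overMap s') ic ≪≫ (overMapCompIso s' c).symm ≪≫
              eqToIso (congrArg AlgSt.overMap hs) ≪≫ overMapCompIso g' τ) w
        exact ⟨(isoWhiskerRight ia (fpFst t𝒳 t𝒳)).symm ≪≫ isoWhiskerRight ia (fpSnd t𝒳 t𝒳)⟩
  have : Nonempty ↥A'.left := inferInstanceAs (Nonempty (PrimeSpectrum A))
  obtain ⟨p, hp⟩ := hV.nonempty
  obtain ⟨O, hO, hpO, hOV⟩ := exists_isAffineOpen_mem_and_subset hp
  have : IsAffine O.toScheme := hO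
  let U0 : Over S := Over.mk (O.ι ≫ A'.hom)
  let o : U0 ⟶ A' := Over.homMk O.ι rfl
  let o' : U0 ⟶ Over.mk (V.ι ≫ A'.hom) := Over.homMk (A'.left.homOfLE (show O ≤ V from hOV)) (by
    change A'.left.homOfLE (show O ≤ V from hOV) ≫ V.ι ≫ A'.hom = O.ι ≫ A'.hom
    rw [Scheme.homOfLE_ι_assoc])
  let ov : Over.mk (V.ι ≫ A'.hom) ⟶ A' := Over.homMk V.ι rfl
  have ho : o' ≫ ov = o := Over.OverMorphism.ext (A'.left.homOfLE_ι (show O ≤ V from hOV))
  let j : U0 ⟶ T := o ≫ τ
  have hj : o' ≫ (ov ≫ τ) = j := by rw [← Category.assoc, ho]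
  let io : AlgSt.overMap j ≅ BasedFunctor.comp (AlgSt.overMap o')
      (BasedFunctor.comp (AlgSt.overMap ov) (AlgSt.overMap τ)) :=
    eqToIso (congrArg AlgSt.overMap hj.symm) ≪≫ overMapCompIso o' (ov ≫ τ) ≪≫
      isoWhiskerLeft (AlgSt.overMap o') (overMapCompIso ov τ)
  let x := BasedFunctor.comp (AlgSt.overMap j) x₁
  let γ0 : x ≅ BasedFunctor.comp (AlgSt.overMap j) x₂ :=
    isoWhiskerRight io x₁ ≪≫ isoWhiskerLeft (AlgSt.overMap o') γ ≪≫ isoWhiskerRight io.symm x₂
  obtain ⟨F, e, he, hq⟩ := hi U0 hO x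
  have : IsAffine U0.left := hO
  have hFc : AlgSp.IsQuasiCompactSp F.obj := hq (isAlgSpace_yon U0)
    (Groth.Agent.AlgSp.isQuasiCompactSp_yon U0) (𝟙 _) (𝟙 _) _ (IsPullback.of_horiz_isIso ⟨(Category.id_comp _).trans (Category.comp_id _).symm⟩)
  have hqc : AlgSt.IsQuasiCompact (fp (fpLift x x (Iso.refl _)) (diag t𝒳)) :=
    isQuasiCompact_of_equiv he ((isQuasiCompact_ofSp_iff F.property).2 hFc)
  obtain ⟨iw⟩ := exists_iso_of_fp_selfOver (F := BasedFunctor.comp (AlgSt.overMap j) w)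
    (G := fpLift x x (Iso.refl _)) (Iso.refl x) γ0.symm
  obtain ⟨E₁, hE₁, -, -⟩ := exists_fp_congr (F' := BasedFunctor.comp (AlgSt.overMap j) w) (G' := diag t𝒳)
    iw (Iso.refl _)
  obtain ⟨E₂, hE₂, -, -⟩ := isEquivOver_symm (fpPaste_isEquivOver w (diag t𝒳) (AlgSt.overMap j))
  have hN : AlgSt.IsAlgStack K (fp (AlgSt.overMap j) (fpFst w (diag t𝒳))) :=
    isAlgStack_fp (isAlgStack_overCat T).isStack (isAlgStack_overCat T).diag (isAlgStack_overCat U0) hM _ _
  have hNc : CompactSpace (AlgSt.Points (fp (AlgSt.overMap j) (fpFst w (diag t𝒳)))) :=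
    (isQuasiCompact_iff_compactSpace hN).1 (isQuasiCompact_of_equiv (isEquivOver_comp hE₁ hE₂) hqc)
  refine ⟨O, ⟨p, hpO⟩, ?_⟩
  convert isCompact_range (continuous_points_map hM (fpSnd (AlgSt.overMap j) (fpFst w (diag t𝒳)))) using 1
  ext P
  constructor
  · rintro ⟨a, ha, hat⟩
    let a0 : ↥U0.left := (⟨a, ha⟩ : O.toScheme)
    obtain ⟨R, -, hR⟩ := exists_points_fp_of_map_eq hM.isStack.1 (isFibGrpd_overCat U0)
      (isFibGrpd_overCat T) (fpFst w (diag t𝒳)) (AlgSt.overMap j)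
      (AlgSt.Points.ofChart (BasedFunctor.id (overCat U0)) a0) P (by
        rw [← ofChart_eq_map, ← ofChart_id_ptMap (AlgSt.Points.map (fpFst w (diag t𝒳)) P)]
        refine (ofChart_overMap (BasedFunctor.id _) j a0).trans ?_
        exact congrArg _ hat)
    exact ⟨R, hR⟩
  · rintro ⟨R, rfl⟩
    refine ⟨O.ι (ptMap (AlgSt.Points.map (fpFst (AlgSt.overMap j) (fpFst w (diag t𝒳))) R)), ?_, ?_⟩
    · exact (ptMap (AlgSt.Points.map (fpFst (AlgSt.overMap j) (fpFst w (diag t𝒳))) R)).2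
    · change j.left _ = ptMap (AlgSt.Points.map (fpFst w (diag t𝒳)) _)
      rw [← Function.comp_apply (f := AlgSt.Points.map (fpFst w (diag t𝒳))), ← points_map_comp,
        ← points_map_congr (fpIso (AlgSt.overMap j) (fpFst w (diag t𝒳))), points_map_comp,
        Function.comp_apply]
      conv_rhs => rw [← ofChart_id_ptMap (AlgSt.Points.map (fpFst (AlgSt.overMap j) _) R), ← ofChart_eq_map]
      exact ((ptMap_ofChart_id _).symm.trans (congrArg ptMap
        (ofChart_overMap (BasedFunctor.id _) j _).symm))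

/-- A property local on the base can be tested on an open cover of a scheme target. -/
theorem repByAlgSpWith_overCat_local {P : MorphismProperty (AlgSp.Sp S)} (hPb : StableBC P)
    (hP : AlgSp.IsLocalOnBase AlgSp.IsFppfCover P) {W : Over S} {f : 𝒳 ⥤ᵇ overCat W}
    (hf : AlgSt.RepByAlgSp1 f) {ι : Type*} (O : ι → W.left.Opens) (hO : ∀ w, ∃ i, w ∈ O i)
    (h : ∀ i, AlgSt.RepByAlgSpWith P
      (fpFst (AlgSt.overMap (Over.homMk (O i).ι rfl : Over.mk ((O i).ι ≫ W.hom) ⟶ W)) f)) :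
    AlgSt.RepByAlgSpWith P f := by
  intro U y
  obtain ⟨A, e, he⟩ := hf U y
  refine ⟨A, e, he, ?_⟩
  obtain ⟨c, ⟨ic⟩⟩ := exists_iso_overMap y
  choose i hi using hO
  have hdet := detected_of_isLocalOnBase hP
  let B : ↥U.left → U.left.Opens := fun x => c.left ⁻¹ᵁ O (i (c.left x))
  let V : ↥U.left → Over S := fun x => Over.mk ((B x).ι ≫ U.hom)
  let l : ∀ x, V x ⟶ U := fun x => Over.homMk (B x).ι rfl
  refine (hP (fun x => (AlgSp.yon S).obj (V x)) (fun x => (AlgSp.yon S).map (l x)) (isAlgSpace_yon U)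
    (fun x => isAlgSpace_yon _) ⟨fun x => ⟨?_, ?_⟩, fun t => ?_⟩ _ A.property
    (fun x => pullback _ ((AlgSp.yon S).map (l x)))
    (fun x => pullback.snd _ _) (fun x => pullback.fst _ _)
    (fun x => Groth.Agent.AlgSp.isAlgSpace_pullback (isAlgSpace_yon U) A.property (isAlgSpace_yon _) _ _)
    (fun x => IsPullback.of_hasPullback _ _)).2 fun x => ?_
  · exact Groth.Agent.AlgSpCov.locP_of_repWith Groth.Agent.AlgSpCov.etaleLocal_flat
      ((AlgSp.repWith_yon_map_iff _ _).2 (inferInstanceAs (Flat (B x).ι)))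
  · exact Groth.Agent.AlgSpCov.locP_of_repWith
      Groth.Agent.AlgSpCov.etaleLocal_locallyOfFinitePresentation
      ((AlgSp.repWith_yon_map_iff _ _).2 (inferInstanceAs (LocallyOfFinitePresentation (B x).ι)))
  · obtain ⟨x, rfl⟩ := (AlgSp.Points.schemeHomeo U).surjective t
    exact ⟨x, AlgSp.Points.schemeHomeo (V x) (⟨x, hi (c.left x)⟩ : (B x).toScheme), by
      rw [AlgSp.Points.map_yon_map_apply]
      rfl⟩
  · let z : V x ⟶ Over.mk ((O (i (c.left x))).ι ≫ W.hom) := Over.homMk (c.left ∣_ O (i (c.left x))) (by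
      change (c.left ∣_ O (i (c.left x))) ≫ (O (i (c.left x))).ι ≫ W.hom = (B x).ι ≫ U.hom
      rw [← Category.assoc, morphismRestrict_ι, Category.assoc, Over.w c])
    have hz : z ≫ (Over.homMk (O (i (c.left x))).ι rfl : Over.mk ((O (i (c.left x))).ι ≫ W.hom) ⟶ W) =
        l x ≫ c := Over.OverMorphism.ext (morphismRestrict_ι _ _)
    exact mem_pullback_of_lift hPb hdet (h (i (c.left x))) A e he (l x) (AlgSt.overMap z)
      ((overMapCompIso _ _).symm ≪≫ eqToIso (congrArg AlgSt.overMap hz) ≪≫ overMapCompIso (l x) c ≪≫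
        isoWhiskerLeft (AlgSt.overMap (l x)) ic.symm)

theorem isQuasiSeparatedOver_overCat_affine (T : Over S) [IsAffine T.left] :
    AlgSt.IsQuasiSeparatedOver (overCat T) := by
  have h := rep_separated_toSelf_overCat T inferInstance
  exact (isQuasiSeparatedMor_iff_of_rep (repByAlgSp1_of_with h)).2
    (repByAlgSpWith_mono h fun F U a ha => Groth.Agent.AlgSp.isQuasiSeparatedMor_of_sep ha)

theorem diag_isQuasiCompactMor_of_isom [IsLocallyNoetherian S] (h𝒳 : AlgSt.IsAlgStack K 𝒳)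
    (hlfp : ∀ (U : Over S) (x : FibCat.overCat U ⥤ᵇ 𝒳),
      AlgSt.RepByAlgSpWith (AlgSp.LocP @Smooth) x → LocallyOfFinitePresentation U.hom)
    (hqc : ∀ (T : Over S) [IsAffine T.left] [IsLocallyNoetherian T.left]
      (w : overCat T ⥤ᵇ fp (toSelf 𝒳) (toSelf 𝒳)), AlgSt.IsQuasiCompact (fp w (diag (toSelf 𝒳)))) :
    AlgSt.RepByAlgSpWith AlgSp.IsQuasiCompactMor (diag (toSelf 𝒳)) := by
  obtain ⟨V, v, hv, hvs⟩ := h𝒳.atlas
  have : LocallyOfFinitePresentation V.hom := hlfp V v hv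
  have : IsLocallyNoetherian V.left := LocallyOfFiniteType.isLocallyNoetherian V.hom
  let W : Over S := V ⨯ V
  have : IsLocallyNoetherian W.left := by
    have hsq := (IsPullback.of_hasPullback V.hom V.hom)
    have : IsLocallyNoetherian (pullback V.hom V.hom) :=
      LocallyOfFiniteType.isLocallyNoetherian (pullback.fst V.hom V.hom)
    exact isLocallyNoetherian_of_isOpenImmersion (Over.prodLeftIsoPullback V V).hom
  obtain ⟨a⟩ := exists_iso_toSelf (BasedFunctor.comp (BasedFunctor.comp (AlgSt.overMap (prod.fst : W ⟶ V)) v) (toSelf 𝒳))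
  obtain ⟨b⟩ := exists_iso_toSelf (BasedFunctor.comp (BasedFunctor.comp (AlgSt.overMap (prod.snd : W ⟶ V)) v) (toSelf 𝒳))
  let z : overCat W ⥤ᵇ fp (toSelf 𝒳) (toSelf 𝒳) :=
    fpLift (BasedFunctor.comp (AlgSt.overMap (prod.fst : W ⟶ V)) v)
      (BasedFunctor.comp (AlgSt.overMap (prod.snd : W ⟶ V)) v) (a ≪≫ b.symm)
  have hprod := isAlgStack_prod h𝒳 h𝒳
  have hloc := fppfLocal_of_fpqc (Groth.Agent.S10519.result S)
  refine repByAlgSpWith_of_locally_lift good_quasiCompact.bc hloc h𝒳.diag (g := z) (fun U y => ?_) ?_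
  · obtain ⟨R₁, hR₁, h₁⟩ := exists_locally_lift (isFibGrpd_overCat V) h𝒳.isStack.1
      (repByAlgSpWith_flat_of_smooth hv) (repByAlgSpWith_lfp_of_smooth hv) hvs U
      (BasedFunctor.comp y (fpFst _ _))
    obtain ⟨R₂, hR₂, h₂⟩ := exists_locally_lift (isFibGrpd_overCat V) h𝒳.isStack.1
      (repByAlgSpWith_flat_of_smooth hv) (repByAlgSpWith_lfp_of_smooth hv) hvs U
      (BasedFunctor.comp y (fpSnd _ _))
    refine ⟨R₁ ⊓ R₂, GrothendieckTopology.intersection_covering _ hR₁ hR₂, fun U' h hh => ?_⟩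
    obtain ⟨t₁, ⟨i₁⟩⟩ := h₁ h hh.1
    obtain ⟨t₂, ⟨i₂⟩⟩ := h₂ h hh.2
    obtain ⟨c₁, ⟨j₁⟩⟩ := exists_iso_overMap t₁
    obtain ⟨c₂, ⟨j₂⟩⟩ := exists_iso_overMap t₂
    refine ⟨AlgSt.overMap (prod.lift c₁ c₂), exists_iso_of_fp_selfOver ?_ ?_⟩
    · exact isoWhiskerRight ((overMapCompIso (prod.lift c₁ c₂) prod.fst).symm ≪≫
        eqToIso (congrArg AlgSt.overMap (prod.lift_fst c₁ c₂)) ≪≫ j₁.symm) v ≪≫ i₁
    · exact isoWhiskerRight ((overMapCompIso (prod.lift c₁ c₂) prod.snd).symm ≪≫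
        eqToIso (congrArg AlgSt.overMap (prod.lift_snd c₁ c₂)) ≪≫ j₂.symm) v ≪≫ i₂
  · refine repByAlgSpWith_overCat_local good_quasiCompact.bc hloc
      (repByAlgSp1_of_with (repByAlgSpWith_fpFst ⊤ z (repByAlgSp1_iff_with_top.1 h𝒳.diag)))
      (fun O : W.left.affineOpens => O.1) (fun w => ?_) fun O => ?_
    · obtain ⟨O, hO, hw, -⟩ := exists_isAffineOpen_mem_and_subset (x := w) (U := ⊤) trivial
      exact ⟨⟨O, hO⟩, hw⟩
    · have : IsAffine O.1.toScheme := O.2
      let T : Over S := Over.mk (O.1.ι ≫ W.hom)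
      let o : T ⟶ W := Over.homMk O.1.ι rfl
      have : IsAffine T.left := O.2
      have : IsLocallyNoetherian T.left := isLocallyNoetherian_of_isOpenImmersion O.1.ι
      let w := BasedFunctor.comp (AlgSt.overMap o) z
      have hM : AlgSt.IsAlgStack K (fp w (diag (toSelf 𝒳))) :=
        isAlgStack_fp hprod.isStack hprod.diag (isAlgStack_overCat T) h𝒳 _ _
      have hTs : AlgSt.IsQuasiSeparatedOver (overCat T) := isQuasiSeparatedOver_overCat_affine T
      refine (repByAlgSpWith_iff_of_equiv _ _ (BasedFunctor.id _)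
        (fpPaste_isEquivOver z (diag (toSelf 𝒳)) (AlgSt.overMap o)) (isEquivOver_id _)
        (f := fpFst w (diag (toSelf 𝒳))) (f' := fpFst (AlgSt.overMap o) (fpFst z (diag (toSelf 𝒳))))
        (Iso.refl _)).1 ?_
      exact repByAlgSpWith_of_isQuasiCompactMor hM (isAlgStack_overCat T)
        (repByAlgSp1_of_with (repByAlgSpWith_fpFst ⊤ w (repByAlgSp1_iff_with_top.1 h𝒳.diag)))
        (isQuasiCompactMor_of_qc_of_qs hM (isAlgStack_overCat T) _ (hqc T w) hTs)

end Groth.Agent.StFib
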