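import Groth.Agent.StFib.DiagOpen
import Groth.Agent.StFib.DiagCover
import Groth.Agent.StFib.Inertia
import Groth.Agent.StFib.UnivInj
import Groth.Agent.S10543

/-!
# Morphisms with unramified diagonal and no automorphisms are representable
-/

set_option linter.unusedVariables false
set_option backward.isDefEq.respectTransparency false
set_option backward.isDefEq.respectTransparency.types false

universe u

open CategoryTheory CategoryTheory.Limits AlgebraicGeometry Opposite FibCat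

namespace Groth.Agent.StFib

variable {S : Scheme.{u}} {𝒳 𝒴 : AlgSt.Cat S}

local notation "K" => Scheme.fppfPrecoverage

theorem isDMOver_of_etale_atlas {K' : Precoverage Scheme.{u}} (h : AlgSt.IsAlgStack K' 𝒳) (hat : AlgSt.HasAtlas AlgSp.IsEtaleMor 𝒳) :
    AlgSt.IsDMOver 𝒳 := by
  obtain ⟨U, x, hx, hxs⟩ := hat
  have step : ∀ {R : MorphismProperty Scheme.{u}}, Groth.Agent.AlgSpCov.Standard R →
      AlgSt.RepByAlgSpWith (AlgSp.LocP R) x := fun hR =>
    repByAlgSpWith_mono hx fun F T m hm A B a b k ha hb e =>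
      hR.of_etale _ (Groth.Agent.AlgSpCov.locP_etale_of_isEtaleMor hm a b k ha hb e)
  exact diag_toSelf_of_chart Groth.Agent.AlgSpCov.standard_unramified
    (fun A B C a k hh => ⟨have := hh.1; locallyOfFiniteType_of_comp a k,
      have := hh.2; FormallyUnramified.of_comp a k⟩)
    (fppfLocal_of_fpqc (Groth.Agent.S10543.result S)) h.isStack.1 h.diag (x := x)
    (step Groth.Agent.AlgSpCov.standard_flat) (step Groth.Agent.AlgSpCov.standard_locallyOfFinitePresentation)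
    hxs (step Groth.Agent.AlgSpCov.standard_unramified)

theorem isDMMor_of_isDMOver {K' : Precoverage Scheme.{u}} (h𝒴 : AlgSt.IsAlgStack K' 𝒴) (f : 𝒳 ⥤ᵇ 𝒴) (h : AlgSt.IsDMOver 𝒳) :
    AlgSt.IsDMMor f := by
  obtain ⟨i⟩ := exists_iso_toSelf (BasedFunctor.comp f (toSelf 𝒴))
  exact diag_of_comp_mem (Q := ⊤) good_unramified.bc (fun A B C _ _ hC a b _ hab =>
      locP_of_comp Groth.Agent.AlgSpCov.standard_unramified.etaleLocal
      (fun _ _ _ a k hh => ⟨have := hh.1; locallyOfFiniteType_of_comp a k,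
        have := hh.2; FormallyUnramified.of_comp a k⟩) hC a b hab)
    (repByAlgSp1_iff_with_top.1 h𝒴.diag)
    (repByAlgSpWith_diag_of_iso _ i.symm h)

theorem isOpenImm_diag_diag (f : 𝒳 ⥤ᵇ 𝒴) (h : AlgSt.IsDMMor f) : AlgSt.IsOpenImm (diag (diag f)) :=
  diag_of_rep_mem (good_repWith @IsOpenImmersion).bc (fun A U hA a ha => repWith_diagonal_openImm hA a ha) h

/-- A surjective open immersion is an equivalence. -/
theorem isEquivOver_of_openImm_surjective (h𝒳 : IsFibGrpd 𝒳.p) (h𝒴 : IsFibGrpd 𝒴.p) (f : 𝒳 ⥤ᵇ 𝒴)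
    (h : AlgSt.IsOpenImm f) (hs : AlgSt.RepByAlgSpWith AlgSp.IsSurjectiveMor f) : IsEquivOver f := by
  have hm : AlgSt.IsMono f := repByAlgSpWith_mono h fun F U m hm =>
    Groth.Agent.AlgSp.mono_of_repWith (fun g hg => have : IsOpenImmersion g := hg; inferInstance) m hm
  obtain ⟨_, _⟩ := fullyFaithful_of_isMono h𝒳 h𝒴 f hm
  refine isEquivOver_mk _ fun b => ?_
  obtain ⟨y, i, hi⟩ := exists_overFunctor h𝒴 b rfl
  obtain ⟨A, e, he, ha⟩ := repByAlgSpWith_inf h𝒳 h𝒴 (good_repWith @IsOpenImmersion) good_surjective h hs _ y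
  obtain ⟨ha₁, ha₂⟩ := ha
  obtain ⟨V, g, ι, hι, hg⟩ := exists_iso_yon_of_repWith @IsOpenImmersion ha₁
  have hgs : Surjective g.left := ⟨(Groth.Agent.AlgSp.surjective_map_iff_of_schemes g).1 (by
    intro p
    obtain ⟨q, hq⟩ := ha₂ p
    refine ⟨AlgSp.Points.map ι.inv q, ?_⟩
    rw [← AlgSp.Points.map_comp, ← hι, Iso.inv_hom_id_assoc]
    exact hq)⟩
  have : IsIso g.left := (isIso_iff_isOpenImmersion_and_surjective g.left).2 ⟨hg, hgs⟩
  have : IsIso ((Over.forget S).map g) := ‹IsIso g.left›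
  have : IsIso g := isIso_of_reflects_iso g (Over.forget S)
  have : IsIso (AlgSt.spMapOfOver (BasedFunctor.comp e (fpFst y f))) := by
    have e' := congrArg (ι.inv ≫ ·) hι
    simp only [Iso.inv_hom_id_assoc] at e'
    rw [e']
    infer_instance
  let a := AlgSt.spMapOfOver (BasedFunctor.comp e (fpFst y f))
  obtain ⟨j⟩ := exists_iso_ofSpMap_toOverCat (A := A.obj) (BasedFunctor.comp e (fpFst y f))
  let o : (AlgSt.ofSp A.obj).obj := ⟨𝒴.p.obj b, (inv a).hom.app (op (𝒴.p.obj b)) ⟨𝟙 _⟩⟩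
  let z := e.obj o
  let v := isoApp j o
  have hv : Vert v.hom := vert_isoApp j o
  have heq : (AlgSt.toOverCat (𝒴.p.obj b)).obj ((AlgSt.ofSpMap a).obj o) = Over.mk (𝟙 (𝒴.p.obj b)) := by
    have h1 : a.hom.app (op (𝒴.p.obj b)) o.sec = ⟨𝟙 _⟩ := by
      change ((inv a).hom.app _ ≫ a.hom.app _) _ = _
      rw [← NatTrans.comp_app]
      have : (inv a).hom ≫ a.hom = 𝟙 _ := congrArg (fun k => k.hom) (IsIso.inv_hom_id a)
      rw [this]
      rfl
    exact congrArg (fun t => Over.mk (ULift.down t)) h1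
  let w : z.obj.fst ≅ Over.mk (𝟙 (𝒴.p.obj b)) := v.symm ≪≫ eqToIso heq
  exact ⟨z.obj.snd, z.obj.iso.symm ≪≫ y.toFunctor.mapIso w ≪≫ i,
    (vert_fp_iso z).inv.comp (((hv.inv.comp (vert_eqToHom heq)).map y).comp hi)⟩

theorem repByAlgSp1_of_dm_of_surjective (h𝒳 : AlgSt.IsAlgStack K 𝒳) (h𝒴 : AlgSt.IsAlgStack K 𝒴) (f : 𝒳 ⥤ᵇ 𝒴)
    (h : AlgSt.IsDMMor f) (hs : AlgSt.IsSurjective (diag (diag f))) : AlgSt.RepByAlgSp1 f := by
  have hF := isAlgStack_fp h𝒴.isStack h𝒴.diag h𝒳 h𝒳 f f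
  have hFF := isAlgStack_fp hF.isStack hF.diag h𝒳 h𝒳 (diag f) (diag f)
  have ho := isOpenImm_diag_diag f h
  exact (repByAlgSp1_iff_diag_diag h𝒳 h𝒴 f).2 (isEquivOver_of_openImm_surjective h𝒳.isStack.1 hFF.isStack.1 _ ho
    ((isSurjective_iff_rep h𝒳 hFF (repByAlgSp1_of_with ho)).1 hs))

/-- A morphism with unramified diagonal which is injective on automorphisms of geometric points is representable. -/
theorem repByAlgSp1_of_dm_geomPt (h𝒳 : AlgSt.IsAlgStack K 𝒳) (h𝒴 : AlgSt.IsAlgStack K 𝒴) (f : 𝒳 ⥤ᵇ 𝒴)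
    (h : AlgSt.IsDMMor f)
    (H : ∀ (k : Type u) [Field k] [IsAlgClosed k] (s : Spec (CommRingCat.of k) ⟶ S) (a : 𝒳.obj)
      (_ : 𝒳.p.obj a = Over.mk s) (φ : a ⟶ a), Vert φ → f.map φ = 𝟙 (f.obj a) → φ = 𝟙 a) :
    AlgSt.RepByAlgSp1 f := by
  have hF := isAlgStack_fp h𝒴.isStack h𝒴.diag h𝒳 h𝒳 f f
  refine repByAlgSp1_of_dm_of_surjective h𝒳 h𝒴 f h ((isSurjective_diag_iff_algClosed h𝒳 hF (diag f)).2 ?_)
  intro k _ _ s a₁ a₂ e₁ e₂ β hβ
  have hv : Vert β := vert_of_isHomLift hβ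
  have := hv.isIso hF.isStack.1
  let u : a₁ ≅ a₂ := fpIsoFst (asIso β)
  let v : a₁ ≅ a₂ := fpIsoSnd (asIso β)
  have hu : Vert u.hom := vert_fp_iff.1 hv
  have hv' : Vert v.hom := vert_fp_snd hv
  have hw : f.map u.hom ≫ 𝟙 _ = 𝟙 _ ≫ f.map v.hom := β.hom.w
  have hw' : f.map u.hom = f.map v.hom := (Category.comp_id _).symm.trans (hw.trans (Category.id_comp _))
  have huv : u.hom ≫ v.inv = 𝟙 a₁ := H k s a₁ e₁ _ (hu.comp hv'.inv) (by
    rw [f.toFunctor.map_comp, hw', ← f.toFunctor.map_comp, Iso.hom_inv_id, f.toFunctor.map_id])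
  have huv' : u.hom = v.hom := by rw [← Category.comp_id u.hom, ← v.inv_hom_id, ← Category.assoc, huv, Category.id_comp]
  exact ⟨u.hom, hu.isHomLift e₁, fp_hom_ext rfl huv'⟩

end Groth.Agent.StFib
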