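import Groth.Agent.StFib.QuotDesc
import Groth.Agent.StFib.QuotTrivCart
import Groth.Agent.StFib.YonGlue
import Groth.Prelude.Def_StCoarse
import Groth.Prelude.Def_W4bk4git07Quot

/-!
# Categorical moduli spaces of quotient categories and categorical quotients
-/

set_option linter.unusedVariables false
set_option backward.isDefEq.respectTransparency false
set_option backward.isDefEq.respectTransparency.types false

universe u

open CategoryTheory CategoryTheory.Limits AlgebraicGeometry Opposite MonoidalCategory CartesianMonoidalCategory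
  MonObj GrpObj FibCat

namespace Groth.Agent.StFib.QuotTriv

variable {S : Scheme.{u}}

theorem eq_of_iso {𝒳 : BasedCategory.{u, u + 1} (Over S)} {P : (Over S)ᵒᵖ ⥤ Type (u + 1)}
    {F F' : 𝒳 ⥤ᵇ Stk.ofPsh P} (e : F ≅ F') : F = F' := by
  refine basedFunctor_ext F F' fun a => ?_
  obtain ⟨h, hv⟩ := vert_isoApp e a
  exact eltObj_ext h ((congrArg (fun k => P.map k.op (F'.obj a).sec) hv.symm).trans (isoApp e a).hom.map_sec)

theorem ofSpMap_inj {P Q : AlgSp.Sp S} {g g' : P ⟶ Q} (h : AlgSt.ofSpMap g = AlgSt.ofSpMap g') : g = g' := by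
  have := congrArg pshMap h
  rw [pshMap_ofPshMap, pshMap_ofPshMap] at this
  exact Sheaf.hom_ext this

theorem exists_yon_iso {N : AlgSp.Sp S} (h : N.obj.IsRepresentable) :
    ∃ Z : Over S, Nonempty ((AlgSp.yon S).obj Z ≅ N) := by
  obtain ⟨Z, ⟨r⟩⟩ := h.has_representation
  refine ⟨Z, ⟨(fullyFaithfulSheafToPresheaf _ _).preimageIso (NatIso.ofComponents (fun T =>
    Equiv.toIso (Equiv.ulift.trans r.homEquiv)) fun {T T'} k => ?_)⟩⟩
  ext t
  exact r.homEquiv_comp k.unop t.down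

theorem isRepresentable_yon (Z : Over S) : ((AlgSp.yon S).obj Z).obj.IsRepresentable :=
  Functor.RepresentableBy.isRepresentable (Y := Z)
    { homEquiv := Equiv.ulift.symm
      homEquiv_comp := fun _ _ => rfl }

variable {G X : Over S} [GrpObj G] {aX : AlgGrp.Action G X}

local notation "K" => Scheme.fppfPrecoverage

/-- The map on `X` of a functor out of the quotient category. -/
noncomputable def res {N : AlgSp.Sp S} (φ : AlgSt.QuotSt K G aX ⥤ᵇ AlgSt.ofSp N) :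
    (AlgSp.yon S).obj X ⟶ N :=
  ⟨pshMap (P := ((AlgSp.yon S).obj X).obj) (Q := N.obj) (BasedFunctor.comp (AlgSt.quotMap K G aX) φ)⟩

theorem comp_eq_ofSpMap_res {N : AlgSp.Sp S} (φ : AlgSt.QuotSt K G aX ⥤ᵇ AlgSt.ofSp N) :
    BasedFunctor.comp (AlgSt.quotMap K G aX) φ = AlgSt.ofSpMap (res φ) :=
  eq_of_iso (exists_iso_pshMap _).some

theorem res_inv {N : AlgSp.Sp S} (φ : AlgSt.QuotSt K G aX ⥤ᵇ AlgSt.ofSp N) :
    (AlgSp.yon S).map aX.act ≫ res φ = (AlgSp.yon S).map (snd G X) ≫ res φ := by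
  apply ofSpMap_inj
  have h := eq_of_iso (isoWhiskerRight (cell aX K) φ)
  change BasedFunctor.comp (AlgSt.ofSpMap ((AlgSp.yon S).map aX.act))
      (BasedFunctor.comp (AlgSt.quotMap K G aX) φ) =
    BasedFunctor.comp (AlgSt.ofSpMap ((AlgSp.yon S).map (snd G X)))
      (BasedFunctor.comp (AlgSt.quotMap K G aX) φ) at h
  rw [comp_eq_ofSpMap_res] at h
  exact h

theorem eq_iff_res {N : AlgSp.Sp S} (φ φ' : AlgSt.QuotSt K G aX ⥤ᵇ AlgSt.ofSp N) :
    φ = φ' ↔ res φ = res φ' := by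
  refine ⟨congrArg res, fun h => ?_⟩
  rw [desc_unique (res φ) (res_inv φ) φ (comp_eq_ofSpMap_res φ),
    desc_unique (res φ) (res_inv φ) φ' ((comp_eq_ofSpMap_res φ').trans (congrArg AlgSt.ofSpMap h.symm))]

theorem res_desc {N : AlgSp.Sp S} (f : (AlgSp.yon S).obj X ⟶ N)
    (hf : (AlgSp.yon S).map aX.act ≫ f = (AlgSp.yon S).map (snd G X) ≫ f) : res (desc f hf) = f :=
  ofSpMap_inj ((comp_eq_ofSpMap_res _).symm.trans (desc_comp f hf))

theorem res_comp {M N : AlgSp.Sp S} (π : AlgSt.QuotSt K G aX ⥤ᵇ AlgSt.ofSp M) (g : M ⟶ N) :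
    res (BasedFunctor.comp π (AlgSt.ofSpMap g)) = res π ≫ g := by
  refine ofSpMap_inj ((comp_eq_ofSpMap_res _).symm.trans ?_)
  change BasedFunctor.comp (BasedFunctor.comp (AlgSt.quotMap K G aX) π) (AlgSt.ofSpMap g) = _
  rw [comp_eq_ofSpMap_res]
  rfl

theorem isCatModuliSch_iff {Y : Over S} (f : X ⟶ Y)
    (π : AlgSt.QuotSt K G aX ⥤ᵇ AlgSt.ofSch Y)
    (hπ : Nonempty (BasedFunctor.comp (AlgSt.quotMap K G aX) π ≅ AlgSt.ofSpMap ((AlgSp.yon S).map f))) :
    AlgSt.IsCatModuliSch π ↔ GIT.IsCatQuot aX f := by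
  have hr : res π = (AlgSp.yon S).map f :=
    ofSpMap_inj ((comp_eq_ofSpMap_res _).symm.trans (eq_of_iso hπ.some))
  have key : ∀ {N : AlgSp.Sp S} (φ : AlgSt.QuotSt K G aX ⥤ᵇ AlgSt.ofSp N) (g : (AlgSp.yon S).obj Y ⟶ N),
      Nonempty (BasedFunctor.comp π (AlgSt.ofSpMap g) ≅ φ) ↔ (AlgSp.yon S).map f ≫ g = res φ := by
    intro N φ g
    rw [← hr, ← res_comp, ← eq_iff_res]
    exact ⟨fun h => eq_of_iso h.some, fun h => ⟨eqToIso h⟩⟩
  constructor
  · rintro ⟨-, h⟩
    refine ⟨(AlgSp.yon S).map_injective ?_, fun Z ψ hψ => ?_⟩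
    · rw [Functor.map_comp, Functor.map_comp, ← hr]
      exact res_inv π
    · have hψ' : (AlgSp.yon S).map aX.act ≫ (AlgSp.yon S).map ψ =
          (AlgSp.yon S).map (snd G X) ≫ (AlgSp.yon S).map ψ := by
        rw [← Functor.map_comp, ← Functor.map_comp]; exact congrArg _ hψ
      obtain ⟨g, hg, hu⟩ := h _ (isRepresentable_yon Z) (desc _ hψ')
      obtain ⟨χ, rfl⟩ := (AlgSp.yon S).map_surjective g
      refine ⟨χ, (AlgSp.yon S).map_injective ?_, fun χ' hχ' => (AlgSp.yon S).map_injective (hu _ ?_)⟩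
      · rw [Functor.map_comp, (key _ _).1 hg, res_desc]
      · exact (key _ _).2 (by rw [res_desc, ← Functor.map_comp]; exact congrArg _ hχ')
  · rintro ⟨-, h⟩
    refine ⟨isRepresentable_yon Y, fun N hN φ => ?_⟩
    obtain ⟨Z, ⟨i⟩⟩ := exists_yon_iso hN
    obtain ⟨ψ, hψ⟩ := (AlgSp.yon S).map_surjective (res φ ≫ i.inv)
    obtain ⟨χ, hχ, hu⟩ := h Z ψ ((AlgSp.yon S).map_injective (by
      rw [Functor.map_comp, Functor.map_comp, hψ, reassoc_of% (res_inv φ)]))
    refine ⟨(AlgSp.yon S).map χ ≫ i.hom, (key _ _).2 ?_, fun g hg => ?_⟩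
    · rw [← Category.assoc, ← Functor.map_comp, hχ, hψ, Category.assoc, i.inv_hom_id, Category.comp_id]
    · obtain ⟨χ', hχ'⟩ := (AlgSp.yon S).map_surjective (g ≫ i.inv)
      have e := hu χ' ((AlgSp.yon S).map_injective (by
        rw [Functor.map_comp, hχ', ← Category.assoc, (key _ _).1 hg, hψ]))
      rw [← e, hχ', Category.assoc, i.inv_hom_id, Category.comp_id]

end Groth.Agent.StFib.QuotTriv
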