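import Groth.Agent.StFib.LocQMore
import Groth.Agent.StFib.DiagConv
import Groth.Agent.StFib.QuotModuli
import Groth.Agent.StFib.PointsTop
import Groth.Agent.StFib.Props2
import Groth.Agent.S18309

/-!
# Lifting points of an algebraic space smooth over a stack
-/

set_option backward.isDefEq.respectTransparency false
set_option backward.isDefEq.respectTransparency.types false

universe u

open CategoryTheory CategoryTheory.Limits AlgebraicGeometry Opposite FibCat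

namespace Groth.Agent.StFib

variable {S : Scheme.{u}} {𝒵 : AlgSt.Cat S}

/-- The map of sheaves of a functor between categories of points. -/
noncomputable def spMapOfFunctor {A B : AlgSp.Sp S} (Φ : AlgSt.ofSp A ⥤ᵇ AlgSt.ofSp B) : A ⟶ B :=
  ⟨pshMap (P := A.obj) (Q := B.obj) Φ⟩

theorem spMapOfFunctor_spec {A B : AlgSp.Sp S} (Φ : AlgSt.ofSp A ⥤ᵇ AlgSt.ofSp B) :
    Φ = AlgSt.ofSpMap (spMapOfFunctor Φ) :=
  QuotTriv.eq_of_iso (exists_iso_pshMap _).some

theorem exists_lift_space (Z : AlgSp.Space S) (f : AlgSt.ofSp Z.obj ⥤ᵇ 𝒵)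
    (hf : AlgSt.RepByAlgSpWith (AlgSp.LocP @Smooth) f)
    (R : Type u) [CommRing R] [HenselianLocalRing R] (str : Spec (CommRingCat.of R) ⟶ S)
    (z : overCat (Over.mk str) ⥤ᵇ 𝒵)
    (z₀ : (AlgSp.yon S).obj (Over.mk ((Spec.map (CommRingCat.ofHom (IsLocalRing.residue R))) ≫ str)) ⟶ Z.obj)
    (w : Nonempty (BasedFunctor.comp (BasedFunctor.comp (AlgSt.ofOverCat
        (Over.mk ((Spec.map (CommRingCat.ofHom (IsLocalRing.residue R))) ≫ str))) (AlgSt.ofSpMap z₀)) f ≅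
      BasedFunctor.comp (AlgSt.overMap (Over.homMk (Spec.map (CommRingCat.ofHom (IsLocalRing.residue R))) rfl :
        Over.mk ((Spec.map (CommRingCat.ofHom (IsLocalRing.residue R))) ≫ str) ⟶ Over.mk str)) z)) :
    ∃ z' : (AlgSp.yon S).obj (Over.mk str) ⟶ Z.obj,
      (AlgSp.yon S).map (Over.homMk (Spec.map (CommRingCat.ofHom (IsLocalRing.residue R))) rfl :
        Over.mk ((Spec.map (CommRingCat.ofHom (IsLocalRing.residue R))) ≫ str) ⟶ Over.mk str) ≫ z' = z₀ ∧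
      Nonempty (BasedFunctor.comp (BasedFunctor.comp (AlgSt.ofOverCat (Over.mk str)) (AlgSt.ofSpMap z')) f ≅ z) := by
  obtain ⟨w⟩ := w
  let T : Over S := Over.mk str
  let T0 : Over S := Over.mk ((Spec.map (CommRingCat.ofHom (IsLocalRing.residue R))) ≫ str)
  let i : T0 ⟶ T := Over.homMk (Spec.map (CommRingCat.ofHom (IsLocalRing.residue R))) rfl
  obtain ⟨A, e, he, hA⟩ := hf T z
  let a := AlgSt.spMapOfOver (BasedFunctor.comp e (fpFst z f))
  obtain ⟨ia⟩ := exists_iso_ofSpMap_toOverCat (BasedFunctor.comp e (fpFst z f))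
  obtain ⟨d, hd, -, ⟨jd⟩⟩ := isEquivOver_symm he
  let pt := BasedFunctor.comp (AlgSt.ofOverCat T0) (AlgSt.ofSpMap z₀)
  let L : overCat T0 ⥤ᵇ fp z f := fpLift (AlgSt.overMap i) pt w.symm
  let Φ : AlgSt.ofSch T0 ⥤ᵇ AlgSt.ofSp A.obj :=
    BasedFunctor.comp (AlgSt.toOverCat T0) (BasedFunctor.comp L d)
  let m0 := spMapOfFunctor Φ
  let j0 : BasedFunctor.comp (AlgSt.ofSpMap m0) e ≅ BasedFunctor.comp (AlgSt.toOverCat T0) L :=
    eqToIso (congrArg (fun k => BasedFunctor.comp k e) (spMapOfFunctor_spec Φ).symm) ≪≫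
      isoWhiskerLeft (BasedFunctor.comp (AlgSt.toOverCat T0) L) jd
  have hm0 : m0 ≫ a = (AlgSp.yon S).map i := by
    rw [← spMapOfOver_ofSpMap_comp, ← spMapOfOver_ofSpMap_toOverCat ((AlgSp.yon S).map i)]
    exact spMapOfOver_congr (isoWhiskerRight j0 (fpFst z f) ≪≫ toOverCatIso i)
  obtain ⟨m, hm, hm'⟩ := Groth.Agent.S18309.result (Z := A) (X := ⟨_, isAlgSpace_yon T⟩)
    (ObjectProperty.homMk a) hA R str (𝟙 _) m0 (hm0.trans (Category.comp_id _).symm)
  let Ψ : AlgSt.ofSch T ⥤ᵇ AlgSt.ofSp Z.obj :=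
    BasedFunctor.comp (BasedFunctor.comp (AlgSt.ofSpMap m) e) (fpSnd z f)
  let z' := spMapOfFunctor Ψ
  have hΨ : Ψ = AlgSt.ofSpMap z' := spMapOfFunctor_spec Ψ
  refine ⟨z', ?_, ⟨?_⟩⟩
  · refine QuotTriv.ofSpMap_inj ?_
    refine Eq.trans ?_ (QuotTriv.eq_of_iso (isoWhiskerRight j0 (fpSnd z f)))
    change BasedFunctor.comp (AlgSt.ofSpMap ((AlgSp.yon S).map i)) (AlgSt.ofSpMap z') = _
    rw [← hΨ, ← hm']
    rfl
  · refine isoWhiskerRight (eqToIso (congrArg (BasedFunctor.comp (AlgSt.ofOverCat T)) hΨ.symm)) f ≪≫ ?_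
    refine isoWhiskerLeft (BasedFunctor.comp (AlgSt.ofOverCat T) (BasedFunctor.comp (AlgSt.ofSpMap m) e))
      (fpIso z f).symm ≪≫ ?_
    have hma : m ≫ a = 𝟙 _ := hm
    have hid : BasedFunctor.comp (AlgSt.ofOverCat T)
        (BasedFunctor.comp (AlgSt.ofSpMap (m ≫ a)) (AlgSt.toOverCat T)) = BasedFunctor.id (overCat T) := by
      rw [hma]
      rfl
    exact isoWhiskerRight (isoWhiskerLeft (BasedFunctor.comp (AlgSt.ofOverCat T) (AlgSt.ofSpMap m)) ia.symm ≪≫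
      eqToIso hid) z

end Groth.Agent.StFib
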