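import Groth.Agent.StFib.SepDescent
import Groth.Agent.StFib.LocQMore
import Groth.Agent.StFib.DiagConv
import Groth.Agent.StFib.QuotModuli
import Groth.Agent.StFib.QuotDesc
import Groth.Agent.StFib.YonGlue
import Groth.Agent.StFib.SpaceLift
import Groth.Prelude.Def_StCoarse

/-!
# A geometrically bijective morphism with a section is a coarse moduli space
-/

set_option linter.unusedVariables false
set_option backward.isDefEq.respectTransparency false
set_option backward.isDefEq.respectTransparency.types false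

universe u

open CategoryTheory CategoryTheory.Limits AlgebraicGeometry Opposite FibCat

namespace Groth.Agent.StFib

variable {S : Scheme.{u}} {𝒳 𝒴 : AlgSt.Cat S}

theorem obj_eq_of_vert {N : AlgSp.Sp S} {a b : (AlgSt.ofSp N).obj} (k : a ≅ b) (h : Vert k.hom) : a = b := by
  obtain ⟨h, hv⟩ := h
  exact QuotTriv.eltObj_ext h ((congrArg (fun l => N.obj.map l.op b.sec) hv.symm).trans k.hom.map_sec)

theorem ofSpMap_comp {A B C : AlgSp.Sp S} (k : A ⟶ B) (n : B ⟶ C) :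
    AlgSt.ofSpMap (k ≫ n) = BasedFunctor.comp (AlgSt.ofSpMap k) (AlgSt.ofSpMap n) := rfl

/-- An object of the fibre product over a map gives a factorisation through the chart. -/
theorem exists_chart_point (h𝒳 : IsFibGrpd 𝒳.p) (h𝒴 : IsFibGrpd 𝒴.p) {f : 𝒳 ⥤ᵇ 𝒴} {T D : Over S} (d : D ⟶ T)
    {y : overCat T ⥤ᵇ 𝒴} (A : AlgSp.Space S) (e : AlgSt.ofSp A.obj ⥤ᵇ fp y f) (he : IsEquivOver e)
    (x : 𝒳.obj) (q : y.obj (Over.mk d) ≅ f.obj x) (hq : Vert q.hom) :
    ∃ m : (AlgSp.yon S).obj D ⟶ A.obj,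
      m ≫ AlgSt.spMapOfOver (BasedFunctor.comp e (fpFst y f)) = (AlgSp.yon S).map d := by
  have hM : IsFibGrpd (fp y f).p := isFibGrpd_fp (isFibGrpd_overCat T) h𝒳 h𝒴 y f
  let o : (fp y f).obj := fpMk (Over.mk d) x q hq
  obtain ⟨L, iL, hiL⟩ := exists_overFunctor hM o (rfl : (fp y f).p.obj o = D)
  obtain ⟨k, hk, -, ⟨jk⟩⟩ := isEquivOver_symm he
  obtain ⟨z', ⟨iz⟩⟩ := exists_iso_overMap (BasedFunctor.comp L (fpFst y f))
  have hz : z' = d := by
    let u := (isoApp iz (Over.mk (𝟙 _))).symm ≪≫ (fpFst y f).toFunctor.mapIso iL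
    have hu : Vert u.hom := (vert_isoApp iz _).inv.comp (hiL.map (fpFst y f))
    obtain ⟨hb, hh⟩ := hu
    have h1 : u.hom.left = 𝟙 D := hh
    have hw : u.hom.left ≫ d = 𝟙 _ ≫ z' := Over.w u.hom
    rw [h1] at hw
    exact ((Category.id_comp d).symm.trans (hw.trans (Category.id_comp z'))).symm
  rw [hz] at iz
  let Φ : AlgSt.ofSch D ⥤ᵇ AlgSt.ofSp A.obj :=
    BasedFunctor.comp (AlgSt.toOverCat D) (BasedFunctor.comp L k)
  refine ⟨spMapOfFunctor Φ, ?_⟩
  rw [← spMapOfOver_ofSpMap_comp, ← spMapOfFunctor_spec, ← spMapOfOver_ofSpMap_toOverCat ((AlgSp.yon S).map d)]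
  exact spMapOfOver_congr (isoWhiskerLeft (BasedFunctor.comp (AlgSt.toOverCat _) L)
    (isoWhiskerRight jk (fpFst y f)) ≪≫ isoWhiskerLeft (AlgSt.toOverCat _) iz ≪≫ (toOverCatIso d).symm)

/-- Over a reduced chart, functors to an algebraic space agreeing on pairs of geometrically identified objects agree. -/
theorem eq_on_chart {Z N : AlgSp.Sp S} (hN : AlgSp.IsAlgSpace N) (h𝒳 : IsFibGrpd 𝒳.p)
    (f : 𝒳 ⥤ᵇ AlgSt.ofSp Z) (hfd : AlgSt.RepByAlgSpWith AlgSp.IsProperMor (FibCat.diag f))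
    (hf₅ : AlgSt.GeomPtBij f) (s : AlgSt.ofSp Z ⥤ᵇ 𝒳)
    (e : BasedFunctor.comp s f ≅ BasedFunctor.id (AlgSt.ofSp Z)) {U : Over S} [IsReduced U.left]
    (u : overCat U ⥤ᵇ 𝒳) (φ : 𝒳 ⥤ᵇ AlgSt.ofSp N) :
    BasedFunctor.comp (AlgSt.toOverCat U) (BasedFunctor.comp u φ) =
      BasedFunctor.comp (AlgSt.toOverCat U) (BasedFunctor.comp u (BasedFunctor.comp (BasedFunctor.comp f s) φ)) := by
  let F₂ := BasedFunctor.comp u (BasedFunctor.comp f s)
  let y : overCat U ⥤ᵇ fp f f := fpLift u F₂ (isoWhiskerLeft (BasedFunctor.comp u f) e).symm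
  have hff : IsFibGrpd (fp f f).p := isFibGrpd_fp h𝒳 h𝒳 (Stk.isFibGrpd_ofPsh _) f f
  obtain ⟨I, eI, heI, hI⟩ := hfd U y
  let a := AlgSt.spMapOfOver (BasedFunctor.comp eI (fpFst y (diag f)))
  obtain ⟨ia⟩ := exists_iso_ofSpMap_toOverCat (BasedFunctor.comp eI (fpFst y (diag f)))
  let m₁ := spMapOfFunctor (BasedFunctor.comp (AlgSt.toOverCat U) (BasedFunctor.comp u φ))
  let m₂ := spMapOfFunctor (BasedFunctor.comp (AlgSt.toOverCat U) (BasedFunctor.comp F₂ φ))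
  suffices hm : m₁ = m₂ by
    rw [spMapOfFunctor_spec (BasedFunctor.comp (AlgSt.toOverCat U) (BasedFunctor.comp u φ))]
    exact (congrArg AlgSt.ofSpMap hm).trans (spMapOfFunctor_spec _).symm
  have hae : a ≫ m₁ = a ≫ m₂ := by
    apply QuotTriv.ofSpMap_inj
    change BasedFunctor.comp (AlgSt.ofSpMap a) (AlgSt.ofSpMap m₁) = BasedFunctor.comp (AlgSt.ofSpMap a) (AlgSt.ofSpMap m₂)
    rw [← spMapOfFunctor_spec, ← spMapOfFunctor_spec]
    exact QuotTriv.eq_of_iso (isoWhiskerRight ia (BasedFunctor.comp u φ) ≪≫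
      isoWhiskerLeft eI (isoWhiskerRight (fpIso y (diag f)) (BasedFunctor.comp (fpFst f f) φ)) ≪≫
      isoWhiskerLeft eI (isoWhiskerRight (fpIso y (diag f)).symm (BasedFunctor.comp (fpSnd f f) φ)) ≪≫
      isoWhiskerRight ia.symm (BasedFunctor.comp F₂ φ))
  let tN := terminal.from N
  obtain ⟨hr, hlft, hmono, -, -⟩ := Groth.Agent.AlgSp.diagonal_props hN tN
  let p : (AlgSp.yon S).obj U ⟶ pullback tN tN := pullback.lift m₁ m₂ (terminal.hom_ext _ _)
  let E := hr.pullback p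
  let ι := hr.snd p
  have sqE := hr.isPullback p
  have h1 : LocallyOfFiniteType ι.left := hlft.2 _ _ _ sqE
  have h2 : Mono ι.left := hmono.2 _ _ _ sqE
  have : Mono ι := (Over.forget S).mono_of_mono_map h2
  obtain ⟨c, -, hc⟩ := sqE.exists_lift (a ≫ m₁) a (by
    apply pullback.hom_ext
    · simp [p, pullback.diagonal]
    · simp [p, pullback.diagonal, hae])
  have hcp : c ≫ (AlgSp.yon S).map ι = a := hc
  have hpt : ∀ t : ↥U.left, ∃ (D : Over S) (d : D ⟶ U) (n : (AlgSp.yon S).obj D ⟶ I.obj) (x : ↥D.left),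
      n ≫ a = (AlgSp.yon S).map d ∧ d.left x = t := fun t => by
    let Ω := AlgebraicClosure (U.left.residueField t)
    let m : Spec (CommRingCat.of Ω) ⟶ U.left :=
      Spec.map (CommRingCat.ofHom (algebraMap (U.left.residueField t) Ω)) ≫ U.left.fromSpecResidueField t
    let d : Over.mk (m ≫ U.hom) ⟶ U := Over.homMk m rfl
    let x : 𝒳.p.Fiber (Over.mk (m ≫ U.hom)) := ⟨u.obj (Over.mk d), u.w_obj _⟩
    let x' : 𝒳.p.Fiber (Over.mk (m ≫ U.hom)) := ⟨F₂.obj (Over.mk d), F₂.w_obj _⟩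
    have hsec : AlgSt.fibSec f x = AlgSt.fibSec f x' :=
      secAt_congr (isoWhiskerLeft (BasedFunctor.comp u f) e).inv (Over.mk d)
    obtain ⟨α⟩ := (hf₅ Ω (m ≫ U.hom)).2 x x' hsec
    let α₀ : u.obj (Over.mk d) ≅ F₂.obj (Over.mk d) := Functor.Fiber.fiberInclusion.mapIso α
    have hα₀ : Vert α₀.hom := vert_of_isHomLift α.hom.2
    let q : y.obj (Over.mk d) ≅ (diag f).obj (u.obj (Over.mk d)) :=
      fpIsoMk (Iso.refl _) α₀.symm (Stk.EltObj.hom_ext ?_)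
    · obtain ⟨n, hn⟩ := exists_chart_point h𝒳 hff d I eI heI _ q (vert_fp_iff.2 (Vert.id _))
      exact ⟨_, d, n, IsLocalRing.closedPoint Ω, hn, Scheme.fromSpecResidueField_apply t _⟩
    obtain ⟨_, hL⟩ := ((Vert.id (u.obj (Over.mk d))).map f).comp (Vert.id _)
    obtain ⟨_, hR⟩ := (vert_isoApp (isoWhiskerLeft (BasedFunctor.comp u f) e).symm (Over.mk d)).comp (hα₀.inv.map f)
    exact hL.trans hR.symm
  have hs : ∀ t : ↥U.left, t ∈ Set.range ι.left := fun t => by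
    obtain ⟨D, d, n, x, hn, rfl⟩ := hpt t
    obtain ⟨n', hn'⟩ := (AlgSp.yon S).map_surjective (n ≫ c)
    have hd : n' ≫ ι = d := (AlgSp.yon S).map_injective (by
      rw [Functor.map_comp, hn']
      exact (Category.assoc n c _).trans ((congrArg (n ≫ ·) hcp).trans hn))
    exact ⟨n'.left x, by rw [← hd]; rfl⟩
  have hcu : AlgSp.IsUnivClosedMor c := by
    have : Mono ((AlgSp.yon S).map ι) := inferInstance
    refine Groth.Agent.AlgSp.isUnivClosedMor_baseChange (fst := 𝟙 _) (g := (AlgSp.yon S).map ι) ?_ hI.2.2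
    exact ⟨⟨by rw [Category.id_comp]; exact hcp.symm⟩, ⟨PullbackCone.IsLimit.mk _ (fun σ => σ.fst)
      (fun σ => Category.comp_id _) (fun σ => (cancel_mono ((AlgSp.yon S).map ι)).1 (by
        rw [Category.assoc, hcp]; exact σ.condition)) (fun σ l hl _ => (Category.comp_id l).symm.trans hl)⟩⟩
  have hcs : AlgSp.IsSurjectiveMor c := fun q => by
    obtain ⟨v, rfl⟩ := (AlgSp.Points.schemeHomeo E).surjective q
    obtain ⟨D, d, n, x, hn, hx⟩ := hpt (ι.left v)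
    obtain ⟨n', hn'⟩ := (AlgSp.yon S).map_surjective (n ≫ c)
    have hd : n' ≫ ι = d := (AlgSp.yon S).map_injective (by
      rw [Functor.map_comp, hn']
      exact (Category.assoc n c _).trans ((congrArg (n ≫ ·) hcp).trans hn))
    have : n'.left x = v := ι.left.injective (by rw [← hx, ← hd]; rfl)
    refine ⟨AlgSp.Points.map n (AlgSp.Points.schemeHomeo D x), ?_⟩
    rw [← AlgSp.Points.map_comp, ← hn', AlgSp.Points.map_yon_map_apply, this]
  have hp := isProperMor_of_surjective (X := I) (Y := ⟨_, isAlgSpace_yon E⟩) (Z := ⟨_, isAlgSpace_yon U⟩) c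
    ((AlgSp.yon S).map ι) hcs hcu (Groth.Agent.AlgSpCov.locP_of_repWith
      Groth.Agent.AlgSpCov.etaleLocal_locallyOfFiniteType ((AlgSp.repWith_yon_map_iff _ _).2 h1))
    (by rw [hcp]; exact hI)
  have : UniversallyClosed ι.left := (AlgSp.repWith_yon_map_iff _ _).1
    ((Groth.Agent.AlgSp.repWith_universallyClosed_iff _ ((AlgSp.repWith_yon_map_iff (P := ⊤) _).2 trivial).1).2 hp.2.2)
  have : IsProper ι.left := ⟨⟩
  have : IsClosedImmersion ι.left := (IsClosedImmersion.iff_isProper_and_mono ι.left).2 ⟨inferInstance, h2⟩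
  have : Surjective ι.left := ⟨fun t => hs t⟩
  have : IsIso ι.left := isIso_of_isClosedImmersion_of_surjective ι.left
  have : IsIso ((Over.forget S).map ι) := ‹IsIso ι.left›
  have : IsIso ι := isIso_of_reflects_iso ι (Over.forget S)
  have w₁ := congrArg (· ≫ pullback.fst tN tN) sqE.w
  have w₂ := congrArg (· ≫ pullback.snd tN tN) sqE.w
  simp [p, pullback.diagonal] at w₁ w₂
  exact (cancel_epi ((AlgSp.yon S).map ι)).1 (w₁.symm.trans w₂)

theorem isCoarseModuli_of_section (h𝒳 : AlgSt.IsAlgStack Scheme.fppfPrecoverage 𝒳)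
    (hred : AlgSt.SmoothLocally (fun X => AlgebraicGeometry.IsReduced X) 𝒳)
    (Z : AlgSp.Sp S) (hZ : AlgSp.IsAlgSpace Z) (f : 𝒳 ⥤ᵇ AlgSt.ofSp Z) (hf₁ : AlgSt.IsSeparatedMor f)
    (hf₅ : AlgSt.GeomPtBij f)
    (s : AlgSt.ofSp Z ⥤ᵇ 𝒳) (e : BasedFunctor.comp s f ≅ BasedFunctor.id (AlgSt.ofSp Z)) :
    AlgSt.IsCoarseModuli f := by
  refine ⟨⟨hZ, fun N hN φ => ?_⟩, hf₅⟩
  let g := spMapOfFunctor (BasedFunctor.comp s φ)
  have hg : AlgSt.ofSpMap g = BasedFunctor.comp s φ := (spMapOfFunctor_spec _).symm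
  refine ⟨g, ?_, fun g' hg' => ?_⟩
  swap
  · obtain ⟨i⟩ := hg'
    apply QuotTriv.ofSpMap_inj
    rw [hg]
    exact QuotTriv.eq_of_iso (isoWhiskerRight e.symm (AlgSt.ofSpMap g') ≪≫ isoWhiskerLeft s i)
  obtain ⟨U, u, hu, hus⟩ := h𝒳.atlas
  have : IsReduced U.left := hred U u hu
  let ψ := BasedFunctor.comp (BasedFunctor.comp f s) φ
  have hU := eq_on_chart hN h𝒳.isStack.1 f hf₁ hf₅ s e u φ
  rw [show BasedFunctor.comp f (AlgSt.ofSpMap g) = ψ by rw [hg]; rfl]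
  refine ⟨eqToIso (QuotTriv.basedFunctor_ext _ _ fun b => ?_)⟩
  obtain ⟨y, i₀, hi₀⟩ := exists_overFunctor h𝒳.isStack.1 b (rfl : 𝒳.p.obj b = 𝒳.p.obj b)
  let T := 𝒳.p.obj b
  let n₁ := spMapOfFunctor (BasedFunctor.comp (AlgSt.toOverCat T) (BasedFunctor.comp y ψ))
  let n₂ := spMapOfFunctor (BasedFunctor.comp (AlgSt.toOverCat T) (BasedFunctor.comp y φ))
  obtain ⟨R, hR, hl⟩ := exists_locally_lift (isFibGrpd_overCat U) h𝒳.isStack.1
    (repByAlgSpWith_flat_of_smooth hu) (repByAlgSpWith_lfp_of_smooth hu) hus T y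
  have hn : n₁ = n₂ := Glue.ext_of_cover hR fun V k hk => by
    obtain ⟨t, ⟨it⟩⟩ := hl k hk
    apply QuotTriv.ofSpMap_inj
    refine (ofSpMap_comp _ n₁).trans (Eq.trans ?_ (ofSpMap_comp _ n₂).symm)
    rw [← spMapOfFunctor_spec, ← spMapOfFunctor_spec]
    have key : ∀ χ : 𝒳 ⥤ᵇ AlgSt.ofSp N, BasedFunctor.comp (AlgSt.ofSpMap ((AlgSp.yon S).map k))
        (BasedFunctor.comp (AlgSt.toOverCat T) (BasedFunctor.comp y χ)) =
        BasedFunctor.comp (AlgSt.toOverCat V) (BasedFunctor.comp (BasedFunctor.comp t u) χ) := fun χ =>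
      QuotTriv.eq_of_iso (isoWhiskerRight (toOverCatIso k) (BasedFunctor.comp y χ) ≪≫
        isoWhiskerLeft (AlgSt.toOverCat V) (isoWhiskerRight it.symm χ))
    rw [key ψ, key φ]
    exact congrArg (fun G => BasedFunctor.comp
      (BasedFunctor.comp (AlgSt.toOverCat V) (BasedFunctor.comp t (AlgSt.ofOverCat U))) G) hU.symm
  have h1 : BasedFunctor.comp (AlgSt.toOverCat T) (BasedFunctor.comp y ψ) =
      BasedFunctor.comp (AlgSt.toOverCat T) (BasedFunctor.comp y φ) :=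
    (spMapOfFunctor_spec _).trans ((congrArg AlgSt.ofSpMap hn).trans (spMapOfFunctor_spec _).symm)
  have h2 : ψ.obj (y.obj (Over.mk (𝟙 T))) = φ.obj (y.obj (Over.mk (𝟙 T))) :=
    congrArg (fun G => G.obj ((AlgSt.ofOverCat T).obj (Over.mk (𝟙 T)))) h1
  have h3 : ∀ χ : 𝒳 ⥤ᵇ AlgSt.ofSp N, χ.obj (y.obj (Over.mk (𝟙 T))) = χ.obj b := fun χ =>
    obj_eq_of_vert (χ.toFunctor.mapIso i₀) (hi₀.map χ)
  rw [← h3 ψ, ← h3 φ, h2]

end Groth.Agent.StFib
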