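import Groth.Agent.StFib.YonGlue
import Groth.Agent.StFib.Props
import Groth.Agent.StFib.SpaceLift
import Groth.Agent.StFib.QuotDesc
import Groth.Agent.StFib.CoarseSection
import Groth.Prelude.Def_StCoarse

/-!
# Uniform categorical moduli spaces from affine flat base changes
-/

set_option linter.unusedVariables false
set_option backward.isDefEq.respectTransparency false
set_option backward.isDefEq.respectTransparency.types false

universe u

open CategoryTheory CategoryTheory.Limits AlgebraicGeometry Opposite FibCat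

namespace Groth.Agent.StFib

variable {S : Scheme.{u}} {𝒳 𝒳' : AlgSt.Cat S}

theorem isCatModuli_of_equiv {M : AlgSp.Sp S} {π : 𝒳 ⥤ᵇ AlgSt.ofSp M} (h : AlgSt.IsCatModuli π)
    {E : 𝒳' ⥤ᵇ 𝒳} (hE : IsEquivOver E) {π' : 𝒳' ⥤ᵇ AlgSt.ofSp M} (i : BasedFunctor.comp E π ≅ π') :
    AlgSt.IsCatModuli π' := by
  obtain ⟨d, hd, ⟨j1⟩, ⟨j2⟩⟩ := isEquivOver_symm hE
  refine ⟨h.1, fun N hN φ => ?_⟩
  obtain ⟨g, ⟨ig⟩, hu⟩ := h.2 N hN (BasedFunctor.comp d φ)
  refine ⟨g, ⟨isoWhiskerRight i.symm (AlgSt.ofSpMap g) ≪≫ isoWhiskerLeft E ig ≪≫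
    isoWhiskerRight j1 φ⟩, fun g' hg' => ?_⟩
  obtain ⟨ig'⟩ := hg'
  exact hu g' ⟨isoWhiskerRight j2.symm (BasedFunctor.comp π (AlgSt.ofSpMap g')) ≪≫
    isoWhiskerLeft d (isoWhiskerRight i (AlgSt.ofSpMap g') ≪≫ ig')⟩

theorem isCatModuli_of_affine_flat {Y : AlgSp.Sp S} (hY : AlgSp.IsAlgSpace Y) (f : 𝒳 ⥤ᵇ AlgSt.ofSp Y)
    (h𝒳 : IsFibGrpd 𝒳.p)
    (hf : ∀ (Y' : Over S), IsAffine Y'.left → ∀ (g : (AlgSp.yon S).obj Y' ⟶ Y), AlgSp.LocP @Flat g →
      AlgSt.IsCatModuli (fpFst (AlgSt.ofSpMap g) f)) :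
    AlgSt.IsCatModuli f := by
  refine ⟨hY, fun N hN φ => ?_⟩
  have hflat := good_locP (S := S) Groth.Agent.AlgSpCov.standard_flat
  -- the maps on affine flat charts
  have key : ∀ (Z : Over S) (q : (AlgSp.yon S).obj Z ⟶ Y), IsAffine Z.left → AlgSp.LocP @Flat q →
      ∃! g : (AlgSp.yon S).obj Z ⟶ N, Nonempty (BasedFunctor.comp (fpFst (AlgSt.ofSpMap q) f) (AlgSt.ofSpMap g) ≅
        BasedFunctor.comp (fpSnd (AlgSt.ofSpMap q) f) φ) :=
    fun Z q hZ hq => (hf Z hZ q hq).2 N hN _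
  choose G hG hGu using key
  have compat : ∀ (Z W : Over S) (q : (AlgSp.yon S).obj Z ⟶ Y) (hZ : IsAffine Z.left) (hq : AlgSp.LocP @Flat q)
      (hW : IsAffine W.left) (h : W ⟶ Z) (hq' : AlgSp.LocP @Flat ((AlgSp.yon S).map h ≫ q)),
      G W _ hW hq' = (AlgSp.yon S).map h ≫ G Z q hZ hq := by
    intro Z W q hZ hq hW h hq'
    refine (hGu W _ hW hq' _ ?_).symm
    let q' := (AlgSp.yon S).map h ≫ q
    let hh := AlgSt.ofSpMap ((AlgSp.yon S).map h)
    let K : fp (AlgSt.ofSpMap q') f ⥤ᵇ fp (AlgSt.ofSpMap q) f :=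
      fpLift (BasedFunctor.comp (fpFst (AlgSt.ofSpMap q') f) hh) (fpSnd (AlgSt.ofSpMap q') f)
        (fpIso (AlgSt.ofSpMap q') f)
    obtain ⟨i⟩ := hG Z q hZ hq
    exact ⟨isoWhiskerLeft K i⟩
  -- covers by affine flat charts
  let Lift : ∀ {T : Over S}, ((AlgSp.yon S).obj T ⟶ Y) → ∀ ⦃V : Over S⦄, (V ⟶ T) → Prop := fun {T} m V k =>
    ∃ (Z : Over S) (q : (AlgSp.yon S).obj Z ⟶ Y) (hZ : IsAffine Z.left) (hq : AlgSp.LocP @Flat q) (l : V ⟶ Z),
      (AlgSp.yon S).map k ≫ m = (AlgSp.yon S).map l ≫ q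
  let R : ∀ {T : Over S}, ((AlgSp.yon S).obj T ⟶ Y) → Sieve T := fun {T} m =>
    { arrows := Lift m
      downward_closed := by
        rintro V V' k ⟨Z, q, hZ, hq, l, hl⟩ j
        exact ⟨Z, q, hZ, hq, j ≫ l, by rw [Functor.map_comp, Functor.map_comp, Category.assoc, Category.assoc, hl]⟩ }
  have hR : ∀ {T : Over S} (m : (AlgSp.yon S).obj T ⟶ Y), R m ∈ AlgSp.J S T := by
    intro T m
    obtain ⟨U, c, hce, hcs⟩ := hY.atlas
    obtain ⟨P, pT, pU, sq⟩ := Groth.Agent.AlgSpB.exists_pullback_yon hce.1 m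
    have hpe : Etale pU.left := hce.2 _ _ _ sq
    have hps : Surjective pU.left := hcs.2 _ _ _ sq
    let W : U.left.affineOpens → Over S := fun O => Over.mk ((pT.left ⁻¹ᵁ O.1).ι ≫ P.hom)
    refine Groth.Agent.AlgSp.mem_of_cover (R := Presieve.ofArrows (fun O => (W O).left)
      (fun O => (pT.left ⁻¹ᵁ O.1).ι ≫ pU.left)) ?_ ?_
    · rw [Scheme.fppfPrecoverage]
      refine (Scheme.ofArrows_mem_precoverage_iff _).2 ⟨fun t => ?_, fun O => ⟨?_, ?_⟩⟩
      · obtain ⟨x, rfl⟩ := pU.left.surjective t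
        obtain ⟨O, hO, hxO, -⟩ := exists_isAffineOpen_mem_and_subset (x := pT.left x) (U := ⊤) trivial
        exact ⟨⟨O, hO⟩, ⟨x, hxO⟩, rfl⟩
      · have : Flat ((pT.left ⁻¹ᵁ O.1).ι) := inferInstance
        exact (inferInstance : Flat ((pT.left ⁻¹ᵁ O.1).ι ≫ pU.left))
      · exact (inferInstance : LocallyOfFinitePresentation ((pT.left ⁻¹ᵁ O.1).ι ≫ pU.left))
    rintro W' w' ⟨O⟩
    let Z : Over S := Over.mk (O.1.ι ≫ U.hom)
    let j : Z ⟶ U := Over.homMk O.1.ι rfl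
    have hj : AlgSp.LocP @Flat ((AlgSp.yon S).map j ≫ c) := hflat.comp (isAlgSpace_yon Z) (isAlgSpace_yon U) hY _ _
      (Groth.Agent.AlgSpCov.locP_of_repWith Groth.Agent.AlgSpCov.etaleLocal_flat
        ((AlgSp.repWith_yon_map_iff _ _).2 (inferInstanceAs (Flat O.1.ι))))
      (Groth.Agent.AlgSpCov.locP_of_repWith Groth.Agent.AlgSpCov.etaleLocal_flat
        (Groth.Agent.AlgSp.repWith_mono (Q := @Flat) (fun g hg => have : Etale g := hg; inferInstance) hce))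
    let k : Over.mk (((pT.left ⁻¹ᵁ O.1).ι ≫ pU.left) ≫ T.hom) ⟶ P := Over.homMk (pT.left ⁻¹ᵁ O.1).ι (by
      rw [Category.assoc]
      exact congrArg (_ ≫ ·) (Over.w pU).symm)
    let l : Over.mk (((pT.left ⁻¹ᵁ O.1).ι ≫ pU.left) ≫ T.hom) ⟶ Z := Over.homMk (pT.left ∣_ O.1) (by
      change (pT.left ∣_ O.1) ≫ O.1.ι ≫ U.hom = _
      rw [morphismRestrict_ι_assoc, Over.w pT, Category.assoc]
      exact congrArg (_ ≫ ·) (Over.w pU).symm)
    refine ⟨Z, _, O.2, hj, l, ?_⟩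
    have e1 : (Over.homMk ((pT.left ⁻¹ᵁ O.1).ι ≫ pU.left) rfl :
        Over.mk (((pT.left ⁻¹ᵁ O.1).ι ≫ pU.left) ≫ T.hom) ⟶ T) = k ≫ pU := rfl
    have e2 : l ≫ j = k ≫ pT := Over.OverMorphism.ext (morphismRestrict_ι _ _)
    rw [e1]
    calc (AlgSp.yon S).map (k ≫ pU) ≫ m = ((AlgSp.yon S).map k ≫ (AlgSp.yon S).map pU) ≫ m := by
          rw [Functor.map_comp]
      _ = (AlgSp.yon S).map k ≫ (AlgSp.yon S).map pU ≫ m := Category.assoc _ _ _
      _ = (AlgSp.yon S).map k ≫ (AlgSp.yon S).map pT ≫ c := congrArg ((AlgSp.yon S).map k ≫ ·) sq.w.symm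
      _ = ((AlgSp.yon S).map k ≫ (AlgSp.yon S).map pT) ≫ c := (Category.assoc _ _ _).symm
      _ = (AlgSp.yon S).map (k ≫ pT) ≫ c := by rw [Functor.map_comp]
      _ = (AlgSp.yon S).map (l ≫ j) ≫ c := by rw [e2]
      _ = ((AlgSp.yon S).map l ≫ (AlgSp.yon S).map j) ≫ c := by rw [Functor.map_comp]
      _ = (AlgSp.yon S).map l ≫ (AlgSp.yon S).map j ≫ c := Category.assoc _ _ _
  -- independence of the chart
  have congrG : ∀ (W : Over S) (hW : IsAffine W.left) (m₁ m₂ : (AlgSp.yon S).obj W ⟶ Y) (h₁ : AlgSp.LocP @Flat m₁)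
      (h₂ : AlgSp.LocP @Flat m₂), m₁ = m₂ → G W m₁ hW h₁ = G W m₂ hW h₂ := by
    intro W hW m₁ m₂ h₁ h₂ hm
    subst hm
    rfl
  have indep : ∀ {V : Over S} (Z Z' : Over S) (q : (AlgSp.yon S).obj Z ⟶ Y) (q' : (AlgSp.yon S).obj Z' ⟶ Y)
      (hZ : IsAffine Z.left) (hq : AlgSp.LocP @Flat q) (hZ' : IsAffine Z'.left) (hq' : AlgSp.LocP @Flat q')
      (l : V ⟶ Z) (l' : V ⟶ Z'), (AlgSp.yon S).map l ≫ q = (AlgSp.yon S).map l' ≫ q' →
      (AlgSp.yon S).map l ≫ G Z q hZ hq = (AlgSp.yon S).map l' ≫ G Z' q' hZ' hq' := by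
    intro V Z Z' q q' hZ hq hZ' hq' l l' e
    obtain ⟨P, a, b, sq⟩ := Groth.Agent.AlgSpB.exists_pullback_yon (hY.representable_from_yon q) q'
    obtain ⟨r, hr1, hr2⟩ := sq.exists_lift ((AlgSp.yon S).map l) ((AlgSp.yon S).map l') e
    obtain ⟨r, rfl⟩ := (AlgSp.yon S).map_surjective r
    rw [← hr1, ← hr2, Category.assoc, Category.assoc]
    congr 1
    have hb : AlgSp.LocP @Flat ((AlgSp.yon S).map b) :=
      hflat.bc (isAlgSpace_yon Z) hY (isAlgSpace_yon P) (isAlgSpace_yon Z') _ _ _ _ sq hq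
    have hbq : AlgSp.LocP @Flat ((AlgSp.yon S).map b ≫ q') :=
      hflat.comp (isAlgSpace_yon P) (isAlgSpace_yon Z') hY _ _ hb hq'
    refine Glue.ext_of_cover (R := Sieve.ofArrows (fun O : P.left.affineOpens => Over.mk (O.1.ι ≫ P.hom))
      (fun O => Over.homMk O.1.ι rfl)) ?_ fun W w hw => ?_
    · refine Groth.Agent.AlgSp.mem_of_cover (R := Presieve.ofArrows (fun O : P.left.affineOpens => (O.1 : Scheme.{u}))
        (fun O => O.1.ι)) ?_ ?_
      · rw [Scheme.fppfPrecoverage]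
        refine (Scheme.ofArrows_mem_precoverage_iff _).2 ⟨fun t => ?_, fun O => ⟨inferInstanceAs (Flat O.1.ι),
          inferInstanceAs (LocallyOfFinitePresentation O.1.ι)⟩⟩
        obtain ⟨O, hO, hxO, -⟩ := exists_isAffineOpen_mem_and_subset (x := t) (U := ⊤) trivial
        exact ⟨⟨O, hO⟩, ⟨t, hxO⟩, rfl⟩
      · rintro W' w' ⟨O⟩
        exact Sieve.ofArrows_mk (I := P.left.affineOpens) _ _ O
    · obtain ⟨-, m, -, ⟨O⟩, rfl⟩ := hw
      rw [Functor.map_comp, Category.assoc, Category.assoc]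
      congr 1
      let o : Over.mk (O.1.ι ≫ P.hom) ⟶ P := Over.homMk O.1.ι rfl
      have ho : AlgSp.LocP @Flat ((AlgSp.yon S).map o) :=
        Groth.Agent.AlgSpCov.locP_of_repWith Groth.Agent.AlgSpCov.etaleLocal_flat
          ((AlgSp.repWith_yon_map_iff _ _).2 (inferInstanceAs (Flat O.1.ι)))
      have h2 : AlgSp.LocP @Flat ((AlgSp.yon S).map (o ≫ b) ≫ q') := by
        rw [Functor.map_comp, Category.assoc]
        exact hflat.comp (isAlgSpace_yon _) (isAlgSpace_yon P) hY _ _ ho hbq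
      have e' : (AlgSp.yon S).map (o ≫ a) ≫ q = (AlgSp.yon S).map (o ≫ b) ≫ q' := by
        rw [Functor.map_comp, Functor.map_comp, Category.assoc, Category.assoc, sq.w]
      have h1 : AlgSp.LocP @Flat ((AlgSp.yon S).map (o ≫ a) ≫ q) := e' ▸ h2
      have c1 := compat Z (Over.mk (O.1.ι ≫ P.hom)) q hZ hq O.2 (o ≫ a) h1
      have c2 := compat Z' (Over.mk (O.1.ι ≫ P.hom)) q' hZ' hq' O.2 (o ≫ b) h2
      rw [← Category.assoc, ← Category.assoc, ← Functor.map_comp, ← Functor.map_comp, ← c1, ← c2]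
      exact congrG _ _ _ _ _ _ e'
  -- the glued map
  have ex : ∀ (T : Over S) (m : (AlgSp.yon S).obj T ⟶ Y), ∃ n : (AlgSp.yon S).obj T ⟶ N,
      ∀ ⦃V : Over S⦄ (k : V ⟶ T) (Z : Over S) (q : (AlgSp.yon S).obj Z ⟶ Y) (hZ : IsAffine Z.left)
        (hq : AlgSp.LocP @Flat q) (l : V ⟶ Z), (AlgSp.yon S).map k ≫ m = (AlgSp.yon S).map l ≫ q →
        (AlgSp.yon S).map k ≫ n = (AlgSp.yon S).map l ≫ G Z q hZ hq := by
    intro T m
    obtain ⟨n, hn⟩ := Glue.exists_glue (hR m)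
      (fun V k hk => (AlgSp.yon S).map hk.choose_spec.choose_spec.choose_spec.choose_spec.choose ≫
        G hk.choose hk.choose_spec.choose hk.choose_spec.choose_spec.choose
          hk.choose_spec.choose_spec.choose_spec.choose) (fun V W g k hk => by
        rw [← Category.assoc, ← Functor.map_comp]
        refine indep _ _ _ _ _ _ _ _ _ _ ?_
        rw [Functor.map_comp, Category.assoc, ← hk.choose_spec.choose_spec.choose_spec.choose_spec.choose_spec,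
          ← ((R m).downward_closed hk g).choose_spec.choose_spec.choose_spec.choose_spec.choose_spec,
          Functor.map_comp, Category.assoc])
    refine ⟨n, fun V k Z q hZ hq l hl => ?_⟩
    have hk : R m k := ⟨Z, q, hZ, hq, l, hl⟩
    rw [hn k hk]
    exact indep _ _ _ _ _ _ _ _ _ _ (hk.choose_spec.choose_spec.choose_spec.choose_spec.choose_spec.symm.trans hl)
  choose n hn using ex
  obtain ⟨g, hg⟩ := Glue.exists_hom n (fun {V W} j m => by
    refine Glue.ext_of_cover (hR ((AlgSp.yon S).map j ≫ m)) fun V' k hk => ?_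
    obtain ⟨Z, q, hZ, hq, l, hl⟩ := hk
    rw [hn W _ k Z q hZ hq l hl, ← Category.assoc, ← Functor.map_comp,
      hn V m (k ≫ j) Z q hZ hq l (by rw [Functor.map_comp, Category.assoc, hl])])
  have hgq : ∀ (Z : Over S) (q : (AlgSp.yon S).obj Z ⟶ Y) (hZ : IsAffine Z.left) (hq : AlgSp.LocP @Flat q),
      q ≫ g = G Z q hZ hq := fun Z q hZ hq => by
    have := hn Z q (𝟙 Z) Z q hZ hq (𝟙 Z) rfl
    simp only [CategoryTheory.Functor.map_id, Category.id_comp] at this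
    exact (hg Z q).trans this
  refine ⟨g, ?_, fun g' hg' => ?_⟩
  · refine ⟨eqToIso (QuotTriv.basedFunctor_ext _ _ fun b => ?_)⟩
    let T := 𝒳.p.obj b
    obtain ⟨y, i₀, hi₀⟩ := exists_overFunctor h𝒳 b (rfl : 𝒳.p.obj b = T)
    let m := spMapOfFunctor (BasedFunctor.comp (AlgSt.toOverCat T) (BasedFunctor.comp y f))
    let n₁ := spMapOfFunctor (BasedFunctor.comp (AlgSt.toOverCat T) (BasedFunctor.comp y (BasedFunctor.comp f (AlgSt.ofSpMap g))))
    let n₂ := spMapOfFunctor (BasedFunctor.comp (AlgSt.toOverCat T) (BasedFunctor.comp y φ))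
    have hn12 : n₁ = n₂ := Glue.ext_of_cover (hR m) fun V k hk => by
      obtain ⟨Z, q, hZ, hq, l, hl⟩ := hk
      obtain ⟨i⟩ := hG Z q hZ hq
      apply QuotTriv.ofSpMap_inj
      refine (ofSpMap_comp _ n₁).trans (Eq.trans ?_ (ofSpMap_comp _ n₂).symm)
      rw [← spMapOfFunctor_spec, ← spMapOfFunctor_spec]
      let kk := AlgSt.ofSpMap ((AlgSp.yon S).map k)
      let J := BasedFunctor.comp kk (BasedFunctor.comp (AlgSt.toOverCat T) y)
      let α : BasedFunctor.comp (AlgSt.ofSpMap ((AlgSp.yon S).map l)) (AlgSt.ofSpMap q) ≅ BasedFunctor.comp J f :=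
        eqToIso ((ofSpMap_comp _ q).symm.trans ((congrArg AlgSt.ofSpMap hl.symm).trans
          ((ofSpMap_comp _ m).trans (congrArg (BasedFunctor.comp kk) (spMapOfFunctor_spec _).symm))))
      let L := fpLift (AlgSt.ofSpMap ((AlgSp.yon S).map l)) J α
      have h1 : BasedFunctor.comp J (BasedFunctor.comp f (AlgSt.ofSpMap g)) =
          BasedFunctor.comp L (BasedFunctor.comp (fpFst (AlgSt.ofSpMap q) f) (AlgSt.ofSpMap (G Z q hZ hq))) := by
        rw [← hgq Z q hZ hq, ofSpMap_comp]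
        exact QuotTriv.eq_of_iso (isoWhiskerRight α.symm (AlgSt.ofSpMap g))
      exact h1.trans (QuotTriv.eq_of_iso (isoWhiskerLeft L i))
    have h1 := (spMapOfFunctor_spec (BasedFunctor.comp (AlgSt.toOverCat T) (BasedFunctor.comp y (BasedFunctor.comp f (AlgSt.ofSpMap g))))).trans
      ((congrArg AlgSt.ofSpMap hn12).trans (spMapOfFunctor_spec _).symm)
    have h3 : ∀ χ : 𝒳 ⥤ᵇ AlgSt.ofSp N, χ.obj (y.obj (Over.mk (𝟙 T))) = χ.obj b := fun χ =>
      obj_eq_of_vert (χ.toFunctor.mapIso i₀) (hi₀.map χ)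
    rw [← h3 _, ← h3 φ]
    exact congrArg (fun F => F.obj ((AlgSt.ofOverCat T).obj (Over.mk (𝟙 T)))) h1
  · obtain ⟨i'⟩ := hg'
    refine Groth.Agent.AlgSp.hom_ext_yon fun T m => Glue.ext_of_cover (hR m) fun V k hk => ?_
    obtain ⟨Z, q, hZ, hq, l, hl⟩ := hk
    have e1 : q ≫ g' = q ≫ g := by
      rw [hgq Z q hZ hq]
      exact hGu Z q hZ hq _ ⟨isoWhiskerRight (fpIso (AlgSt.ofSpMap q) f) (AlgSt.ofSpMap g') ≪≫
        isoWhiskerLeft (fpSnd (AlgSt.ofSpMap q) f) i'⟩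
    calc (AlgSp.yon S).map k ≫ m ≫ g' = (AlgSp.yon S).map l ≫ q ≫ g' := by
          rw [← Category.assoc, hl, Category.assoc]
      _ = (AlgSp.yon S).map k ≫ m ≫ g := by rw [e1, ← Category.assoc, ← hl, Category.assoc]

theorem isUnifCatModuli_of_affine_flat {Y : AlgSp.Sp S} (hY : AlgSp.IsAlgSpace Y) (f : 𝒳 ⥤ᵇ AlgSt.ofSp Y)
    (h𝒳 : IsFibGrpd 𝒳.p)
    (hf : ∀ (Y' : Over S), IsAffine Y'.left → ∀ (g : (AlgSp.yon S).obj Y' ⟶ Y), AlgSp.LocP @Flat g →
      AlgSt.IsCatModuli (fpFst (AlgSt.ofSpMap g) f)) :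
    AlgSt.IsUnifCatModuli f := by
  refine ⟨isCatModuli_of_affine_flat hY f h𝒳 hf, fun M' hM' g hg => ?_⟩
  refine isCatModuli_of_affine_flat hM' _ (isFibGrpd_fp (Stk.isFibGrpd_ofPsh _) h𝒳 (Stk.isFibGrpd_ofPsh _) _ _)
    fun Z hZ q hq => ?_
  exact isCatModuli_of_equiv (hf Z hZ (q ≫ g)
      ((good_locP Groth.Agent.AlgSpCov.standard_flat).comp (isAlgSpace_yon Z) hM' hY _ _ hq hg))
    (E := fpPaste (AlgSt.ofSpMap g) f (AlgSt.ofSpMap q)) (fpPaste_isEquivOver _ _ _) (Iso.refl _)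

end Groth.Agent.StFib
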