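import Groth.Agent.StFib.DVRClosed
import Groth.Agent.StFib.OpenLocus
import Groth.Agent.StFib.EndTrans
import Groth.Agent.StFib.InertiaProps
import Groth.Agent.StFib.QuotBridge
import Groth.Agent.StFib.SliceDMAtlas
import Groth.Agent.StFib.Affine
import Groth.Agent.StFib.AtlasProps
import Groth.Agent.AlgSp.AffineMor
import Groth.Agent.AlgSpCov.AffineFamily
import Groth.Agent.S10540
import Groth.Agent.S10544
import Groth.Agent.S0414
import Groth.Agent.S2080
import Groth.Agent.EtStruct.Instances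
import Mathlib.AlgebraicGeometry.Morphisms.Etale

/-!
# Finite etale inertia over an open substack
-/

set_option backward.isDefEq.respectTransparency false
set_option backward.isDefEq.respectTransparency.types false
set_option linter.unusedVariables false

universe u

open CategoryTheory CategoryTheory.Limits AlgebraicGeometry Opposite FibCat TopologicalSpace

namespace Groth.Agent.StFib

variable {S : Scheme.{u}} {𝒳 𝒴 𝒵 : AlgSt.Cat S}

local notation "E" => Scheme.etalePrecoverage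

/-- A base change along a cover with lifts has the property. -/
theorem mem_of_cover_lift {P : MorphismProperty (AlgSp.Sp S)} (hPb : StableBC P)
    (hP : AlgSp.IsLocalOnBase AlgSp.IsFppfCover P) {f : 𝒳 ⥤ᵇ 𝒴} {g : 𝒵 ⥤ᵇ 𝒴}
    (h' : AlgSt.RepByAlgSpWith P (fpFst g f)) {U : Over S} {y : overCat U ⥤ᵇ 𝒴} (A : AlgSp.Space S)
    (e : AlgSt.ofSp A.obj ⥤ᵇ fp y f) (he : IsEquivOver e) {W : Over S} (c : W ⟶ U) [Flat c.left]
    [LocallyOfFinitePresentation c.left] [Surjective c.left] (z : overCat W ⥤ᵇ 𝒵)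
    (i : BasedFunctor.comp z g ≅ BasedFunctor.comp (AlgSt.overMap c) y) :
    P (AlgSt.spMapOfOver (BasedFunctor.comp e (fpFst y f))) := by
  have hdet := detected_of_isLocalOnBase hP
  refine (hP (fun _ : PUnit.{u + 1} => (AlgSp.yon S).obj W) (fun _ => (AlgSp.yon S).map c) (isAlgSpace_yon U)
    (fun _ => isAlgSpace_yon _) ⟨fun _ => ⟨?_, ?_⟩, fun t => ?_⟩ _ A.property
    (fun _ => pullback _ ((AlgSp.yon S).map c)) (fun _ => pullback.snd _ _) (fun _ => pullback.fst _ _)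
    (fun _ => Groth.Agent.AlgSp.isAlgSpace_pullback (isAlgSpace_yon U) A.property (isAlgSpace_yon _) _ _)
    (fun _ => IsPullback.of_hasPullback _ _)).2 fun _ => ?_
  · exact Groth.Agent.AlgSpCov.locP_of_repWith Groth.Agent.AlgSpCov.etaleLocal_flat
      ((AlgSp.repWith_yon_map_iff _ _).2 ‹_›)
  · exact Groth.Agent.AlgSpCov.locP_of_repWith
      Groth.Agent.AlgSpCov.etaleLocal_locallyOfFinitePresentation
      ((AlgSp.repWith_yon_map_iff _ _).2 ‹_›)
  · obtain ⟨x, rfl⟩ := (AlgSp.Points.schemeHomeo U).surjective t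
    obtain ⟨w, hw⟩ := c.left.surjective x
    exact ⟨PUnit.unit, AlgSp.Points.schemeHomeo W w, by
      rw [AlgSp.Points.map_yon_map_apply]
      exact congrArg _ hw⟩
  · exact mem_pullback_of_lift hPb hdet h' A e he c z i

/-- The inertia of a full subcategory is the restriction of the inertia. -/
theorem exists_inertia_sub_cart (Q : 𝒳.obj → Prop) :
    ∃ (L : inertia (toSelf (AlgSt.fullSub 𝒳 Q)) ⥤ᵇ inertia (toSelf 𝒳))
      (e : BasedFunctor.comp (inertiaToBase (toSelf (AlgSt.fullSub 𝒳 Q))) (AlgSt.subIncl 𝒳 Q) ≅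
        BasedFunctor.comp L (inertiaToBase (toSelf 𝒳))),
      IsEquivOver (fpLift (inertiaToBase (toSelf (AlgSt.fullSub 𝒳 Q))) L e) := by
  let j := AlgSt.subIncl 𝒳 Q
  let L : inertia (toSelf (AlgSt.fullSub 𝒳 Q)) ⥤ᵇ inertia (toSelf 𝒳) :=
    { toFunctor :=
        { obj := fun x => ⟨j.obj x.pt, j.toFunctor.mapIso x.aut, x.map_aut⟩
          map := fun {x y} φ => ⟨j.map φ.hom, (j.toFunctor.map_comp _ _).symm.trans
            ((congrArg (fun k => j.map k) φ.comm).trans (j.toFunctor.map_comp _ _))⟩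
          map_id := fun x => InertiaObj.hom_ext (j.toFunctor.map_id x.pt)
          map_comp := fun φ ψ => InertiaObj.hom_ext (j.toFunctor.map_comp φ.hom ψ.hom) }
      w := rfl }
  have hfull : j.toFunctor.Full := inferInstanceAs (ObjectProperty.ι Q).Full
  have hfaith : j.toFunctor.Faithful := inferInstanceAs (ObjectProperty.ι Q).Faithful
  refine ⟨L, Iso.refl _, fpLift_isEquivOver_mk _ _ _ (fun φ ψ h _ => InertiaObj.hom_ext h) ?_ ?_⟩
  · intro w w' a b h
    have hb : b.hom = j.map a := by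
      have : j.map a ≫ 𝟙 _ = 𝟙 _ ≫ b.hom := h
      rw [Category.comp_id, Category.id_comp] at this
      exact this.symm
    refine ⟨⟨a, j.toFunctor.map_injective ?_⟩, rfl, InertiaObj.hom_ext hb.symm⟩
    have := b.comm
    rw [hb] at this
    exact (j.toFunctor.map_comp _ _).trans (this.trans (j.toFunctor.map_comp _ _).symm)
  · intro z
    let k : j.obj z.obj.fst ≅ z.obj.snd.pt := z.obj.iso
    let u : z.obj.fst ≅ z.obj.fst := ObjectProperty.isoMk Q (k ≪≫ z.obj.snd.aut ≪≫ k.symm)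
    refine ⟨⟨z.obj.fst, u, ?_⟩, Iso.refl _,
      { hom := ⟨k.hom, ?_⟩, inv := ⟨k.inv, ?_⟩,
        hom_inv_id := InertiaObj.hom_ext k.hom_inv_id, inv_hom_id := InertiaObj.hom_ext k.inv_hom_id },
      Vert.id _, ?_⟩
    · change 𝒳.p.map (k.hom ≫ z.obj.snd.aut.hom ≫ k.inv) = 𝟙 _
      have h1 : 𝒳.p.map z.obj.snd.aut.hom = 𝟙 _ := z.obj.snd.map_aut
      rw [Functor.map_comp, Functor.map_comp, h1, Category.id_comp, ← Functor.map_comp, Iso.hom_inv_id,
        CategoryTheory.Functor.map_id]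
    · change (k.hom ≫ z.obj.snd.aut.hom ≫ k.inv) ≫ k.hom = k.hom ≫ z.obj.snd.aut.hom
      simp
    · change z.obj.snd.aut.hom ≫ k.inv = k.inv ≫ k.hom ≫ z.obj.snd.aut.hom ≫ k.inv
      simp
    · change j.map (𝟙 _) ≫ k.hom = 𝟙 _ ≫ k.hom
      rw [CategoryTheory.Functor.map_id]

theorem fppfLocal_finite_etale :
    AlgSp.IsLocalOnBase AlgSp.IsFppfCover (AlgSp.IsFiniteMor (S := S) ⊓ AlgSp.IsEtaleMor) := by
  intro ι Y Yi g hY hYi hc X f hX Xi fst snd hXi sq
  have h1 := fppfLocal_of_fpqc (Groth.Agent.S10540.result S) Yi g hY hYi hc f hX Xi fst snd hXi sq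
  have h2 := fppfLocal_of_fpqc (Groth.Agent.S10544.result S) Yi g hY hYi hc f hX Xi fst snd hXi sq
  exact ⟨fun h i => ⟨h1.1 h.1 i, h2.1 h.2 i⟩, fun h => ⟨h1.2 fun i => (h i).1, h2.2 fun i => (h i).2⟩⟩

theorem isPullback_restrict_le {X U : Scheme.{u}} (h : X ⟶ U) {A B : U.Opens} (hAB : A ≤ B) :
    IsPullback (h ∣_ A) (X.homOfLE ((Opens.map h.base).monotone hAB)) (U.homOfLE hAB) (h ∣_ B) :=
  IsPullback.of_bot (by simpa using isPullback_morphismRestrict h A) (by simp [← cancel_mono B.ι])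
    (isPullback_morphismRestrict h B)

def overMapIdIso (A : Over S) : AlgSt.overMap (𝟙 A) ≅ BasedFunctor.id (overCat A) :=
  isoMk (F := AlgSt.overMap (𝟙 A)) (G := BasedFunctor.id (overCat A))
    (fun a => Over.isoMk (Iso.refl _) (by
      change 𝟙 _ ≫ a.hom = a.hom ≫ 𝟙 A
      simp))
    (fun a => Vert.id _)
    (fun φ => Over.OverMorphism.ext ((Category.comp_id _).trans (Category.id_comp _).symm))

theorem isEquivOver_overMap_of_iso {A B : Over S} (p : A ≅ B) : IsEquivOver (AlgSt.overMap p.hom) :=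
  ⟨AlgSt.overMap p.inv,
    ⟨(overMapCompIso _ _).symm ≪≫ eqToIso (congrArg AlgSt.overMap p.hom_inv_id) ≪≫ overMapIdIso A⟩,
    ⟨(overMapCompIso _ _).symm ≪≫ eqToIso (congrArg AlgSt.overMap p.inv_hom_id) ≪≫ overMapIdIso B⟩⟩

/-- A nonempty open of a reduced Noetherian scheme over which a quasi-finite unramified morphism is finite etale. -/
theorem exists_open_finite_etale {X U : Scheme.{u}} (h : X ⟶ U) [IsAffineHom h] [LocallyOfFiniteType h]
    [FormallyUnramified h] [IsReduced U] [Nonempty ↥U] :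
    ∃ O : U.Opens, (O : Set ↥U).Nonempty ∧ IsFinite (h ∣_ O) ∧ Etale (h ∣_ O) := by
  have : LocallyQuasiFinite h := EtStruct.locallyQuasiFinite_of_formallyUnramified h
  let x : ↥U := Classical.arbitrary _
  let Z := irreducibleComponent x
  have hZ : Z ∈ irreducibleComponents ↥U := irreducibleComponent_mem_irreducibleComponents x
  let η : ↥U := (isIrreducible_irreducibleComponent (x := x)).genericPoint
  have hη : closure ({η} : Set ↥U) = Z :=
    ((isIrreducible_irreducibleComponent (x := x)).isGenericPoint_genericPoint isClosed_irreducibleComponent).def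
  obtain ⟨V, -, hηV, hfin⟩ := (Groth.Agent.S2080.result h η (by rw [hη]; exact hZ)).1
    (h.finite_preimage_singleton η)
  obtain ⟨W, hW, hfl, hfp⟩ := Groth.Agent.S0414.result h
  obtain ⟨y, hyV, hyW⟩ := hW.inter_open_nonempty (V : Set ↥U) V.2 ⟨η, hηV⟩
  refine ⟨V ⊓ W, ⟨y, hyV, hyW⟩, ?_, ?_⟩
  ·
    exact IsZariskiLocalAtTarget.of_isPullback (isPullback_restrict_le h (inf_le_left : V ⊓ W ≤ V)).flip hfin
  · have sq := (isPullback_restrict_le h (inf_le_right : V ⊓ W ≤ W)).flip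
    have : Flat (h ∣_ (V ⊓ W)) := MorphismProperty.of_isPullback (P := @Flat) sq hfl
    have : LocallyOfFinitePresentation (h ∣_ (V ⊓ W)) :=
      MorphismProperty.of_isPullback (P := @LocallyOfFinitePresentation) sq hfp
    have : FormallyUnramified (h ∣_ (V ⊓ W)) :=
      MorphismProperty.of_isPullback (P := @FormallyUnramified) (isPullback_morphismRestrict h (V ⊓ W)).flip ‹_›
    exact Etale.of_formallyUnramified_of_flat _

theorem exists_open_finite_etale_inertia [IsLocallyNoetherian S] (h𝒳 : AlgSt.IsDM E 𝒳)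
    (hqc : AlgSt.IsQuasiCompact 𝒳)
    (hΔ : AlgSt.RepByAlgSpWith AlgSp.IsAffineMor (diag (toSelf 𝒳)))
    (hred : AlgSt.SmoothLocally (fun T => IsReduced T) 𝒳) (hne : Nonempty (AlgSt.Points 𝒳)) :
    ∃ (𝒰 : AlgSt.Cat S) (j : 𝒰 ⥤ᵇ 𝒳),
      AlgSt.IsOpenImm j ∧ Nonempty (AlgSt.Points 𝒰) ∧
      AlgSt.RepByAlgSpWith (AlgSp.IsFiniteMor ⊓ AlgSp.IsEtaleMor) (inertiaToBase (toSelf 𝒰)) := by
  obtain ⟨U, x, hU, hx, hxs⟩ := hqc
  have : IsReduced U.left := hred U x hx
  obtain ⟨P₀⟩ := hne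
  obtain ⟨u₀, -⟩ := ofChart_surjective h𝒳.1.isStack.1 hxs P₀
  have : Nonempty ↥U.left := ⟨u₀⟩
  have hunr : AlgSt.RepByAlgSpWith (AlgSp.LocP (@LocallyOfFiniteType ⊓ @FormallyUnramified))
      (inertiaToBase (toSelf 𝒳)) :=
    inertiaToBase_mem _ (isDMOver_of_etale_atlas h𝒳.1 h𝒳.2)
  obtain ⟨A, e, he, hA⟩ := inertiaToBase_mem _ hΔ U x
  obtain ⟨ia⟩ := exists_iso_ofSpMap_toOverCat (BasedFunctor.comp e (fpFst x (inertiaToBase (toSelf 𝒳))))
  let a := AlgSt.spMapOfOver (BasedFunctor.comp e (fpFst x (inertiaToBase (toSelf 𝒳))))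
  have hdet := good_unramified (S := S)
  have ha : AlgSp.LocP (@LocallyOfFiniteType ⊓ @FormallyUnramified) a :=
    mem_of_repByAlgSpWith_ofSpMap hdet.bc hdet.det A.property (isAlgSpace_yon U) a
      ((repByAlgSpWith_iff_of_equiv _ e (AlgSt.toOverCat U) he (toOverCat_isEquivOver U)
        (f := fpFst x (inertiaToBase (toSelf 𝒳))) (f' := AlgSt.ofSpMap a) ia).1 (repByAlgSpWith_fpFst _ x hunr))
  obtain ⟨Y, h, ι, hι, hh⟩ := exists_iso_yon_of_repWith @IsAffineHom
    ((Groth.Agent.AlgSp.isAffineMor_iff a).1 hA)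
  have : IsAffineHom h.left := hh
  have hl : (@LocallyOfFiniteType ⊓ @FormallyUnramified : MorphismProperty Scheme.{u}) h.left := by
    refine scheme_mem_of_locP ?_
    rw [← hι]
    exact hdet.comp (isAlgSpace_yon Y) A.property (isAlgSpace_yon U) _ _ (Groth.Agent.AlgSpCov.locP_of_repWith Groth.Agent.AlgSpCov.standard_unramified.etaleLocal (repWith_of_isIso _)) ha
  have : LocallyOfFiniteType h.left := hl.1
  have : FormallyUnramified h.left := hl.2
  obtain ⟨O, hO, hfin, het⟩ := exists_open_finite_etale h.left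
  let U0 : Over S := Over.mk (O.ι ≫ U.hom)
  let o : U0 ⟶ U := Over.homMk O.ι rfl
  let x0 := BasedFunctor.comp (AlgSt.overMap o) x
  have : IsOpenImmersion o.left := inferInstanceAs (IsOpenImmersion O.ι)
  have hx0 : AlgSt.RepByAlgSpWith (AlgSp.LocP @Smooth) x0 := smooth_chart_comp o hx
  -- the inertia over `U0`
  let Y0 : Over S := Over.mk ((h.left ⁻¹ᵁ O).ι ≫ Y.hom)
  let h0 : Y0 ⟶ U0 := Over.homMk (h.left ∣_ O) (by
    change (h.left ∣_ O) ≫ O.ι ≫ U.hom = (h.left ⁻¹ᵁ O).ι ≫ Y.hom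
    rw [← Category.assoc, morphismRestrict_ι, Category.assoc, Over.w h])
  let r : Y0 ⟶ Y := Over.homMk (h.left ⁻¹ᵁ O).ι rfl
  have sq0 : IsPullback h0 r o h := IsPullback.of_map (Over.forget S)
    (Over.OverMorphism.ext (morphismRestrict_ι _ _)) (isPullback_morphismRestrict h.left O)
  let P : MorphismProperty (AlgSp.Sp S) := AlgSp.IsFiniteMor ⊓ AlgSp.IsEtaleMor
  have hP : P ((AlgSp.yon S).map h0) :=
    ⟨(Groth.Agent.AlgSpCov.isFiniteMor_iff _).2 ((AlgSp.repWith_yon_map_iff _ _).2 hfin),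
      isEtaleMor_of_repWith ((AlgSp.repWith_yon_map_iff _ _).2 het)⟩
  have hPb : StableBC P := (good_finite.inf good_etale).bc
  let E1 : overCat Y ⥤ᵇ fp x (inertiaToBase (toSelf 𝒳)) :=
    BasedFunctor.comp (AlgSt.ofOverCat Y) (BasedFunctor.comp (AlgSt.ofSpMap ι.hom) e)
  have hE1 : IsEquivOver E1 := isEquivOver_comp ⟨AlgSt.toOverCat Y, ⟨Iso.refl _⟩, ⟨Iso.refl _⟩⟩
    (isEquivOver_comp (isEquivOver_ofSpMap_iso ι) he)
  let iE : BasedFunctor.comp E1 (fpFst x (inertiaToBase (toSelf 𝒳))) ≅ AlgSt.overMap h :=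
    isoWhiskerLeft (BasedFunctor.comp (AlgSt.ofOverCat Y) (AlgSt.ofSpMap ι.hom)) ia.symm ≪≫
      eqToIso (show BasedFunctor.comp (AlgSt.ofOverCat Y)
          (BasedFunctor.comp (AlgSt.ofSpMap (ι.hom ≫ a)) (AlgSt.toOverCat U)) =
        BasedFunctor.comp (AlgSt.ofOverCat Y)
          (BasedFunctor.comp (AlgSt.ofSpMap ((AlgSp.yon S).map h)) (AlgSt.toOverCat U)) by rw [hι]) ≪≫
      isoWhiskerLeft (AlgSt.ofOverCat Y) (toOverCatIso h).symm
  have h' : AlgSt.RepByAlgSpWith P (fpFst x0 (inertiaToBase (toSelf 𝒳))) := by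
    obtain ⟨N, hN, ⟨iN1⟩, -⟩ := exists_equiv_pullback o h
    have : (BasedFunctor.id (overCat U)).toFunctor.Full := inferInstanceAs (𝟭 _).Full
    have : (BasedFunctor.id (overCat U)).toFunctor.Faithful := inferInstanceAs (𝟭 _).Faithful
    let M1 := fpMap (F := AlgSt.overMap o) (G := fpFst x (inertiaToBase (toSelf 𝒳))) (F' := AlgSt.overMap o)
      (G' := AlgSt.overMap h) (BasedFunctor.id _) E1 (BasedFunctor.id _) (Iso.refl _) iE
    have hM1 : IsEquivOver M1 := fpMap_isEquivOver _ _ _ _ _ (isEquivOver_id _) hE1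
    let p := (IsPullback.isoPullback sq0)
    let E0 : overCat Y0 ⥤ᵇ fp x0 (inertiaToBase (toSelf 𝒳)) :=
      BasedFunctor.comp (AlgSt.overMap p.hom)
        (BasedFunctor.comp (BasedFunctor.comp N M1) (fpPaste x (inertiaToBase (toSelf 𝒳)) (AlgSt.overMap o)))
    have hE0 : IsEquivOver E0 := isEquivOver_comp (isEquivOver_overMap_of_iso p)
      (isEquivOver_comp (isEquivOver_comp hN hM1) (fpPaste_isEquivOver _ _ _))
    let i0 : BasedFunctor.comp E0 (fpFst x0 (inertiaToBase (toSelf 𝒳))) ≅ AlgSt.overMap h0 :=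
      isoWhiskerLeft (AlgSt.overMap p.hom) iN1 ≪≫ (overMapCompIso _ _).symm ≪≫
        eqToIso (congrArg AlgSt.overMap (IsPullback.isoPullback_hom_fst sq0))
    exact (repByAlgSpWith_iff_of_equiv P E0 (BasedFunctor.id _) hE0 (isEquivOver_id _)
      (f := fpFst x0 (inertiaToBase (toSelf 𝒳))) (f' := AlgSt.overMap h0) i0.symm).2
      ((repByAlgSpWith_iff_of_equiv P (AlgSt.toOverCat Y0) (AlgSt.toOverCat U0) (toOverCat_isEquivOver Y0)
        (toOverCat_isEquivOver U0) (toOverCatIso h0)).2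
        (repByAlgSpWith_ofSpMap hPb (isAlgSpace_yon Y0) (isAlgSpace_yon U0) _ hP))
  -- the open substack
  let Ω : Set (AlgSt.Points 𝒳) := Set.range (AlgSt.Points.ofChart x0)
  have hΩ : IsOpen Ω := by
    change IsOpen (Set.range (AlgSt.Points.ofChart x0))
    rw [← Set.image_univ]
    exact isOpenMap_ofChart h𝒳.1 (repByAlgSpWith_flat_of_smooth hx0) (repByAlgSpWith_lfp_of_smooth hx0) _
      isOpen_univ
  let Q := ptsProp Ω
  refine ⟨AlgSt.fullSub 𝒳 Q, AlgSt.subIncl 𝒳 Q, ?_, ?_, ?_⟩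
  · refine isOpenImm_subIncl_of_openLoci Q ptsProp_of_hom fun T y => ?_
    refine ⟨⟨AlgSt.Points.ofChart y ⁻¹' Ω, hΩ.preimage (continuous_ofChart h𝒳.1 y)⟩, fun g => ?_⟩
    refine (ptsProp_chart_iff h𝒳.1.isStack.1 y g Ω).trans ?_
    exact ⟨fun h => by rintro _ ⟨t, rfl⟩; exact h t, fun h t => h ⟨t, rfl⟩⟩
  · obtain ⟨v, hv⟩ := hO
    have hm : AlgSt.Points.ofChart x0 (⟨v, hv⟩ : O.toScheme) ∈
        Set.range (AlgSt.Points.map (AlgSt.subIncl 𝒳 Q)) := by
      rw [range_subIncl_ptsProp Ω h𝒳.1.isStack.1]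
      exact ⟨_, rfl⟩
    exact ⟨hm.choose⟩
  · intro T y
    let y' := BasedFunctor.comp y (AlgSt.subIncl 𝒳 Q)
    obtain ⟨L, ee, hcart⟩ := exists_inertia_sub_cart Q
    obtain ⟨G, hG, ⟨iG⟩, -⟩ := exists_fp_of_cart (inertiaToBase (toSelf (AlgSt.fullSub 𝒳 Q))) L ee hcart y
    obtain ⟨d, hd, -, ⟨jd⟩⟩ := isEquivOver_symm hG
    obtain ⟨A', e', he', -⟩ := hunr T y'
    refine ⟨A', BasedFunctor.comp e' d, isEquivOver_comp he' hd, ?_⟩
    obtain ⟨W, α, c, ⟨i⟩, hex, h1, h2, -⟩ := exists_chart_fp h𝒳.1 x0 y'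
    have := h1 (repByAlgSpWith_flat_of_smooth hx0)
    have := h2 (repByAlgSpWith_lfp_of_smooth hx0)
    have : Surjective c.left := ⟨fun t => by
      have hQ : Q (y'.obj (Over.mk (𝟙 T))) := (y.obj (Over.mk (𝟙 T))).property
      obtain ⟨v, hv⟩ := (ptsProp_chart_iff h𝒳.1.isStack.1 y' (Over.mk (𝟙 T)) Ω).1 hQ t
      obtain ⟨w, -, hw⟩ := hex v ((𝟙 T : T ⟶ T).left t) hv
      exact ⟨w, hw⟩⟩
    have hmem := mem_of_cover_lift hPb fppfLocal_finite_etale h' A' e' he' c (AlgSt.overMap α) i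
    rwa [spMapOfOver_congr (show BasedFunctor.comp (BasedFunctor.comp e' d)
        (fpFst y (inertiaToBase (toSelf (AlgSt.fullSub 𝒳 Q)))) ≅
      BasedFunctor.comp e' (fpFst y' (inertiaToBase (toSelf 𝒳))) from
      isoWhiskerLeft e' (isoWhiskerLeft d iG.symm ≪≫ isoWhiskerRight jd (fpFst y' _)))]

end Groth.Agent.StFib
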