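import Groth.Agent.StFib.QuotModuli
import Groth.Agent.StFib.QuotBridge
import Groth.Agent.GalCohAux.GerbCoarse

/-!
# Coarse moduli spaces of quotient categories
-/

set_option linter.unusedVariables false
set_option backward.isDefEq.respectTransparency false
set_option backward.isDefEq.respectTransparency.types false

universe u

open CategoryTheory CategoryTheory.Limits AlgebraicGeometry Opposite MonoidalCategory CartesianMonoidalCategory
  MonObj GrpObj FibCat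

namespace Groth.Agent.StFib.QuotTriv

variable {S : Scheme.{u}} {G X : Over S} [GrpObj G] {aX : AlgGrp.Action G X}

local notation "𝒬" => AlgSt.QuotSt Scheme.fppfPrecoverage G aX

variable (aX) in
/-- The trivial torsor of a point, in the fibre category. -/
noncomputable abbrev fibTriv {T : Over S} (x : T ⟶ X) : (𝒬).p.Fiber T :=
  Functor.Fiber.mk (p := (𝒬).p) (a := (AlgSt.quotMap Scheme.fppfPrecoverage G aX).obj (pt x)) rfl

variable (aX) in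
/-- A translation, in the fibre category. -/
noncomputable def fibRmul {T : Over S} {x y : T ⟶ X} (g : T ⟶ G) (h : lift g y ≫ aX.act = x) :
    fibTriv aX x ≅ fibTriv aX y where
  hom := ⟨(rmulIso aX Scheme.fppfPrecoverage g h).hom, Vert.isHomLift (𝒳 := 𝒬) ⟨rfl, rfl⟩ rfl⟩
  inv := ⟨(rmulIso aX Scheme.fppfPrecoverage g h).inv, Vert.isHomLift (𝒳 := 𝒬) ⟨rfl, rfl⟩ rfl⟩
  hom_inv_id := Subtype.ext (rmulIso aX Scheme.fppfPrecoverage g h).hom_inv_id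
  inv_hom_id := Subtype.ext (rmulIso aX Scheme.fppfPrecoverage g h).inv_hom_id

theorem exists_triv_iso [IsAffineHom G.hom] {Ω : Type u} [Field Ω] [IsAlgClosed Ω]
    (t : Spec (CommRingCat.of Ω) ⟶ S) (ξ : (𝒬).p.Fiber (Over.mk t)) :
    ∃ x : Over.mk t ⟶ X, Nonempty (ξ ≅ fibTriv aX x) := by
  obtain ⟨A, hA⟩ := ξ
  obtain ⟨R, hR, hs⟩ := exists_sieve_secs A
  have h1 := Groth.Agent.GalCohAux.GerbCoarse.eq_top_of_mem t ((AlgSp.J S).pullback_stable (eqToHom hA.symm) hR)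
  obtain ⟨s, hsπ⟩ := hs _ h1
  rw [Category.id_comp] at hsπ
  let h := homTriv (K := Scheme.fppfPrecoverage) (pt (s ≫ A.φ)) A (eqToHom hA.symm) s hsπ rfl
  have hv : Vert (𝒳 := 𝒬) h := ⟨hA.symm, rfl⟩
  have := hv.isIso (QuotBr.isStack (aX := aX)).1
  exact ⟨s ≫ A.φ, ⟨{
    hom := ⟨inv h, (Vert.inv (φ := asIso h) hv).isHomLift hA⟩
    inv := ⟨h, hv.isHomLift rfl⟩
    hom_inv_id := Subtype.ext (IsIso.inv_hom_id h)
    inv_hom_id := Subtype.ext (IsIso.hom_inv_id h) }⟩⟩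

variable {Y : Over S} {f : X ⟶ Y} {π : AlgSt.QuotSt Scheme.fppfPrecoverage G aX ⥤ᵇ AlgSt.ofSch Y}

theorem fibSec_triv (hπ : BasedFunctor.comp (AlgSt.quotMap Scheme.fppfPrecoverage G aX) π =
    AlgSt.ofSpMap ((AlgSp.yon S).map f)) {T : Over S} (x : T ⟶ X) :
    AlgSt.fibSec π (fibTriv aX x) = ⟨x ≫ f⟩ := by
  have he : π.obj ((AlgSt.quotMap Scheme.fppfPrecoverage G aX).obj (pt x)) =
      (AlgSt.ofSpMap ((AlgSp.yon S).map f)).obj (pt x) := congrArg (fun F => F.obj (pt x)) hπ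
  have aux : ∀ {a b : (AlgSt.ofSch Y).obj} (e : a = b) (e' : b.base = a.base),
      ((AlgSp.yon S).obj Y).obj.map (eqToHom e').op a.sec = b.sec := by
    intro a b e e'; subst e; exact psh_map_id _ _
  exact aux he _

theorem isCoarseModuli [IsAffineHom G.hom] (hinv : aX.act ≫ f = snd G X ≫ f)
    (horb : ∀ (Ω : Type u) [Field Ω] [IsAlgClosed Ω] (t : Spec (CommRingCat.of Ω) ⟶ S),
      (∀ y : Over.mk t ⟶ Y, ∃ x : Over.mk t ⟶ X, x ≫ f = y) ∧
      (∀ x x' : Over.mk t ⟶ X, x ≫ f = x' ≫ f → ∃ g : Over.mk t ⟶ G, lift g x' ≫ aX.act = x))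
    (hcat : ∀ (N : AlgSp.Space S) (ψ : (AlgSp.yon S).obj X ⟶ N.obj),
      (AlgSp.yon S).map aX.act ≫ ψ = (AlgSp.yon S).map (snd G X) ≫ ψ →
        ∃! χ : (AlgSp.yon S).obj Y ⟶ N.obj, (AlgSp.yon S).map f ≫ χ = ψ)
    (hπ : Nonempty (BasedFunctor.comp (AlgSt.quotMap Scheme.fppfPrecoverage G aX) π ≅
      AlgSt.ofSpMap ((AlgSp.yon S).map f))) : AlgSt.IsCoarseModuli π := by
  have hπ' := eq_of_iso hπ.some
  have hr : res π = (AlgSp.yon S).map f := ofSpMap_inj ((comp_eq_ofSpMap_res _).symm.trans hπ')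
  have key : ∀ {N : AlgSp.Sp S} (φ : AlgSt.QuotSt Scheme.fppfPrecoverage G aX ⥤ᵇ AlgSt.ofSp N)
      (g : (AlgSp.yon S).obj Y ⟶ N),
      Nonempty (BasedFunctor.comp π (AlgSt.ofSpMap g) ≅ φ) ↔ (AlgSp.yon S).map f ≫ g = res φ := by
    intro N φ g
    rw [← hr, ← res_comp, ← eq_iff_res]
    exact ⟨fun h => eq_of_iso h.some, fun h => ⟨eqToIso h⟩⟩
  refine ⟨⟨AlgSp.IsAlgSpace.yon_obj _, fun N hN φ => ?_⟩, fun Ω _ _ t => ⟨fun m => ?_, fun x y hxy => ?_⟩⟩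
  · obtain ⟨χ, hχ, hu⟩ := hcat ⟨N, hN⟩ (res φ) (res_inv φ)
    exact ⟨χ, (key φ χ).2 hχ, fun g hg => hu g ((key φ g).1 hg)⟩
  · obtain ⟨x, hx⟩ := (horb Ω t).1 m.down
    exact ⟨fibTriv aX x, (fibSec_triv hπ' x).trans (congrArg ULift.up hx)⟩
  · obtain ⟨x', ⟨ex⟩⟩ := exists_triv_iso t x
    obtain ⟨y', ⟨ey⟩⟩ := exists_triv_iso t y
    rw [Groth.Agent.GalCohAux.GerbCoarse.fibSec_hom π ex.hom, Groth.Agent.GalCohAux.GerbCoarse.fibSec_hom π ey.hom,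
      fibSec_triv hπ', fibSec_triv hπ'] at hxy
    obtain ⟨g, hg⟩ := (horb Ω t).2 x' y' (congrArg ULift.down hxy)
    exact ⟨ex ≪≫ fibRmul aX g hg ≪≫ ey.symm⟩

end Groth.Agent.StFib.QuotTriv
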