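import Groth.Agent.StFib.DVRClosed
import Groth.Agent.StFib.QC2
import Groth.Agent.StFib.ProdMap
import Groth.Agent.AlgSp.QCMor
import Mathlib.RingTheory.PowerSeries.Inverse

/-!
# Specializations of points of stacks are seen by discrete valuation rings
-/

set_option backward.isDefEq.respectTransparency false
set_option backward.isDefEq.respectTransparency.types false
set_option linter.unusedVariables false

universe u

open CategoryTheory CategoryTheory.Limits AlgebraicGeometry Opposite FibCat Topology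

namespace Groth.Agent.StFib

variable {S : Scheme.{u}} {𝒳 𝒴 : AlgSt.Cat S}

local notation "E" => Scheme.etalePrecoverage

/-- The points of a chart over a given point form the image of an affine scheme. -/
theorem exists_affine_onto_fibre [QuasiSeparatedSpace S] (h𝒳 : AlgSt.IsAlgStack E 𝒳)
    (hd : AlgSt.RepByAlgSpWith AlgSp.IsQuasiCompactMor (diag (toSelf 𝒳))) {T : Over S} [IsAffine T.left]
    (xT : overCat T ⥤ᵇ 𝒳) (x : AlgSt.Points 𝒳) :
    ∃ (U : Over S) (_ : IsAffine U.left) (g : U ⟶ T),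
      ∀ s : ↥T.left, AlgSt.Points.ofChart xT s = x ↔ s ∈ Set.range g.left := by
  obtain ⟨p, rfl⟩ := AlgSt.Points.mk_surjective x
  obtain ⟨y, i, hi⟩ := exists_overFunctor h𝒳.isStack.1 p.obj p.lies
  let Tk : Over S := Over.mk p.str
  let q0 : AlgSt.FPt (overCat Tk) := ⟨p.K, p.str, Over.mk (𝟙 _), rfl⟩
  have hy : ∀ t : ↥Tk.left, AlgSt.Points.ofChart y t = AlgSt.Points.mk p := fun t => by
    have : Subsingleton ↥Tk.left := inferInstanceAs (Subsingleton (PrimeSpectrum p.K))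
    rw [Subsingleton.elim t (ptOf q0), ofChart_eq_map, ofChart_id_ptOf]
    exact AlgSt.Points.sound ⟨q0.map y, 𝟙 _, i.hom, trivial⟩
  have : CompactSpace Tk.left := inferInstanceAs (CompactSpace ↥(Spec (CommRingCat.of p.K)))
  let W : Over S := Tk ⨯ T
  have : CompactSpace W.left := Groth.Agent.AlgSp.compactSpace_prod_left Tk T
  obtain ⟨a1⟩ := exists_iso_toSelf (BasedFunctor.comp (BasedFunctor.comp (AlgSt.overMap (prod.fst : W ⟶ Tk)) y) (toSelf 𝒳))
  obtain ⟨b1⟩ := exists_iso_toSelf (BasedFunctor.comp (BasedFunctor.comp (AlgSt.overMap (prod.snd : W ⟶ T)) xT) (toSelf 𝒳))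
  let w : overCat W ⥤ᵇ fp (toSelf 𝒳) (toSelf 𝒳) :=
    fpLift (BasedFunctor.comp (AlgSt.overMap (prod.fst : W ⟶ Tk)) y)
      (BasedFunctor.comp (AlgSt.overMap (prod.snd : W ⟶ T)) xT) (a1 ≪≫ b1.symm)
  obtain ⟨A, e, he, hA⟩ := hd W w
  have hAc : AlgSp.IsQuasiCompactSp A.obj := hA (isAlgSpace_yon W)
    (Groth.Agent.AlgSp.isQuasiCompactSp_yon W) (𝟙 _) (𝟙 _) _
    (IsPullback.of_horiz_isIso ⟨(Category.id_comp _).trans (Category.comp_id _).symm⟩)
  obtain ⟨U, u, hU, -, hus⟩ := isQuasiCompact_of_equiv he ((isQuasiCompact_ofSp_iff A.property).2 hAc)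
  obtain ⟨c, ⟨ic⟩⟩ := exists_iso_overMap (BasedFunctor.comp u (fpFst w (diag (toSelf 𝒳))))
  refine ⟨U, hU, c ≫ prod.snd, fun s => ⟨fun hs => ?_, ?_⟩⟩
  · obtain ⟨R, α, β, ⟨iR⟩, hR, -⟩ := exists_chart_fp h𝒳 y xT
    let t0 : ↥Tk.left := ptOf q0
    obtain ⟨ρ, hρ1, hρ2⟩ := hR t0 s ((hy t0).trans hs.symm)
    let l : R ⟶ W := prod.lift α β
    obtain ⟨iw⟩ := exists_iso_of_fp_selfOver (F := BasedFunctor.comp (AlgSt.overMap l) w)
      (G := BasedFunctor.comp (BasedFunctor.comp (AlgSt.overMap α) y) (diag (toSelf 𝒳)))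
      (isoWhiskerRight ((overMapCompIso l prod.fst).symm ≪≫
        eqToIso (congrArg AlgSt.overMap (prod.lift_fst α β))) y)
      (isoWhiskerRight ((overMapCompIso l prod.snd).symm ≪≫
        eqToIso (congrArg AlgSt.overMap (prod.lift_snd α β))) xT ≪≫ iR.symm)
    let m := fpLift (AlgSt.overMap l) (BasedFunctor.comp (AlgSt.overMap α) y) iw
    have hfp : IsFibGrpd (fp w (diag (toSelf 𝒳))).p := isFibGrpd_fp (isFibGrpd_overCat W) h𝒳.isStack.1
      (isAlgStack_fp_etale h𝒳 h𝒳 ⟨isStack_anti AlgSpB.etJ_le isAlgStack_selfOver.isStack,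
        isAlgStack_selfOver.diag, isAlgStack_selfOver.atlas⟩ (toSelf 𝒳) (toSelf 𝒳)).isStack.1 w _
    obtain ⟨r, hr⟩ := ofChart_surjective hfp hus (AlgSt.Points.ofChart m ρ)
    refine ⟨r, ?_⟩
    have h2 := congrArg (basePt (fpFst w (diag (toSelf 𝒳)))) hr
    rw [basePt_ofChart ic, basePt_ofChart (x := m) (h := l) (Iso.refl _)] at h2
    rw [Over.comp_left, Scheme.Hom.comp_apply, h2, ← Scheme.Hom.comp_apply, ← Over.comp_left, prod.lift_snd, hρ2]
  · rintro ⟨r, rfl⟩
    let m := BasedFunctor.comp u (fpSnd w (diag (toSelf 𝒳)))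
    let iw : BasedFunctor.comp (AlgSt.overMap c) w ≅ BasedFunctor.comp m (diag (toSelf 𝒳)) :=
      isoWhiskerRight ic.symm w ≪≫ isoWhiskerLeft u (fpIso w (diag (toSelf 𝒳)))
    let ixy : BasedFunctor.comp (AlgSt.overMap (c ≫ prod.snd)) xT ≅
        BasedFunctor.comp (AlgSt.overMap (c ≫ prod.fst)) y :=
      isoWhiskerRight (overMapCompIso c prod.snd) xT ≪≫ isoWhiskerRight iw (fpSnd _ _) ≪≫
        (isoWhiskerRight iw (fpFst _ _)).symm ≪≫ isoWhiskerRight (overMapCompIso c prod.fst).symm y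
    rw [← ofChart_overMap, ofChart_congr ixy, ofChart_overMap]
    exact hy _

theorem exists_dvr_of_specializes [QuasiSeparatedSpace S] (h𝒳 : AlgSt.IsAlgStack E 𝒳)
    (h𝒴 : AlgSt.IsAlgStack E 𝒴) (hqs : AlgSt.IsQuasiSeparatedOver 𝒳)
    (hn𝒴 : AlgSt.SmoothLocally (fun T => IsLocallyNoetherian T) 𝒴)
    (f : 𝒳 ⥤ᵇ 𝒴) (hft : AlgSt.LocQ (AlgSp.LocP @LocallyOfFiniteType) f)
    (hqc : AlgSt.IsQuasiCompactMor E f)
    (x : AlgSt.Points 𝒳) (y₀ : AlgSt.Points 𝒴) (hsp : AlgSt.Points.map f x ⤳ y₀) :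
    ∃ (R : Type u) (_ : CommRing R) (_ : IsDomain R) (_ : IsDiscreteValuationRing R)
      (sR : Spec (CommRingCat.of R) ⟶ S)
      (a : FibCat.overCat (Over.mk (Spec.map (CommRingCat.ofHom (algebraMap R (FractionRing R))) ≫ sR)) ⥤ᵇ 𝒳)
      (b : FibCat.overCat (Over.mk sR) ⥤ᵇ 𝒴),
      Nonempty (BasedFunctor.comp a f ≅
        BasedFunctor.comp (AlgSt.overMap (Over.homMk (Spec.map (CommRingCat.ofHom (algebraMap R (FractionRing R)))) rfl :
          Over.mk (Spec.map (CommRingCat.ofHom (algebraMap R (FractionRing R))) ≫ sR) ⟶ Over.mk sR)) b) ∧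
      (∀ p, AlgSt.Points.ofChart a p = x) ∧
      AlgSt.Points.ofChart b (IsLocalRing.closedPoint R) = y₀ := by
  obtain ⟨V, y, hy, hys⟩ := h𝒴.atlas
  have : IsLocallyNoetherian V.left := hn𝒴 V y hy
  obtain ⟨v, hv⟩ := ofChart_surjective h𝒴.isStack.1 hys y₀
  obtain ⟨OV, hOV, hvO, -⟩ := exists_isAffineOpen_mem_and_subset (x := v) (U := ⊤) trivial
  let O : Over S := Over.mk (OV.ι ≫ V.hom)
  let ιV : O ⟶ V := Over.homMk OV.ι rfl
  have : IsAffine O.left := hOV
  have : IsOpenImmersion ιV.left := inferInstanceAs (IsOpenImmersion OV.ι)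
  have : IsLocallyNoetherian O.left := isLocallyNoetherian_of_isOpenImmersion OV.ι
  let v₀ : ↥O.left := (⟨v, hvO⟩ : OV.toScheme)
  let b := BasedFunctor.comp (AlgSt.overMap ιV) y
  have hb : AlgSt.RepByAlgSpWith (AlgSp.LocP @Smooth) b := smooth_chart_comp ιV hy
  have hv₀ : AlgSt.Points.ofChart b v₀ = y₀ := (ofChart_overMap y ιV v₀).trans hv
  have hcl : v₀ ∈ closure {v : ↥O.left | AlgSt.Points.ofChart b v = AlgSt.Points.map f x} := by
    rw [mem_closure_iff]
    intro U hU hvU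
    obtain ⟨w, hw, hwx⟩ := hsp.mem_open
      (isOpenMap_ofChart h𝒴 (repByAlgSpWith_flat_of_smooth hb) (repByAlgSpWith_lfp_of_smooth hb) U hU)
      ⟨v₀, hvU, hv₀⟩
    exact ⟨w, hw, hwx⟩
  have hM := isAlgStack_fp_etale h𝒳 (isAlgStack_overCat_etale O) h𝒴 f b
  obtain ⟨T, a, hT, ha, has⟩ := isQuasiCompact_fp_right h𝒳 h𝒴 f hqc O b
  obtain ⟨q, ⟨ia⟩⟩ := exists_iso_overMap (BasedFunctor.comp a (fpSnd f b))
  let xT := BasedFunctor.comp a (fpFst f b)
  let α : BasedFunctor.comp xT f ≅ BasedFunctor.comp (AlgSt.overMap q) b :=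
    isoWhiskerLeft a (fpIso f b) ≪≫ isoWhiskerRight ia b
  let β : a ≅ fpLift xT (AlgSt.overMap q) α :=
    isoMk (F := a) (G := fpLift xT (AlgSt.overMap q) α)
      (fun w => fpIsoMk (Iso.refl _) (isoApp ia w) (by
        change f.map (𝟙 _) ≫ (isoApp α w).hom = (a.obj w).obj.iso.hom ≫ b.map (isoApp ia w).hom
        rw [CategoryTheory.Functor.map_id, Category.id_comp]
        rfl))
      (fun w => Vert.id _)
      (fun {v w} φ => fp_hom_ext (F := f) (G := b) ((Category.comp_id _).trans (Category.id_comp _).symm)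
        (isoApp_naturality ia φ))
  have : LocallyOfFiniteType q.left := scheme_mem_of_locP (mem_of_locQ_of isAlgStack_overCat_etale
    (isSmoothLocalST_locP smoothLocalProp_lft) h𝒳 h𝒴 hft α hb (repByAlgSpWith_of_iso _ β ha))
  have : IsAffine T.left := hT
  obtain ⟨U, hU, g, hg⟩ := exists_affine_onto_fibre h𝒳 (repByAlgSpWith_mono hqs fun _ _ _ h => h.1) xT x
  have hcl' : v₀ ∈ closure (Set.range (g.left ≫ q.left)) := by
    refine closure_mono ?_ hcl
    intro v' hv'
    obtain ⟨R, hR1, hR2⟩ := exists_points_fp_of_map_eq (isFibGrpd_overCat O) h𝒳.isStack.1 h𝒴.isStack.1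
      b f x (AlgSt.Points.ofChart (BasedFunctor.id _) v') hv'.symm
    obtain ⟨t, rfl⟩ := ofChart_surjective hM.isStack.1 has R
    rw [map_ofChart] at hR1
    obtain ⟨r, rfl⟩ := (hg t).1 hR1
    refine ⟨r, ?_⟩
    have h3 := congrArg ptMap hR2
    rw [ptMap_ofChart_id, ptMap_ofChart_of_iso ia] at h3
    rw [Scheme.Hom.comp_apply, h3]
  obtain ⟨r, hr⟩ := SchPoints.exists_specializes_of_mem_closure_range (g.left ≫ q.left) hcl'
  let t := g.left r
  have ht : AlgSt.Points.ofChart xT t = x := (hg t).2 ⟨r, rfl⟩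
  obtain ⟨A, _, _, _, xA, yA, hxy, hyA, hxA⟩ : ∃ (A : Type u) (_ : CommRing A) (_ : IsDomain A)
      (_ : IsDiscreteValuationRing A) (xA : Spec (CommRingCat.of (FractionRing A)) ⟶ T.left)
      (yA : Spec (CommRingCat.of A) ⟶ O.left),
      xA ≫ q.left = Spec.map (CommRingCat.ofHom (algebraMap A (FractionRing A))) ≫ yA ∧
        yA (IsLocalRing.closedPoint A) = v₀ ∧ ∀ p, xA p = t := by
    by_cases hne : q.left t = v₀
    · let k := T.left.residueField t
      let c : Spec (CommRingCat.of (PowerSeries k)) ⟶ T.left :=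
        Spec.map (CommRingCat.ofHom (PowerSeries.C (R := k))) ≫ T.left.fromSpecResidueField t
      have hc : ∀ z, c z = t := fun z => by
        change T.left.fromSpecResidueField t (Spec.map (CommRingCat.ofHom (PowerSeries.C (R := k))) z) = t
        exact Scheme.fromSpecResidueField_apply _ _
      refine ⟨PowerSeries k, inferInstance, inferInstance, inferInstance,
        Spec.map (CommRingCat.ofHom (algebraMap (PowerSeries k) (FractionRing (PowerSeries k)))) ≫ c,
        c ≫ q.left, Category.assoc _ _ _, ?_, fun z => hc _⟩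
      rw [Scheme.Hom.comp_apply, hc]
      exact hne
    · exact Groth.Agent.AlgSpB.Art.exists_dvr_through q.left t v₀ hr hne
  let sR : Spec (CommRingCat.of A) ⟶ S := yA ≫ O.hom
  let cK : Over S := Over.mk (Spec.map (CommRingCat.ofHom (algebraMap A (FractionRing A))) ≫ sR)
  let iy : Over.mk sR ⟶ O := Over.homMk yA rfl
  let ix : cK ⟶ T := Over.homMk xA (by
    show xA ≫ T.hom = _
    rw [← Over.w q, reassoc_of% hxy]; rfl)
  let j : cK ⟶ Over.mk sR := Over.homMk (Spec.map (CommRingCat.ofHom (algebraMap A (FractionRing A)))) rfl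
  have hj : ix ≫ q = j ≫ iy := Over.OverMorphism.ext hxy
  refine ⟨A, inferInstance, inferInstance, inferInstance, sR, BasedFunctor.comp (AlgSt.overMap ix) xT,
    BasedFunctor.comp (AlgSt.overMap iy) b, ⟨?_⟩, fun p => ?_, ?_⟩
  · exact isoWhiskerLeft (AlgSt.overMap ix) α ≪≫ isoWhiskerRight ((overMapCompIso ix q).symm ≪≫
      eqToIso (congrArg AlgSt.overMap hj) ≪≫ overMapCompIso j iy) b
  · exact (ofChart_overMap xT ix p).trans ((congrArg _ (hxA p)).trans ht)
  · exact (ofChart_overMap b iy _).trans ((congrArg _ hyA).trans hv₀)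

end Groth.Agent.StFib
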