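import Groth.Agent.StFib.QuotBridgeMap
import Groth.Agent.StFib.StackSpace
import Groth.Agent.AlgSpCov.EtaleSections
import Groth.Agent.GrpdLib.EtQuot
import Groth.Agent.S10542

/-!
# Quotient stacks with etale locally trivial torsors under smooth affine groups
-/

set_option linter.unusedVariables false
set_option backward.isDefEq.respectTransparency false
set_option backward.isDefEq.respectTransparency.types false

universe u

open CategoryTheory CategoryTheory.Limits AlgebraicGeometry Opposite MonoidalCategory CartesianMonoidalCategory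
  MonObj FibCat

namespace Groth.Agent.StFib.QuotEt

variable {S : Scheme.{u}} {G X : Over S} [GrpObj G] {aX : AlgGrp.Action G X}

theorem etale_le_fppf : Scheme.etalePrecoverage.{u} ≤ Scheme.fppfPrecoverage :=
  Scheme.precoverage_mono fun _ _ f hf => ⟨(have : Etale f := hf; inferInstance), (have : Etale f := hf; inferInstance)⟩

/-- An object with an etale locally trivial torsor, in the fppf quotient category. -/
noncomputable def objF (A : AlgSt.QuotObj Scheme.etalePrecoverage G aX) :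
    AlgSt.QuotObj Scheme.fppfPrecoverage G aX where
  base := A.base
  P := A.P
  act := A.act
  π := A.π
  cart := A.cart
  loc := A.loc.imp fun R h => ⟨etale_le_fppf _ h.1, h.2⟩
  φ := A.φ
  eqv := A.eqv

variable (aX) in
/-- The comparison functor. -/
noncomputable def F : AlgSt.QuotSt Scheme.etalePrecoverage G aX ⥤ᵇ AlgSt.QuotSt Scheme.fppfPrecoverage G aX where
  toFunctor :=
    { obj := objF
      map := fun {A B} f => ⟨f.base, f.top, f.eqv, f.cart, f.wφ⟩
      map_id := fun _ => AlgSt.QuotObj.hom_ext rfl rfl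
      map_comp := fun _ _ => AlgSt.QuotObj.hom_ext rfl rfl }
  w := rfl

instance : (F aX).toFunctor.Faithful :=
  ⟨fun {A B} f g h => AlgSt.QuotObj.hom_ext (congrArg (fun k => k.base) h) (congrArg (fun k => k.top) h)⟩

instance : (F aX).toFunctor.Full :=
  ⟨fun {A B} f => ⟨⟨f.base, f.top, f.eqv, f.cart, f.wφ⟩, rfl⟩⟩

theorem smooth_pi [IsAffineHom G.hom] [Smooth G.hom] (A : AlgSt.QuotObj Scheme.fppfPrecoverage G aX) :
    Smooth A.π.left := by
  have h := SpTors.prop_torsor good_smooth.bc (fppfLocal_of_fpqc (Groth.Agent.S10542.result S)) QuotBr.isAlgSpace_hS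
    (QuotBr.isAlgSpace_toH G) (QuotBr.locP_hom Groth.Agent.AlgSpCov.standard_smooth.etaleLocal inferInstance)
    (QuotBr.objE A)
  exact (AlgSp.repWith_yon_map_iff (P := @Smooth) A.π).1
    (Groth.Agent.AlgSpCov.repWith_of_locP Groth.Agent.AlgSpCov.standard_smooth.etaleLocal
      (AlgSp.IsAlgSpace.yon_obj _) (AlgSp.IsAlgSpace.yon_obj _)
      ((AlgSp.repWith_yon_map_iff (⊤ : MorphismProperty Scheme.{u}) A.π).2 trivial).1 h)

theorem surjective_pi (A : AlgSt.QuotObj Scheme.fppfPrecoverage G aX) (p : A.base.left) :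
    ∃ q : A.P.left, A.π.left q = p := by
  obtain ⟨R, hR, hs⟩ := A.loc
  obtain ⟨W, g, w, hg, rfl⟩ := (GITLib.mem_fppfPrecoverage_out hR).1 p
  obtain ⟨s, hs⟩ := hs g hg
  refine ⟨s w, ?_⟩
  have hs' : s ≫ A.π.left = g := hs
  rw [← hs', Scheme.Hom.comp_apply]
  rfl

theorem exists_obj [IsAffineHom G.hom] [Smooth G.hom] (A : AlgSt.QuotObj Scheme.fppfPrecoverage G aX) :
    ∃ A₀, objF A₀ = A := by
  have hsm := smooth_pi A
  have hex : ∀ p : A.base.left, ∃ (S' : Scheme.{u}) (g : S' ⟶ A.base.left) (s' : S'),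
      Etale g ∧ g s' = p ∧ ∃ h : S' ⟶ A.P.left, h ≫ A.π.left = g := fun p => by
    obtain ⟨q, rfl⟩ := surjective_pi A p
    exact Groth.Agent.AlgSpCov.exists_etale_section A.π.left q
  choose S' g s' hg hs' h hh using hex
  refine ⟨⟨A.base, A.P, A.act, A.π, A.cart, ⟨Presieve.ofArrows S' g, ?_, ?_⟩, A.φ, A.eqv⟩, rfl⟩
  · rw [Scheme.etalePrecoverage, Scheme.ofArrows_mem_precoverage_iff]
    exact ⟨fun p => ⟨p, s' p, hs' p⟩, hg⟩
  · rintro T f ⟨p⟩
    exact ⟨h p, hh p⟩

theorem isEquivOver_F [IsAffineHom G.hom] [Smooth G.hom] : IsEquivOver (F aX) := by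
  refine isEquivOver_mk _ fun A => ?_
  obtain ⟨A₀, h⟩ := exists_obj A
  exact ⟨A₀, eqToIso h, vert_eqToHom h⟩

theorem exists_quotMap_iso :
    Nonempty (BasedFunctor.comp (AlgSt.quotMap Scheme.etalePrecoverage G aX) (F aX) ≅
      BasedFunctor.comp (BasedFunctor.id (AlgSt.ofSch X)) (AlgSt.quotMap Scheme.fppfPrecoverage G aX)) :=
  ⟨Iso.refl _⟩

theorem isStack [IsAffineHom G.hom] [Smooth G.hom] :
    Stk.IsStack (QuotSh.J Scheme.etalePrecoverage S) (AlgSt.QuotSt Scheme.etalePrecoverage G aX) :=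
  isStack_anti GrpdLib.etale_J_le ((isStack_iff_of_isEquivOver _ isEquivOver_F).2 QuotBr.isStack)

theorem repByAlgSpWith_quotMap [IsAffineHom G.hom] [Smooth G.hom] {P : MorphismProperty (AlgSp.Sp S)}
    (hbc : StableBC P) (hloc : AlgSp.IsLocalOnBase AlgSp.IsFppfCover P)
    (hP : P ((QuotBr.toH S).obj G).hom) :
    AlgSt.RepByAlgSpWith P (BasedFunctor.comp (AlgSt.ofOverCat X) (AlgSt.quotMap Scheme.etalePrecoverage G aX)) :=
  (repByAlgSpWith_iff_of_equiv P (f := BasedFunctor.comp (AlgSt.ofOverCat X) (AlgSt.quotMap Scheme.fppfPrecoverage G aX))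
    (BasedFunctor.id (FibCat.overCat X)) (F aX) (isEquivOver_id _) isEquivOver_F (Iso.refl _)).1
    (QuotBr.repByAlgSpWith_quotMap' hbc hloc hP)

end Groth.Agent.StFib.QuotEt
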