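import Groth.Agent.StFib.Props2
import Groth.Agent.StFib.DMFaithful
import Groth.Agent.StFib.InertiaProps
import Groth.Agent.StFib.LocQDescent
import Groth.Agent.AlgSp.QCMor
import Groth.Agent.AlgSp.NormQf
import Groth.Agent.AlgSp.DescentLqf
import Groth.Agent.S10260
import Groth.Agent.S10322
import Groth.Agent.StFib.SourceLocal

/-!
# Quasi-affine diagonals
-/

set_option backward.isDefEq.respectTransparency false
set_option backward.isDefEq.respectTransparency.types false

universe u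

open CategoryTheory CategoryTheory.Limits AlgebraicGeometry Opposite FibCat

namespace Groth.Agent.StFib

variable {S : Scheme.{u}} {𝒳 : AlgSt.Cat S}

/-- A separated, quasi-compact, locally quasi-finite morphism of algebraic spaces is quasi-affine. -/
theorem isQuasiAffineMor_of_lqf {X Y : AlgSp.Space S} (f : X ⟶ Y)
    (hqf : AlgSp.LocP (@LocallyQuasiFinite ⊓ @LocallyOfFiniteType) f.hom)
    (hsep : AlgSp.IsSeparatedMor f.hom) (hqc : AlgSp.IsQuasiCompactMor f.hom) :
    AlgSp.IsQuasiAffineMor f.hom := by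
  intro Z hZ g
  have hr := Groth.Agent.S10260.result f hqf hsep
  obtain ⟨W, fst, i, sq⟩ : ∃ (W : Over S) (fst : (AlgSp.yon S).obj W ⟶ X.obj) (i : W ⟶ Z),
      IsPullback fst ((AlgSp.yon S).map i) f.hom g :=
    ⟨hr.pullback g, hr.fst g, hr.snd g, hr.isPullback g⟩
  refine ⟨W, i, fst, sq, ?_⟩
  have : IsSeparated i.left :=
    (AlgSp.isSeparatedMor_yon_map_iff i).1 (Groth.Agent.AlgSp.isSeparatedMor_baseChange' sq hsep)
  have hl : (@LocallyQuasiFinite ⊓ @LocallyOfFiniteType : MorphismProperty Scheme.{u}) i.left :=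
    scheme_mem_of_locP ((good_locP (S := S) Groth.Agent.AlgSpCov.standard_locallyQuasiFinite).bc
      X.property Y.property (isAlgSpace_yon W) (isAlgSpace_yon Z) _ _ _ _ sq hqf)
  have := hl.1
  have := hl.2
  have hc := hqc (isAlgSpace_yon Z) (Groth.Agent.AlgSp.isQuasiCompactSp_yon Z) _ _ _ sq
  have := Groth.Agent.AlgSp.compactSpace_points hc
  have := Groth.Agent.AlgSp.compactSpace_of_yon W
  exact Groth.Agent.AlgSp.isQuasiAffine_of_lqf i.left

end Groth.Agent.StFib

namespace Groth.Agent.StFib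

variable {S : Scheme.{u}} {𝒳 𝒴 : AlgSt.Cat S}

theorem isQuasiAffineMor_rep {f : 𝒳 ⥤ᵇ 𝒴} (h𝒳 : IsFibGrpd 𝒳.p) (h𝒴 : IsFibGrpd 𝒴.p)
    (hsep : AlgSt.RepByAlgSpWith AlgSp.IsSeparatedMor f) (hqc : AlgSt.RepByAlgSpWith AlgSp.IsQuasiCompactMor f)
    (hu : AlgSt.RepByAlgSpWith (AlgSp.LocP (@LocallyOfFiniteType ⊓ @FormallyUnramified)) f) :
    AlgSt.RepByAlgSpWith AlgSp.IsQuasiAffineMor f :=
  repByAlgSpWith_mono (repByAlgSpWith_inf h𝒳 h𝒴 (good_separated.inf good_quasiCompact) good_unramified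
      (repByAlgSpWith_inf h𝒳 h𝒴 good_separated good_quasiCompact hsep hqc) hu)
    fun F U a ha => isQuasiAffineMor_of_lqf (X := F) (Y := ⟨_, isAlgSpace_yon U⟩) (ObjectProperty.homMk a)
      ((Groth.Agent.S10322.result (X := F) (Y := ⟨_, isAlgSpace_yon U⟩) (ObjectProperty.homMk a)).2 ha.2)
      ha.1.1 ha.1.2

end Groth.Agent.StFib
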