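import Groth.Agent.StFib.UnivClosedAffine
import Groth.Agent.StFib.LocQDescent
import Groth.Agent.StFib.SmoothLocal
import Groth.Agent.AlgSpB.Art.DVRThrough
import Groth.Agent.SchPoints.Basic
import Groth.Agent.WittLib.Basic

/-!
# Universal closedness from lifts over discrete valuation rings, for stacks
-/

set_option backward.isDefEq.respectTransparency false
set_option backward.isDefEq.respectTransparency.types false
set_option linter.unusedVariables false

universe u

open CategoryTheory CategoryTheory.Limits AlgebraicGeometry Opposite FibCat Topology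

namespace Groth.Agent.StFib

variable {S : Scheme.{u}} {𝒳 𝒴 : AlgSt.Cat S}

local notation "E" => Scheme.etalePrecoverage

/-- Lifting of discrete valuation squares after extension. -/
def DVRLiftExt (f : 𝒳 ⥤ᵇ 𝒴) : Prop :=
  ∀ (R : Type u) [CommRing R] [IsDomain R] [IsDiscreteValuationRing R]
        (sR : Spec (CommRingCat.of R) ⟶ S)
        (a : FibCat.overCat (Over.mk (Spec.map (CommRingCat.ofHom (algebraMap R (FractionRing R))) ≫ sR)) ⥤ᵇ 𝒳)
        (b : FibCat.overCat (Over.mk sR) ⥤ᵇ 𝒴)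
        (α : BasedFunctor.comp a f ≅
          BasedFunctor.comp (AlgSt.overMap (Over.homMk (Spec.map (CommRingCat.ofHom (algebraMap R (FractionRing R)))) rfl :
            Over.mk (Spec.map (CommRingCat.ofHom (algebraMap R (FractionRing R))) ≫ sR) ⟶ Over.mk sR)) b),
        ∃ (R' : Type u) (_ : CommRing R') (_ : IsDomain R') (_ : IsDiscreteValuationRing R') (φ : R →+* R')
          (_ : Function.Injective φ) (_ : IsLocalHom φ)
          (gψ : (Over.mk (Spec.map (CommRingCat.ofHom (algebraMap R' (FractionRing R'))) ≫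
                  Spec.map (CommRingCat.ofHom φ) ≫ sR) : Over S) ⟶
                Over.mk (Spec.map (CommRingCat.ofHom (algebraMap R (FractionRing R))) ≫ sR))
          (c : FibCat.overCat (Over.mk (Spec.map (CommRingCat.ofHom φ) ≫ sR)) ⥤ᵇ FibCat.fp f b),
          gψ ≫ (Over.homMk (Spec.map (CommRingCat.ofHom (algebraMap R (FractionRing R)))) rfl :
              Over.mk (Spec.map (CommRingCat.ofHom (algebraMap R (FractionRing R))) ≫ sR) ⟶ Over.mk sR) =
            (Over.homMk (Spec.map (CommRingCat.ofHom (algebraMap R' (FractionRing R')))) rfl :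
                Over.mk (Spec.map (CommRingCat.ofHom (algebraMap R' (FractionRing R'))) ≫
                  Spec.map (CommRingCat.ofHom φ) ≫ sR) ⟶ Over.mk (Spec.map (CommRingCat.ofHom φ) ≫ sR)) ≫
              (Over.homMk (Spec.map (CommRingCat.ofHom φ)) rfl :
                Over.mk (Spec.map (CommRingCat.ofHom φ) ≫ sR) ⟶ Over.mk sR) ∧
          Nonempty (BasedFunctor.comp c (FibCat.fpSnd f b) ≅
            AlgSt.overMap (Over.homMk (Spec.map (CommRingCat.ofHom φ)) rfl :
              Over.mk (Spec.map (CommRingCat.ofHom φ) ≫ sR) ⟶ Over.mk sR)) ∧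
          Nonempty (BasedFunctor.comp
              (AlgSt.overMap (Over.homMk (Spec.map (CommRingCat.ofHom (algebraMap R' (FractionRing R')))) rfl :
                Over.mk (Spec.map (CommRingCat.ofHom (algebraMap R' (FractionRing R'))) ≫
                  Spec.map (CommRingCat.ofHom φ) ≫ sR) ⟶ Over.mk (Spec.map (CommRingCat.ofHom φ) ≫ sR))) c ≅
            BasedFunctor.comp (AlgSt.overMap gψ)
              (FibCat.fpLift a
                (AlgSt.overMap (Over.homMk (Spec.map (CommRingCat.ofHom (algebraMap R (FractionRing R)))) rfl :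
                  Over.mk (Spec.map (CommRingCat.ofHom (algebraMap R (FractionRing R))) ≫ sR) ⟶ Over.mk sR)) α))

/-- A specialization of the image of a point of a closed set is in the image of the set. -/
theorem exists_mem_of_dvr_liftExt (f : 𝒳 ⥤ᵇ 𝒴) (hval : DVRLiftExt f) {O T : Over S}
    [IsLocallyNoetherian O.left] (b : overCat O ⥤ᵇ 𝒴) (hM : AlgSt.IsAlgStack E (fp f b))
    {a : overCat T ⥤ᵇ fp f b} {q : T ⟶ O} (ia : BasedFunctor.comp a (fpSnd f b) ≅ AlgSt.overMap q)
    [LocallyOfFiniteType q.left] {C : Set (AlgSt.Points (fp f b))} (hC : IsClosed C)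
    (t : ↥T.left) (ht : AlgSt.Points.ofChart a t ∈ C) (e : ↥O.left) (hs : q.left t ⤳ e) :
    ∃ c ∈ C, basePt (fpSnd f b) c = e := by
  by_cases hne : q.left t = e
  · exact ⟨_, ht, (basePt_ofChart ia t).trans hne⟩
  obtain ⟨A, _, _, _, x, y, hxy, hy, hx⟩ := Groth.Agent.AlgSpB.Art.exists_dvr_through q.left t e hs hne
  let sR : Spec (CommRingCat.of A) ⟶ S := y ≫ O.hom
  let cK : Over S := Over.mk (Spec.map (CommRingCat.ofHom (algebraMap A (FractionRing A))) ≫ sR)
  let iy : Over.mk sR ⟶ O := Over.homMk y rfl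
  let ix : cK ⟶ T := Over.homMk x (by
    show x ≫ T.hom = _
    rw [← Over.w q, reassoc_of% hxy]; rfl)
  let j : cK ⟶ Over.mk sR := Over.homMk (Spec.map (CommRingCat.ofHom (algebraMap A (FractionRing A)))) rfl
  have hj : ix ≫ q = j ≫ iy := Over.OverMorphism.ext hxy
  let G := BasedFunctor.comp (AlgSt.overMap ix) a
  let i1 : BasedFunctor.comp G (fpSnd f b) ≅ BasedFunctor.comp (AlgSt.overMap j) (AlgSt.overMap iy) :=
    isoWhiskerLeft (AlgSt.overMap ix) ia ≪≫ (overMapCompIso ix q).symm ≪≫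
      eqToIso (congrArg AlgSt.overMap hj) ≪≫ overMapCompIso j iy
  let aX := BasedFunctor.comp G (fpFst f b)
  let b' := BasedFunctor.comp (AlgSt.overMap iy) b
  let α : BasedFunctor.comp aX f ≅ BasedFunctor.comp (AlgSt.overMap j) b' :=
    isoWhiskerLeft G (fpIso f b) ≪≫ isoWhiskerRight i1 b
  let Θ : fp f b' ⥤ᵇ fp f b :=
    fpLift (fpFst f b') (BasedFunctor.comp (fpSnd f b') (AlgSt.overMap iy)) (fpIso f b')
  let H := fpLift aX (AlgSt.overMap j) α
  have iG : BasedFunctor.comp H Θ ≅ G :=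
    (isoMk (F := G) (G := BasedFunctor.comp H Θ) (fun w => fpIsoMk (Iso.refl _) (isoApp i1 w) (by
        change f.map (𝟙 _) ≫ (isoApp α w).hom = (G.obj w).obj.iso.hom ≫ b.map (isoApp i1 w).hom
        rw [CategoryTheory.Functor.map_id, Category.id_comp]
        rfl))
      (fun w => Vert.id _)
      (fun {v w} φ => fp_hom_ext (F := f) (G := b) ((Category.comp_id _).trans (Category.id_comp _).symm)
        (isoApp_naturality i1 φ))).symm
  obtain ⟨R', _, _, _, φ, hφi, hφl, gψ, c, hg, ⟨ic1⟩, ⟨ic2⟩⟩ := hval A sR aX b' α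
  let φA : Over.mk (Spec.map (CommRingCat.ofHom φ) ≫ sR) ⟶ Over.mk sR :=
    Over.homMk (Spec.map (CommRingCat.ofHom φ)) rfl
  let jd : Over.mk (Spec.map (CommRingCat.ofHom (algebraMap R' (FractionRing R'))) ≫
      Spec.map (CommRingCat.ofHom φ) ≫ sR) ⟶ Over.mk (Spec.map (CommRingCat.ofHom φ) ≫ sR) :=
    Over.homMk (Spec.map (CommRingCat.ofHom (algebraMap R' (FractionRing R')))) rfl
  let L := BasedFunctor.comp c Θ
  have iL : BasedFunctor.comp L (fpSnd f b) ≅ AlgSt.overMap (φA ≫ iy) :=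
    isoWhiskerRight ic1 (AlgSt.overMap iy) ≪≫ (overMapCompIso φA iy).symm
  have hcl : IsClosed (AlgSt.Points.ofChart L ⁻¹' C) := hC.preimage (continuous_ofChart hM L)
  let η : ↥(Spec (CommRingCat.of (FractionRing R'))) := IsLocalRing.closedPoint (FractionRing R')
  have hη : jd.left η ∈ AlgSt.Points.ofChart L ⁻¹' C := by
    show AlgSt.Points.ofChart L (jd.left η) ∈ C
    let i2 : BasedFunctor.comp (AlgSt.overMap jd) L ≅ BasedFunctor.comp (AlgSt.overMap gψ) G :=
      isoWhiskerRight ic2 Θ ≪≫ isoWhiskerLeft (AlgSt.overMap gψ) iG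
    rw [← ofChart_overMap L jd η, ofChart_congr i2]
    rw [ofChart_overMap G gψ η, ofChart_overMap a ix]
    convert ht
    exact hx _
  refine ⟨_, hcl.closure_subset_iff.2 (Set.singleton_subset_iff.2 hη)
    ((IsLocalRing.specializes_closedPoint (jd.left η)).mem_closure), ?_⟩
  rw [basePt_ofChart iL]
  show y (Spec.map (CommRingCat.ofHom φ) (IsLocalRing.closedPoint R')) = e
  rw [show Spec.map (CommRingCat.ofHom φ) (IsLocalRing.closedPoint R') = IsLocalRing.closedPoint A from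
    IsLocalRing.comap_closedPoint φ]
  exact hy

theorem repByAlgSpWith_smooth_overMap {U V : Over S} (h : U ⟶ V) [Smooth h.left] :
    AlgSt.RepByAlgSpWith (AlgSp.LocP @Smooth) (AlgSt.overMap h) :=
  (repByAlgSpWith_iff_of_equiv _ (AlgSt.toOverCat U) (AlgSt.toOverCat V) (toOverCat_isEquivOver U)
    (toOverCat_isEquivOver V) (toOverCatIso h)).2
    (repByAlgSpWith_ofSpMap good_smooth.bc (isAlgSpace_yon U) (isAlgSpace_yon V) _
      (Groth.Agent.AlgSpCov.locP_of_repWith Groth.Agent.AlgSpCov.standard_smooth.etaleLocal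
        ((AlgSp.repWith_yon_map_iff _ _).2 (inferInstanceAs (Smooth h.left)))))

theorem smooth_chart_comp {U V : Over S} (h : U ⟶ V) [Smooth h.left] {y : overCat V ⥤ᵇ 𝒴}
    (hy : AlgSt.RepByAlgSpWith (AlgSp.LocP @Smooth) y) :
    AlgSt.RepByAlgSpWith (AlgSp.LocP @Smooth) (BasedFunctor.comp (AlgSt.overMap h) y) :=
  repByAlgSpWith_comp good_smooth.bc good_smooth.comp good_smooth.det (isFibGrpd_overCat U)
    (isFibGrpd_overCat V) (repByAlgSpWith_smooth_overMap h) hy

variable (h𝒳 : AlgSt.IsAlgStack E 𝒳) (h𝒴 : AlgSt.IsAlgStack E 𝒴) (f : 𝒳 ⥤ᵇ 𝒴)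

include h𝒳 h𝒴

theorem isQuasiCompact_fp_right (hqc : AlgSt.IsQuasiCompactMor E f) (T : Over S) [IsAffine T.left]
    (b : overCat T ⥤ᵇ 𝒴) : AlgSt.IsQuasiCompact (fp f b) :=
  isQuasiCompact_of_equiv (fpSwap_isEquivOver b f)
    (hqc _ (isAlgStack_overCat_etale T) (isQuasiCompact_overCat T) b)

/-- Closedness over Noetherian affine smooth charts. -/
theorem isClosedMap_dvr (hqc : AlgSt.IsQuasiCompactMor E f)
    (hft : AlgSt.LocQ (AlgSp.LocP @LocallyOfFiniteType) f) (hval : DVRLiftExt f)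
    (O : Over S) [IsAffine O.left] [IsLocallyNoetherian O.left] (b : overCat O ⥤ᵇ 𝒴)
    (hb : AlgSt.RepByAlgSpWith (AlgSp.LocP @Smooth) b) : IsClosedMap (basePt (fpSnd f b)) := by
  have hM := isAlgStack_fp_etale h𝒳 (isAlgStack_overCat_etale O) h𝒴 f b
  obtain ⟨T, a, hT, ha, has⟩ := isQuasiCompact_fp_right h𝒳 h𝒴 f hqc O b
  obtain ⟨q, ⟨ia⟩⟩ := exists_iso_overMap (BasedFunctor.comp a (fpSnd f b))
  let x := BasedFunctor.comp a (fpFst f b)
  let α : BasedFunctor.comp x f ≅ BasedFunctor.comp (AlgSt.overMap q) b :=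
    isoWhiskerLeft a (fpIso f b) ≪≫ isoWhiskerRight ia b
  let β : a ≅ fpLift x (AlgSt.overMap q) α :=
    isoMk (F := a) (G := fpLift x (AlgSt.overMap q) α)
      (fun w => fpIsoMk (Iso.refl _) (isoApp ia w) (by
        change f.map (𝟙 _) ≫ (isoApp α w).hom = (a.obj w).obj.iso.hom ≫ b.map (isoApp ia w).hom
        rw [CategoryTheory.Functor.map_id, Category.id_comp]
        rfl))
      (fun w => Vert.id _)
      (fun {v w} φ => fp_hom_ext (F := f) (G := b) ((Category.comp_id _).trans (Category.id_comp _).symm)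
        (isoApp_naturality ia φ))
  have : LocallyOfFiniteType q.left := scheme_mem_of_locP (mem_of_locQ_of isAlgStack_overCat_etale
    (isSmoothLocalST_locP smoothLocalProp_lft) h𝒳 h𝒴 hft α hb (repByAlgSpWith_of_iso _ β ha))
  intro C hC
  refine isClosed_of_closure_subset fun e he => ?_
  let CT : TopologicalSpace.Closeds T.left :=
    ⟨AlgSt.Points.ofChart a ⁻¹' C, hC.preimage (continuous_ofChart hM a)⟩
  let ι := (Scheme.IdealSheafData.vanishingIdeal CT).subschemeι
  have hι : Set.range ι = CT := by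
    rw [Scheme.IdealSheafData.range_subschemeι, Scheme.IdealSheafData.coe_support_vanishingIdeal]
  have : IsAffine T.left := hT
  have : IsAffine (Scheme.IdealSheafData.vanishingIdeal CT).subscheme := isAffine_of_isAffineHom ι
  have hcl : e ∈ closure (Set.range (ι ≫ q.left)) := by
    refine closure_mono ?_ he
    rintro _ ⟨c, hc, rfl⟩
    obtain ⟨t, rfl⟩ := ofChart_surjective hM.isStack.1 has c
    obtain ⟨z, hz⟩ : t ∈ Set.range ι := by rw [hι]; exact hc
    exact ⟨z, by rw [Scheme.Hom.comp_apply, hz, basePt_ofChart ia]⟩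
  obtain ⟨z, hz⟩ := SchPoints.exists_specializes_of_mem_closure_range (ι ≫ q.left) hcl
  have hzt : AlgSt.Points.ofChart a (ι z) ∈ C := (hι ▸ Set.mem_range_self z : ι z ∈ (CT : Set T.left))
  exact exists_mem_of_dvr_liftExt f hval b hM ia hC (ι z) hzt e hz

/-- Closedness over affine schemes mapping to a Noetherian affine smooth chart. -/
theorem isClosedMap_dvr_affine (hqc : AlgSt.IsQuasiCompactMor E f)
    (hft : AlgSt.LocQ (AlgSp.LocP @LocallyOfFiniteType) f) (hval : DVRLiftExt f)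
    (V : Over S) [IsAffine V.left] [IsLocallyNoetherian V.left] (b : overCat V ⥤ᵇ 𝒴)
    (hb : AlgSt.RepByAlgSpWith (AlgSp.LocP @Smooth) b) {Z : Over S} [IsAffine Z.left] (k : Z ⟶ V) :
    IsClosedMap (basePt (fpSnd f (BasedFunctor.comp (AlgSt.overMap k) b))) := by
  have key : ∀ {W : Over S} (w : W ⟶ V), ∃ e : fp (fpSnd f b) (AlgSt.overMap w) ⥤ᵇ
      fp f (BasedFunctor.comp (AlgSt.overMap w) b), IsEquivOver e ∧
        Nonempty (BasedFunctor.comp e (fpSnd f (BasedFunctor.comp (AlgSt.overMap w) b)) ≅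
          fpSnd (fpSnd f b) (AlgSt.overMap w)) := by
    intro W w
    obtain ⟨G, hG, ⟨iG⟩, -⟩ := exists_fp_of_cart (fpSnd f b) (fpFst f b) (fpIso f b).symm
      (isEquivOver_of_iso (fpSwap_isEquivOver f b) (Iso.refl _)) (AlgSt.overMap w)
    exact ⟨BasedFunctor.comp (fpSwap (fpSnd f b) (AlgSt.overMap w))
      (BasedFunctor.comp G (fpSwap (BasedFunctor.comp (AlgSt.overMap w) b) f)),
      isEquivOver_comp (fpSwap_isEquivOver _ _) (isEquivOver_comp hG (fpSwap_isEquivOver _ _)),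
      ⟨isoWhiskerLeft (fpSwap (fpSnd f b) (AlgSt.overMap w)) iG⟩⟩
  have hM := isAlgStack_fp_etale h𝒳 (isAlgStack_overCat_etale V) h𝒴 f b
  have halg : ∀ {W : Over S} (w : W ⟶ V), AlgSt.IsAlgStack E (fp (fpSnd f b) (AlgSt.overMap w)) := fun {W} w =>
    isAlgStack_fp_etale hM (isAlgStack_overCat_etale W) (isAlgStack_overCat_etale V) _ _
  have halg' : ∀ {W : Over S} (w : W ⟶ V),
      AlgSt.IsAlgStack E (fp f (BasedFunctor.comp (AlgSt.overMap w) b)) := fun {W} w =>
    isAlgStack_fp_etale h𝒳 (isAlgStack_overCat_etale W) h𝒴 _ _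
  have hZ := isClosedMap_of_affineSpace hM (isQuasiCompact_fp_right h𝒳 h𝒴 f hqc V b) (fpSnd f b) (fun n => by
    let AV : Over S := Over.mk ((𝔸(ULift.{u} (Fin n); V.left) ↘ V.left) ≫ V.hom)
    let pn : AV ⟶ V := Over.homMk (𝔸(ULift.{u} (Fin n); V.left) ↘ V.left)
    have : Smooth pn.left := Groth.Agent.WittLib.Basic.smooth_affineSpace _ V.left
    have : IsAffine AV.left := inferInstanceAs (IsAffine 𝔸(ULift.{u} (Fin n); V.left))
    have : IsLocallyNoetherian AV.left :=
      LocallyOfFiniteType.isLocallyNoetherian (𝔸(ULift.{u} (Fin n); V.left) ↘ V.left)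
    obtain ⟨e, he, ⟨ie⟩⟩ := key pn
    exact isClosedMap_basePt_equiv (halg' pn) (halg pn) he ie
      (isClosedMap_dvr h𝒳 h𝒴 f hqc hft hval AV _ (smooth_chart_comp pn hb))) k
  obtain ⟨e, he, ⟨ie⟩⟩ := key k
  obtain ⟨d, hd, -, ⟨j⟩⟩ := isEquivOver_symm he
  exact isClosedMap_basePt_equiv (halg k) (halg' k) hd
    (isoWhiskerLeft d ie.symm ≪≫ isoWhiskerRight j (fpSnd f _)) hZ

/-- The preimage of the image of a closed set is closed once the base change is closed. -/
theorem isClosed_preimage_image {T W : Over S} (c : W ⟶ T) (b : overCat T ⥤ᵇ 𝒴)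
    {b' : overCat W ⥤ᵇ 𝒴} (i : b' ≅ BasedFunctor.comp (AlgSt.overMap c) b)
    (H : IsClosedMap (basePt (fpSnd f b'))) {C : Set (AlgSt.Points (fp f b))} (hC : IsClosed C) :
    IsClosed (c.left ⁻¹' (basePt (fpSnd f b) '' C)) := by
  have hM := isAlgStack_fp_etale h𝒳 (isAlgStack_overCat_etale T) h𝒴 f b
  obtain ⟨G, hG, ⟨iG1⟩, ⟨iG2⟩⟩ := exists_fp_of_cart (fpSnd f b) (fpFst f b) (fpIso f b).symm
    (isEquivOver_of_iso (fpSwap_isEquivOver f b) (Iso.refl _)) (AlgSt.overMap c)
  obtain ⟨E2, hE2, ⟨iE1⟩, -⟩ := exists_fp_congr (F := BasedFunctor.comp (AlgSt.overMap c) b) (F' := b')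
    (G := f) (G' := f) i (Iso.refl _)
  let e := BasedFunctor.comp G (BasedFunctor.comp E2 (fpSwap b' f))
  obtain ⟨d, hd, -, ⟨j⟩⟩ := isEquivOver_symm
    (isEquivOver_comp hG (isEquivOver_comp hE2 (fpSwap_isEquivOver b' f)) : IsEquivOver e)
  have ie : BasedFunctor.comp e (fpSnd f b') ≅ fpFst (AlgSt.overMap c) (fpSnd f b) :=
    isoWhiskerLeft G iE1 ≪≫ iG1
  have id' : BasedFunctor.comp d (fpFst (AlgSt.overMap c) (fpSnd f b)) ≅ fpSnd f b' :=
    isoWhiskerLeft d ie.symm ≪≫ isoWhiskerRight j (fpSnd f b')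
  let Φ := BasedFunctor.comp d (fpSnd (AlgSt.overMap c) (fpSnd f b))
  convert H _ (hC.preimage (continuous_points_map hM Φ)) using 1
  ext w
  constructor
  · rintro ⟨P, hP, hPw⟩
    obtain ⟨R, hR1, hR2⟩ := exists_points_fp_of_map_eq hM.isStack.1 (isFibGrpd_overCat W) (isFibGrpd_overCat T)
      (fpSnd f b) (AlgSt.overMap c) (AlgSt.Points.ofChart (BasedFunctor.id _) w) P (by
        rw [← ofChart_eq_map, ← ofChart_id_ptMap (AlgSt.Points.map (fpSnd f b) P),
          show ptMap (AlgSt.Points.map (fpSnd f b) P) = c.left w from hPw]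
        exact ofChart_overMap (BasedFunctor.id _) c w)
    obtain ⟨Q, rfl⟩ := (points_bijective_of_isEquivOver hd).surjective R
    refine ⟨Q, ?_, ?_⟩
    · change AlgSt.Points.map Φ Q ∈ C
      rw [points_map_comp, Function.comp_apply, hR2]
      exact hP
    · rw [← basePt_comp d (fpFst (AlgSt.overMap c) (fpSnd f b)) id']
      exact (congrArg ptMap hR1).trans (ptMap_ofChart_id w)
  · rintro ⟨Q, hQ, rfl⟩
    refine ⟨_, hQ, ?_⟩
    rw [basePt_comp Φ (fpSnd f b) (p' := BasedFunctor.comp (fpSnd f b') (AlgSt.overMap c))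
      (isoWhiskerLeft d (fpIso (AlgSt.overMap c) (fpSnd f b)).symm ≪≫ isoWhiskerRight id' (AlgSt.overMap c))]
    unfold basePt
    rw [points_map_comp, Function.comp_apply, ptMap_map_overMap]

theorem isUnivClosed_of_dvr_liftExt (hn𝒴 : AlgSt.SmoothLocally (fun T => IsLocallyNoetherian T) 𝒴)
    (hqc : AlgSt.IsQuasiCompactMor E f)
    (hft : AlgSt.LocQ (AlgSp.LocP @LocallyOfFiniteType) f) (hval : DVRLiftExt f) :
    AlgSt.IsUnivClosed E f := by
  refine isUnivClosed_of_affine h𝒳 h𝒴 f fun T hT b C hC => ?_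
  obtain ⟨V, y, hy, hys⟩ := h𝒴.atlas
  have : IsLocallyNoetherian V.left := hn𝒴 V y hy
  obtain ⟨W, a, c, ⟨i⟩, -, h1, h2, h3⟩ := exists_chart_fp h𝒴 y b
  have := h1 (repByAlgSpWith_flat_of_smooth hy)
  have := h2 (repByAlgSpWith_lfp_of_smooth hy)
  have := h3 hys
  suffices h : IsClosed (c.left ⁻¹' (basePt (fpSnd f b) '' C)) by
    rw [← isOpen_compl_iff] at h ⊢
    have := c.left.isOpenMap _ h
    rwa [← Set.preimage_compl, Set.image_preimage_eq _ c.left.surjective] at this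
  refine isOpen_compl_iff.1 (isOpen_iff_forall_mem_open.2 fun w hw => ?_)
  obtain ⟨OV, hOV, haOV, -⟩ := exists_isAffineOpen_mem_and_subset (x := a.left w) (U := ⊤) trivial
  obtain ⟨OW, hOW, hwOW, hle⟩ := exists_isAffineOpen_mem_and_subset (x := w) (U := a.left ⁻¹ᵁ OV) haOV
  let VO : Over S := Over.mk (OV.ι ≫ V.hom)
  let ιV : VO ⟶ V := Over.homMk OV.ι rfl
  let WO : Over S := Over.mk (OW.ι ≫ W.hom)
  let ιW : WO ⟶ W := Over.homMk OW.ι rfl
  have : IsAffine VO.left := hOV
  have : IsAffine WO.left := hOW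
  have : IsOpenImmersion ιV.left := inferInstanceAs (IsOpenImmersion OV.ι)
  have : IsOpenImmersion ιW.left := inferInstanceAs (IsOpenImmersion OW.ι)
  have : IsLocallyNoetherian VO.left := isLocallyNoetherian_of_isOpenImmersion OV.ι
  let k : WO ⟶ VO := Over.homMk (a.left.resLE OV OW hle) (by
    change a.left.resLE OV OW hle ≫ OV.ι ≫ V.hom = OW.ι ≫ W.hom
    rw [Scheme.Hom.resLE_comp_ι_assoc, Over.w a])
  have hk : k ≫ ιV = ιW ≫ a := Over.OverMorphism.ext (Scheme.Hom.resLE_comp_ι _ _)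
  have hcl := isClosed_preimage_image h𝒳 h𝒴 f (ιW ≫ c) b
    (b' := BasedFunctor.comp (AlgSt.overMap k) (BasedFunctor.comp (AlgSt.overMap ιV) y))
    (isoWhiskerRight ((overMapCompIso k ιV).symm ≪≫ eqToIso (congrArg AlgSt.overMap hk) ≪≫
        overMapCompIso ιW a) y ≪≫ isoWhiskerLeft (AlgSt.overMap ιW) i ≪≫
      isoWhiskerRight (overMapCompIso ιW c).symm b)
    (isClosedMap_dvr_affine h𝒳 h𝒴 f hqc hft hval VO _ (smooth_chart_comp ιV hy) k) hC
  refine ⟨ιW.left '' ((ιW ≫ c).left ⁻¹' (basePt (fpSnd f b) '' C))ᶜ, ?_,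
    ιW.left.isOpenEmbedding.isOpenMap _ hcl.isOpen_compl, ⟨(⟨w, hwOW⟩ : OW.toScheme), ?_, rfl⟩⟩
  · rintro _ ⟨v, hv, rfl⟩ hm
    exact hv hm
  · exact hw

end Groth.Agent.StFib
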