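import Groth.Agent.StFib.LocQBasic
import Groth.Agent.StFib.StackSpace
import Groth.Agent.StFib.QC
import Groth.Agent.AlgSpB.Art.AffineSpaceClosed

/-!
# Universal closedness of morphisms of stacks is tested on affine spaces
-/

set_option backward.isDefEq.respectTransparency false
set_option backward.isDefEq.respectTransparency.types false
set_option linter.unusedVariables false

universe u

open CategoryTheory CategoryTheory.Limits AlgebraicGeometry Opposite FibCat Topology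

namespace Groth.Agent.StFib

variable {S : Scheme.{u}} {𝒳 𝒴 : AlgSt.Cat S}

local notation "E" => Scheme.etalePrecoverage

theorem isAlgStack_overCat_etale (U : Over S) : AlgSt.IsAlgStack E (overCat U) :=
  ⟨isStack_overCat_etale U, (isAlgStack_overCat U).diag, (isAlgStack_overCat U).atlas⟩

theorem isAlgStack_fp_etale {𝒵 : AlgSt.Cat S} (h𝒳 : AlgSt.IsAlgStack E 𝒳) (h𝒴 : AlgSt.IsAlgStack E 𝒴)
    (h𝒵 : AlgSt.IsAlgStack E 𝒵) (f : 𝒳 ⥤ᵇ 𝒵) (g : 𝒴 ⥤ᵇ 𝒵) : AlgSt.IsAlgStack E (fp f g) :=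
  isAlgStack_fp h𝒵.isStack h𝒵.diag h𝒳 h𝒴 f g

theorem ptMap_ofChart_overMap {U V : Over S} (h : V ⟶ U) (t : ↥V.left) :
    ptMap (AlgSt.Points.ofChart (AlgSt.overMap h) t) = h.left t :=
  (congrArg ptMap (ofChart_overMap (BasedFunctor.id _) h t)).trans (ptMap_ofChart_id _)

theorem ptMap_ofChart_of_iso {U V : Over S} {x : overCat V ⥤ᵇ 𝒳} {p : 𝒳 ⥤ᵇ overCat U} {h : V ⟶ U}
    (i : BasedFunctor.comp x p ≅ AlgSt.overMap h) (t : ↥V.left) :
    ptMap (AlgSt.Points.map p (AlgSt.Points.ofChart x t)) = h.left t := by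
  rw [map_ofChart, ofChart_congr i, ptMap_ofChart_overMap]

theorem ptMap_map_overMap {U V : Over S} (h : V ⟶ U) (P : AlgSt.Points (overCat V)) :
    ptMap (AlgSt.Points.map (AlgSt.overMap h) P) = h.left (ptMap P) := by
  conv_lhs => rw [← ofChart_id_ptMap P, ← ofChart_eq_map]
  exact ptMap_ofChart_overMap h _

/-- The map to the base scheme on points. -/
noncomputable def basePt {U : Over S} (p : 𝒳 ⥤ᵇ overCat U) (P : AlgSt.Points 𝒳) : ↥U.left :=
  ptMap (AlgSt.Points.map p P)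

theorem basePt_ofChart {U V : Over S} {x : overCat V ⥤ᵇ 𝒳} {p : 𝒳 ⥤ᵇ overCat U} {h : V ⟶ U}
    (i : BasedFunctor.comp x p ≅ AlgSt.overMap h) (t : ↥V.left) :
    basePt p (AlgSt.Points.ofChart x t) = h.left t := ptMap_ofChart_of_iso i t

theorem basePt_comp {U : Over S} {𝒳' : AlgSt.Cat S} (e : 𝒳' ⥤ᵇ 𝒳) (p : 𝒳 ⥤ᵇ overCat U) {p' : 𝒳' ⥤ᵇ overCat U}
    (i : BasedFunctor.comp e p ≅ p') (P : AlgSt.Points 𝒳') : basePt p (AlgSt.Points.map e P) = basePt p' P :=
  congrArg ptMap (congrFun ((points_map_comp e p).symm.trans (points_map_congr i)) P)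

/-- Closedness over a scheme is unchanged by equivalences. -/
theorem isClosedMap_basePt_equiv {τ : Precoverage Scheme.{u}} {𝒳' : AlgSt.Cat S} (h : AlgSt.IsAlgStack τ 𝒳)
    (h' : AlgSt.IsAlgStack τ 𝒳') {U : Over S}
    {e : 𝒳' ⥤ᵇ 𝒳} (he : IsEquivOver e) {p : 𝒳 ⥤ᵇ overCat U} {p' : 𝒳' ⥤ᵇ overCat U}
    (i : BasedFunctor.comp e p ≅ p') (hp : IsClosedMap (basePt p)) : IsClosedMap (basePt p') := by
  intro C hC
  obtain ⟨d, hd, ⟨j₁⟩, ⟨j₂⟩⟩ := isEquivOver_symm he
  convert hp _ (hC.preimage (continuous_points_map h' d)) using 1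
  ext u
  constructor
  · rintro ⟨c, hc, rfl⟩
    refine ⟨AlgSt.Points.map e c, ?_, basePt_comp e p i c⟩
    change AlgSt.Points.map d (AlgSt.Points.map e c) ∈ C
    rwa [show AlgSt.Points.map d (AlgSt.Points.map e c) = c from
      (congrFun ((points_map_comp e d).symm.trans ((points_map_congr j₁).trans points_map_id)) c)]
  · rintro ⟨m, hm, rfl⟩
    refine ⟨_, hm, ?_⟩
    rw [← basePt_comp e p i, show AlgSt.Points.map e (AlgSt.Points.map d m) = m from
      (congrFun ((points_map_comp d e).symm.trans ((points_map_congr j₂).trans points_map_id)) m)]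

theorem overCat_vert_eq {U : Over S} {x y : (overCat U).obj} {a b : x ⟶ y} (ha : Vert a) (hb : Vert b) :
    a = b := by
  obtain ⟨_, h1⟩ := ha
  obtain ⟨_, h2⟩ := hb
  exact Over.OverMorphism.ext (h1.trans h2.symm)

/-- Functors into a 2-fibre product over a scheme are determined by their components. -/
theorem exists_iso_of_fp_overCat {𝒳₁ 𝒳₂ 𝒲 : AlgSt.Cat S} {U : Over S} {t : 𝒳₁ ⥤ᵇ overCat U}
    {t' : 𝒳₂ ⥤ᵇ overCat U} {F G : 𝒲 ⥤ᵇ fp t t'}
    (i : BasedFunctor.comp F (fpFst t t') ≅ BasedFunctor.comp G (fpFst t t'))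
    (j : BasedFunctor.comp F (fpSnd t t') ≅ BasedFunctor.comp G (fpSnd t t')) : Nonempty (F ≅ G) := by
  refine ⟨isoMk (fun w => fpIsoMk (isoApp i w) (isoApp j w) (overCat_vert_eq ?_ ?_)) (fun w => ?_)
    (fun φ => fp_hom_ext (isoApp_naturality i φ) (isoApp_naturality j φ))⟩
  · exact ((vert_isoApp i w).map t).comp (vert_fp_iso (G.obj w))
  · exact (vert_fp_iso (F.obj w)).comp ((vert_isoApp j w).map t')
  · exact vert_fp_iff.2 (vert_isoApp i w)

/-- A chart of a base change along a map of schemes. -/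
theorem exists_chart_baseChange {M : AlgSt.Cat S} {T V W : Over S} {p : M ⥤ᵇ overCat V}
    {a : overCat T ⥤ᵇ M} {q : T ⟶ V} (ia : BasedFunctor.comp a p ≅ AlgSt.overMap q) (w : W ⟶ V)
    (hM : IsFibGrpd M.p)
    (ha : AlgSt.RepByAlgSpWith (AlgSp.LocP @Smooth) a) (has : AlgSt.RepByAlgSpWith AlgSp.IsSurjectiveMor a) :
    ∃ aW : overCat (pullback q w) ⥤ᵇ fp p (AlgSt.overMap w),
      AlgSt.RepByAlgSpWith (AlgSp.LocP @Smooth) aW ∧ AlgSt.RepByAlgSpWith AlgSp.IsSurjectiveMor aW ∧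
      Nonempty (BasedFunctor.comp aW (fpFst p (AlgSt.overMap w)) ≅
        BasedFunctor.comp (AlgSt.overMap (pullback.fst q w)) a) ∧
      Nonempty (BasedFunctor.comp aW (fpSnd p (AlgSt.overMap w)) ≅ AlgSt.overMap (pullback.snd q w)) := by
  obtain ⟨N, hN, ⟨iN1⟩, ⟨iN2⟩⟩ := exists_equiv_pullback q w
  obtain ⟨E1, hE1, ⟨j1⟩, ⟨j2⟩⟩ := exists_fp_congr (F := AlgSt.overMap q) (F' := BasedFunctor.comp a p)
    (G := AlgSt.overMap w) (G' := AlgSt.overMap w) ia (Iso.refl _)
  obtain ⟨d, hd, -, ⟨k⟩⟩ := isEquivOver_symm (fpPaste_isEquivOver p (AlgSt.overMap w) a)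
  let E0 := BasedFunctor.comp N (BasedFunctor.comp E1 d)
  have hE0 : IsEquivOver E0 := isEquivOver_comp hN (isEquivOver_comp hE1 hd)
  let F0 := BasedFunctor.comp E0 (fpSnd a (fpFst p (AlgSt.overMap w)))
  refine ⟨F0, repByAlgSpWith_comp_isEquivOver (repByAlgSpWith_fpSnd _ a ha) hE0,
    repByAlgSpWith_comp_isEquivOver (repByAlgSpWith_fpSnd _ a has) hE0, ⟨?_⟩, ⟨?_⟩⟩
  · exact isoWhiskerLeft E0 (fpIso a (fpFst p (AlgSt.overMap w))).symm ≪≫
      isoWhiskerLeft (BasedFunctor.comp N E1)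
        (isoWhiskerRight (isoWhiskerRight k (fpFst (BasedFunctor.comp a p) (AlgSt.overMap w))) a) ≪≫
      isoWhiskerRight (isoWhiskerLeft N j1 ≪≫ iN1) a
  · exact isoWhiskerLeft (BasedFunctor.comp N E1)
        (isoWhiskerRight k (fpSnd (BasedFunctor.comp a p) (AlgSt.overMap w))) ≪≫
      isoWhiskerLeft N j2 ≪≫ iN2

/-- Closedness after every base change to an affine scheme follows from closedness over affine spaces. -/
theorem isClosedMap_of_affineSpace {M : AlgSt.Cat S} (hM : AlgSt.IsAlgStack E M) (hqc : AlgSt.IsQuasiCompact M)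
    {V : Over S} [IsAffine V.left] (p : M ⥤ᵇ overCat V)
    (H : ∀ n : ℕ, IsClosedMap (basePt (fpSnd p (AlgSt.overMap
      (Over.homMk (𝔸(ULift.{u} (Fin n); V.left) ↘ V.left) :
        Over.mk ((𝔸(ULift.{u} (Fin n); V.left) ↘ V.left) ≫ V.hom) ⟶ V)))))
    {Z : Over S} [IsAffine Z.left] (k : Z ⟶ V) :
    IsClosedMap (basePt (fpSnd p (AlgSt.overMap k))) := by
  intro C hC
  obtain ⟨T, a, hT, ha, has⟩ := hqc
  obtain ⟨q, ⟨ia⟩⟩ := exists_iso_overMap (BasedFunctor.comp a p)
  have halg : ∀ {W : Over S} (w : W ⟶ V), AlgSt.IsAlgStack E (fp p (AlgSt.overMap w)) := fun {W} w =>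
    isAlgStack_fp_etale hM (isAlgStack_overCat_etale W) (isAlgStack_overCat_etale V) _ _
  have haff : ∀ {W : Over S} (w : W ⟶ V) [IsAffine W.left], IsAffine (pullback q w).left := fun {W} w _ =>
    haveI : IsAffine ((Over.forget S).obj T) := hT
    haveI : IsAffineHom ((Over.forget S).map w) := isAffineHom_of_isAffine (X := W.left) (Y := V.left) w.left
    IsAffine.of_isPullback ((IsPullback.of_hasPullback q w).map (Over.forget S))
  obtain ⟨aZ, haZ, haZs, ⟨iZ1⟩, ⟨iZ2⟩⟩ := exists_chart_baseChange ia k hM.isStack.1 ha has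
  have : IsAffine (pullback q k).left := haff k
  let TZ : Scheme.{u} := (pullback q k).left
  let π : TZ ⟶ Z.left := (pullback.snd q k).left
  let CT : Set TZ := AlgSt.Points.ofChart aZ ⁻¹' C
  have hCT : IsClosed CT := hC.preimage (continuous_ofChart (halg k) aZ)
  refine isOpen_compl_iff.1 (isOpen_iff_forall_mem_open.2 fun z hz => ?_)
  have hzC : ∀ t ∈ CT, π t ≠ z := fun t ht h => hz ⟨_, ht, (basePt_ofChart iZ2 t).trans h⟩
  -- the finitely many functions
  let R := Γ(Z.left, ⊤)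
  let Cr := Γ(TZ, ⊤)
  let β : R →+* Cr := π.appTop.hom
  let α : Γ(T.left, ⊤) →+* Cr := (pullback.fst q k).left.appTop.hom
  let J : Ideal Cr := ⨅ t ∈ CT, RingHom.ker (TZ.Γevaluation t).hom
  let P : Ideal R := RingHom.ker (Z.left.Γevaluation z).hom
  have : P.IsPrime := RingHom.ker_isPrime _
  have hJ : ∀ s : Cr, s ∈ J ↔ ∀ t ∈ CT, t ∉ TZ.basicOpen s := fun s => by
    simp only [J, Ideal.mem_iInf, RingHom.mem_ker, Groth.Agent.AlgSpB.Art.notMem_basicOpen_iff]
    rfl
  obtain ⟨r, hr, hrJ⟩ : ∃ r, r ∉ P ∧ β r ∈ J ⊔ P.map β := by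
    by_contra hne
    push Not at hne
    have hd : Disjoint ((J ⊔ P.map β : Ideal Cr) : Set Cr) (Submonoid.map β P.primeCompl : Submonoid Cr) :=
      Set.disjoint_right.2 (by rintro _ ⟨r, hr, rfl⟩; exact hne r hr)
    obtain ⟨Q, hQ, hle, hdis⟩ := Ideal.exists_le_prime_disjoint _ _ hd
    have hA : IsAffineOpen (⊤ : TZ.Opens) := isAffineOpen_top TZ
    let x : TZ := hA.fromSpec ⟨Q, hQ⟩
    have hx : ∀ s : Cr, x ∈ TZ.basicOpen s ↔ s ∉ Q := fun s => by
      change (⟨Q, hQ⟩ : PrimeSpectrum Cr) ∈ hA.fromSpec ⁻¹ᵁ TZ.basicOpen s ↔ _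
      rw [hA.fromSpec_preimage_basicOpen]
      rfl
    have hxC : x ∈ CT := by
      by_contra hxC
      obtain ⟨_, ⟨_, ⟨s, rfl⟩, rfl⟩, hxs, hs⟩ := (isBasis_basicOpen TZ).exists_subset_of_mem_open hxC hCT.isOpen_compl
      exact (hx s).1 hxs (hle (Ideal.mem_sup_left ((hJ s).2 fun t ht hts => hs hts ht)))
    refine hzC x hxC ?_
    have key : ∀ r : R, π x ∈ Z.left.basicOpen r ↔ z ∈ Z.left.basicOpen r := fun r => by
      have h1 : π x ∈ Z.left.basicOpen r ↔ β r ∉ Q := by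
        rw [← hx]
        change x ∈ π ⁻¹ᵁ Z.left.basicOpen r ↔ _
        rw [Scheme.preimage_basicOpen_top]
      have h2 : z ∈ Z.left.basicOpen r ↔ r ∉ P := by
        rw [← not_iff_not, not_not, Groth.Agent.AlgSpB.Art.notMem_basicOpen_iff]; rfl
      rw [h1, h2]
      exact not_congr ⟨fun h => by_contra fun hr => Set.disjoint_left.1 hdis h ⟨r, hr, rfl⟩,
        fun h => hle (Ideal.mem_sup_right (Ideal.mem_map_of_mem β h))⟩
    refine ((isBasis_basicOpen Z.left).inseparable_iff.2 ?_).eq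
    rintro _ ⟨_, ⟨r, rfl⟩, rfl⟩
    exact key r
  obtain ⟨j, hj, c, hc, hjc⟩ := Submodule.mem_sup.1 hrJ
  -- `c` is a finite sum of products
  have hc' : ∃ (n : ℕ) (p' : Fin n → R) (b' : Fin n → Γ(T.left, ⊤)),
      (∀ i, p' i ∈ P) ∧ c = ∑ i, β (p' i) * α (b' i) := by
    have : IsAffine ((Over.forget S).obj T) := hT
    have : IsAffine ((Over.forget S).obj Z) := ‹IsAffine Z.left›
    have : IsAffine ((Over.forget S).obj V) := ‹IsAffine V.left›
    have hpo := isPushout_appTop_of_isPullback ((IsPullback.of_hasPullback q k).map (Over.forget S))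
    have hgen : c ∈ AddSubgroup.closure {x : Cr | ∃ p₀ ∈ P, ∃ b₀, x = β p₀ * α b₀} := by
      refine Submodule.span_induction (p := fun c _ => c ∈ AddSubgroup.closure {x : Cr | ∃ p₀ ∈ P, ∃ b₀, x = β p₀ * α b₀})
        ?_ (zero_mem _) (fun _ _ _ _ => add_mem) (fun s c hmem hc => ?_) hc
      · rintro _ ⟨p₀, hp₀, rfl⟩
        exact AddSubgroup.subset_closure ⟨p₀, hp₀, 1, by rw [map_one, mul_one]⟩
      · clear hmem
        induction Groth.Agent.AlgSpB.Art.span_products_eq_top hpo s using AddSubgroup.closure_induction with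
        | zero => rw [zero_smul]; exact zero_mem _
        | add _ _ _ _ h1 h2 => rw [add_smul]; exact add_mem h1 h2
        | neg _ _ h1 => rw [neg_smul]; exact neg_mem h1
        | mem x hx =>
          obtain ⟨b₁, r₁, rfl⟩ := hx
          induction hc using AddSubgroup.closure_induction with
          | zero => rw [smul_zero]; exact zero_mem _
          | add _ _ _ _ h1 h2 => rw [smul_add]; exact add_mem h1 h2
          | neg _ _ h1 => rw [smul_neg]; exact neg_mem h1
          | mem y hy =>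
            obtain ⟨p₀, hp₀, b₀, rfl⟩ := hy
            let r₁' : R := r₁
            let b₁' : Γ(T.left, ⊤) := b₁
            refine AddSubgroup.subset_closure ⟨r₁' * p₀, P.mul_mem_left _ hp₀, b₁' * b₀, ?_⟩
            change (α b₁' * β r₁') * (β p₀ * α b₀) = _
            rw [map_mul, map_mul]; ring
    clear hjc hc
    induction hgen using AddSubgroup.closure_induction with
    | zero => exact ⟨0, Fin.elim0, Fin.elim0, fun i => i.elim0, by simp⟩
    | mem x hx =>
      obtain ⟨p₀, hp₀, b₀, rfl⟩ := hx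
      exact ⟨1, fun _ => p₀, fun _ => b₀, fun _ => hp₀, by simp⟩
    | add x y _ _ hx hy =>
      obtain ⟨n, p₁, b₁, h₁, rfl⟩ := hx
      obtain ⟨m, p₂, b₂, h₂, rfl⟩ := hy
      exact ⟨n + m, Fin.append p₁ p₂, Fin.append b₁ b₂, fun i => by cases i using Fin.addCases <;> simp [h₁, h₂],
        by simp [Fin.sum_univ_add]⟩
    | neg x _ hx =>
      obtain ⟨n, p₁, b₁, h₁, rfl⟩ := hx
      exact ⟨n, fun i => -p₁ i, b₁, fun i => neg_mem (h₁ i), by simp [Finset.sum_neg_distrib]⟩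
  obtain ⟨n, p', b', hp', hcsum⟩ := hc'
  -- the point of the affine space
  let AV : Over S := Over.mk ((𝔸(ULift.{u} (Fin (n + 1)); V.left) ↘ V.left) ≫ V.hom)
  let pn : AV ⟶ V := Over.homMk (𝔸(ULift.{u} (Fin (n + 1)); V.left) ↘ V.left)
  let v : ULift.{u} (Fin (n + 1)) → R := fun i => Fin.cons (α := fun _ => R) r p' i.down
  let φ : Z ⟶ AV :=
    Over.homMk (AffineSpace.homOfVector k.left v) (by
      change _ ≫ _ ≫ V.hom = _
      rw [AffineSpace.homOfVector_over_assoc, Over.w k])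
  have hφ : φ ≫ pn = k := Over.OverMorphism.ext (AffineSpace.homOfVector_over _ _)
  have : IsAffine AV.left := inferInstanceAs (IsAffine 𝔸(ULift.{u} (Fin (n + 1)); V.left))
  obtain ⟨aN, haN, haNs, ⟨iN1⟩, ⟨iN2⟩⟩ := exists_chart_baseChange ia pn hM.isStack.1 ha has
  have : IsAffine (pullback q pn).left := haff pn
  let TN : Scheme.{u} := (pullback q pn).left
  let κT : pullback q k ⟶ pullback q pn := pullback.lift (pullback.fst q k) (pullback.snd q k ≫ φ)
    (by rw [Category.assoc, hφ]; exact pullback.condition)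
  let κP : fp p (AlgSt.overMap k) ⥤ᵇ fp p (AlgSt.overMap pn) :=
    fpLift (fpFst p (AlgSt.overMap k)) (BasedFunctor.comp (fpSnd p (AlgSt.overMap k)) (AlgSt.overMap φ))
      (fpIso p (AlgSt.overMap k) ≪≫ isoWhiskerLeft (fpSnd p (AlgSt.overMap k))
        (eqToIso (congrArg AlgSt.overMap hφ.symm) ≪≫ overMapCompIso φ pn))
  let x₀ : Γ(TN, ⊤) := (pullback.snd q pn).left.appTop (AffineSpace.coord V.left ⟨0⟩) -
    ∑ i, (pullback.snd q pn).left.appTop (AffineSpace.coord V.left ⟨i.succ⟩) * (pullback.fst q pn).left.appTop (b' i)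
  have hcoord : ∀ i, κT.left.appTop ((pullback.snd q pn).left.appTop (AffineSpace.coord V.left i)) = β (v i) := fun i => by
    rw [← CommRingCat.comp_apply, ← Scheme.Hom.comp_appTop, ← Over.comp_left, pullback.lift_snd, Over.comp_left,
      Scheme.Hom.comp_appTop, CommRingCat.comp_apply]
    exact congrArg π.appTop (AffineSpace.homOfVector_appTop_coord _ _ _)
  have hfst : ∀ s, κT.left.appTop ((pullback.fst q pn).left.appTop s) = α s := fun s => by
    rw [← CommRingCat.comp_apply, ← Scheme.Hom.comp_appTop, ← Over.comp_left, pullback.lift_fst]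
  have hx₀ : κT.left.appTop x₀ ∈ J := by
    simp only [x₀, map_sub, map_sum, map_mul, hcoord, hfst]
    have e : β (v ⟨0⟩) - ∑ i, β (v ⟨i.succ⟩) * α (b' i) = j := by
      simp only [v, Fin.cons_zero, Fin.cons_succ]
      rw [← hjc, hcsum]; abel
    rw [e]; exact hj
  let C₀ : Set (AlgSt.Points (fp p (AlgSt.overMap pn))) := closure (AlgSt.Points.map κP '' C)
  have hsub : AlgSt.Points.ofChart aN ⁻¹' C₀ ⊆ ((TN.basicOpen x₀ : Set TN))ᶜ := by
    rw [(isOpenMap_ofChart (halg pn) (repByAlgSpWith_flat_of_smooth haN)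
      (repByAlgSpWith_lfp_of_smooth haN)).preimage_closure_eq_closure_preimage (continuous_ofChart (halg pn) aN)]
    refine closure_minimal ?_ (TN.basicOpen x₀).isOpen.isClosed_compl
    rintro t₀ ⟨c₀, hc₀, hct⟩
    obtain ⟨r₀, hr1, hr2⟩ := exists_points_fp_of_map_eq (halg k).isStack.1 (isFibGrpd_overCat _)
      (halg pn).isStack.1 κP aN (AlgSt.Points.ofChart (BasedFunctor.id _) t₀) c₀ hct.symm
    obtain ⟨L, hL, t, m, rfl⟩ := exists_field_chart
      (isFibGrpd_fp (isFibGrpd_overCat _) (halg k).isStack.1 (halg pn).isStack.1 aN κP) r₀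
    obtain ⟨α', ⟨iα⟩⟩ := exists_iso_overMap (BasedFunctor.comp m (fpFst aN κP))
    let m2 := BasedFunctor.comp m (fpSnd aN κP)
    obtain ⟨β', ⟨iβ⟩⟩ := exists_iso_overMap (BasedFunctor.comp m2 (fpSnd p (AlgSt.overMap k)))
    -- the two maps agree on the affine space
    have i0 : BasedFunctor.comp (AlgSt.overMap α') aN ≅ BasedFunctor.comp m2 κP :=
      isoWhiskerRight iα.symm aN ≪≫ isoWhiskerLeft m (fpIso aN κP)
    have hαβ : α' ≫ pullback.snd q pn = β' ≫ φ := overMap_injective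
      (overMapCompIso α' (pullback.snd q pn) ≪≫ isoWhiskerLeft (AlgSt.overMap α') iN2.symm ≪≫
        isoWhiskerRight i0 (fpSnd p (AlgSt.overMap pn)) ≪≫ isoWhiskerRight iβ (AlgSt.overMap φ) ≪≫
        (overMapCompIso β' φ).symm)
    let l : L ⟶ pullback q k := pullback.lift (α' ≫ pullback.fst q pn) β' (by
      rw [Category.assoc, pullback.condition, reassoc_of% hαβ, hφ])
    have hl : l ≫ κT = α' := by
      apply pullback.hom_ext
      · rw [Category.assoc, pullback.lift_fst, pullback.lift_fst]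
      · rw [Category.assoc, pullback.lift_snd, ← Category.assoc, pullback.lift_snd, hαβ]
    obtain ⟨im⟩ := exists_iso_of_fp_overCat (F := BasedFunctor.comp (AlgSt.overMap l) aZ) (G := m2)
      (isoWhiskerLeft (AlgSt.overMap l) iZ1 ≪≫
        isoWhiskerRight ((overMapCompIso l (pullback.fst q k)).symm ≪≫
          eqToIso (congrArg AlgSt.overMap (pullback.lift_fst _ _ _)) ≪≫ overMapCompIso α' (pullback.fst q pn)) a ≪≫
        isoWhiskerLeft (AlgSt.overMap α') iN1.symm ≪≫ isoWhiskerRight i0 (fpFst p (AlgSt.overMap pn)))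
      (isoWhiskerLeft (AlgSt.overMap l) iZ2 ≪≫ (overMapCompIso l (pullback.snd q k)).symm ≪≫
        eqToIso (congrArg AlgSt.overMap (pullback.lift_snd _ _ _)) ≪≫ iβ.symm)
    have hs : AlgSt.Points.ofChart aZ (l.left t) ∈ C := by
      rw [← ofChart_overMap, ofChart_congr im, show AlgSt.Points.ofChart m2 t = c₀ from hr2]
      exact hc₀
    have ht : κT.left (l.left t) = t₀ := by
      rw [← Scheme.Hom.comp_apply, ← Over.comp_left, hl]
      have := congrArg ptMap hr1
      rw [ptMap_ofChart_of_iso iα, ptMap_ofChart_id] at this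
      exact this
    rw [← ht]
    intro hmem
    refine (hJ _).1 hx₀ _ hs ?_
    exact (Scheme.preimage_basicOpen_top κT.left x₀).le hmem
  have hE : IsClosed (basePt (fpSnd p (AlgSt.overMap pn)) '' C₀) := H (n + 1) _ isClosed_closure
  refine ⟨φ.left ⁻¹' (basePt (fpSnd p (AlgSt.overMap pn)) '' C₀)ᶜ,
    fun z' hz' => ?_, hE.isOpen_compl.preimage φ.left.continuous, ?_⟩
  · rintro ⟨c₀, hc₀, hcz⟩
    refine hz' ⟨AlgSt.Points.map κP c₀, subset_closure ⟨c₀, hc₀, rfl⟩, ?_⟩
    rw [basePt_comp κP (fpSnd p (AlgSt.overMap pn))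
      (p' := BasedFunctor.comp (fpSnd p (AlgSt.overMap k)) (AlgSt.overMap φ)) (Iso.refl _), ← hcz]
    unfold basePt
    rw [points_map_comp, Function.comp_apply, ptMap_map_overMap]
  · rintro ⟨c₀, hc₀, hcz⟩
    obtain ⟨t₀, rfl⟩ := ofChart_surjective (halg pn).isStack.1 haNs c₀
    rw [basePt_ofChart iN2] at hcz
    refine hsub hc₀ ?_
    have hev : ∀ i, (pullback.snd q pn).left t₀ ∈ (𝔸(ULift.{u} (Fin (n + 1)); V.left)).basicOpen (AffineSpace.coord V.left i) ↔
        z ∈ Z.left.basicOpen (v i) := fun i => by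
      rw [hcz]
      change z ∈ (AffineSpace.homOfVector k.left v) ⁻¹ᵁ (𝔸(ULift.{u} (Fin (n + 1)); V.left)).basicOpen (AffineSpace.coord V.left i) ↔ _
      rw [Scheme.preimage_basicOpen_top]
      exact Iff.of_eq (congrArg (fun s => z ∈ Z.left.basicOpen s) (AffineSpace.homOfVector_appTop_coord _ _ _))
    have hev' : ∀ i, TN.Γevaluation t₀ ((pullback.snd q pn).left.appTop (AffineSpace.coord V.left i)) = 0 ↔
        v i ∈ P := fun i => by
      rw [← Groth.Agent.AlgSpB.Art.notMem_basicOpen_iff, ← Scheme.preimage_basicOpen_top]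
      exact (not_congr (hev i)).trans (Groth.Agent.AlgSpB.Art.notMem_basicOpen_iff _ _)
    change t₀ ∈ TN.basicOpen x₀
    by_contra hh
    rw [Groth.Agent.AlgSpB.Art.notMem_basicOpen_iff] at hh
    simp only [x₀, map_sub, map_sum, map_mul] at hh
    rw [Finset.sum_eq_zero (fun i _ => by
      rw [(hev' ⟨i.succ⟩).2 (by simpa [v] using hp' i), zero_mul]), sub_zero, hev'] at hh
    exact hr (by simpa [v] using hh)

/-- A morphism of algebraic stacks is universally closed when it is closed over affine schemes. -/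
theorem isUnivClosed_of_affine (h𝒳 : AlgSt.IsAlgStack E 𝒳) (h𝒴 : AlgSt.IsAlgStack E 𝒴) (f : 𝒳 ⥤ᵇ 𝒴)
    (H : ∀ (T : Over S), IsAffine T.left → ∀ b : overCat T ⥤ᵇ 𝒴, IsClosedMap (basePt (fpSnd f b))) :
    AlgSt.IsUnivClosed E f := by
  intro 𝒵 h𝒵 g C hC
  refine isOpen_compl_iff.1 fun V z hz => ?_
  rw [Set.preimage_compl]
  refine isOpen_iff_forall_mem_open.2 fun v hv => ?_
  obtain ⟨O, hO, hvO, -⟩ := exists_isAffineOpen_mem_and_subset (x := v) (U := ⊤) trivial
  let VO : Over S := Over.mk (O.ι ≫ V.hom)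
  let j : VO ⟶ V := Over.homMk O.ι rfl
  let zO := BasedFunctor.comp (AlgSt.overMap j) z
  have hN := isAlgStack_fp_etale h𝒵 h𝒳 h𝒴 g f
  let b := BasedFunctor.comp zO g
  have hMb := isAlgStack_fp_etale h𝒳 (isAlgStack_overCat_etale VO) h𝒴 f b
  obtain ⟨d, hd, -, ⟨k⟩⟩ := isEquivOver_symm (isEquivOver_comp (fpPaste_isEquivOver g f zO)
    (fpSwap_isEquivOver (BasedFunctor.comp zO g) f))
  let Φ : fp f b ⥤ᵇ fp g f := BasedFunctor.comp d (fpSnd zO (fpFst g f))
  have hsnd : BasedFunctor.comp d (fpFst zO (fpFst g f)) ≅ fpSnd f b :=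
    isoWhiskerRight k (fpSnd f b)
  have hEc := H VO hO b _ (hC.preimage (continuous_points_map hN Φ))
  have : IsOpenImmersion j.left := inferInstanceAs (IsOpenImmersion O.ι)
  refine ⟨j.left '' (basePt (fpSnd f b) '' (AlgSt.Points.map Φ ⁻¹' C))ᶜ, ?_,
    j.left.isOpenEmbedding.isOpenMap _ hEc.isOpen_compl, ⟨(⟨v, hvO⟩ : O.toScheme), ?_, rfl⟩⟩
  · rintro _ ⟨w, hw, rfl⟩ ⟨c, hc, hcw⟩
    obtain ⟨R, hR1, hR2⟩ := exists_points_fp_of_map_eq hN.isStack.1 (isFibGrpd_overCat VO) h𝒵.isStack.1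
      (fpFst g f) zO (AlgSt.Points.ofChart (BasedFunctor.id _) w) c (by
        rw [← ofChart_eq_map]
        exact (ofChart_overMap z j w).trans hcw.symm)
    obtain ⟨P, rfl⟩ := (points_bijective_of_isEquivOver hd).surjective R
    refine hw ⟨P, ?_, ?_⟩
    · change AlgSt.Points.map Φ P ∈ C
      rw [points_map_comp, Function.comp_apply, hR2]
      exact hc
    · rw [← basePt_comp d (fpFst zO (fpFst g f)) hsnd]
      exact (congrArg ptMap hR1).trans (ptMap_ofChart_id w)
  · rintro ⟨P, hP, hPv⟩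
    refine hv ⟨_, hP, ?_⟩
    rw [points_map_comp, Function.comp_apply, ← Function.comp_apply (f := AlgSt.Points.map (fpFst g f)),
      ← points_map_comp, ← points_map_congr (fpIso zO (fpFst g f)), points_map_comp, Function.comp_apply,
      ← Function.comp_apply (f := AlgSt.Points.map (fpFst zO (fpFst g f))), ← points_map_comp, points_map_congr hsnd,
      ← ofChart_id_ptMap (AlgSt.Points.map (fpSnd f b) P), show ptMap (AlgSt.Points.map (fpSnd f b) P) = _ from hPv,
      ← ofChart_eq_map]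
    exact ofChart_overMap z j _

end Groth.Agent.StFib
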