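import Groth.Agent.StFib.LocQBasic
import Groth.Agent.StFib.LocQDescent
import Groth.Agent.StFib.SmoothLocal
import Groth.Agent.StFib.PointsTop
import Groth.Agent.StFib.SourceLocal
import Groth.Agent.StFib.DVRClosed
import Groth.Agent.S8656
import Groth.Agent.S8658
import Groth.Agent.RegImm44.KoszulMor
import Groth.Agent.S10665
import Groth.Agent.S9773

/-!
# Cancellation of smooth morphisms for local complete intersections
-/

set_option backward.isDefEq.respectTransparency false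
set_option backward.isDefEq.respectTransparency.types false
set_option linter.unusedVariables false

universe u

open CategoryTheory CategoryTheory.Limits AlgebraicGeometry Opposite FibCat

namespace Groth.Agent.StFib

/-- If `f ≫ q` is Koszul and `q` is smooth then `f` is Koszul. -/
theorem isKoszulAt_of_comp_smooth {X Y Z : Scheme.{u}} (f : X ⟶ Y) (q : Y ⟶ Z) [Smooth q]
    (hp : ∀ x, Synt.IsKoszulAt (f ≫ q) x) : ∀ x, Synt.IsKoszulAt f x := by
  have w : 𝟙 X ≫ f ≫ q = f ≫ q := Category.id_comp _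
  let G : X ⟶ pullback (f ≫ q) q := pullback.lift (𝟙 X) f w
  have h1 : G ≫ pullback.fst (f ≫ q) q = 𝟙 X := pullback.lift_fst _ _ _
  have h2 : G ≫ pullback.snd (f ≫ q) q = f := pullback.lift_snd _ _ _
  have : IsImmersion (G ≫ pullback.fst (f ≫ q) q) := by rw [h1]; infer_instance
  have : IsImmersion G := IsImmersion.of_comp G (pullback.fst (f ≫ q) q)
  have hG := Groth.Agent.S8656.result (𝟙 X) (fun x => Groth.Agent.S10665.isKoszulAt_of_smooth (𝟙 X) x)
    (pullback.fst (f ≫ q) q) G h1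
  have hs := Groth.Agent.S8658.result (f ≫ q) q (pullback.snd (f ≫ q) q) (pullback.fst (f ≫ q) q)
    (IsPullback.of_hasPullback _ _) hp
  intro x
  rw [← h2]
  exact Groth.Agent.RegImm44.isKoszulAt_comp G _
    (fun y => Groth.Agent.S10665.isKoszulAt_of_immersion G hG y) hs x

variable {S : Scheme.{u}} {𝒳 𝒴 𝒵 : AlgSt.Cat S}

/-- A functor to a 2-fibre product is the lift of its projections. -/
def fpLiftSelfIso {𝒜 : AlgSt.Cat S} {f : 𝒳 ⥤ᵇ 𝒵} {g : 𝒴 ⥤ᵇ 𝒵} (w : 𝒜 ⥤ᵇ fp f g) {b : 𝒜 ⥤ᵇ 𝒴}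
    (ib : BasedFunctor.comp w (fpSnd f g) ≅ b) :
    w ≅ fpLift (BasedFunctor.comp w (fpFst f g)) b
      (isoWhiskerLeft w (fpIso f g) ≪≫ isoWhiskerRight ib g) :=
  isoMk (F := w) (G := fpLift (BasedFunctor.comp w (fpFst f g)) b
      (isoWhiskerLeft w (fpIso f g) ≪≫ isoWhiskerRight ib g))
    (fun a => fpIsoMk (Iso.refl _) (isoApp ib a) (by
      change f.map (𝟙 _) ≫ (isoApp (isoWhiskerLeft w (fpIso f g) ≪≫ isoWhiskerRight ib g) a).hom =
        (w.obj a).obj.iso.hom ≫ g.map (isoApp ib a).hom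
      rw [CategoryTheory.Functor.map_id, Category.id_comp]
      rfl))
    (fun a => Vert.id _)
    (fun {a b} φ => fp_hom_ext (F := f) (G := g) ((Category.comp_id _).trans (Category.id_comp _).symm)
      (isoApp_naturality ib φ))

theorem isLCIMor_yon_of_comp {U T W : Over S} (d : U ⟶ T) (t : T ⟶ W) [Smooth t.left]
    (h : ∀ x, Synt.IsKoszulAt (d.left ≫ t.left) x) : AlgSp.IsLCIMor ((AlgSp.yon S).map d) := by
  intro A B a b g ha hb e
  obtain ⟨a, rfl⟩ := (AlgSp.yon S).map_surjective a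
  obtain ⟨b, rfl⟩ := (AlgSp.yon S).map_surjective b
  have ha' : Etale a.left := (AlgSp.repWith_yon_map_iff _ _).1 ha
  have hb' : Etale b.left := (AlgSp.repWith_yon_map_iff _ _).1 hb
  have e' : a ≫ d = g ≫ b := (AlgSp.yon S).map_injective (by simpa using e)
  refine isKoszulAt_of_comp_smooth g.left (b.left ≫ t.left) ?_
  have hd := Groth.Agent.RegImm44.isKoszulAt_comp a.left (d.left ≫ t.left)
    (fun y => Groth.Agent.S10665.isKoszulAt_of_smooth a.left y) h
  have : g.left ≫ b.left ≫ t.left = a.left ≫ d.left ≫ t.left := by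
    simpa [Category.assoc] using congrArg (fun m => m.left ≫ t.left) e'.symm
  intro x
  rw [this]
  exact hd x

theorem locQ_lci_of_comp (h𝒳 : AlgSt.IsAlgStack Scheme.fppfPrecoverage 𝒳)
    (h𝒴 : AlgSt.IsAlgStack Scheme.fppfPrecoverage 𝒴) (h𝒵 : AlgSt.IsAlgStack Scheme.fppfPrecoverage 𝒵)
    (f : 𝒳 ⥤ᵇ 𝒴) (q : 𝒴 ⥤ᵇ 𝒵) (p : 𝒳 ⥤ᵇ 𝒵) (e : BasedFunctor.comp f q ≅ p)
    (hq : AlgSt.LocQ (AlgSp.LocP @Smooth) q) (hp : AlgSt.LocQ AlgSp.IsLCIMor p) :
    AlgSt.LocQ AlgSp.IsLCIMor f := by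
  obtain ⟨U, W, x, z, k, ip, hx, hxs, hz, hk⟩ := hp
  obtain ⟨V, y0, hy0, hys0⟩ := h𝒴.atlas
  let g := BasedFunctor.comp y0 q
  -- a chart of `V ×_𝒵 W`
  obtain ⟨T, w, hw, hws⟩ := atlasProp_smooth.atlas (repByAlgSp1_chart h𝒵 z V g)
  have hM : IsFibGrpd (fp g z).p :=
    isFibGrpd_fp (isFibGrpd_overCat V) (isFibGrpd_overCat W) h𝒵.isStack.1 g z
  obtain ⟨τV, ⟨iV⟩⟩ := exists_iso_overMap (BasedFunctor.comp w (fpFst g z))
  obtain ⟨τW, ⟨iW⟩⟩ := exists_iso_overMap (BasedFunctor.comp w (fpSnd g z))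
  have hτV : Smooth τV.left := mem_scheme_of_overMap Groth.Agent.AlgSpCov.standard_smooth
    (repByAlgSpWith_of_iso _ iV (repByAlgSpWith_comp good_smooth.bc good_smooth.comp good_smooth.det
      (isFibGrpd_overCat T) hM hw (repByAlgSpWith_fpFst _ g hz)))
  let L := fpMap (F := q) (G := z) (F' := g) (G' := z) y0 (BasedFunctor.id _)
    (BasedFunctor.id _) (Iso.refl _) (Iso.refl _)
  let wL := BasedFunctor.comp w L
  have hwL : AlgSt.RepByAlgSpWith (AlgSp.LocP @Smooth) wL :=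
    repByAlgSpWith_comp good_smooth.bc good_smooth.comp good_smooth.det (isFibGrpd_overCat T) hM hw
      (repByAlgSpWith_fpMap_left _ hy0 q z)
  have hτW : Smooth τW.left := by
    let jW : BasedFunctor.comp wL (fpSnd q z) ≅ AlgSt.overMap τW := iW
    refine scheme_mem_of_locP (mem_of_locQ (isSmoothLocalST_locP smoothLocalProp_smooth) h𝒴 h𝒵 hq
      (x := BasedFunctor.comp wL (fpFst q z)) (y := z) (h := τW)
      (isoWhiskerLeft wL (fpIso q z) ≪≫ isoWhiskerRight jW z) hz ?_)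
    exact repByAlgSpWith_of_iso _ (fpLiftSelfIso wL jW) hwL
  -- a chart of `U ×_𝒴 V`
  obtain ⟨W', w', hw', hws'⟩ := atlasProp_smooth.atlas (repByAlgSp1_chart h𝒴 y0 U (BasedFunctor.comp x f))
  have hM' : IsFibGrpd (fp (BasedFunctor.comp x f) y0).p :=
    isFibGrpd_fp (isFibGrpd_overCat U) (isFibGrpd_overCat V) h𝒴.isStack.1 _ y0
  obtain ⟨b, ⟨ib⟩⟩ := exists_iso_overMap (BasedFunctor.comp w' (fpFst (BasedFunctor.comp x f) y0))
  obtain ⟨a, ⟨ia⟩⟩ := exists_iso_overMap (BasedFunctor.comp w' (fpSnd (BasedFunctor.comp x f) y0))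
  have hb : AlgSt.RepByAlgSpWith (AlgSp.LocP @Smooth) (AlgSt.overMap b) :=
    repByAlgSpWith_of_iso _ ib (repByAlgSpWith_comp good_smooth.bc good_smooth.comp good_smooth.det
      (isFibGrpd_overCat W') hM' hw' (repByAlgSpWith_fpFst _ _ hy0))
  have hbs : AlgSt.RepByAlgSpWith AlgSp.IsSurjectiveMor (AlgSt.overMap b) :=
    repByAlgSpWith_of_iso _ ib (repByAlgSpWith_comp good_surjective.bc good_surjective.comp
      good_surjective.det (isFibGrpd_overCat W') hM' hws' (repByAlgSpWith_fpFst _ _ hys0))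
  let iab : BasedFunctor.comp (AlgSt.overMap b) (BasedFunctor.comp x f) ≅
      BasedFunctor.comp (AlgSt.overMap a) y0 :=
    isoWhiskerRight ib.symm (BasedFunctor.comp x f) ≪≫ isoWhiskerLeft w' (fpIso _ y0) ≪≫ isoWhiskerRight ia y0
  let l : overCat W' ⥤ᵇ fp g z := fpLift (AlgSt.overMap a) (AlgSt.overMap (b ≫ k))
    (isoWhiskerRight iab.symm q ≪≫ isoWhiskerLeft (BasedFunctor.comp (AlgSt.overMap b) x) e ≪≫
      isoWhiskerLeft (AlgSt.overMap b) ip ≪≫ isoWhiskerRight (overMapCompIso b k).symm z)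
  obtain ⟨A, eA, heA, hA⟩ := repByAlgSpWith_inf (isFibGrpd_overCat T) hM good_smooth good_surjective hw hws W' l
  obtain ⟨U'', v, hv, hvs⟩ := atlasProp_smooth.atlas (⟨A, eA, heA⟩ : AlgSt.RepByAlgSp (fp l w))
  obtain ⟨c, ⟨ic⟩⟩ := exists_iso_overMap (BasedFunctor.comp v (fpFst l w))
  obtain ⟨d, ⟨jd⟩⟩ := exists_iso_overMap (BasedFunctor.comp v (fpSnd l w))
  let M : BasedFunctor.comp (AlgSt.overMap c) l ≅ BasedFunctor.comp (AlgSt.overMap d) w :=
    isoWhiskerRight ic.symm l ≪≫ isoWhiskerLeft v (fpIso l w) ≪≫ isoWhiskerRight jd w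
  have hF : IsFibGrpd (fp l w).p := isFibGrpd_fp (isFibGrpd_overCat W') (isFibGrpd_overCat T) hM l w
  have hc : AlgSt.RepByAlgSpWith (AlgSp.LocP @Smooth) (AlgSt.overMap c) :=
    repByAlgSpWith_of_iso _ ic (repByAlgSpWith_comp good_smooth.bc good_smooth.comp good_smooth.det
      (isFibGrpd_overCat U'') hF hv (repByAlgSpWith_fpFst _ l hw))
  have hcs : AlgSt.RepByAlgSpWith AlgSp.IsSurjectiveMor (AlgSt.overMap c) :=
    repByAlgSpWith_of_iso _ ic (repByAlgSpWith_comp good_surjective.bc good_surjective.comp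
      good_surjective.det (isFibGrpd_overCat U'') hF hvs (repByAlgSpWith_fpFst _ l hws))
  have hdW : d ≫ τW = c ≫ b ≫ k := overMap_injective (overMapCompIso d τW ≪≫
    isoWhiskerLeft (AlgSt.overMap d) iW.symm ≪≫ isoWhiskerRight M.symm (fpSnd g z) ≪≫
      (overMapCompIso c (b ≫ k)).symm)
  let iVd : BasedFunctor.comp (AlgSt.overMap c) (AlgSt.overMap a) ≅
      BasedFunctor.comp (AlgSt.overMap d) (AlgSt.overMap τV) :=
    isoWhiskerRight M (fpFst g z) ≪≫ isoWhiskerLeft (AlgSt.overMap d) iV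
  let x' : overCat U'' ⥤ᵇ 𝒳 := BasedFunctor.comp (AlgSt.overMap c) (BasedFunctor.comp (AlgSt.overMap b) x)
  have comp2 : ∀ P : MorphismProperty (AlgSp.Sp S), Good P → AlgSt.RepByAlgSpWith P (AlgSt.overMap c) →
      AlgSt.RepByAlgSpWith P (AlgSt.overMap b) → AlgSt.RepByAlgSpWith P x → AlgSt.RepByAlgSpWith P x' :=
    fun P hP h1 h2 h3 => repByAlgSpWith_comp hP.bc hP.comp hP.det (isFibGrpd_overCat _) (isFibGrpd_overCat _) h1
      (repByAlgSpWith_comp hP.bc hP.comp hP.det (isFibGrpd_overCat _) (isFibGrpd_overCat _) h2 h3)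
  refine ⟨U'', T, x', BasedFunctor.comp (AlgSt.overMap τV) y0, d,
    isoWhiskerLeft (AlgSt.overMap c) iab ≪≫ isoWhiskerRight iVd y0, comp2 _ good_smooth hc hb hx,
    comp2 _ good_surjective hcs hbs hxs, smooth_chart_comp τV hy0, ?_⟩
  refine isLCIMor_yon_of_comp d τW fun t => ?_
  have hcb : Smooth (c ≫ b).left := by
    rw [Over.comp_left]
    have := mem_scheme_of_overMap Groth.Agent.AlgSpCov.standard_smooth hc
    have := mem_scheme_of_overMap Groth.Agent.AlgSpCov.standard_smooth hb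
    infer_instance
  rw [← Over.comp_left, hdW, ← Category.assoc, Over.comp_left]
  exact Groth.Agent.RegImm44.isKoszulAt_comp (c ≫ b).left k.left
    (fun y => Groth.Agent.S10665.isKoszulAt_of_smooth _ y) (scheme_mem_of_locP hk) t

end Groth.Agent.StFib
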