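import Groth.Agent.StFib.Props
import Groth.Agent.StFib.StackRep
import Groth.Agent.StFib.Diag

/-!
Cancellation for representable morphisms, fibre products of algebraic stacks.
-/

set_option backward.isDefEq.respectTransparency false
set_option backward.isDefEq.respectTransparency.types false

universe u

open CategoryTheory CategoryTheory.Limits AlgebraicGeometry Opposite FibCat

namespace Groth.Agent.StFib

variable {S : Scheme.{u}} {𝒳 𝒴 𝒵 : AlgSt.Cat S}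

/-- The identity is representable. -/
theorem repByAlgSp1_id (𝒳 : AlgSt.Cat S) : AlgSt.RepByAlgSp1 (BasedFunctor.id 𝒳) := by
  intro U y
  have h : IsEquivOver (fpLift (F := y) (G := BasedFunctor.id 𝒳) (BasedFunctor.id (overCat U)) y
      (Iso.refl _ : BasedFunctor.comp (BasedFunctor.id (overCat U)) y ≅
        BasedFunctor.comp y (BasedFunctor.id 𝒳))) := by
    refine fpLift_isEquivOver_mk _ _ _ (fun φ ψ h _ => h) (fun a b h => ⟨a, rfl, ?_⟩) fun z => ?_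
    · exact ((Category.comp_id _).symm.trans h).trans (Category.id_comp _)
    · exact ⟨z.obj.fst, Iso.refl _, z.obj.iso, Vert.id _,
        (congrArg (· ≫ _) (y.toFunctor.map_id _)).trans rfl⟩
  exact repByAlgSp_of_equiv h (repByAlgSp_overCat U)

/-- Cancellation: if `u ≫ q` has `P` and `q` has `Q`, then `u` has `P`. -/
theorem repByAlgSpWith_cancel {P Q : MorphismProperty (AlgSp.Sp S)} (hPb : StableBC P)
    (hcancel : ∀ ⦃X Y Z : AlgSp.Sp S⦄, AlgSp.IsAlgSpace X → AlgSp.IsAlgSpace Y → AlgSp.IsAlgSpace Z →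
      ∀ (a : X ⟶ Y) (b : Y ⟶ Z), Q b → P (a ≫ b) → P a)
    {u : 𝒳 ⥤ᵇ 𝒴} {q : 𝒴 ⥤ᵇ 𝒵} (hq : AlgSt.RepByAlgSpWith Q q)
    (huq : AlgSt.RepByAlgSpWith P (BasedFunctor.comp u q)) : AlgSt.RepByAlgSpWith P u := by
  have := hPb.of_respects
  have key : AlgSt.RepByAlgSpWith (Restr P) u := by
    intro U y
    let yq := BasedFunctor.comp y q
    obtain ⟨C, eC, heC, hcQ⟩ := hq U yq
    obtain ⟨B, eB, heB, hbP⟩ := huq U yq
    obtain ⟨E, hE, ⟨i⟩⟩ := exists_fp_assoc yq q u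
    obtain ⟨E', hE', ⟨iE⟩⟩ := exists_inv_over
      (F := BasedFunctor.comp (fpFst (fpSnd yq q) u) (fpFst yq q)) (G := fpFst yq (BasedFunctor.comp u q)) hE i
    obtain ⟨d, hd, -, ⟨j⟩⟩ := isEquivOver_symm heC
    let Φ := BasedFunctor.comp (BasedFunctor.comp eB E')
      (BasedFunctor.comp (fpFst (fpSnd yq q) u) d)
    obtain ⟨k⟩ := exists_iso_pshMap (P := B.obj.obj) (Q := C.obj.obj) Φ
    let b : B.obj ⟶ C.obj := ObjectProperty.homMk (pshMap Φ)
    have ek : BasedFunctor.comp (AlgSt.ofSpMap b) eC ≅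
        BasedFunctor.comp (BasedFunctor.comp eB E') (fpFst (fpSnd yq q) u) :=
      Iso.trans (isoWhiskerRight k.symm eC)
        (isoWhiskerLeft (BasedFunctor.comp (BasedFunctor.comp eB E') (fpFst (fpSnd yq q) u)) j)
    have hbc : b ≫ AlgSt.spMapOfOver (BasedFunctor.comp eC (fpFst yq q)) =
        AlgSt.spMapOfOver (BasedFunctor.comp eB (fpFst yq (BasedFunctor.comp u q))) := by
      rw [← spMapOfOver_ofSpMap_comp]
      exact spMapOfOver_congr (Iso.trans (isoWhiskerRight ek (fpFst yq q)) (isoWhiskerLeft eB iE))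
    have hb : P b := hcancel B.property C.property (isAlgSpace_yon U) b _ hcQ (hbc.symm ▸ hbP)
    have h1 : AlgSt.RepByAlgSpWith (Restr P) (AlgSt.ofSpMap b) :=
      (repBySpWith_iff _ b.hom).1 ((AlgSp.repBySpWith_hom_iff _ b).2 fun V ξ F' fst snd sq =>
        have hF' := Groth.Agent.AlgSp.isAlgSpace_of_isPullback' C.property B.property
          (isAlgSpace_yon V) sq
        ⟨hF', fun _ _ => hPb B.property C.property hF' (isAlgSpace_yon V) b ξ snd fst sq hb⟩)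
    have h2 : AlgSt.RepByAlgSpWith (Restr P) (fpFst (fpSnd yq q) u) :=
      (repByAlgSpWith_iff_of_equiv _ (BasedFunctor.comp eB E') eC (isEquivOver_comp heB hE') heC
        ek).2 h1
    let s : overCat U ⥤ᵇ fp yq q := fpLift (BasedFunctor.id _) y (Iso.refl _)
    obtain ⟨F, eF, heF, hF⟩ := h2 U s
    obtain ⟨M, hM, ⟨iM⟩, -⟩ := exists_fp_of_cart _ _ _ (fpLift_self_isEquivOver (fpSnd yq q) u) s
    refine ⟨F, BasedFunctor.comp eF M, isEquivOver_comp heF hM, ?_⟩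
    have e2 := spMapOfOver_congr (F := F.obj) (isoWhiskerLeft eF iM)
    exact e2.symm ▸ hF
  exact repByAlgSpWith_mono key fun F U a h => h F.property (isAlgSpace_yon U)

theorem repByAlgSp1_cancel {u : 𝒳 ⥤ᵇ 𝒴} {q : 𝒴 ⥤ᵇ 𝒵} (hq : AlgSt.RepByAlgSp1 q)
    (huq : AlgSt.RepByAlgSp1 (BasedFunctor.comp u q)) : AlgSt.RepByAlgSp1 u :=
  repByAlgSp1_iff_with_top.2 (repByAlgSpWith_cancel (P := ⊤) (Q := ⊤)
    (fun _ _ _ _ _ _ _ _ _ _ _ _ _ _ => trivial) (fun _ _ _ _ _ _ _ _ _ _ => trivial)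
    (repByAlgSp1_iff_with_top.1 hq) (repByAlgSp1_iff_with_top.1 huq))

/-- The diagonal of a representable morphism is representable. -/
theorem repByAlgSp1_diag_of_rep {f : 𝒳 ⥤ᵇ 𝒴} (hf : AlgSt.RepByAlgSp1 f) :
    AlgSt.RepByAlgSp1 (diag f) :=
  repByAlgSp1_cancel (q := fpFst f f)
    (repByAlgSp1_iff_with_top.2 (repByAlgSpWith_fpFst _ f (repByAlgSp1_iff_with_top.1 hf)))
    (repByAlgSp1_id 𝒳)

section DiagIso

variable {f f' : 𝒳 ⥤ᵇ 𝒴}

/-- The diagonal only depends on the morphism up to isomorphism. -/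
theorem repByAlgSpWith_diag_of_iso (P : MorphismProperty (AlgSp.Sp S)) (e : f ≅ f')
    (h : AlgSt.RepByAlgSpWith P (diag f)) : AlgSt.RepByAlgSpWith P (diag f') := by
  have : (BasedFunctor.id 𝒴).toFunctor.Full := inferInstanceAs (𝟭 _).Full
  have : (BasedFunctor.id 𝒴).toFunctor.Faithful := inferInstanceAs (𝟭 _).Faithful
  let M : fp f' f' ⥤ᵇ fp f f :=
    fpMap (F := f) (G := f) (F' := f') (G' := f') (BasedFunctor.id 𝒳) (BasedFunctor.id 𝒳)
      (BasedFunctor.id 𝒴) e e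
  refine (repByAlgSpWith_iff_of_equiv P (BasedFunctor.id 𝒳) M (isEquivOver_id _)
    (fpMap_isEquivOver _ _ _ _ _ (isEquivOver_id _) (isEquivOver_id _)) ?_).1 h
  exact isoMk (fun x => fpIsoMk (Iso.refl _) (Iso.refl _) (by
      change f.map (𝟙 x) ≫ 𝟙 _ = ((isoApp e x).hom ≫ 𝟙 _ ≫ (isoApp e x).inv) ≫ f.map (𝟙 x)
      simp
      exact (congrArg (fun t => t.toNatTrans.app x) e.hom_inv_id).symm))
    (fun x => Vert.id _)
    (fun φ => fp_hom_ext ((Category.comp_id _).trans (Category.id_comp _).symm)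
      ((Category.comp_id _).trans (Category.id_comp _).symm))

end DiagIso

theorem exists_iso_toSelf (t : 𝒳 ⥤ᵇ selfOver (C := Over S)) : Nonempty (t ≅ toSelf 𝒳) :=
  ⟨isoMk (F := t) (G := toSelf 𝒳) (fun a => eqToIso (t.w_obj a))
    (fun a => ⟨t.w_obj a, rfl⟩) (fun {a b} φ => by
      have h : t.map φ = eqToHom (t.w_obj a) ≫ 𝒳.p.map φ ≫ eqToHom (t.w_obj b).symm := w_map t φ
      rw [h]
      simp only [eqToIso.hom, Category.assoc, eqToHom_trans, eqToHom_refl, Category.comp_id]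
      rfl)⟩

/-- The composite of `Δ f` with the comparison map is the diagonal of a composite. -/
theorem exists_diag_comp (f : 𝒳 ⥤ᵇ 𝒴) (g : 𝒴 ⥤ᵇ 𝒵) :
    ∃ q : fp f f ⥤ᵇ fp (BasedFunctor.comp f g) (BasedFunctor.comp f g),
      Nonempty (BasedFunctor.comp (diag f) q ≅ diag (BasedFunctor.comp f g)) ∧
      ∀ (P : MorphismProperty (AlgSp.Sp S)), AlgSt.RepByAlgSpWith P (diag g) →
        AlgSt.RepByAlgSpWith P q := by
  let e := isoWhiskerRight (fpIso f f) g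
  refine ⟨fpLift (fpFst f f) (fpSnd f f) e, ⟨?_⟩, fun P h =>
    repByAlgSpWith_of_cart P _ _ _ (comp_cart f f g e fun _ => rfl) h⟩
  exact isoMk (fun x => fpIsoMk (Iso.refl _) (Iso.refl _) (by
      change g.map (f.map (𝟙 x)) ≫ 𝟙 _ = g.map (𝟙 (f.obj x)) ≫ g.map (f.map (𝟙 x))
      simp <;> rfl))
    (fun x => Vert.id _)
    (fun φ => fp_hom_ext ((Category.comp_id _).trans (Category.id_comp _).symm)
      ((Category.comp_id _).trans (Category.id_comp _).symm))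

/-- Morphisms between categories with representable diagonal have representable diagonal. -/
theorem repByAlgSp1_diag (hY : AlgSt.RepByAlgSp1 (diag (toSelf 𝒴)))
    (hZ : AlgSt.RepByAlgSp1 (diag (toSelf 𝒵))) (g : 𝒴 ⥤ᵇ 𝒵) : AlgSt.RepByAlgSp1 (diag g) := by
  obtain ⟨q, ⟨i⟩, hq⟩ := exists_diag_comp g (toSelf 𝒵)
  obtain ⟨j⟩ := exists_iso_toSelf (BasedFunctor.comp g (toSelf 𝒵))
  refine repByAlgSp1_cancel (q := q)
    (repByAlgSp1_iff_with_top.2 (hq _ (repByAlgSp1_iff_with_top.1 hZ))) (repByAlgSp1_iff_with_top.2 ?_)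
  exact repByAlgSpWith_of_iso _ i.symm
    (repByAlgSpWith_diag_of_iso _ j.symm (repByAlgSp1_iff_with_top.1 hY))

/-- `(𝒳' ×_𝒵 𝒴) ⟶ 𝒳 ×_𝒵 𝒴` is a base change of `𝒳' ⟶ 𝒳`. -/
theorem repByAlgSpWith_fpMap_left (P : MorphismProperty (AlgSp.Sp S)) {𝒳' : AlgSt.Cat S}
    {x : 𝒳' ⥤ᵇ 𝒳} (hx : AlgSt.RepByAlgSpWith P x) (f : 𝒳 ⥤ᵇ 𝒵) (g : 𝒴 ⥤ᵇ 𝒵) :
    AlgSt.RepByAlgSpWith P (fpMap (F := f) (G := g) (F' := BasedFunctor.comp x f) (G' := g) x
      (BasedFunctor.id 𝒴) (BasedFunctor.id 𝒵) (Iso.refl _) (Iso.refl _)) := by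
  refine (repByAlgSpWith_iff_of_equiv P (fpPaste f g x) (BasedFunctor.id _)
    (fpPaste_isEquivOver f g x) (isEquivOver_id _) ?_).2 (repByAlgSpWith_fpSnd P x hx)
  refine isoMk (F := fpSnd x (fpFst f g)) (G := BasedFunctor.comp (fpPaste f g x)
      (fpMap (F := f) (G := g) (F' := BasedFunctor.comp x f) (G' := g) x (BasedFunctor.id 𝒴)
        (BasedFunctor.id 𝒵) (Iso.refl _) (Iso.refl _)))
    (fun z => fpIsoMk z.obj.iso.symm (Iso.refl _) ?_)
    (fun z => vert_fp_iff.2 (vert_fp_iso z).inv) (fun φ => ?_)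
  · change f.map z.obj.iso.inv ≫ (𝟙 _ ≫ (f.map z.obj.iso.hom ≫ z.obj.snd.obj.iso.hom) ≫ 𝟙 _) =
      z.obj.snd.obj.iso.hom ≫ g.map (𝟙 _)
    simp only [Category.id_comp, CategoryTheory.Functor.map_id, Category.comp_id]
    rw [← Functor.map_comp_assoc, Iso.inv_hom_id, CategoryTheory.Functor.map_id, Category.id_comp]
  · exact fp_hom_ext φ.hom.w'.symm.symm ((Category.comp_id _).trans (Category.id_comp _).symm)

end Groth.Agent.StFib
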