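import Groth.Agent.StFib.InertiaProps
import Groth.Agent.StFib.SourceLocal
import Groth.Agent.StFib.Props2
import Groth.Agent.AlgSp.FiniteLqf

/-!
# Inertia over a coarse space
-/

set_option backward.isDefEq.respectTransparency false
set_option backward.isDefEq.respectTransparency.types false

universe u

open CategoryTheory CategoryTheory.Limits AlgebraicGeometry Opposite FibCat

namespace Groth.Agent.StFib

variable {S : Scheme.{u}} {𝒳 : AlgSt.Cat S}

/-- The inertia over an algebraic space is the inertia over the base. -/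
theorem inertia_mem_of_toSpace {P : MorphismProperty (AlgSp.Sp S)} {M : AlgSp.Sp S} (π : 𝒳 ⥤ᵇ AlgSt.ofSp M)
    (h : AlgSt.RepByAlgSpWith P (inertiaToBase π)) :
    AlgSt.RepByAlgSpWith P (inertiaToBase (toSelf 𝒳)) := by
  have key : ∀ {x : 𝒳.obj} (a : x ⟶ x), 𝒳.p.map a = 𝟙 _ → π.map a = 𝟙 _ := fun {x} a ha => by
    refine Stk.EltObj.hom_ext ?_
    have h1 := Functor.congr_hom π.w a
    rw [ha] at h1
    simp only [Functor.comp_map] at h1
    exact h1.trans (by
      simp only [Category.id_comp, eqToHom_trans, eqToHom_refl]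
      rfl)
  let F : inertia π ⥤ᵇ inertia (toSelf 𝒳) :=
    { toFunctor :=
        { obj := fun x => ⟨x.pt, x.aut, (inertia_vert_aut x).elim fun _ h => h⟩
          map := fun φ => ⟨φ.hom, φ.comm⟩
          map_id := fun x => InertiaObj.hom_ext rfl
          map_comp := fun φ ψ => InertiaObj.hom_ext rfl }
      w := rfl }
  let G : inertia (toSelf 𝒳) ⥤ᵇ inertia π :=
    { toFunctor :=
        { obj := fun x => ⟨x.pt, x.aut, key _ x.map_aut⟩
          map := fun φ => ⟨φ.hom, φ.comm⟩
          map_id := fun x => InertiaObj.hom_ext rfl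
          map_comp := fun φ ψ => InertiaObj.hom_ext rfl }
      w := rfl }
  have hF : IsEquivOver F := ⟨G, ⟨Iso.refl _⟩, ⟨Iso.refl _⟩⟩
  exact (repByAlgSpWith_iff_of_equiv P F (BasedFunctor.id _) hF (isEquivOver_id _)
    (f := inertiaToBase (toSelf 𝒳)) (f' := inertiaToBase π) (Iso.refl _)).2 h

theorem finite_inertia_of_separated {M : AlgSp.Sp S} (π : 𝒳 ⥤ᵇ AlgSt.ofSp M) (hsep : AlgSt.IsSeparatedMor π)
    (hqf : AlgSt.IsQuasiDMOver 𝒳) :
    AlgSt.RepByAlgSpWith AlgSp.IsFiniteMor (inertiaToBase (toSelf 𝒳)) := fun T y => by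
  obtain ⟨A, e, he, hA⟩ := inertia_mem_of_toSpace π (inertiaToBase_mem _ hsep) T y
  refine ⟨A, e, he, Groth.Agent.AlgSp.isFiniteMor_of_proper_lqf (X := A) (Y := ⟨_, isAlgSpace_yon T⟩) _ hA ?_⟩
  exact mem_of_rep_chart (good_locP Groth.Agent.AlgSpCov.standard_locallyQuasiFinite).bc
    (good_locP Groth.Agent.AlgSpCov.standard_locallyQuasiFinite).det (inertiaToBase_mem _ hqf) y A e he

end Groth.Agent.StFib
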