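import Groth.Agent.StFib.RedSubstack
import Groth.Agent.StFib.Psh
import Groth.Agent.AlgSp.SchImageRep
import Groth.Agent.AlgSpB.RedInduced
import Groth.Prelude.Def_StCoarse

/-!
# Maps from reduced stacks to spaces factor through the reduction
-/

set_option backward.isDefEq.respectTransparency false
set_option backward.isDefEq.respectTransparency.types false
set_option linter.unusedVariables false

universe u

open CategoryTheory CategoryTheory.Limits AlgebraicGeometry Opposite FibCat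

namespace Groth.Agent.StFib

variable {S : Scheme.{u}} {𝒳 : AlgSt.Cat S} {M Z : AlgSp.Sp S}

/-- The map of sheaves of a functor from a slice. -/
def secMap {T : Over S} (Φ : overCat T ⥤ᵇ AlgSt.ofSp M) : (AlgSp.yon S).obj T ⟶ M :=
  ⟨pshMap (BasedFunctor.comp (AlgSt.toOverCat T) Φ)⟩

theorem secMap_congr {T : Over S} {Φ Ψ : overCat T ⥤ᵇ AlgSt.ofSp M} (e : Φ ≅ Ψ) :
    secMap Φ = secMap Ψ :=
  CategoryTheory.Sheaf.hom_ext (pshMap_congr (isoWhiskerLeft (AlgSt.toOverCat T) e))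

theorem secMap_overMap {T V : Over S} (h : V ⟶ T) (Φ : overCat T ⥤ᵇ AlgSt.ofSp M) :
    secMap (BasedFunctor.comp (AlgSt.overMap h) Φ) = (AlgSp.yon S).map h ≫ secMap Φ := by
  refine CategoryTheory.Sheaf.hom_ext ?_
  change pshMap _ = ((AlgSp.yon S).map h).hom ≫ pshMap _
  have i := isoWhiskerRight (toOverCatIso h).symm Φ
  rw [pshMap_congr (show BasedFunctor.comp (AlgSt.toOverCat V) (BasedFunctor.comp (AlgSt.overMap h) Φ) ≅
      BasedFunctor.comp (AlgSt.ofSpMap ((AlgSp.yon S).map h)) (BasedFunctor.comp (AlgSt.toOverCat T) Φ) from i),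
    pshMap_comp, pshMap_ofPshMap]

/-- A functor to a sheaf factors through a monomorphism when all its sections do. -/
theorem exists_factor_of_sections (i : Z ⟶ M) [Mono i] (π : 𝒳 ⥤ᵇ AlgSt.ofSp M)
    (h : ∀ a, ∃ s, i.hom.app _ s = (π.obj a).sec) :
    ∃ ψ : 𝒳 ⥤ᵇ AlgSt.ofSp Z, Nonempty (BasedFunctor.comp ψ (AlgSt.ofSpMap i) ≅ π) := by
  have hinj : ∀ T, Function.Injective (i.hom.app T) := fun T => by
    have : Mono i.hom := (sheafToPresheaf _ _).map_mono i
    have : Mono (i.hom.app T) := (NatTrans.mono_iff_mono_app i.hom).1 this T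
    exact (mono_iff_injective _).1 this
  choose s hs using h
  let ψ : 𝒳 ⥤ᵇ AlgSt.ofSp Z :=
    { toFunctor :=
        { obj := fun a => ⟨(π.obj a).base, s a⟩
          map := fun {a b} φ => ⟨(π.map φ).hom, hinj _ (by
            rw [NatTrans.naturality_apply, hs b, hs a]
            exact (π.map φ).map_sec)⟩
          map_id := fun a => Stk.EltObj.hom_ext (congrArg (fun k : π.obj a ⟶ π.obj a => k.hom) (π.toFunctor.map_id a))
          map_comp := fun {a b c} φ ψ =>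
            Stk.EltObj.hom_ext (congrArg (fun k : π.obj a ⟶ π.obj c => k.hom) (π.toFunctor.map_comp φ ψ)) }
      w := π.w }
  refine ⟨ψ, ⟨isoMk (fun a => eltIso (a := (BasedFunctor.comp ψ (AlgSt.ofSpMap i)).obj a) (b := π.obj a) rfl ?_)
    (fun a => vert_eltIso _ _) (fun {a b} φ => Stk.EltObj.hom_ext ?_)⟩⟩
  · change M.obj.map (eqToHom rfl).op (π.obj a).sec = i.hom.app _ (s a)
    rw [hs a]
    exact psh_map_id _ _
  · change (π.map φ).hom ≫ eqToHom rfl = eqToHom rfl ≫ (π.map φ).hom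
    exact (Category.comp_id _).trans (Category.id_comp _).symm

/-- A map from a reduced stack to a space factors through a closed subspace containing all points. -/
theorem exists_factor_red (h𝒳 : AlgSt.IsAlgStack Scheme.fppfPrecoverage 𝒳)
    (hred : AlgSt.SmoothLocally (fun X => IsReduced X) 𝒳) (i : Z ⟶ M)
    (hi : AlgSp.RepWith @IsClosedImmersion i) (hr : Set.range (AlgSp.Points.map i) = Set.univ)
    (π : 𝒳 ⥤ᵇ AlgSt.ofSp M) :
    ∃ ψ : 𝒳 ⥤ᵇ AlgSt.ofSp Z, Nonempty (BasedFunctor.comp ψ (AlgSt.ofSpMap i) ≅ π) := by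
  obtain ⟨U, x, hx, hxs⟩ := h𝒳.atlas
  have : IsReduced U.left := hred U x hx
  obtain ⟨u, hu⟩ := Groth.Agent.AlgSpB.exists_lift_yon_of_isClosedImmersion hi
    (secMap (BasedFunctor.comp x π)) (by rw [hr]; exact Set.subset_univ _)
  have := Groth.Agent.AlgSpB.mono_of_isClosedImmersion hi
  refine exists_factor_of_sections i π fun a => ?_
  obtain ⟨y, iy, hiy⟩ := exists_overFunctor h𝒳.isStack.1 a rfl
  obtain ⟨R, hR, hl⟩ := exists_locally_lift (isFibGrpd_overCat U) h𝒳.isStack.1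
    (repByAlgSpWith_flat_of_smooth hx) (repByAlgSpWith_lfp_of_smooth hx) hxs (𝒳.p.obj a) y
  obtain ⟨f, hf⟩ := glue_factor i (secMap (BasedFunctor.comp y π)) hR fun V g hg => by
    obtain ⟨t, ⟨it⟩⟩ := hl g hg
    obtain ⟨c, ⟨ic⟩⟩ := exists_iso_overMap t
    refine ⟨(AlgSp.yon S).map c ≫ u, ?_⟩
    rw [Category.assoc, hu, ← secMap_overMap, ← secMap_overMap]
    exact secMap_congr (isoWhiskerRight (isoWhiskerRight ic.symm x ≪≫ it) π)
  -- the section at the identity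
  let a₀ : (AlgSt.ofSch (𝒳.p.obj a)).obj := ⟨𝒳.p.obj a, ⟨𝟙 _⟩⟩
  have h1 : i.hom.app _ (f.hom.app _ a₀.sec) =
      M.obj.map (eqToHom ((BasedFunctor.comp (AlgSt.toOverCat _) (BasedFunctor.comp y π)).w_obj a₀).symm).op
        (π.obj (y.obj (Over.mk (𝟙 _)))).sec := by
    exact (congrArg (fun k : (AlgSp.yon S).obj (𝒳.p.obj a) ⟶ M => k.hom.app _ a₀.sec) hf).trans rfl
  obtain ⟨e, he⟩ := hiy.map π
  have he' : (π.map iy.hom).hom = eqToHom e := he
  have h2 := (π.map iy.hom).map_sec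
  rw [he'] at h2
  have e2 : (π.obj a).base = a₀.base := π.w_obj a
  refine ⟨Z.obj.map (eqToHom e2).op (f.hom.app _ a₀.sec), ?_⟩
  rw [NatTrans.naturality_apply, h1, ← h2]
  erw [← Functor.map_comp_apply, ← Functor.map_comp_apply]
  simp only [← op_comp, eqToHom_trans]
  exact psh_map_id _ _

theorem etaleLocally_isReduced_of_catModuli (h𝒳 : AlgSt.IsAlgStack Scheme.fppfPrecoverage 𝒳)
    (hred : AlgSt.SmoothLocally (fun X => IsReduced X) 𝒳) (π : 𝒳 ⥤ᵇ AlgSt.ofSp M)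
    (hπ : AlgSt.IsCatModuli π) : AlgSp.EtaleLocally (fun U => AlgebraicGeometry.IsReduced U) M := by
  obtain ⟨Z, i, hZ, hi, hr, hZred⟩ := Groth.Agent.AlgSpB.exists_redInduced hπ.1 Set.univ isClosed_univ
  obtain ⟨ψ, ⟨iψ⟩⟩ := exists_factor_red h𝒳 hred i hi hr π
  obtain ⟨g, ⟨ig⟩, -⟩ := hπ.2 Z hZ ψ
  have hu := hπ.2 M hπ.1 π
  have : g ≫ i = 𝟙 M := hu.unique
    ⟨(isoWhiskerRight ig (AlgSt.ofSpMap i) ≪≫ iψ)⟩ ⟨Iso.refl π⟩
  have := Groth.Agent.AlgSpB.mono_of_isClosedImmersion hi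
  have : IsIso i := ⟨g, by rw [← cancel_mono i, Category.assoc, ‹g ≫ i = 𝟙 M›, Category.comp_id, Category.id_comp],
    ‹g ≫ i = 𝟙 M›⟩
  obtain ⟨V, q, hq, hqs, hV⟩ := hZred
  exact ⟨V, q ≫ i, MorphismProperty.RespectsIso.postcomp (AlgSp.RepWith @Etale) i _ hq,
    MorphismProperty.RespectsIso.postcomp (AlgSp.RepWith @Surjective) i _ hqs, hV⟩

end Groth.Agent.StFib
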