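import Groth.Agent.StFib.AutLift
import Groth.Agent.StFib.CoarseInertia
import Groth.Agent.StFib.DVRClosed
import Groth.Agent.StFib.StackSpace
import Groth.Agent.StFib.GenInertia

/-!
# Finite inertia from stabilizer preserving étale neighbourhoods
-/

set_option linter.unusedVariables false
set_option backward.isDefEq.respectTransparency false
set_option backward.isDefEq.respectTransparency.types false

universe u

open CategoryTheory CategoryTheory.Limits AlgebraicGeometry Opposite FibCat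

namespace Groth.Agent.StFib

variable {S : Scheme.{u}} {𝒳 𝒰 : AlgSt.Cat S}

theorem exists_inertia_cart (h𝒰 : AlgSt.IsAlgStack Scheme.fppfPrecoverage 𝒰)
    (h𝒳 : AlgSt.IsAlgStack Scheme.fppfPrecoverage 𝒳) (h : 𝒰 ⥤ᵇ 𝒳)
    (het : AlgSt.RepByAlgSpWith AlgSp.IsEtaleMor h)
    (H : ∀ (Ω : Type u) [Field Ω] [IsAlgClosed Ω] (t : Spec (CommRingCat.of Ω) ⟶ S)
      (u : 𝒰.p.Fiber (Over.mk t)), Function.Surjective (Gerb.autMap h u.1)) :
    ∃ K : inertia (toSelf 𝒰) ⥤ᵇ fp h (inertiaToBase (toSelf 𝒳)), IsEquivOver K ∧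
      BasedFunctor.comp K (fpFst h (inertiaToBase (toSelf 𝒳))) = inertiaToBase (toSelf 𝒰) := by
  have : h.toFunctor.Faithful :=
    (faithful_iff_repByAlgSp1 h𝒰 h𝒳 h).2 (repByAlgSp1_of_with het)
  have hu : AlgSt.RepByAlgSpWith (AlgSp.LocP (@LocallyOfFiniteType ⊓ @FormallyUnramified)) h :=
    repByAlgSpWith_mono het fun F T m hm A B a b k ha hb e =>
      Groth.Agent.AlgSpCov.standard_unramified.of_etale _
        (Groth.Agent.AlgSpCov.locP_etale_of_isEtaleMor hm a b k ha hb e)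
  have hd : AlgSt.IsOpenImm (diag h) :=
    diag_of_rep_mem (good_repWith @IsOpenImmersion).bc (fun A U hA a ha => repWith_diagonal_openImm hA a ha) hu
  let L : inertia (toSelf 𝒰) ⥤ᵇ inertia (toSelf 𝒳) :=
    { toFunctor :=
        { obj := fun x => ⟨h.obj x.pt, h.toFunctor.mapIso x.aut,
            ((inertia_vert_aut x).map h).elim fun _ e => e⟩
          map := fun {x y} φ => ⟨h.map φ.hom, (h.toFunctor.map_comp _ _).symm.trans
            ((congrArg (fun k => h.map k) φ.comm).trans (h.toFunctor.map_comp _ _))⟩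
          map_id := fun x => InertiaObj.hom_ext (h.toFunctor.map_id x.pt)
          map_comp := fun φ ψ => InertiaObj.hom_ext (h.toFunctor.map_comp φ.hom ψ.hom) }
      w := CategoryTheory.Functor.ext (fun x => h.w_obj x.pt) (fun x y φ => w_map h φ.hom) }
  refine ⟨fpLift (inertiaToBase (toSelf 𝒰)) L (Iso.refl (BasedFunctor.comp (inertiaToBase (toSelf 𝒰)) h)),
    fpLift_isEquivOver_mk _ _ _ (fun φ ψ e _ => InertiaObj.hom_ext e) ?_ ?_, rfl⟩
  · intro w w' a b e
    have hb : b.hom = h.map a := by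
      have : h.map a ≫ 𝟙 _ = 𝟙 _ ≫ b.hom := e
      rw [Category.comp_id, Category.id_comp] at this
      exact this.symm
    refine ⟨⟨a, h.toFunctor.map_injective ?_⟩, rfl, InertiaObj.hom_ext hb.symm⟩
    have := b.comm
    rw [hb] at this
    exact (h.toFunctor.map_comp _ _).trans (this.trans (h.toFunctor.map_comp _ _).symm)
  · intro z
    let k : h.obj z.obj.fst ≅ z.obj.snd.pt := z.obj.iso
    have hk : Vert k.hom := vert_fp_iso z
    let β := k ≪≫ z.obj.snd.aut ≪≫ k.symm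
    have hβ : Vert β.hom := hk.comp ((inertia_vert_aut z.obj.snd).comp hk.inv)
    obtain ⟨a, ha, hab⟩ := exists_aut_lift h𝒰.isStack.1 h𝒳.isStack.1 h hd H z.obj.fst β.hom hβ
    have := ha.isIso h𝒰.isStack.1
    refine ⟨⟨z.obj.fst, asIso a, ha.elim fun _ e => e⟩, Iso.refl _,
      { hom := ⟨k.hom, ?_⟩, inv := ⟨k.inv, ?_⟩,
        hom_inv_id := InertiaObj.hom_ext k.hom_inv_id, inv_hom_id := InertiaObj.hom_ext k.inv_hom_id },
      Vert.id _, ?_⟩
    · change h.map a ≫ k.hom = k.hom ≫ z.obj.snd.aut.hom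
      rw [hab]
      simp [β]
    · change z.obj.snd.aut.hom ≫ k.inv = k.inv ≫ h.map a
      rw [hab]
      simp [β]
    · change h.map (𝟙 _) ≫ k.hom = 𝟙 _ ≫ k.hom
      rw [CategoryTheory.Functor.map_id]

theorem finite_inertia_of_etale_local (h𝒳 : AlgSt.IsAlgStack Scheme.fppfPrecoverage 𝒳)
    (hqf : AlgSt.IsQuasiDMOver 𝒳)
    (hloc : ∀ x : AlgSt.Points 𝒳, ∃ (𝒰 : AlgSt.Cat S) (h : 𝒰 ⥤ᵇ 𝒳),
      AlgSt.IsAlgStack Scheme.fppfPrecoverage 𝒰 ∧ x ∈ Set.range (AlgSt.Points.map h) ∧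
      AlgSt.RepByAlgSpWith AlgSp.IsEtaleMor h ∧ AlgSt.IsSeparatedOver 𝒰 ∧
      ∀ (Ω : Type u) [Field Ω] [IsAlgClosed Ω] (t : Spec (CommRingCat.of Ω) ⟶ S) (u : 𝒰.p.Fiber (Over.mk t)),
        Function.Surjective (Gerb.autMap h u.1)) :
    AlgSt.RepByAlgSpWith AlgSp.IsFiniteMor (inertiaToBase (toSelf 𝒳)) := by
  intro T y
  have hlq := inertiaToBase_mem _ hqf
  obtain ⟨A, e, he, -⟩ := hlq T y
  refine ⟨A, e, he, ?_⟩
  let a := AlgSt.spMapOfOver (BasedFunctor.comp e (fpFst y (inertiaToBase (toSelf 𝒳))))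
  have hP := fppfLocal_of_fpqc (Groth.Agent.S10540.result S)
  have hPb : StableBC (AlgSp.IsFiniteMor (S := S)) := good_finite.bc
  have key : ∀ t : ↥T.left, ∃ (W : Over S) (c : W ⟶ T), Flat c.left ∧ LocallyOfFinitePresentation c.left ∧
      t ∈ Set.range c.left ∧ AlgSp.IsFiniteMor (pullback.snd a ((AlgSp.yon S).map c)) := by
    intro t
    obtain ⟨𝒰, h, h𝒰, ⟨p, hp⟩, het, hsep, H⟩ := hloc (AlgSt.Points.ofChart y t)
    obtain ⟨K, hK, hKe⟩ := exists_inertia_cart h𝒰 h𝒳 h het H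
    have h' : AlgSt.RepByAlgSpWith AlgSp.IsFiniteMor (fpFst h (inertiaToBase (toSelf 𝒳))) := by
      have hp' : AlgSt.RepByAlgSpWith AlgSp.IsProperMor (fpFst h (inertiaToBase (toSelf 𝒳))) :=
        (repByAlgSpWith_iff_of_equiv _ K (BasedFunctor.id _) hK (isEquivOver_id _)
          (f := fpFst h (inertiaToBase (toSelf 𝒳))) (f' := inertiaToBase (toSelf 𝒰)) (eqToIso hKe.symm)).2
          (inertiaToBase_mem _ hsep)
      intro T' y'
      obtain ⟨A', e', he', hA'⟩ := hp' T' y'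
      refine ⟨A', e', he',
        Groth.Agent.AlgSp.isFiniteMor_of_proper_lqf (X := A') (Y := ⟨_, isAlgSpace_yon T'⟩) _ hA' ?_⟩
      exact mem_of_rep_chart (good_locP Groth.Agent.AlgSpCov.standard_locallyQuasiFinite).bc
        (good_locP Groth.Agent.AlgSpCov.standard_locallyQuasiFinite).det (repByAlgSpWith_fpFst _ h hlq) y' A' e' he'
    obtain ⟨U, u0, hu0, hus0⟩ := h𝒰.atlas
    have hx0 : AlgSt.RepByAlgSpWith (AlgSp.LocP @Smooth) (BasedFunctor.comp u0 h) :=
      repByAlgSpWith_comp good_smooth.bc good_smooth.comp good_smooth.det (isFibGrpd_overCat U) h𝒰.isStack.1 hu0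
        (repByAlgSpWith_mono het fun F T' m hm A' B' a' b' k ha hb e =>
          Groth.Agent.AlgSpCov.standard_smooth.of_etale _
            (Groth.Agent.AlgSpCov.locP_etale_of_isEtaleMor hm a' b' k ha hb e))
    obtain ⟨W, α, c, ⟨i⟩, hex, hf, hl, -⟩ := exists_chart_fp h𝒳 (BasedFunctor.comp u0 h) y
    obtain ⟨v, rfl⟩ := ofChart_surjective h𝒰.isStack.1 hus0 p
    obtain ⟨w, -, hw⟩ := hex v t (by rw [← hp, map_ofChart])
    refine ⟨W, c, hf (repByAlgSpWith_flat_of_smooth hx0), hl (repByAlgSpWith_lfp_of_smooth hx0), ⟨w, hw⟩, ?_⟩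
    exact mem_pullback_of_lift hPb (detected_of_isLocalOnBase hP) h' A e he c
      (BasedFunctor.comp (AlgSt.overMap α) u0) i
  choose W c hcf hcl hct hcm using key
  refine (hP (fun t : ↥T.left => (AlgSp.yon S).obj (W t)) (fun t => (AlgSp.yon S).map (c t)) (isAlgSpace_yon T)
    (fun _ => isAlgSpace_yon _) ⟨fun t => ⟨?_, ?_⟩, fun q => ?_⟩ a A.property
    (fun t => pullback a ((AlgSp.yon S).map (c t))) (fun _ => pullback.snd _ _) (fun _ => pullback.fst _ _)
    (fun _ => Groth.Agent.AlgSp.isAlgSpace_pullback (isAlgSpace_yon T) A.property (isAlgSpace_yon _) _ _)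
    (fun _ => IsPullback.of_hasPullback _ _)).2 hcm
  · exact Groth.Agent.AlgSpCov.locP_of_repWith Groth.Agent.AlgSpCov.etaleLocal_flat
      ((AlgSp.repWith_yon_map_iff _ _).2 (hcf t))
  · exact Groth.Agent.AlgSpCov.locP_of_repWith
      Groth.Agent.AlgSpCov.etaleLocal_locallyOfFinitePresentation
      ((AlgSp.repWith_yon_map_iff _ _).2 (hcl t))
  · obtain ⟨x, rfl⟩ := (AlgSp.Points.schemeHomeo T).surjective q
    obtain ⟨w, hw⟩ := hct x
    exact ⟨x, AlgSp.Points.schemeHomeo (W x) w, by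
      rw [AlgSp.Points.map_yon_map_apply]
      exact congrArg _ hw⟩

end Groth.Agent.StFib
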