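import Mathlib.AlgebraicGeometry.Morphisms.FiniteType
import Mathlib.AlgebraicGeometry.Morphisms.QuasiCompact
import Mathlib.AlgebraicGeometry.AffineScheme

/-!
# Rational points of a scheme of finite type over a finite field
-/

set_option autoImplicit false

universe u

open CategoryTheory AlgebraicGeometry

namespace Groth.Agent.StFib

variable {F : Type u} [Field F] [Finite F]

theorem finite_algebra_points {A : CommRingCat.{u}} (φ : CommRingCat.of F ⟶ A) (hφ : φ.hom.FiniteType) :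
    Finite {ψ : A ⟶ CommRingCat.of F // φ ≫ ψ = 𝟙 _} := by
  algebraize [φ.hom]
  obtain ⟨s, hs⟩ := Algebra.FiniteType.out (R := F) (A := A)
  refine Finite.of_injective (fun ψ (x : s) => ψ.1.hom (x : A)) fun ψ ψ' h => Subtype.ext ?_
  let alg : {ψ : A ⟶ CommRingCat.of F // φ ≫ ψ = 𝟙 _} → (A →ₐ[F] F) := fun ψ =>
    { ψ.1.hom with commutes' := fun r => ConcreteCategory.congr_hom ψ.2 r }
  have : alg ψ = alg ψ' := AlgHom.ext_of_adjoin_eq_top hs fun x hx => congrFun h ⟨x, hx⟩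
  exact CommRingCat.hom_ext (RingHom.ext fun x => DFunLike.congr_fun this x)

theorem finite_affine_points {U : Scheme.{u}} [IsAffine U] (p : U ⟶ Spec (CommRingCat.of F))
    [LocallyOfFiniteType p] : Finite {x : Spec (CommRingCat.of F) ⟶ U // x ≫ p = 𝟙 _} := by
  obtain ⟨φ, hφ⟩ := Spec.map_surjective (U.isoSpec.inv ≫ p)
  have hlft : LocallyOfFiniteType (Spec.map φ) := by rw [hφ]; infer_instance
  have := finite_algebra_points φ ((HasRingHomProperty.Spec_iff (P := @LocallyOfFiniteType)).1 hlft)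
  have hs : ∀ x : {x : Spec (CommRingCat.of F) ⟶ U // x ≫ p = 𝟙 _},
      ∃ ψ : {ψ : Γ(U, ⊤) ⟶ CommRingCat.of F // φ ≫ ψ = 𝟙 _}, Spec.map ψ.1 = x.1 ≫ U.isoSpec.hom := fun x => by
    obtain ⟨ψ, hψ⟩ := Spec.map_surjective (x.1 ≫ U.isoSpec.hom)
    refine ⟨⟨ψ, Spec.map_injective ?_⟩, hψ⟩
    rw [Spec.map_comp, hψ, hφ, Spec.map_id, Category.assoc, Iso.hom_inv_id_assoc, x.2]
  choose g hg using hs
  refine Finite.of_injective g fun x y h => Subtype.ext ?_
  rw [← cancel_mono U.isoSpec.hom, ← hg x, ← hg y, h]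

theorem finite_rational_points (X : Over (Spec (CommRingCat.of F))) [LocallyOfFiniteType X.hom]
    [QuasiCompact X.hom] : Finite (Over.mk (𝟙 (Spec (CommRingCat.of F))) ⟶ X) := by
  have : CompactSpace X.left := QuasiCompact.compactSpace_of_compactSpace X.hom
  let 𝒰 := X.left.affineCover.finiteSubcover
  have : ∀ i : 𝒰.I₀, Finite {x : Spec (CommRingCat.of F) ⟶ 𝒰.X i // x ≫ 𝒰.f i ≫ X.hom = 𝟙 _} := fun i => by
    have : IsAffine (𝒰.X i) := inferInstanceAs (IsAffine (X.left.affineCover.X _))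
    exact finite_affine_points _
  refine Finite.of_surjective (α := (i : 𝒰.I₀) × {x : Spec (CommRingCat.of F) ⟶ 𝒰.X i // x ≫ 𝒰.f i ≫ X.hom = 𝟙 _})
    (fun x => Over.homMk (x.2.1 ≫ 𝒰.f x.1) (by rw [Category.assoc]; exact x.2.2)) fun x => ?_
  let pt : Spec (CommRingCat.of F) := IsLocalRing.closedPoint F
  obtain ⟨i, y, hy⟩ := 𝒰.exists_eq (x.left pt)
  have hrange : Set.range x.left ⊆ Set.range (𝒰.f i) := by
    rintro - ⟨t, rfl⟩
    have : Subsingleton ↥(Spec (CommRingCat.of F)) := inferInstanceAs (Subsingleton (PrimeSpectrum F))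
    exact ⟨y, hy.trans (congrArg x.left (@Subsingleton.elim _ this pt t))⟩
  refine ⟨⟨i, IsOpenImmersion.lift (𝒰.f i) x.left hrange, ?_⟩, Over.OverMorphism.ext ?_⟩
  · rw [← Category.assoc, IsOpenImmersion.lift_fac]
    exact Over.w x
  · exact IsOpenImmersion.lift_fac _ _ _

end Groth.Agent.StFib
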