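import Groth.Agent.StFib.QuotTrivCart
import Groth.Agent.StFib.QuotEtale
import Groth.Agent.StFib.RatPts
import Groth.Agent.S3935
import Mathlib.GroupTheory.GroupAction.Quotient

/-!
# The mass of the groupoid of rational points of a quotient stack over a finite field
-/

set_option linter.unusedVariables false
set_option backward.isDefEq.respectTransparency false
set_option backward.isDefEq.respectTransparency.types false

universe u

open CategoryTheory CategoryTheory.Limits AlgebraicGeometry MonoidalCategory CartesianMonoidalCategory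
  MonObj GrpObj FibCat

namespace Groth.Agent.StFib.QuotTriv

variable {F : Type u} [Field F] {X G : Over (Spec (CommRingCat.of F))} [GrpObj G] (aX : AlgGrp.Action G X)

local notation "T₀" => (Over.mk (𝟙 (Spec (CommRingCat.of F))))
local notation "𝒬" => AlgSt.QuotSt Scheme.fppfPrecoverage G aX

/-- The object of the fibre over the base attached to a rational point. -/
noncomputable abbrev fibObj (x : T₀ ⟶ X) : (𝒬).p.Fiber T₀ :=
  Functor.Fiber.mk (p := (𝒬).p) (a := (AlgSt.quotMap Scheme.fppfPrecoverage G aX).obj (pt x)) rfl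

variable [IsAffineHom G.hom] [Smooth G.hom]

theorem exists_sec_point [Finite F] [ConnectedSpace ↥G.left] (A : AlgSt.QuotObj Scheme.fppfPrecoverage G aX)
    (hA : A.base = T₀) : ∃ s : T₀ ⟶ A.P, s ≫ A.π = eqToHom hA.symm := by
  have hterm : IsTerminal A.base := IsTerminal.ofIso Over.mkIdTerminal (eqToIso hA.symm)
  have : IsAffine G.left := isAffine_of_isAffineHom G.hom
  have hsm := Groth.Agent.StFib.QuotEt.smooth_pi A
  have : LocallyOfFiniteType A.P.hom := by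
    have : IsIso A.base.hom := by
      have e := Over.w (eqToIso hA).hom
      have : IsIso (eqToIso hA).hom.left := inferInstanceAs (IsIso ((Over.forget _).map (eqToIso hA).hom))
      rw [← e]
      exact inferInstanceAs (IsIso (_ ≫ 𝟙 _))
    rw [← Over.w A.π]
    infer_instance
  have : Nonempty ↥A.P.left := by
    have : Nonempty ↥A.base.left := by
      rw [hA]
      exact ⟨IsLocalRing.closedPoint F⟩
    obtain ⟨p⟩ := this
    exact ⟨(Groth.Agent.StFib.QuotEt.surjective_pi A p).choose⟩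
  have hX : IsIso (lift A.act.act (snd G A.P)) := by
    refine ⟨A.cart.lift (fst A.P A.P) (snd A.P A.P) (hterm.hom_ext _ _), ?_, ?_⟩
    · apply A.cart.hom_ext
      · rw [Category.assoc, A.cart.lift_fst, lift_fst, Category.id_comp]
      · rw [Category.assoc, A.cart.lift_snd, lift_snd, Category.id_comp]
    · apply CartesianMonoidalCategory.hom_ext
      · rw [Category.assoc, lift_fst, A.cart.lift_fst, Category.id_comp]
      · rw [Category.assoc, lift_snd, A.cart.lift_snd, Category.id_comp]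
  obtain ⟨s⟩ := Groth.Agent.S3935.result F G A.P A.act hX
  exact ⟨toUnit _ ≫ s, hterm.hom_ext _ _⟩

theorem exists_fib_iso [Finite F] [ConnectedSpace ↥G.left] (ξ : (𝒬).p.Fiber T₀) :
    ∃ x : T₀ ⟶ X, IsIsomorphic ξ (fibObj aX x) := by
  obtain ⟨A, hA⟩ := ξ
  obtain ⟨s, hs⟩ := exists_sec_point aX A hA
  refine ⟨s ≫ A.φ, ?_⟩
  let h := homTriv (K := Scheme.fppfPrecoverage) (pt (s ≫ A.φ)) A (eqToHom (hA.symm)) s hs rfl
  have hv : Vert (𝒳 := 𝒬) h := ⟨hA.symm, rfl⟩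
  have := hv.isIso (QuotBr.isStack (aX := aX)).1
  exact ⟨{
    hom := ⟨inv h, (Vert.inv (φ := asIso h) hv).isHomLift hA⟩
    inv := ⟨h, hv.isHomLift rfl⟩
    hom_inv_id := Subtype.ext (IsIso.inv_hom_id h)
    inv_hom_id := Subtype.ext (IsIso.hom_inv_id h) }⟩

omit [IsAffineHom G.hom] [Smooth G.hom] in
theorem pt_of_fib_hom {x y : T₀ ⟶ X} (m : fibObj aX x ⟶ fibObj aX y) :
    ∃ g : T₀ ⟶ G, lift g y ≫ aX.act = x ∧ m.1.base = 𝟙 T₀ ∧
      m.1.top = lift (fst G T₀ * (snd G T₀ ≫ g)) (snd G T₀) := by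
  have hb : m.1.base = 𝟙 T₀ := by
    obtain ⟨h, hv⟩ := vert_of_isHomLift (𝒳 := 𝒬) m.2
    exact hv
  obtain ⟨g, hg, ht⟩ := exists_pt (aX := aX) (a := pt x) (a' := pt y) m.1
  rw [hb] at hg ht
  refine ⟨g, ?_, hb, ?_⟩
  · change lift g (𝟙 T₀ ≫ y) ≫ aX.act = x at hg
    rwa [Category.id_comp] at hg
  · refine ht.trans ?_
    change lift (fst G T₀ * (snd G T₀ ≫ g)) (snd G T₀ ≫ 𝟙 T₀) = _
    rw [Category.comp_id]

/-- The isomorphism attached to a translation. -/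
noncomputable def fibIso {x y : T₀ ⟶ X} (g : T₀ ⟶ G) (h : lift g y ≫ aX.act = x) : fibObj aX x ≅ fibObj aX y where
  hom := ⟨(rmulIso aX Scheme.fppfPrecoverage g h).hom, (Vert.isHomLift (𝒳 := 𝒬) ⟨rfl, rfl⟩ rfl)⟩
  inv := ⟨(rmulIso aX Scheme.fppfPrecoverage g h).inv, (Vert.isHomLift (𝒳 := 𝒬) ⟨rfl, rfl⟩ rfl)⟩
  hom_inv_id := Subtype.ext (rmulIso aX Scheme.fppfPrecoverage g h).hom_inv_id
  inv_hom_id := Subtype.ext (rmulIso aX Scheme.fppfPrecoverage g h).inv_hom_id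

/-- The action on rational points. -/
@[reducible] noncomputable def ptAction : MulAction (T₀ ⟶ G) (T₀ ⟶ X) where
  smul g x := lift g x ≫ aX.act
  one_smul x := act_one aX x
  mul_smul g h x := act_mul aX g h x

omit [IsAffineHom G.hom] [Smooth G.hom] in
theorem unit_top (g : T₀ ⟶ G) :
    lift (1 : T₀ ⟶ G) (𝟙 T₀) ≫ lift (fst G T₀ * (snd G T₀ ≫ g)) (snd G T₀) ≫ fst G T₀ = g := by
  simp only [lift_fst, comp_mul, lift_snd_assoc, Category.id_comp, _root_.one_mul]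

omit [IsAffineHom G.hom] [Smooth G.hom] in
theorem isIsomorphic_iff (x y : T₀ ⟶ X) :
    letI := ptAction aX
    IsIsomorphic (fibObj aX x) (fibObj aX y) ↔ x ∈ MulAction.orbit (T₀ ⟶ G) y := by
  let _ := ptAction aX
  constructor
  · rintro ⟨e⟩
    obtain ⟨g, hg, -, -⟩ := pt_of_fib_hom aX e.hom
    exact ⟨g, hg⟩
  · rintro ⟨g, hg⟩
    exact ⟨fibIso aX g hg⟩

omit [IsAffineHom G.hom] [Smooth G.hom] in
theorem exists_aut_equiv (x : T₀ ⟶ X) :
    letI := ptAction aX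
    Nonempty (Aut (fibObj aX x) ≃ MulAction.stabilizer (T₀ ⟶ G) x) := by
  let _ := ptAction aX
  refine ⟨(Equiv.ofBijective (fun g : MulAction.stabilizer (T₀ ⟶ G) x => (fibIso aX g.1 g.2 : Aut (fibObj aX x)))
    ⟨fun g g' h => Subtype.ext ?_, fun e => ?_⟩).symm⟩
  · have ht : (rmulIso aX Scheme.fppfPrecoverage g.1 g.2).hom.top =
        (rmulIso aX Scheme.fppfPrecoverage g'.1 g'.2).hom.top :=
      congrArg (fun k : Aut (fibObj aX x) => k.hom.1.top) h
    rw [rmulIso_hom_top, rmulIso_hom_top] at ht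
    rw [← unit_top g.1, ← unit_top g'.1, ht]
  · obtain ⟨g, hg, hb, ht⟩ := pt_of_fib_hom aX e.hom
    refine ⟨⟨g, hg⟩, Iso.ext (Subtype.ext (AlgSt.QuotObj.hom_ext hb.symm ?_))⟩
    exact (rmulIso_hom_top aX Scheme.fppfPrecoverage g hg).trans ht.symm

theorem mass [Finite F] [Smooth X.hom] [QuasiCompact X.hom] [ConnectedSpace ↥G.left] :
    Finite (Quotient (isIsomorphicSetoid ((𝒬).p.Fiber T₀))) ∧
      (∀ ξ : (𝒬).p.Fiber T₀, Finite (Aut ξ)) ∧
      ∑ᶠ c : Quotient (isIsomorphicSetoid ((𝒬).p.Fiber T₀)), ((Nat.card (Aut c.out) : ℚ))⁻¹ =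
        (Nat.card (T₀ ⟶ X) : ℚ) / (Nat.card (T₀ ⟶ G) : ℚ) := by
  have : IsAffine G.left := isAffine_of_isAffineHom G.hom
  have : Finite (T₀ ⟶ G) := finite_rational_points G
  have : Finite (T₀ ⟶ X) := finite_rational_points X
  let _ := ptAction aX
  have hautAll : ∀ ξ : (𝒬).p.Fiber T₀, ∃ x : T₀ ⟶ X, ∃ e : ξ ≅ fibObj aX x, True := fun ξ => by
    obtain ⟨x, ⟨e⟩⟩ := exists_fib_iso aX ξ
    exact ⟨x, e, trivial⟩
  have hfin : ∀ ξ : (𝒬).p.Fiber T₀, Finite (Aut ξ) := fun ξ => by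
    obtain ⟨x, e, -⟩ := hautAll ξ
    obtain ⟨e'⟩ := exists_aut_equiv aX x
    exact Finite.of_equiv _ (e.conjAut.toEquiv.trans e').symm
  let Ω := Quotient (MulAction.orbitRel (T₀ ⟶ G) (T₀ ⟶ X))
  let q : Ω → Quotient (isIsomorphicSetoid ((𝒬).p.Fiber T₀)) :=
    Quotient.map (fun x => fibObj aX x) fun x y h => (isIsomorphic_iff aX x y).2 h
  have hq : Function.Bijective q := by
    refine ⟨?_, ?_⟩
    · rintro ⟨x⟩ ⟨y⟩ h
      exact Quotient.sound ((isIsomorphic_iff aX x y).1 (Quotient.exact h))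
    · rintro ⟨ξ⟩
      obtain ⟨x, e, -⟩ := hautAll ξ
      exact ⟨Quotient.mk'' x, Quotient.sound ⟨e.symm⟩⟩
  refine ⟨Finite.of_surjective q hq.2, hfin, ?_⟩
  have hcard : ∀ ω : Ω, Nat.card (Aut (q ω).out) = Nat.card (MulAction.stabilizer (T₀ ⟶ G) ω.out) := fun ω => by
    have h1 : q ω = Quotient.mk'' (fibObj aX ω.out) := by
      conv_lhs => rw [← Quotient.out_eq ω]
      rfl
    obtain ⟨e⟩ : IsIsomorphic (q ω).out (fibObj aX ω.out) := Quotient.exact ((Quotient.out_eq _).trans h1)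
    obtain ⟨e'⟩ := exists_aut_equiv aX ω.out
    exact Nat.card_congr (e.conjAut.toEquiv.trans e')
  have : Fintype Ω := Fintype.ofFinite _
  rw [← finsum_comp (g := fun c => ((Nat.card (Aut c.out) : ℚ))⁻¹) q hq, finsum_eq_sum_of_fintype]
  have hX : Nat.card (T₀ ⟶ X) = ∑ ω : Ω, Nat.card ((T₀ ⟶ G) ⧸ MulAction.stabilizer (T₀ ⟶ G) ω.out) := by
    rw [Nat.card_congr (MulAction.selfEquivSigmaOrbitsQuotientStabilizer (T₀ ⟶ G) (T₀ ⟶ X)), Nat.card_sigma]
  rw [hX, Nat.cast_sum, Finset.sum_div]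
  refine Finset.sum_congr rfl fun ω _ => ?_
  rw [hcard ω, Subgroup.card_eq_card_quotient_mul_card_subgroup (MulAction.stabilizer (T₀ ⟶ G) ω.out), Nat.cast_mul]
  have h1 : (Nat.card (MulAction.stabilizer (T₀ ⟶ G) ω.out) : ℚ) ≠ 0 := Nat.cast_ne_zero.2 Nat.card_pos.ne'
  have h2 : (Nat.card ((T₀ ⟶ G) ⧸ MulAction.stabilizer (T₀ ⟶ G) ω.out) : ℚ) ≠ 0 := Nat.cast_ne_zero.2 Nat.card_pos.ne'
  field_simp

end Groth.Agent.StFib.QuotTriv
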