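import Groth.Agent.StFib.TrivialAut
import Groth.Agent.IsoCls.UnramChart
import Groth.Agent.IsoCls.FpSections

/-!
# Infinitesimal automorphisms and unramified diagonals
-/

set_option linter.unusedVariables false
set_option backward.isDefEq.respectTransparency false
set_option backward.isDefEq.respectTransparency.types false

universe u

open CategoryTheory CategoryTheory.Limits AlgebraicGeometry Opposite FibCat

namespace Groth.Agent.StFib

section Space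

open _root_.AlgSp

variable {S : Scheme.{u}}

/-- The dual numbers over a field point. -/
noncomputable abbrev dualOver {K : Type u} [Field K] (v : Spec (CommRingCat.of K) ⟶ S) : Over S :=
  Over.mk (Slice.retr K ≫ v)

noncomputable abbrev dualIncl {K : Type u} [Field K] (v : Spec (CommRingCat.of K) ⟶ S) :
    Over.mk v ⟶ dualOver v :=
  Over.homMk (Slice.incl K) (Slice.incl_retr_assoc K _)

noncomputable abbrev dualRetr {K : Type u} [Field K] (v : Spec (CommRingCat.of K) ⟶ S) :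
    dualOver v ⟶ Over.mk v :=
  Over.homMk (Slice.retr K) rfl

/-- A space over a scheme whose sections over dual numbers are determined by their closed points is
unramified. -/
theorem locP_unramified_of_unique_lifts {A : Sp S} (hA : IsAlgSpace A) {T : Over S}
    (a : A ⟶ (yon S).obj T) (hl : LocP @LocallyOfFiniteType a)
    (H : ∀ (K : Type u) [Field K] (v : Spec (CommRingCat.of K) ⟶ S) (t₀ : Over.mk v ⟶ T)
      (r₁ r₂ : (yon S).obj (dualOver v) ⟶ A),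
      r₁ ≫ a = (yon S).map (dualRetr v ≫ t₀) → r₂ ≫ a = (yon S).map (dualRetr v ≫ t₀) →
      (yon S).map (dualIncl v) ≫ r₁ = (yon S).map (dualIncl v) ≫ r₂ → r₁ = r₂) :
    LocP (@LocallyOfFiniteType ⊓ @FormallyUnramified) a := by
  obtain ⟨U, α, hα, hαs⟩ := hA.atlas
  obtain ⟨k, hk⟩ := (yon S).map_surjective (α ≫ a)
  have hkl : LocallyOfFiniteType k.left :=
    hl α (𝟙 _) k hα (repWith_id _ T) (by rw [Category.comp_id]; exact hk.symm)
  have := Groth.Agent.AlgSpCov.standard_unramified.{u}.bc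
  have := Groth.Agent.AlgSpCov.standard_unramified.{u}.comp
  refine Groth.Agent.AlgSpCov.locP_of_one_chart Groth.Agent.AlgSpCov.standard_unramified.etaleLocal
    Groth.Agent.AlgSpCov.standard_unramified.of_etale (IsAlgSpace.yon_obj T) (V := T) hα hαs (repWith_id _ T)
    (by rw [Category.comp_id]; exact hk.symm) ⟨hkl, Slice.formallyUnramified_of_lifts k.left ?_⟩
  intro K _ v δ₁ δ₂ h₁ h₂
  let X₀ : Over S := Over.mk (v ≫ U.hom)
  let X : Over S := dualOver (v ≫ U.hom)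
  let ρ : X ⟶ X₀ := dualRetr _
  let t₀ : X₀ ⟶ T := Over.homMk (v ≫ k.left) (by
    change (v ≫ k.left) ≫ T.hom = v ≫ U.hom
    rw [Category.assoc, Over.w k])
  have hstr : ∀ δ, Slice.IsLift k.left v δ → δ ≫ U.hom = X.hom := fun δ h => by
    rw [← Over.w k, reassoc_of% h.2, Over.w k]
    rfl
  let d₁ : X ⟶ U := Over.homMk δ₁ (hstr _ h₁)
  let d₂ : X ⟶ U := Over.homMk δ₂ (hstr _ h₂)
  have hd : ∀ (δ : Slice.dualPt K ⟶ U.left) (h : Slice.IsLift k.left v δ),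
      ((yon S).map (Over.homMk δ (hstr δ h) : X ⟶ U) ≫ α) ≫ a = (yon S).map (ρ ≫ t₀) := fun δ h => by
    rw [Category.assoc, ← hk, ← Functor.map_comp]
    exact congrArg (yon S).map (Over.OverMorphism.ext h.2)
  have h0 : dualIncl (v ≫ U.hom) ≫ d₁ = dualIncl (v ≫ U.hom) ≫ d₂ :=
    Over.OverMorphism.ext (h₁.1.trans h₂.1.symm)
  have heq : (yon S).map d₁ ≫ α = (yon S).map d₂ ≫ α := H K _ t₀ _ _ (hd δ₁ h₁) (hd δ₂ h₂) (by
    rw [← Category.assoc, ← Category.assoc, ← Functor.map_comp, ← Functor.map_comp, h0])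
  obtain ⟨O, e, fst, hO⟩ := hα.1 ((yon S).map d₁ ≫ α)
  have hmem : Etale e.left := hα.2 _ fst e hO
  obtain ⟨fst, rfl⟩ := (yon S).map_surjective fst
  obtain ⟨τ₁, hτ₁⟩ := (yon S).map_surjective (hO.lift ((yon S).map d₁) (𝟙 _) (by rw [Category.id_comp]))
  obtain ⟨τ₂, hτ₂⟩ := (yon S).map_surjective (hO.lift ((yon S).map d₂) (𝟙 _) (by rw [Category.id_comp]; exact heq.symm))
  have e₁ : τ₁ ≫ e = 𝟙 X := (yon S).map_injective (by
    rw [Functor.map_comp, hτ₁, hO.lift_snd, CategoryTheory.Functor.map_id])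
  have e₂ : τ₂ ≫ e = 𝟙 X := (yon S).map_injective (by
    rw [Functor.map_comp, hτ₂, hO.lift_snd, CategoryTheory.Functor.map_id])
  have f₁ : τ₁ ≫ fst = d₁ := (yon S).map_injective (by rw [Functor.map_comp, hτ₁, hO.lift_fst])
  have f₂ : τ₂ ≫ fst = d₂ := (yon S).map_injective (by rw [Functor.map_comp, hτ₂, hO.lift_fst])
  let i₀ : X₀ ⟶ X := dualIncl _
  have hi : i₀ ≫ τ₁ = i₀ ≫ τ₂ := (yon S).map_injective (hO.hom_ext (by
      rw [← Functor.map_comp, ← Functor.map_comp, Category.assoc, Category.assoc, f₁, f₂]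
      exact congrArg (yon S).map h0) (by
      rw [← Functor.map_comp, ← Functor.map_comp, Category.assoc, Category.assoc, e₁, e₂]))
  obtain ⟨σ, -, huniq⟩ := Slice.existsUnique_section e.left (i₀ ≫ τ₁).left (by
    change (Slice.incl K ≫ τ₁.left) ≫ e.left = _
    rw [Category.assoc]
    exact (congrArg (Slice.incl K ≫ ·) (congrArg (fun m => m.left) e₁)).trans (Category.comp_id _))
  have u₁ := huniq τ₁.left ⟨rfl, congrArg (fun m => m.left) e₁⟩
  have u₂ := huniq τ₂.left ⟨(congrArg (fun m => m.left) hi).symm, congrArg (fun m => m.left) e₂⟩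
  have h12 : τ₁.left ≫ fst.left = τ₂.left ≫ fst.left := by rw [u₁, u₂]
  exact (congrArg (fun m => m.left) f₁).symm.trans (h12.trans (congrArg (fun m => m.left) f₂))

end Space

variable {S : Scheme.{u}} {𝒳 𝒴 : AlgSt.Cat S} {K' : Precoverage Scheme.{u}}

/-- Trivial infinitesimal automorphisms at dual numbers. -/
def TrivialAutAtDuals (f : 𝒳 ⥤ᵇ 𝒴) : Prop :=
  ∀ (K : Type u) [Field K] (v : Spec (CommRingCat.of K) ⟶ S) (x : 𝒳.obj) (a : 𝒳.obj) (m : a ⟶ x)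
    (ha : 𝒳.p.obj a = Over.mk v) (hx : 𝒳.p.obj x = dualOver v)
    (_ : 𝒳.p.map m = eqToHom ha ≫ dualIncl v ≫ eqToHom hx.symm)
    (θ : x ⟶ x), Vert θ → f.map θ = 𝟙 _ → m ≫ θ = m → θ = 𝟙 _

/-- Trivial infinitesimal automorphisms make the diagonal unramified. -/
theorem isDMMor_of_trivialAutAtDuals (h𝒳 : AlgSt.IsAlgStack K' 𝒳) (h𝒴 : AlgSt.IsAlgStack K' 𝒴)
    (f : 𝒳 ⥤ᵇ 𝒴) (hT : TrivialAutAtDuals f) : AlgSt.IsDMMor f := by
  intro T y
  have hl := lft_diag_generic h𝒳 h𝒴 f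
  obtain ⟨A, e, he, -⟩ := hl T y
  refine ⟨A, e, he, locP_unramified_of_unique_lifts A.property _
    (mem_of_rep_chart good_lft.bc good_lft.det hl y A e he) ?_⟩
  intro K _ v₀ t₀ r₁ r₂ h₁ h₂ h₀
  let X := dualOver v₀
  let X₀ : Over S := Over.mk v₀
  let ρ : X ⟶ X₀ := dualRetr v₀
  let i₀ : X₀ ⟶ X := dualIncl v₀
  let Φ := BasedFunctor.comp e (fpFst y (diag f))
  let sec : {Z : Over S} → ((AlgSp.yon S).obj Z ⟶ A.obj) → A.obj.obj.obj (op Z) :=
    fun {Z} r => r.hom.app (op Z) ⟨𝟙 Z⟩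
  have hsec : ∀ (r : (AlgSp.yon S).obj X ⟶ A.obj), r ≫ AlgSt.spMapOfOver Φ = (AlgSp.yon S).map (ρ ≫ t₀) →
      AlgSt.secHom Φ ⟨X, sec r⟩ = ρ ≫ t₀ := fun r hr => by
    have := congrArg (fun m => ULift.down (m.hom.app (op X) ⟨𝟙 X⟩)) hr
    exact this.trans (Category.id_comp (ρ ≫ t₀) :)
  let g : (overCat T).obj := Over.mk (ρ ≫ t₀)
  have hw : ∀ (r : (AlgSp.yon S).obj X ⟶ A.obj), r ≫ AlgSt.spMapOfOver Φ = (AlgSp.yon S).map (ρ ≫ t₀) →
      ∃ w : (e.obj ⟨X, sec r⟩).obj.fst ≅ g, Vert w.hom := fun r hr => by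
    refine ⟨Over.isoMk (eqToIso (Φ.w_obj ⟨X, sec r⟩)) ?_, ⟨Φ.w_obj ⟨X, sec r⟩, rfl⟩⟩
    change eqToHom (Φ.w_obj ⟨X, sec r⟩) ≫ ρ ≫ t₀ = _
    rw [← hsec r hr, AlgSt.secHom, eqToHom_trans_assoc]
    exact Category.id_comp _
  obtain ⟨w₁, hw₁⟩ := hw r₁ h₁
  obtain ⟨w₂, hw₂⟩ := hw r₂ h₂
  let z₁ := e.obj ⟨X, sec r₁⟩
  let z₂ := e.obj ⟨X, sec r₂⟩
  let w : z₁.obj.fst ≅ z₂.obj.fst := w₁ ≪≫ w₂.symm
  have hwv : Vert w.hom := hw₁.comp hw₂.inv
  obtain ⟨β, hβ, hβeq⟩ : ∃ β : (diag f).obj z₁.obj.snd ≅ (diag f).obj z₂.obj.snd,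
      Vert β.hom ∧ β.hom = z₁.obj.iso.inv ≫ y.map w.hom ≫ z₂.obj.iso.hom :=
    ⟨z₁.obj.iso.symm ≪≫ y.toFunctor.mapIso w ≪≫ z₂.obj.iso,
      (vert_fp_iso z₁).inv.comp ((hwv.map y).comp (vert_fp_iso z₂)), rfl⟩
  let u : z₁.obj.snd ≅ z₂.obj.snd := fpIsoFst (F := f) (G := f) β
  let v : z₁.obj.snd ≅ z₂.obj.snd := fpIsoSnd (F := f) (G := f) β
  have hu : Vert u.hom := vert_fp_iff.1 hβ
  have hv : Vert v.hom := vert_fp_snd hβ
  have hwe : f.map u.hom ≫ 𝟙 _ = 𝟙 _ ≫ f.map v.hom := β.hom.hom.w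
  have hfe : f.map u.hom = f.map v.hom := (Category.comp_id _).symm.trans (hwe.trans (Category.id_comp _))
  have hfφ : f.map (u.hom ≫ v.inv) = 𝟙 _ := by
    rw [f.toFunctor.map_comp, hfe, ← f.toFunctor.map_comp, Iso.hom_inv_id, f.toFunctor.map_id]
  -- the common restriction to the closed point
  let r₀ : (AlgSp.yon S).obj X₀ ⟶ A.obj := (AlgSp.yon S).map i₀ ≫ r₁
  let q₁ : (⟨X₀, sec r₀⟩ : (AlgSt.ofSp A.obj).obj) ⟶ ⟨X, sec r₁⟩ :=
    ⟨i₀, GrothendieckTopology.uliftYonedaEquiv_naturality.{u + 1} (AlgSp.J S) r₁ i₀⟩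
  let q₂ : (⟨X₀, sec r₀⟩ : (AlgSt.ofSp A.obj).obj) ⟶ ⟨X, sec r₂⟩ :=
    ⟨i₀, (GrothendieckTopology.uliftYonedaEquiv_naturality.{u + 1} (AlgSp.J S) r₂ i₀).trans
      (congrArg sec h₀).symm⟩
  let m₁ : e.obj ⟨X₀, sec r₀⟩ ⟶ z₁ := e.map q₁
  let m₂ : e.obj ⟨X₀, sec r₀⟩ ⟶ z₂ := e.map q₂
  have hl₁ : m₁.hom.fst.left = eqToHom (e.w_obj _) ≫ i₀ ≫ eqToHom (e.w_obj _).symm := w_map e q₁
  have hl₂ : m₂.hom.fst.left = eqToHom (e.w_obj _) ≫ i₀ ≫ eqToHom (e.w_obj _).symm := w_map e q₂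
  have hf12 : m₁.hom.fst ≫ w.hom = m₂.hom.fst := by
    refine Over.OverMorphism.ext ?_
    obtain ⟨hb, hb'⟩ := hwv
    change w.hom.left = _ at hb'
    rw [Over.comp_left, hl₁, hl₂, hb']
    simp
  have hs₁ : y.map m₁.hom.fst ≫ z₁.obj.iso.hom =
      (e.obj ⟨X₀, sec r₀⟩).obj.iso.hom ≫ (diag f).map m₁.hom.snd := m₁.hom.w
  have hs₂ : y.map m₂.hom.fst ≫ z₂.obj.iso.hom =
      (e.obj ⟨X₀, sec r₀⟩).obj.iso.hom ≫ (diag f).map m₂.hom.snd := m₂.hom.w
  have hβm : (diag f).map m₁.hom.snd ≫ β.hom = (diag f).map m₂.hom.snd := by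
    rw [← cancel_epi (e.obj ⟨X₀, sec r₀⟩).obj.iso.hom, ← Category.assoc, ← hs₁, ← hs₂, hβeq]
    simp only [Category.assoc, Iso.hom_inv_id_assoc]
    rw [← Category.assoc, ← y.toFunctor.map_comp, hf12]
  have hmu : m₁.hom.snd ≫ u.hom = m₂.hom.snd := congrArg (fun k => k.hom.fst) hβm
  have hmv : m₁.hom.snd ≫ v.hom = m₂.hom.snd := congrArg (fun k => k.hom.snd) hβm
  have hmθ : m₁.hom.snd ≫ (u.hom ≫ v.inv) = m₁.hom.snd := by
    rw [← Category.assoc, hmu, ← hmv, Category.assoc, Iso.hom_inv_id, Category.comp_id]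
  have hx₁ : 𝒳.p.obj z₁.obj.snd = X :=
    (vert_fp_iso z₁).base_eq.symm.trans ((y.w_obj _).trans (e.w_obj ⟨X, sec r₁⟩))
  have hx₀ : 𝒳.p.obj (e.obj ⟨X₀, sec r₀⟩).obj.snd = X₀ :=
    (vert_fp_iso _).base_eq.symm.trans ((y.w_obj _).trans (e.w_obj ⟨X₀, sec r₀⟩))
  have hpm : 𝒳.p.map m₁.hom.snd = eqToHom hx₀ ≫ dualIncl v₀ ≫ eqToHom hx₁.symm := by
    have h := congrArg (fp f f).p.map hs₁
    rw [Functor.map_comp, Functor.map_comp, (vert_fp_iso _).2, (vert_fp_iso _).2, w_map, w_map] at h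
    rw [show (overCat T).p.map m₁.hom.fst = m₁.hom.fst.left from rfl, hl₁] at h
    simp only [Category.assoc, eqToHom_trans, eqToHom_trans_assoc] at h
    have h' := h.symm
    rw [eqToHom_comp_iff, comp_eqToHom_iff] at h'
    simpa using h'
  have huv0 : u.hom ≫ v.inv = 𝟙 _ :=
    hT K v₀ _ _ m₁.hom.snd hx₀ hx₁ hpm _ (hu.comp hv.inv) hfφ hmθ
  have huv : u.hom = v.hom := by
    rw [← Category.comp_id u.hom, ← v.inv_hom_id, ← Category.assoc, huv0, Category.id_comp]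
  have hwz : y.map w.hom ≫ z₂.obj.iso.hom = z₁.obj.iso.hom ≫ (diag f).map u.hom := by
    have h' : (diag f).map u.hom = β.hom := fp_hom_ext rfl huv
    rw [h']
    rw [hβeq]
    simp
  let Z : z₁ ⟶ z₂ := fpHom w.hom u.hom hwz
  have := full_of_isEquivOver he
  obtain ⟨q, hq⟩ := e.toFunctor.map_surjective Z
  have hZ : Vert Z := vert_fp_iff.2 hwv
  have hqv : Vert (𝒳 := AlgSt.ofSp A.obj) q := by
    refine ⟨rfl, ?_⟩
    obtain ⟨h0, h0'⟩ := hZ
    have := w_map e q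
    rw [hq, h0'] at this
    rw [← cancel_epi (eqToHom (e.w_obj ⟨X, sec r₁⟩)), ← cancel_mono (eqToHom (e.w_obj ⟨X, sec r₂⟩).symm)]
    simpa using this.symm
  have hs : sec r₁ = sec r₂ := ofPsh_eq_of_vert hqv
  exact (GrothendieckTopology.uliftYonedaEquiv.{u + 1} (AlgSp.J S)).injective hs

/-- An automorphism of an object, trivial on a restriction, as an automorphism of a morphism from
the slice. -/
theorem eq_id_of_whisker (h : IsFibGrpd 𝒳.p) (h𝒴g : IsFibGrpd 𝒴.p) {f : 𝒳 ⥤ᵇ 𝒴} {U₀ U : Over S}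
    (i₀ : U₀ ⟶ U)
    (H : ∀ (xt : overCat U ⥤ᵇ 𝒳) (Θ : xt ≅ xt),
      BasedCategory.whiskerLeft (AlgSt.overMap i₀) Θ.hom = 𝟙 (BasedFunctor.comp (AlgSt.overMap i₀) xt) →
      BasedCategory.whiskerRight Θ.hom f = 𝟙 (BasedFunctor.comp xt f) → Θ.hom = 𝟙 xt)
    {x a : 𝒳.obj} (m : a ⟶ x) (ha : 𝒳.p.obj a = U₀) (hx : 𝒳.p.obj x = U)
    (hm : 𝒳.p.map m = eqToHom ha ≫ i₀ ≫ eqToHom hx.symm) (θ : x ⟶ x) (hθ : Vert θ)
    (hfθ : f.map θ = 𝟙 _) (hmθ : m ≫ θ = m) : θ = 𝟙 _ := by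
  obtain ⟨y, i, hi⟩ := exists_overFunctor h x hx
  have := hθ.isIso h
  obtain ⟨Θ, hΘ⟩ := exists_overIso h y y (i ≪≫ asIso θ ≪≫ i.symm) (hi.comp (hθ.comp hi.inv))
  have hnat : ∀ {g g' : (overCat U).obj} (k : g ⟶ g'),
      y.map k ≫ (isoApp Θ g').hom = (isoApp Θ g).hom ≫ y.map k := fun k => isoApp_naturality Θ k
  have hfix : ∀ (g' : (overCat U).obj) (b : Over.left g' ⟶ U₀), Over.hom g' = b ≫ i₀ →
      (isoApp Θ g').hom = 𝟙 _ := by
    intro g' b hb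
    let k : g' ⟶ Over.mk (𝟙 U) := overToId g'
    have hpk : 𝒳.p.map (y.map k) =
        eqToHom (y.w_obj g') ≫ (b ≫ i₀) ≫ eqToHom (y.w_obj (Over.mk (𝟙 U))).symm := by
      rw [← hb]
      exact w_map y k
    obtain ⟨χ, hχp, hχ⟩ := grpd_exists_fac h m (y.map k ≫ i.hom)
      (eqToHom (y.w_obj g') ≫ b ≫ eqToHom ha.symm) (by
        rw [Functor.map_comp, hpk, hi.2, hm]
        simp)
    refine grpd_cancel h (y.map k) ?_ (by rw [(vert_isoApp Θ g').2, CategoryTheory.Functor.map_id]; rfl)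
    rw [Category.id_comp, ← hnat, hΘ]
    change y.map k ≫ i.hom ≫ θ ≫ i.inv = _
    rw [← reassoc_of% hχ, reassoc_of% hmθ, reassoc_of% hχ, Iso.hom_inv_id, Category.comp_id]
  have hΘ' : Θ.hom = 𝟙 y := by
    refine H y Θ (BasedNatTrans.ext _ _ (NatTrans.ext (funext fun g => ?_)))
      (BasedNatTrans.ext _ _ (NatTrans.ext (funext fun g => ?_)))
    · exact hfix ((AlgSt.overMap i₀).obj g) (Over.hom g) rfl
    · change f.map (isoApp Θ g).hom = 𝟙 _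
      refine grpd_cancel h𝒴g (f.map (y.map (overToId g))) ?_ ?_
      · rw [Category.id_comp, ← f.toFunctor.map_comp, ← hnat, hΘ]
        change f.map (y.map (overToId g) ≫ i.hom ≫ θ ≫ i.inv) = _
        rw [f.toFunctor.map_comp, f.toFunctor.map_comp, f.toFunctor.map_comp, hfθ, Category.id_comp,
          ← f.toFunctor.map_comp i.hom, Iso.hom_inv_id, f.toFunctor.map_id, Category.comp_id]
      · rw [((vert_isoApp Θ g).map f).2, CategoryTheory.Functor.map_id]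
        rfl
  have h1 : i.hom ≫ θ ≫ i.inv = 𝟙 _ :=
    hΘ.symm.trans (congrArg (fun T : y ⟶ y => T.toNatTrans.app (Over.mk (𝟙 U))) hΘ')
  rw [← cancel_epi i.hom, ← cancel_mono i.inv, Category.assoc, h1, Category.comp_id, i.hom_inv_id]

theorem isSimpleModule_ker_dual (K : Type u) [Field K] :
    IsSimpleModule (TrivSqZeroExt K K)
      (RingHom.ker (TrivSqZeroExt.fstHom K K K).toRingHom) := by
  rw [isSimpleModule_iff_isAtom]
  refine ⟨fun h => ?_, fun J hJ => ?_⟩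
  · have : (TrivSqZeroExt.inr 1 : TrivSqZeroExt K K) ∈
        RingHom.ker (TrivSqZeroExt.fstHom K K K).toRingHom := TrivSqZeroExt.fst_inr K 1
    rw [h, Ideal.mem_bot] at this
    simpa using congrArg TrivSqZeroExt.snd this
  · rw [eq_bot_iff]
    intro z hz
    rw [Ideal.mem_bot]
    by_contra hne
    refine hJ.2 fun w hw => ?_
    have hz0 : z.fst = 0 := hJ.1 hz
    have hw0 : w.fst = 0 := hw
    have hz1 : z.snd ≠ 0 := fun h => hne (TrivSqZeroExt.ext hz0 h)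
    have e : w = TrivSqZeroExt.inl (w.snd / z.snd) * z := by
      refine TrivSqZeroExt.ext (by simp [hz0, hw0]) ?_
      simp [hz0, div_mul_cancel₀ _ hz1]
    rw [e]
    exact Ideal.mul_mem_left (J : Ideal (TrivSqZeroExt K K)) _ hz

theorem eqToHom_homMk_congr {X Y : Scheme.{u}} {v v' : X ⟶ S} (e : v' = v) (i : X ⟶ Y) {w : Y ⟶ S}
    (h : i ≫ w = v) (h' : i ≫ w = v') {a b : Over S} (ha : a = Over.mk v) (ha' : a = Over.mk v')
    (hb : Over.mk w = b) :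
    eqToHom ha ≫ (Over.homMk i h : Over.mk v ⟶ Over.mk w) ≫ eqToHom hb =
      eqToHom ha' ≫ (Over.homMk i h' : Over.mk v' ⟶ Over.mk w) ≫ eqToHom hb := by
  subst e
  rfl

/-- The criterion at Artinian rings gives trivial infinitesimal automorphisms. -/
theorem trivialAutAtDuals_of_criterion (h : IsFibGrpd 𝒳.p) (h𝒴g : IsFibGrpd 𝒴.p) (f : 𝒳 ⥤ᵇ 𝒴)
    (H : ∀ (A A₀ : Type u) [CommRing A] [IsArtinianRing A] [IsLocalRing A] [CommRing A₀] [IsLocalRing A₀]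
        (φ : A →+* A₀) (_ : Function.Surjective φ) (_ : IsSimpleModule A (RingHom.ker φ))
        (sA : Spec (CommRingCat.of A) ⟶ S)
        (xt : FibCat.overCat (Over.mk sA) ⥤ᵇ 𝒳) (Θ : xt ≅ xt),
        BasedCategory.whiskerLeft (AlgSt.overMap (Over.homMk (Spec.map (CommRingCat.ofHom φ)) rfl :
            Over.mk (Spec.map (CommRingCat.ofHom φ) ≫ sA) ⟶ Over.mk sA)) Θ.hom =
          𝟙 (BasedFunctor.comp (AlgSt.overMap (Over.homMk (Spec.map (CommRingCat.ofHom φ)) rfl :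
            Over.mk (Spec.map (CommRingCat.ofHom φ) ≫ sA) ⟶ Over.mk sA)) xt) →
        BasedCategory.whiskerRight Θ.hom f = 𝟙 (BasedFunctor.comp xt f) →
        Θ.hom = 𝟙 xt) :
    TrivialAutAtDuals f := by
  intro K _ v x a m ha hx hm θ hθ hfθ hmθ
  have : Module.Finite K (TrivSqZeroExt K K) := inferInstanceAs (Module.Finite K (K × K))
  have : IsArtinianRing (TrivSqZeroExt K K) := IsArtinianRing.of_finite K _
  have : IsLocalRing (TrivSqZeroExt K K) := IsLocalRing.of_isUnit_or_isUnit_one_sub_self fun z => by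
    rw [TrivSqZeroExt.isUnit_iff_isUnit_fst, TrivSqZeroExt.isUnit_iff_isUnit_fst, TrivSqZeroExt.fst_sub,
      TrivSqZeroExt.fst_one]
    exact IsLocalRing.isUnit_or_isUnit_one_sub_self _
  have e0 : Slice.incl K ≫ Slice.retr K ≫ v = v := Slice.incl_retr_assoc K v
  let i : Over.mk (Slice.incl K ≫ Slice.retr K ≫ v) ⟶ dualOver v := Over.homMk (Slice.incl K) rfl
  have ha' : 𝒳.p.obj a = Over.mk (Slice.incl K ≫ Slice.retr K ≫ v) := ha.trans (by rw [e0])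
  refine eq_id_of_whisker h h𝒴g i (fun xt Θ h1 h2 => H (TrivSqZeroExt K K) K
    (TrivSqZeroExt.fstHom K K K).toRingHom (fun k => ⟨TrivSqZeroExt.inl k, rfl⟩)
    (isSimpleModule_ker_dual K) (Slice.retr K ≫ v) xt Θ h1 h2) m ha' hx ?_ θ hθ hfθ hmθ
  exact hm.trans (eqToHom_homMk_congr e0 (Slice.incl K) _ rfl ha ha' hx.symm)

/-- Infinitesimal automorphisms are trivial when the diagonal is unramified. -/
theorem eq_id_of_isDMMor (h : IsFibGrpd 𝒳.p) (f : 𝒳 ⥤ᵇ 𝒴) (hf : AlgSt.IsDMMor f)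
    {A A₀ : Type u} [CommRing A] [CommRing A₀] (φ : A →+* A₀) (hφ : Function.Surjective φ)
    (hI : RingHom.ker φ ^ 2 = ⊥) (sA : Spec (CommRingCat.of A) ⟶ S)
    (xt : FibCat.overCat (Over.mk sA) ⥤ᵇ 𝒳) (Θ : xt ≅ xt)
    (h1 : BasedCategory.whiskerLeft (AlgSt.overMap (Over.homMk (Spec.map (CommRingCat.ofHom φ)) rfl :
            Over.mk (Spec.map (CommRingCat.ofHom φ) ≫ sA) ⟶ Over.mk sA)) Θ.hom =
          𝟙 (BasedFunctor.comp (AlgSt.overMap (Over.homMk (Spec.map (CommRingCat.ofHom φ)) rfl :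
            Over.mk (Spec.map (CommRingCat.ofHom φ) ≫ sA) ⟶ Over.mk sA)) xt))
    (h2 : BasedCategory.whiskerRight Θ.hom f = 𝟙 (BasedFunctor.comp xt f)) :
    Θ.hom = 𝟙 xt := by
  let U : Over S := Over.mk sA
  let U₁ : Over S := Over.mk (Spec.map (CommRingCat.ofHom φ) ≫ sA)
  let i : U₁ ⟶ U := Over.homMk (Spec.map (CommRingCat.ofHom φ)) rfl
  let t : overCat U ⥤ᵇ fp f f := fpLift xt xt (Iso.refl (BasedFunctor.comp xt f))
  obtain ⟨F, e, he, hP⟩ := hf U t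
  obtain ⟨au, hbij, hnat⟩ := IsoCls.diagDict_of_chart h t F e he
  have hfu := IsoCls.formallyUnramified_of_locP F.property (_root_.AlgSp.IsAlgSpace.yon_obj U) hP
  let w : (overCat U).obj := Over.mk (𝟙 U)
  have hiso : ∀ g, (t.obj g).obj.iso.hom = 𝟙 _ := fun g => rfl
  obtain ⟨r₁, hr₁⟩ := (hbij w).2 ⟨𝟙 _, Vert.id _, (f.toFunctor.map_id _).trans (hiso w).symm⟩
  obtain ⟨r₂, hr₂⟩ := (hbij w).2 ⟨(isoApp Θ w).hom, vert_isoApp Θ w,
    (congrArg (fun T => T.toNatTrans.app w) h2).trans (hiso w).symm⟩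
  -- the closed subscheme
  let I := RingHom.ker φ
  let U₀ : Over S := Over.mk (Spec.map (CommRingCat.ofHom (Ideal.Quotient.mk I)) ≫ sA)
  let j : U₀ ⟶ U := Over.homMk (Spec.map (CommRingCat.ofHom (Ideal.Quotient.mk I))) rfl
  let q := RingHom.quotientKerEquivOfSurjective hφ
  have hq : CommRingCat.ofHom φ ≫ CommRingCat.ofHom q.symm.toRingHom =
      CommRingCat.ofHom (Ideal.Quotient.mk I) :=
    CommRingCat.hom_ext (RingHom.ext fun a => q.symm_apply_apply (Ideal.Quotient.mk I a))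
  have hqs : Spec.map (CommRingCat.ofHom q.symm.toRingHom) ≫ Spec.map (CommRingCat.ofHom φ) =
      Spec.map (CommRingCat.ofHom (Ideal.Quotient.mk I)) := by
    rw [← Spec.map_comp, hq]
  let ε : U₀ ⟶ U₁ := Over.homMk (Spec.map (CommRingCat.ofHom q.symm.toRingHom))
    ((Category.assoc _ _ _).symm.trans (congrArg (· ≫ sA) hqs))
  have hεi : ε ≫ i = j := Over.OverMorphism.ext hqs
  let w₀ : (overCat U).obj := (AlgSt.overMap i).obj (Over.mk ε)
  let κ : w₀ ⟶ w := overToId w₀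
  have hκ : κ.left = ε ≫ i := rfl
  obtain ⟨r₁', e₁⟩ : ∃ r' : IsoCls.Sec _ w₀, r'.1 = (AlgSp.yon S).map κ.left ≫ r₁.1 :=
    ⟨⟨(AlgSp.yon S).map κ.left ≫ r₁.1, by
      rw [Category.assoc, r₁.2, ← Functor.map_comp]
      exact congrArg _ (Over.w κ)⟩, rfl⟩
  obtain ⟨r₂', e₂⟩ : ∃ r' : IsoCls.Sec _ w₀, r'.1 = (AlgSp.yon S).map κ.left ≫ r₂.1 :=
    ⟨⟨(AlgSp.yon S).map κ.left ≫ r₂.1, by
      rw [Category.assoc, r₂.2, ← Functor.map_comp]
      exact congrArg _ (Over.w κ)⟩, rfl⟩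
  have n₁ := hnat κ r₁ r₁' e₁
  have n₂ := hnat κ r₂ r₂' e₂
  rw [hr₁] at n₁
  rw [hr₂] at n₂
  change (au w₀ r₁').1 ≫ xt.map κ = xt.map κ ≫ 𝟙 _ at n₁
  change (au w₀ r₂').1 ≫ xt.map κ = xt.map κ ≫ (isoApp Θ w).hom at n₂
  have h0 : (isoApp Θ w₀).hom = 𝟙 _ :=
    congrArg (fun T => T.toNatTrans.app (Over.mk ε)) h1
  rw [Category.comp_id] at n₁
  rw [isoApp_naturality Θ κ, h0, Category.id_comp] at n₂
  have h12 : r₁' = r₂' := (hbij w₀).1 (Subtype.ext (grpd_cancel h (xt.map κ) (n₁.trans n₂.symm)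
    ((au w₀ r₁').2.1.2.trans (au w₀ r₂').2.1.2.symm)))
  have htop : (AlgSp.yon S).map j ≫ r₂.1 = (AlgSp.yon S).map j ≫ r₁.1 := by
    rw [← hεi, ← hκ, ← e₁, ← e₂, h12]
  have hrr : r₁ = r₂ := Subtype.ext (hfu
    { A := A, I := I, sq_zero := hI, str := sA
      top := (AlgSp.yon S).map j ≫ r₁.1
      bot := r₁.1 ≫ _
      comm := Category.assoc _ _ _ } r₁.1 r₂.1 rfl rfl htop (r₂.2.trans r₁.2.symm))
  have hw : (isoApp Θ w).hom = 𝟙 _ :=
    (congrArg Subtype.val (hr₂.symm.trans ((congrArg (au w) hrr.symm).trans hr₁)) :)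
  refine BasedNatTrans.ext _ _ (NatTrans.ext (funext fun g => ?_))
  change (isoApp Θ g).hom = 𝟙 _
  refine grpd_cancel h (xt.map (overToId g)) ?_
    (by rw [(vert_isoApp Θ g).2, CategoryTheory.Functor.map_id]; rfl)
  rw [Category.id_comp, ← isoApp_naturality Θ]
  exact (congrArg (xt.map (overToId g) ≫ ·) hw).trans (Category.comp_id _)

theorem ker_sq_eq_bot {A A₀ : Type u} [CommRing A] [IsArtinianRing A] [IsLocalRing A] [CommRing A₀] [Nontrivial A₀]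
    (φ : A →+* A₀) [hI : IsSimpleModule A (RingHom.ker φ)] : RingHom.ker φ ^ 2 = ⊥ := by
  have hmax := (isSimpleModule_iff_isAtom.1 hI)
  have hle : RingHom.ker φ ≤ IsLocalRing.maximalIdeal A :=
    IsLocalRing.le_maximalIdeal (RingHom.ker_ne_top φ)
  rcases hmax.le_iff.1 (show RingHom.ker φ ^ 2 ≤ RingHom.ker φ from Ideal.pow_le_self two_ne_zero) with h0 | h0
  · exact h0
  · exfalso
    refine hmax.1 (Submodule.eq_bot_of_le_smul_of_le_jacobson_bot (RingHom.ker φ) _ ?_ ?_ ?_)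
    · exact IsNoetherian.noetherian _
    · rw [Ideal.smul_eq_mul, ← pow_two, h0]
    · exact hle.trans (IsLocalRing.maximalIdeal_le_jacobson _)

end Groth.Agent.StFib
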