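import Groth.Agent.StFib.Descent
import Groth.Agent.StFib.UnivInj
import Groth.Agent.StFib.SourceLocal
import Groth.Agent.StFib.Props2
import Groth.Agent.StFib.DiagLft
import Groth.Agent.AlgSpD.ProperMor
import Groth.Agent.S10536

/-!
# Descent of separatedness along universally injective covers with universally closed diagonal
-/

set_option backward.isDefEq.respectTransparency false
set_option backward.isDefEq.respectTransparency.types false
set_option linter.unusedVariables false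

universe u

open CategoryTheory CategoryTheory.Limits AlgebraicGeometry Opposite FibCat

namespace Groth.Agent.StFib

variable {S : Scheme.{u}}

/-- Universal closedness descends along surjections on the source. -/
theorem isUnivClosedMor_of_surjective {X Y Z : AlgSp.Space S} (c : X.obj ⟶ Y.obj) (b : Y.obj ⟶ Z.obj)
    (hc : AlgSp.IsSurjectiveMor c) (h : AlgSp.IsUnivClosedMor (c ≫ b)) : AlgSp.IsUnivClosedMor b := by
  intro W P hW g fst snd sq C hC
  have sq2 := IsPullback.of_hasPullback c fst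
  have hs : Function.Surjective (AlgSp.Points.map (pullback.snd c fst)) :=
    Groth.Agent.AlgSp.surjective_map_of_isPullback sq2 hc
  have h1 := h hW g _ _ (sq2.flip.paste_horiz sq.flip).flip
  have : AlgSp.Points.map snd '' C =
      AlgSp.Points.map (pullback.snd c fst ≫ snd) '' (AlgSp.Points.map (pullback.snd c fst) ⁻¹' C) := by
    ext t
    constructor
    · rintro ⟨p, hp, rfl⟩
      obtain ⟨q, rfl⟩ := hs p
      exact ⟨q, hp, AlgSp.Points.map_comp _ _ _⟩
    · rintro ⟨q, hq, rfl⟩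
      exact ⟨_, hq, (AlgSp.Points.map_comp _ _ _).symm⟩
  rw [this]
  exact h1 _ (hC.preimage (AlgSp.Points.continuous_map _))

/-- Properness descends along universally closed surjections on the source. -/
theorem isProperMor_of_surjective {X Y Z : AlgSp.Space S} (c : X.obj ⟶ Y.obj) (b : Y.obj ⟶ Z.obj)
    (hcs : AlgSp.IsSurjectiveMor c) (hcu : AlgSp.IsUnivClosedMor c) (hb : AlgSp.LocP @LocallyOfFiniteType b)
    (h : AlgSp.IsProperMor (c ≫ b)) : AlgSp.IsProperMor b := by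
  have huc : AlgSp.IsUnivClosedMor b := isUnivClosedMor_of_surjective c b hcs h.2.2
  refine ⟨?_, ⟨hb, ?_⟩, huc⟩
  · have hA2 := Groth.Agent.AlgSp.isAlgSpace_pullback Z.property X.property X.property (c ≫ b) (c ≫ b)
    have hB2 := Groth.Agent.AlgSp.isAlgSpace_pullback Z.property Y.property Y.property b b
    have hM := Groth.Agent.AlgSp.isAlgSpace_pullback Z.property Y.property X.property b (c ≫ b)
    refine (Groth.Agent.AlgSpD.isSeparatedMor_iff_univClosed b).2
      (isUnivClosedMor_of_surjective (X := X) (Y := Y) (Z := ⟨_, hB2⟩) c (pullback.diagonal b) hcs ?_)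
    have e : c ≫ pullback.diagonal b = pullback.diagonal (c ≫ b) ≫
        (pullback.map (c ≫ b) (c ≫ b) b (c ≫ b) c (𝟙 _) (𝟙 _) (by simp) (by simp) ≫
          pullback.map b (c ≫ b) b b (𝟙 _) c (𝟙 _) (by simp) (by simp)) := by
      apply pullback.hom_ext <;> simp
    rw [e]
    refine Groth.Agent.AlgSp.isUnivClosedMor_comp hA2 hB2
      ((Groth.Agent.AlgSpD.isSeparatedMor_iff_univClosed (c ≫ b)).1 h.1) ?_
    refine Groth.Agent.AlgSp.isUnivClosedMor_comp hM hB2 ?_ ?_
    · refine Groth.Agent.AlgSp.isUnivClosedMor_baseChange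
        (fst := pullback.fst (c ≫ b) (c ≫ b)) (g := pullback.fst b (c ≫ b)) ?_ hcu
      exact IsPullback.of_bot (by simpa using IsPullback.of_hasPullback (c ≫ b) (c ≫ b)) (by simp [pullback.map])
        (IsPullback.of_hasPullback b (c ≫ b))
    · refine Groth.Agent.AlgSp.isUnivClosedMor_baseChange
        (fst := pullback.snd b (c ≫ b)) (g := pullback.snd b b) ?_ hcu
      exact IsPullback.of_bot (by simpa using (IsPullback.of_hasPullback b (c ≫ b)).flip) (by simp [pullback.map])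
        (IsPullback.of_hasPullback b b).flip
  · intro W P hW hWc g fst snd sq
    have sq2 := IsPullback.of_hasPullback c fst
    have hP := Groth.Agent.AlgSp.isAlgSpace_of_isPullback' Z.property Y.property hW sq
    have := Groth.Agent.AlgSp.compactSpace_points (h.2.1.2 hW hWc g _ _ (sq2.flip.paste_horiz sq.flip).flip)
    exact Groth.Agent.AlgSp.isQuasiCompactSp_of_compactSpace hP
      (Groth.Agent.AlgSp.compactSpace_of_surjective (pullback.snd c fst)
        (Groth.Agent.AlgSp.surjective_map_of_isPullback sq2 hcs))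

variable {𝒳 𝒴 𝒵 : AlgSt.Cat S}

theorem isSeparatedMor_of_comp (h𝒳 : AlgSt.IsAlgStack Scheme.fppfPrecoverage 𝒳)
    (h𝒴 : AlgSt.IsAlgStack Scheme.fppfPrecoverage 𝒴) (h𝒵 : AlgSt.IsAlgStack Scheme.fppfPrecoverage 𝒵)
    (f : 𝒳 ⥤ᵇ 𝒴) (g : 𝒴 ⥤ᵇ 𝒵)
    (hf₁ : AlgSt.IsSurjective f) (hf₂ : AlgSt.LocQ (AlgSp.LocP @Flat) f)
    (hf₃ : AlgSt.LocQ (AlgSp.LocP @LocallyOfFinitePresentation) f)
    (hf₄ : AlgSt.IsUnivInjective Scheme.fppfPrecoverage f)
    (hf₅ : AlgSt.RepByAlgSpWith AlgSp.IsUnivClosedMor (FibCat.diag f))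
    (hh : AlgSt.IsSeparatedMor (BasedFunctor.comp f g)) :
    AlgSt.IsSeparatedMor g := by
  let h := BasedFunctor.comp f g
  have hG := isAlgStack_fp h𝒴.isStack h𝒴.diag h𝒳 h𝒳 f f
  have hH := isAlgStack_fp h𝒵.isStack h𝒵.diag h𝒳 h𝒳 h h
  have hds : AlgSt.RepByAlgSpWith AlgSp.IsSurjectiveMor (diag f) :=
    (isSurjective_iff_rep h𝒳 hG (repByAlgSp1_of_with hf₅)).1
      ((isUnivInjective_iff_diag h𝒳 h𝒴 f).1 hf₄)
  have hd := repByAlgSpWith_inf h𝒳.isStack.1 hG.isStack.1 good_surjective good_univClosed hds hf₅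
  let e0 : BasedFunctor.comp (fpFst f f) h ≅ BasedFunctor.comp (fpSnd f f) h := isoWhiskerRight (fpIso f f) g
  have hcart := comp_cart f f g (isoWhiskerRight (fpIso f f) g) fun _ => rfl
  let q : fp f f ⥤ᵇ fp h h := fpLift (fpFst f f) (fpSnd f f) e0
  have iq : BasedFunctor.comp (diag f) q ≅ diag h :=
    isoMk (fun x => fpIsoMk (Iso.refl _) (Iso.refl _) (by
      change g.map (f.map (𝟙 x)) ≫ 𝟙 _ = g.map (𝟙 (f.obj x)) ≫ g.map (f.map (𝟙 x))
      simp))
    (fun x => Vert.id _)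
    (fun φ => fp_hom_ext ((Category.comp_id _).trans (Category.id_comp _).symm)
      ((Category.comp_id _).trans (Category.id_comp _).symm))
  have hlg := lft_diag h𝒴 h𝒵 g
  have hlq : AlgSt.RepByAlgSpWith (AlgSp.LocP @LocallyOfFiniteType) q :=
    repByAlgSpWith_of_cart _ _ _ _ hcart hlg
  -- the base change of the diagonal of `g` to `fp h h` is proper
  have hqp : AlgSt.RepByAlgSpWith AlgSp.IsProperMor q := by
    intro T z
    obtain ⟨B, e, he, hB⟩ := hlq T z
    refine ⟨B, e, he, ?_⟩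
    obtain ⟨V, c, e₂, he₂, ⟨k⟩, hc⟩ := exists_space_fp (good_surjective.inf good_univClosed).bc
      (good_surjective.inf good_univClosed).det h𝒳.isStack.1 hG.isStack.1 hd B (BasedFunctor.comp e (fpSnd z q))
    have : (BasedFunctor.id (fp f f)).toFunctor.Full := inferInstanceAs (𝟭 _).Full
    have : (BasedFunctor.id (fp f f)).toFunctor.Faithful := inferInstanceAs (𝟭 _).Faithful
    let M := fpMap (F := fpSnd z q) (G := diag f) (F' := BasedFunctor.comp e (fpSnd z q)) (G' := diag f)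
      e (BasedFunctor.id _) (BasedFunctor.id _) (Iso.refl _) (Iso.refl _)
    obtain ⟨E, hE, ⟨i⟩⟩ := exists_fp_assoc z q (diag f)
    have hVE : IsEquivOver (BasedFunctor.comp (BasedFunctor.comp e₂ M) E) :=
      isEquivOver_comp (isEquivOver_comp he₂ (fpMap_isEquivOver _ _ _ _ _ he (isEquivOver_id _))) hE
    have h1 := mem_of_rep_chart good_proper.bc good_proper.det (repByAlgSpWith_of_iso _ iq.symm hh) z V _ hVE
    rw [show AlgSt.spMapOfOver (BasedFunctor.comp (BasedFunctor.comp (BasedFunctor.comp e₂ M) E)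
      (fpFst z (BasedFunctor.comp (diag f) q))) = c.hom ≫ _ from
        (spMapOfOver_congr (Iso.trans (isoWhiskerLeft (BasedFunctor.comp e₂ M) i)
          (isoWhiskerRight k (BasedFunctor.comp e (fpFst z q))))).trans (spMapOfOver_ofSpMap_comp c.hom _)] at h1
    exact isProperMor_of_surjective (Z := ⟨_, isAlgSpace_yon T⟩) c.hom _ hc.1 hc.2 hB h1
  -- descend along `f × f`
  have h' : AlgSt.RepByAlgSpWith AlgSp.IsProperMor (fpFst (compPhi f f g) (diag g)) :=
    (repByAlgSpWith_iff_of_equiv _ _ (BasedFunctor.id _) hcart (isEquivOver_id _)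
      (f := fpFst (compPhi f f g) (diag g)) (f' := fpLift (fpFst f f) (fpSnd f f) e0)
      (Iso.refl _)).2 (repByAlgSpWith_of_iso _ (Iso.refl _) hqp)
  refine repByAlgSpWith_of_locally_lift good_proper.bc (fppfLocal_of_fpqc (Groth.Agent.S10536.result S))
    (repByAlgSp1_of_with hlg) (g := compPhi f f g) (fun U y => ?_) h'
  obtain ⟨ι, W, a, -, hcov, hl⟩ := exists_fppf_cover_lift h𝒴 PUnit.{u + 1} (fun _ => 𝒳) (fun _ => h𝒳)
    (fun _ => f) (fun _ => hf₂) (fun _ => hf₃) (fun p => ⟨⟨⟩, hf₁ p⟩) U (BasedFunctor.comp y (fpFst g g))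
  let R₁ : Sieve U := Sieve.ofArrows W a
  have hR₁ : R₁ ∈ AlgSp.J S U := by
    refine Groth.Agent.AlgSp.mem_of_cover hcov ?_
    rintro W' w' ⟨i⟩
    refine ⟨W i, Over.homMk (𝟙 _) ?_, a i, ⟨i⟩, ?_⟩
    · exact (Category.id_comp _).trans (Over.w (a i)).symm
    · exact Over.OverMorphism.ext (Category.id_comp _)
  let R : Sieve U :=
    { arrows := fun V k => ∃ z : overCat V ⥤ᵇ fp h h,
        Nonempty (BasedFunctor.comp z (compPhi f f g) ≅ BasedFunctor.comp (AlgSt.overMap k) y)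
      downward_closed := by
        rintro V V' k ⟨z, ⟨iz⟩⟩ m
        exact ⟨BasedFunctor.comp (AlgSt.overMap m) z, ⟨isoWhiskerLeft (AlgSt.overMap m) iz ≪≫
          isoWhiskerRight (overMapCompIso m k).symm y⟩⟩ }
  refine ⟨R, (AlgSp.J S).transitive hR₁ R ?_, fun V k hk => hk⟩
  rintro V k ⟨W', m, a', ⟨i⟩, rfl⟩
  obtain ⟨x₁, ⟨i₁⟩⟩ := hl i
  let k := m ≫ a i
  let x₁' := BasedFunctor.comp (AlgSt.overMap m) x₁
  let i₁' : BasedFunctor.comp x₁' f ≅ BasedFunctor.comp (BasedFunctor.comp (AlgSt.overMap k) y) (fpFst g g) :=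
    isoWhiskerLeft (AlgSt.overMap m) i₁ ≪≫
      isoWhiskerRight (overMapCompIso m (a i)).symm (BasedFunctor.comp y (fpFst g g))
  obtain ⟨ι', W₂, a₂, -, hcov₂, hl₂⟩ := exists_fppf_cover_lift h𝒴 PUnit.{u + 1} (fun _ => 𝒳) (fun _ => h𝒳)
    (fun _ => f) (fun _ => hf₂) (fun _ => hf₃) (fun p => ⟨⟨⟩, hf₁ p⟩) V
    (BasedFunctor.comp (BasedFunctor.comp (AlgSt.overMap k) y) (fpSnd g g))
  refine Groth.Agent.AlgSp.mem_of_cover hcov₂ ?_
  rintro W'' w'' ⟨j⟩
  obtain ⟨x₂, ⟨i₂⟩⟩ := hl₂ j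
  suffices key : R.arrows (a₂ j ≫ k) by
    have h0 := R.downward_closed key (Over.homMk (𝟙 _) ((Category.id_comp _).trans (Over.w (a₂ j)).symm) :
      Over.mk ((a₂ j).left ≫ V.hom) ⟶ W₂ j)
    rw [← Category.assoc] at h0
    refine (congrArg (fun l => R.arrows (l ≫ k)) ?_).mp h0
    exact Over.OverMorphism.ext (Category.id_comp _)
  let y₂ := BasedFunctor.comp (AlgSt.overMap k) y
  let x₁'' := BasedFunctor.comp (AlgSt.overMap (a₂ j)) x₁'
  let α : BasedFunctor.comp x₁'' h ≅ BasedFunctor.comp x₂ h :=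
    isoWhiskerRight (isoWhiskerLeft (AlgSt.overMap (a₂ j)) i₁') g ≪≫
      isoWhiskerLeft (BasedFunctor.comp (AlgSt.overMap (a₂ j)) y₂) (fpIso g g) ≪≫ isoWhiskerRight i₂.symm g
  refine ⟨fpLift x₁'' x₂ α, ⟨?_ ≪≫ isoWhiskerRight (overMapCompIso (a₂ j) k).symm y⟩⟩
  refine isoMk (F := BasedFunctor.comp (fpLift x₁'' x₂ α) (compPhi f f g))
    (G := BasedFunctor.comp (AlgSt.overMap (a₂ j)) y₂)
    (fun b => fpIsoMk (isoApp (isoWhiskerLeft (AlgSt.overMap (a₂ j)) i₁') b) (isoApp i₂ b) ?_)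
    (fun b => vert_fp_iff.2 (vert_isoApp (isoWhiskerLeft (AlgSt.overMap (a₂ j)) i₁') b)) (fun φ => fp_hom_ext
      (isoApp_naturality (isoWhiskerLeft (AlgSt.overMap (a₂ j)) i₁') φ) (isoApp_naturality i₂ φ))
  change g.map (isoApp (isoWhiskerLeft (AlgSt.overMap (a₂ j)) i₁') b).hom ≫ _ =
    (g.map (isoApp (isoWhiskerLeft (AlgSt.overMap (a₂ j)) i₁') b).hom ≫
      ((BasedFunctor.comp (AlgSt.overMap (a₂ j)) y₂).obj b).obj.iso.hom ≫ g.map (isoApp i₂ b).inv) ≫
        g.map (isoApp i₂ b).hom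
  simp only [Category.assoc, ← Functor.map_comp, Iso.inv_hom_id, CategoryTheory.Functor.map_id, Category.comp_id]

end Groth.Agent.StFib
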