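import Groth.Agent.StFib.DMFaithful
import Groth.Agent.StFib.DiagConv
import Groth.Agent.StFib.LocQMore
import Groth.Prelude.Def_StGerb2

/-!
# Lifting automorphisms along stabilizer preserving étale morphisms
-/

set_option linter.unusedVariables false
set_option backward.isDefEq.respectTransparency false
set_option backward.isDefEq.respectTransparency.types false

universe u

open CategoryTheory CategoryTheory.Limits AlgebraicGeometry Opposite FibCat

namespace Groth.Agent.StFib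

variable {S : Scheme.{u}} {𝒳 𝒴 : AlgSt.Cat S}

/-- An open immersion whose image contains an object at every geometric point contains the object. -/
theorem exists_preimage_of_openImm (h𝒳 : IsFibGrpd 𝒳.p) (h𝒴 : IsFibGrpd 𝒴.p) (f : 𝒳 ⥤ᵇ 𝒴)
    (h : AlgSt.IsOpenImm f) {T : Over S} (y : overCat T ⥤ᵇ 𝒴)
    (H : ∀ (Ω : Type u) [Field Ω] [IsAlgClosed Ω] (s : Spec (CommRingCat.of Ω) ⟶ S) (d : Over.mk s ⟶ T),
      ∃ (a : 𝒳.obj) (q : y.obj (Over.mk d) ≅ f.obj a), Vert q.hom) :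
    ∃ (a : 𝒳.obj) (q : f.obj a ≅ y.obj (Over.mk (𝟙 T))), Vert q.hom := by
  obtain ⟨A, e, he, ha₁⟩ := h T y
  have hM : IsFibGrpd (fp y f).p := isFibGrpd_fp (isFibGrpd_overCat T) h𝒳 h𝒴 y f
  obtain ⟨V, g, ι, hι, hg⟩ := exists_iso_yon_of_repWith @IsOpenImmersion ha₁
  let a := AlgSt.spMapOfOver (BasedFunctor.comp e (fpFst y f))
  obtain ⟨j⟩ := exists_iso_ofSpMap_toOverCat (A := A.obj) (BasedFunctor.comp e (fpFst y f))
  have hgs : Surjective g.left := ⟨fun t => by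
    let Ω := AlgebraicClosure (T.left.residueField t)
    let m : Spec (CommRingCat.of Ω) ⟶ T.left :=
      Spec.map (CommRingCat.ofHom (algebraMap (T.left.residueField t) Ω)) ≫ T.left.fromSpecResidueField t
    let d : Over.mk (m ≫ T.hom) ⟶ T := Over.homMk m rfl
    obtain ⟨a', q, hq⟩ := H Ω _ d
    have hbase : (overCat T).p.obj (Over.mk d) = 𝒳.p.obj a' :=
      ((y.w_obj _).symm.trans hq.base_eq).trans (f.w_obj a')
    let o : (fp y f).obj := fpMk (Over.mk d) a' q hq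
    obtain ⟨L, iL, hiL⟩ := exists_overFunctor hM o (rfl : (fp y f).p.obj o = Over.mk (m ≫ T.hom))
    obtain ⟨k, hk, -, ⟨jk⟩⟩ := isEquivOver_symm he
    obtain ⟨z', ⟨iz⟩⟩ := exists_iso_overMap (BasedFunctor.comp L (fpFst y f))
    have hz : z' = d := by
      let u := (isoApp iz (Over.mk (𝟙 _))).symm ≪≫ (fpFst y f).toFunctor.mapIso iL
      have hu : Vert u.hom := (vert_isoApp iz _).inv.comp (hiL.map (fpFst y f))
      obtain ⟨hb, hh⟩ := hu
      have h1 : u.hom.left = 𝟙 (Over.mk (m ≫ T.hom)) := hh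
      have hw : u.hom.left ≫ d = 𝟙 _ ≫ z' := Over.w u.hom
      rw [h1] at hw
      exact ((Category.id_comp d).symm.trans (hw.trans (Category.id_comp z'))).symm
    rw [hz] at iz
    let Φ : AlgSt.ofSch (Over.mk (m ≫ T.hom)) ⥤ᵇ AlgSt.ofSp A.obj :=
      BasedFunctor.comp (AlgSt.toOverCat _) (BasedFunctor.comp L k)
    obtain ⟨iΦ⟩ := exists_iso_pshMap (P := ((AlgSp.yon S).obj (Over.mk (m ≫ T.hom))).obj) (Q := A.obj.obj) Φ
    let m0 : (AlgSp.yon S).obj (Over.mk (m ≫ T.hom)) ⟶ A.obj := ⟨pshMap Φ⟩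
    have hm0 : m0 ≫ a = (AlgSp.yon S).map d := by
      rw [← spMapOfOver_ofSpMap_comp, ← spMapOfOver_ofSpMap_toOverCat ((AlgSp.yon S).map d)]
      exact spMapOfOver_congr (isoWhiskerRight iΦ.symm (BasedFunctor.comp e (fpFst y f)) ≪≫
        isoWhiskerLeft (BasedFunctor.comp (AlgSt.toOverCat _) L) (isoWhiskerRight jk (fpFst y f)) ≪≫
        isoWhiskerLeft (AlgSt.toOverCat _) iz ≪≫ (toOverCatIso d).symm)
    obtain ⟨s', hs'⟩ := (AlgSp.yon S).map_surjective (m0 ≫ ι.inv)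
    have he' : s' ≫ g = d := (AlgSp.yon S).map_injective (by
      rw [Functor.map_comp, hs', ← hι]
      exact (Category.assoc m0 ι.inv _).trans ((congrArg (m0 ≫ ·) (Iso.inv_hom_id_assoc ι a)).trans hm0))
    refine ⟨s'.left (IsLocalRing.closedPoint Ω), ?_⟩
    have : (s'.left ≫ g.left) (IsLocalRing.closedPoint Ω) = t := by
      rw [← Over.comp_left, he']
      exact Scheme.fromSpecResidueField_apply t _
    exact this⟩
  have : IsIso g.left := (isIso_iff_isOpenImmersion_and_surjective g.left).2 ⟨hg, hgs⟩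
  have : IsIso ((Over.forget S).map g) := ‹IsIso g.left›
  have : IsIso g := isIso_of_reflects_iso g (Over.forget S)
  have : IsIso a := by
    have e' := congrArg (ι.inv ≫ ·) hι
    simp only [Iso.inv_hom_id_assoc] at e'
    change IsIso (AlgSt.spMapOfOver (BasedFunctor.comp e (fpFst y f)))
    rw [e']
    infer_instance
  let o : (AlgSt.ofSp A.obj).obj := ⟨T, (inv a).hom.app (op T) ⟨𝟙 _⟩⟩
  let z := e.obj o
  let v := isoApp j o
  have hv : Vert v.hom := vert_isoApp j o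
  have heq : (AlgSt.toOverCat T).obj ((AlgSt.ofSpMap a).obj o) = Over.mk (𝟙 T) := by
    have h1 : a.hom.app (op T) o.sec = ⟨𝟙 _⟩ := by
      change ((inv a).hom.app _ ≫ a.hom.app _) _ = _
      rw [← NatTrans.comp_app]
      have : (inv a).hom ≫ a.hom = 𝟙 _ := congrArg (fun k => k.hom) (IsIso.inv_hom_id a)
      rw [this]
      rfl
    exact congrArg (fun t => Over.mk (ULift.down t)) h1
  let w : z.obj.fst ≅ Over.mk (𝟙 T) := v.symm ≪≫ eqToIso heq
  exact ⟨z.obj.snd, z.obj.iso.symm ≪≫ y.toFunctor.mapIso w,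
    (vert_fp_iso z).inv.comp ((hv.inv.comp (vert_eqToHom heq)).map y)⟩

/-- An étale morphism surjective on automorphisms of geometric points lifts all automorphisms. -/
theorem exists_aut_lift (h𝒳 : IsFibGrpd 𝒳.p) (h𝒴 : IsFibGrpd 𝒴.p) (h : 𝒳 ⥤ᵇ 𝒴)
    (hd : AlgSt.IsOpenImm (diag h))
    (H : ∀ (Ω : Type u) [Field Ω] [IsAlgClosed Ω] (t : Spec (CommRingCat.of Ω) ⟶ S)
      (u : 𝒳.p.Fiber (Over.mk t)), Function.Surjective (Gerb.autMap h u.1))
    (x : 𝒳.obj) (β : h.obj x ⟶ h.obj x) (hβ : Vert β) :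
    ∃ a : x ⟶ x, Vert a ∧ h.map a = β := by
  have hF : IsFibGrpd (fp h h).p := isFibGrpd_fp h𝒳 h𝒳 h𝒴 h h
  have := hβ.isIso h𝒴
  let P : (fp h h).obj := fpMk x x (asIso β) hβ
  obtain ⟨y, i, hi⟩ := exists_overFunctor hF P (rfl : (fp h h).p.obj P = 𝒳.p.obj x)
  have key := exists_preimage_of_openImm h𝒳 hF (diag h) hd y ?_
  · obtain ⟨b, q, hq⟩ := key
    let r : (diag h).obj b ≅ P := q ≪≫ i
    have hr : Vert r.hom := hq.comp hi
    have hA : Vert (fpIsoFst r).hom := vert_fp_iff.1 hr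
    have hB : Vert (fpIsoSnd r).hom := vert_fp_snd hr
    have wq : h.map (fpIsoFst r).hom ≫ β = 𝟙 _ ≫ h.map (fpIsoSnd r).hom := r.hom.hom.w
    refine ⟨(fpIsoFst r).inv ≫ (fpIsoSnd r).hom, hA.inv.comp hB, ?_⟩
    rw [Category.id_comp] at wq
    rw [Functor.map_comp, ← wq, ← Category.assoc, ← Functor.map_comp, Iso.inv_hom_id]
    exact (congrArg (· ≫ β) (h.toFunctor.map_id _)).trans (Category.id_comp β)
  intro Ω _ _ s d
  let P' := y.obj (Over.mk d)
  let φ : P' ⟶ P := y.map (Over.homMk d (Category.comp_id _) : Over.mk d ⟶ Over.mk (𝟙 _)) ≫ i.hom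
  let a1 : P'.obj.fst ⟶ x := CategoricalPullback.Hom.fst φ.hom
  let a2 : P'.obj.snd ⟶ x := CategoricalPullback.Hom.snd φ.hom
  have eP : 𝒳.p.obj P'.obj.fst = Over.mk s := y.w_obj _
  obtain ⟨α0, hα0, -⟩ := grpd_exists_vert_fac h𝒳 a2 a1 (fp_base_eq P') (by
    change eqToHom _ ≫ 𝒳.p.map φ.hom.snd = 𝒳.p.map φ.hom.fst
    rw [fp_snd_map φ]
    simp [P, fpMk])
  let β' := P'.obj.iso.hom
  let γ : h.obj P'.obj.fst ≅ h.obj P'.obj.fst := P'.obj.iso ≪≫ (h.toFunctor.mapIso α0).symm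
  have hγ : Vert γ.hom := (vert_fp_iso P').comp (hα0.map h).inv
  let γ' : Gerb.AutO (h.obj P'.obj.fst) :=
    { hom := ⟨γ.hom, hγ.isHomLift rfl⟩
      inv := ⟨γ.inv, hγ.inv.isHomLift rfl⟩
      hom_inv_id := Functor.Fiber.hom_ext γ.hom_inv_id
      inv_hom_id := Functor.Fiber.hom_ext γ.inv_hom_id }
  obtain ⟨α1, hα1⟩ := H Ω s ⟨P'.obj.fst, eP⟩ γ'
  have h1 : h.map α1.hom.1 = γ.hom := congrArg (fun (t : Gerb.AutO (h.obj P'.obj.fst)) => t.hom.1) hα1
  have hv1 : Vert α1.hom.1 := vert_of_isHomLift α1.hom.2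
  have := hv1.isIso h𝒳
  let α : P'.obj.fst ≅ P'.obj.snd := asIso α1.hom.1 ≪≫ α0
  have hα : Vert α.hom := hv1.comp hα0
  have h2 : h.map α.hom = β' := by
    change h.map (α1.hom.1 ≫ α0.hom) = β'
    rw [h.toFunctor.map_comp, h1]
    change (β' ≫ h.map α0.inv) ≫ h.map α0.hom = β'
    rw [Category.assoc, ← h.toFunctor.map_comp, Iso.inv_hom_id, h.toFunctor.map_id, Category.comp_id]
  refine ⟨P'.obj.fst, fpIsoMk (Iso.refl _) α.symm ?_, vert_fp_iff.2 (Vert.id _)⟩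
  change h.map (𝟙 _) ≫ 𝟙 _ = β' ≫ h.map α.inv
  rw [← h2, ← h.toFunctor.map_comp, Iso.hom_inv_id, Category.comp_id]

end Groth.Agent.StFib
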