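import Groth.Agent.StFib.AtlasProps
import Groth.Agent.AlgSp.DescentRep
import Groth.Agent.AlgSp.Diag
import Groth.Agent.AlgSpCov.LocPBasic
import Mathlib.AlgebraicGeometry.Morphisms.FormallyUnramified
import Mathlib.AlgebraicGeometry.Morphisms.FlatMono

/-!
# The diagonal of an unramified space over a scheme is an open immersion
-/

set_option linter.unusedVariables false
set_option backward.isDefEq.respectTransparency false
set_option backward.isDefEq.respectTransparency.types false

universe u

open CategoryTheory CategoryTheory.Limits AlgebraicGeometry Opposite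

namespace Groth.Agent.StFib

open _root_.AlgSp

variable {S : Scheme.{u}}

theorem etale_hasOfPostcompProperty_unramified :
    MorphismProperty.HasOfPostcompProperty @Etale
      (@LocallyOfFiniteType ⊓ @FormallyUnramified : MorphismProperty Scheme.{u}) := by
  rw [MorphismProperty.hasOfPostcompProperty_iff_le_diagonal]
  intro X Y f hf
  have := hf.1
  have := hf.2
  exact inferInstanceAs (Etale (pullback.diagonal f))

theorem repWith_diagonal_openImm {A : Sp S} (hA : IsAlgSpace A) {T : Over S} (a : A ⟶ (yon S).obj T)
    (h : LocP (@LocallyOfFiniteType ⊓ @FormallyUnramified) a) : RepWith @IsOpenImmersion (pullback.diagonal a) := by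
  obtain ⟨U, α, hα, hαs⟩ := hA.atlas
  obtain ⟨k, hk⟩ := (yon S).map_surjective (α ≫ a)
  have hku : (@LocallyOfFiniteType ⊓ @FormallyUnramified : MorphismProperty Scheme.{u}) k.left :=
    h α (𝟙 _) k hα (repWith_id _ T) (by rw [Category.comp_id]; exact hk.symm)
  have := hku.1
  have := hku.2
  have sqK := (IsPullback.of_hasPullback k k).map (yon S)
  let p₁ := (yon S).map (pullback.fst k k)
  let p₂ := (yon S).map (pullback.snd k k)
  let j : (yon S).obj (pullback k k) ⟶ pullback a a :=
    sqK.isoPullback.hom ≫ pullback.map ((yon S).map k) ((yon S).map k) a a α α (𝟙 _) (by simpa using hk) (by simpa using hk)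
  have := repWith_isMultiplicative (S := S) (@Etale : MorphismProperty Scheme.{u})
  have := repWith_isMultiplicative (S := S) (@Surjective : MorphismProperty Scheme.{u})
  have hj : RepWith @Etale j := (MorphismProperty.cancel_left_of_respectsIso (RepWith @Etale) _ _).2
    (MorphismProperty.pullbackMap (P := RepWith @Etale) (f := (yon S).map k) (g := (yon S).map k) (f' := a) (g' := a)
      hα hα hk hk)
  have hjs : RepWith @Surjective j := (MorphismProperty.cancel_left_of_respectsIso (RepWith @Surjective) _ _).2
    (MorphismProperty.pullbackMap (P := RepWith @Surjective) (f := (yon S).map k) (g := (yon S).map k) (f' := a) (g' := a)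
      hαs hαs hk hk)
  have hj1 : j ≫ pullback.fst a a = p₁ ≫ α := by simp [j, p₁]
  have hj2 : j ≫ pullback.snd a a = p₂ ≫ α := by simp [j, p₂]
  have : Sheaf.IsLocallySurjective j := Groth.Agent.AlgSp.isLocallySurjective_of_etale_surjective j hj hjs
  have sq := IsPullback.of_hasPullback (pullback.diagonal a) j
  let b' := pullback.fst (pullback.diagonal a) j
  let a' := pullback.snd (pullback.diagonal a) j
  refine Groth.Agent.AlgSp.repWith_isOpenImmersion_of_baseChange _ j sq ?_
  have hmono : RepWith (MorphismProperty.monomorphisms Scheme.{u}) a' :=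
    MorphismProperty.of_isPullback sq (Groth.Agent.AlgSp.repWith_diagonal hA a _ fun _ _ hm => hm)
  obtain ⟨W, g, ι, hι, hg⟩ := exists_iso_yon_of_repWith _ hmono
  have : Mono g.left := hg
  have e₁ : (a' ≫ p₁) ≫ α = b' := by
    rw [Category.assoc, ← hj1, ← Category.assoc, ← sq.w, Category.assoc]
    exact (congrArg (b' ≫ ·) (pullback.diagonal_fst a)).trans (Category.comp_id _)
  have e₂ : (a' ≫ p₂) ≫ α = b' := by
    rw [Category.assoc, ← hj2, ← Category.assoc, ← sq.w, Category.assoc]
    exact (congrArg (b' ≫ ·) (pullback.diagonal_snd a)).trans (Category.comp_id _)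
  have hw : ∀ (s : PullbackCone α α), s.fst ≫ (yon S).map k = s.snd ≫ (yon S).map k := fun s => by
    rw [hk, ← Category.assoc, s.condition, Category.assoc]
  have hc : ∀ (s : PullbackCone α α), (s.fst ≫ α) ≫ pullback.diagonal a = sqK.lift s.fst s.snd (hw s) ≫ j := by
    intro s
    apply pullback.hom_ext
    · rw [Category.assoc, pullback.diagonal_fst, Category.comp_id, Category.assoc, hj1, ← Category.assoc]
      exact (congrArg (· ≫ α) (sqK.lift_fst _ _ _)).symm
    · rw [Category.assoc, pullback.diagonal_snd, Category.comp_id, Category.assoc, hj2, ← Category.assoc]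
      exact s.condition.trans (congrArg (· ≫ α) (sqK.lift_snd _ _ _)).symm
  have sqQ : IsPullback (a' ≫ p₁) (a' ≫ p₂) α α := by
    refine IsPullback.of_isLimit (c := PullbackCone.mk (a' ≫ p₁) (a' ≫ p₂) (e₁.trans e₂.symm)) ?_
    refine PullbackCone.IsLimit.mk _ (fun s => sq.lift _ _ (hc s)) (fun s => ?_) (fun s => ?_) fun s l h1 h2 => ?_
    · rw [← Category.assoc, sq.lift_snd]; exact sqK.lift_fst _ _ _
    · rw [← Category.assoc, sq.lift_snd]; exact sqK.lift_snd _ _ _
    · refine sq.hom_ext ?_ ?_
      · rw [sq.lift_fst, ← h1, Category.assoc, e₁]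
      · rw [sq.lift_snd]
        refine sqK.hom_ext ?_ ?_
        · rw [sqK.lift_fst, Category.assoc]; exact h1
        · rw [sqK.lift_snd, Category.assoc]; exact h2
  have h1 : RepWith @Etale (a' ≫ p₁) := MorphismProperty.of_isPullback sqQ.flip hα
  have h2 : Etale (g ≫ pullback.fst k k).left := (repWith_yon_map_iff _ _).1 (by
    rw [Functor.map_comp, ← hι, Category.assoc]
    exact (MorphismProperty.cancel_left_of_respectsIso (RepWith @Etale) _ _).2 h1)
  have sqF := (IsPullback.of_hasPullback k k).map (Over.forget S)
  have hfst : (@LocallyOfFiniteType ⊓ @FormallyUnramified : MorphismProperty Scheme.{u}) (pullback.fst k k).left :=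
    MorphismProperty.of_isPullback sqF.flip hku
  have := etale_hasOfPostcompProperty_unramified.{u}
  have : Etale g.left := MorphismProperty.of_postcomp @Etale
    (W' := (@LocallyOfFiniteType ⊓ @FormallyUnramified : MorphismProperty Scheme.{u})) g.left _ hfst h2
  have hgo : IsOpenImmersion g.left := IsOpenImmersion.of_flat_of_mono g.left
  have := (repWith_yon_map_iff (@IsOpenImmersion) g).2 hgo
  rw [← hι] at this
  exact (MorphismProperty.cancel_left_of_respectsIso (RepWith @IsOpenImmersion) _ _).1 this

end Groth.Agent.StFib
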