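import Groth.Agent.StFib.Stack
import Groth.Agent.StFib.Yoneda

/-!
# Stack conditions in terms of gluing morphisms and objects
-/

set_option linter.unusedVariables false
set_option backward.isDefEq.respectTransparency false
set_option backward.isDefEq.respectTransparency.types false

universe v u v₂ u₂

open CategoryTheory FibCat

namespace Groth.Agent.StFib

variable {C : Type u} [Category.{v} C] {𝒳 : BasedCategory.{v₂, u₂} C}

/-- Prestack condition: a family of morphisms out of a covering family of pullbacks glues uniquely. -/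
def MorGlue (𝒳 : BasedCategory.{v₂, u₂} C) {U : C} (R : Sieve U) : Prop :=
  ∀ (A A' : 𝒳.obj) (hA : 𝒳.p.obj A = U) (hA' : 𝒳.p.obj A' = U)
    (ν : ∀ (B : 𝒳.obj) (m : B ⟶ A), R (𝒳.p.map m ≫ eqToHom hA) → (B ⟶ A')),
    (∀ B m hm, 𝒳.p.map (ν B m hm) ≫ eqToHom hA' = 𝒳.p.map m ≫ eqToHom hA) →
    (∀ B B' (k : B ⟶ B') (m' : B' ⟶ A) hm' (hm : R (𝒳.p.map (k ≫ m') ≫ eqToHom hA)),
      ν B (k ≫ m') hm = k ≫ ν B' m' hm') →
    ∃! θ : A ⟶ A', Vert θ ∧ ∀ B m hm, m ≫ θ = ν B m hm

/-- Effectivity: a compatible family on a sieve comes from one object. -/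
def ObjGlue (𝒳 : BasedCategory.{v₂, u₂} C) {U : C} (R : Sieve U) : Prop :=
  ∀ Φ : Stk.sieveCat R ⥤ᵇ 𝒳, ∃ (A : 𝒳.obj) (hA : 𝒳.p.obj A = U) (μ : ∀ a, Φ.obj a ⟶ A),
    (∀ a, 𝒳.p.map (μ a) ≫ eqToHom hA = eqToHom (Φ.w_obj a) ≫ a.obj.hom) ∧
    ∀ a b (φ : a ⟶ b), Φ.map φ ≫ μ b = μ a

theorem isStackFor_of_glue (h : IsFibGrpd 𝒳.p) {U : C} (R : Sieve U) (hm : MorGlue 𝒳 R)
    (ho : ObjGlue 𝒳 R) : Stk.IsStackFor R 𝒳 := by
  let top : (overCat U).obj := Over.mk (𝟙 U)
  have hbase : ∀ (G : overCat U ⥤ᵇ 𝒳) (g : (overCat U).obj),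
      𝒳.p.map (G.map (overToId g)) ≫ eqToHom (G.w_obj top) = eqToHom (G.w_obj g) ≫ g.hom := fun G g => by
    rw [w_map, Category.assoc, Category.assoc, eqToHom_trans, eqToHom_refl]
    exact congrArg (_ ≫ ·) (Category.comp_id g.hom)
  -- gluing for a given sieve family
  have key : ∀ (F G : overCat U ⥤ᵇ 𝒳) (α : BasedFunctor.comp (Stk.sieveIncl R) F ⟶ BasedFunctor.comp (Stk.sieveIncl R) G),
      ∃! β : F ⟶ G, (Stk.resSieve R 𝒳).map β = α := by
    intro F G α
    have hex : ∀ (B : 𝒳.obj) (m : B ⟶ F.obj top), R (𝒳.p.map m ≫ eqToHom (F.w_obj top)) →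
        ∃ (a : (Stk.sieveCat R).obj) (χ : B ⟶ F.obj a.obj), Vert χ ∧ χ ≫ F.map (overToId a.obj) = m := by
      intro B m hR
      let a : (Stk.sieveCat R).obj := ⟨Over.mk (𝒳.p.map m ≫ eqToHom (F.w_obj top)), hR⟩
      obtain ⟨χ, hχ, hχm⟩ := grpd_exists_vert_fac h (F.map (overToId a.obj)) m (F.w_obj a.obj).symm (by
        rw [← cancel_mono (eqToHom (F.w_obj top)), Category.assoc, hbase]
        exact (eqToHom_trans_assoc _ _ _).trans (Category.id_comp _))
      exact ⟨a, χ.hom, hχ, hχm⟩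
    choose ob χ hχ hχm using hex
    let ν : ∀ (B : 𝒳.obj) (m : B ⟶ F.obj top), R (𝒳.p.map m ≫ eqToHom (F.w_obj top)) → (B ⟶ G.obj top) :=
      fun B m hR => χ B m hR ≫ α.toNatTrans.app (ob B m hR) ≫ G.map (overToId (ob B m hR).obj)
    -- the family does not depend on the factorization
    have hν : ∀ B m hR (a : (Stk.sieveCat R).obj) (k : B ⟶ F.obj a.obj), k ≫ F.map (overToId a.obj) = m →
        ν B m hR = k ≫ α.toNatTrans.app a ≫ G.map (overToId a.obj) := by
      intro B m hR a k hk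
      let a₀ := ob B m hR
      have e1 : 𝒳.p.map (χ B m hR ≫ F.map (overToId a₀.obj)) ≫ eqToHom (F.w_obj top) =
          𝒳.p.map (k ≫ F.map (overToId a.obj)) ≫ eqToHom (F.w_obj top) := by rw [hχm, hk]
      rw [Functor.map_comp, Functor.map_comp, Category.assoc, Category.assoc, hbase, hbase] at e1
      have hv := (hχ B m hR).base_eq
      let g : a₀.obj.left ⟶ a.obj.left :=
        eqToHom (hv.trans (F.w_obj a₀.obj)).symm ≫ 𝒳.p.map k ≫ eqToHom (F.w_obj a.obj)
      let φ₀ : a₀.obj ⟶ a.obj := Over.homMk g (by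
        change g ≫ a.obj.hom = a₀.obj.hom
        rw [(hχ B m hR).2] at e1
        simp only [g, Category.assoc, ← e1, eqToHom_trans_assoc, eqToHom_refl, Category.id_comp]
        rfl)
      let φ : a₀ ⟶ a := ObjectProperty.homMk φ₀
      have hk' : k = χ B m hR ≫ F.map φ₀ := by
        apply grpd_cancel h (F.map (overToId a.obj))
        · rw [hk, Category.assoc, ← F.toFunctor.map_comp,
            show φ₀ ≫ overToId a.obj = overToId a₀.obj from Over.OverMorphism.ext (over_w φ₀), hχm]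
        · rw [Functor.map_comp, (hχ B m hR).2, w_map]
          change _ = eqToHom _ ≫ eqToHom _ ≫ g ≫ eqToHom _
          simp [g]
      have hn : F.map φ₀ ≫ α.toNatTrans.app a = α.toNatTrans.app a₀ ≫ G.map φ₀ := α.toNatTrans.naturality φ
      rw [hk', Category.assoc, reassoc_of% hn, ← G.toFunctor.map_comp,
        show φ₀ ≫ overToId a.obj = overToId a₀.obj from Over.OverMorphism.ext (over_w φ₀)]
    obtain ⟨θ, ⟨hθv, hθ⟩, hθu⟩ := hm (F.obj top) (G.obj top) (F.w_obj top) (G.w_obj top) ν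
      (fun B m hR => by
        let a := ob B m hR
        have hα := vert_app α a
        calc _ = 𝒳.p.map (χ B m hR) ≫ 𝒳.p.map (α.toNatTrans.app a) ≫
            (𝒳.p.map (G.map (overToId a.obj)) ≫ eqToHom (G.w_obj top)) := by
              simp [ν, a]
          _ = 𝒳.p.map (χ B m hR) ≫ eqToHom (F.w_obj a.obj) ≫ a.obj.hom := by
              refine (congrArg (fun z => 𝒳.p.map (χ B m hR) ≫ 𝒳.p.map (α.toNatTrans.app a) ≫ z) (hbase G a.obj)).trans ?_
              rw [hα.2]; exact congrArg (𝒳.p.map (χ B m hR) ≫ ·) (eqToHom_trans_assoc _ _ _)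
          _ = 𝒳.p.map (χ B m hR ≫ F.map (overToId a.obj)) ≫ eqToHom (F.w_obj top) := by
              rw [Functor.map_comp, Category.assoc, hbase]
          _ = _ := by rw [hχm])
      (fun B B' k m' hR' hR => (hν B (k ≫ m') hR (ob B' m' hR') (k ≫ χ B' m' hR')
        (by rw [Category.assoc, hχm])).trans (by simp [ν]))
    have := hθv.isIso h
    have hmem : ∀ a : (Stk.sieveCat R).obj, R (𝒳.p.map (F.map (overToId a.obj)) ≫ eqToHom (F.w_obj top)) := fun a => by
      rw [hbase]; exact R.downward_closed a.property _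
    obtain ⟨β, hβ⟩ := exists_overIso h F G (asIso θ) hθv
    have hrest : ∀ (β : F ⟶ G), β.toNatTrans.app top = θ → (Stk.resSieve R 𝒳).map β = α := fun β hβ =>
      based_hom_ext fun a => by
        change β.toNatTrans.app a.obj = _
        apply grpd_cancel h (G.map (overToId a.obj))
        · have n := β.toNatTrans.naturality (overToId a.obj)
          rw [← n, show β.toNatTrans.app _ = θ from hβ, hθ _ _ (hmem a)]
          exact (hν _ _ (hmem a) a (𝟙 _) (Category.id_comp _)).trans (Category.id_comp _)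
        · exact (vert_app β a.obj).2.trans (vert_app α a).2.symm
    refine ⟨β.hom, hrest _ hβ, fun β' hβ' => ?_⟩
    have h2 : β'.toNatTrans.app top = θ := hθu _ ⟨vert_app β' top, fun B m hR => by
      let a := ob B m hR
      have n := β'.toNatTrans.naturality (overToId a.obj)
      calc m ≫ β'.toNatTrans.app top = χ B m hR ≫ F.map (overToId a.obj) ≫ β'.toNatTrans.app top := by
            rw [← Category.assoc, hχm]
        _ = χ B m hR ≫ β'.toNatTrans.app a.obj ≫ G.map (overToId a.obj) := by rw [← n]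
        _ = _ := by
          have : β'.toNatTrans.app a.obj = α.toNatTrans.app a :=
            congrArg (fun t : BasedFunctor.comp (Stk.sieveIncl R) F ⟶ _ => t.toNatTrans.app a) hβ'
          rw [this]⟩
    refine based_hom_ext fun g => ?_
    apply grpd_cancel h (G.map (overToId g))
    · rw [← β'.toNatTrans.naturality, ← β.hom.toNatTrans.naturality]
      exact congrArg (F.map (overToId g) ≫ ·) (h2.trans hβ.symm)
    · exact (vert_app β' g).2.trans (vert_app β.hom g).2.symm
  have hff : (Stk.resSieve R 𝒳).Full ∧ (Stk.resSieve R 𝒳).Faithful :=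
    ⟨⟨fun {F G} α => ⟨_, (key F G α).exists.choose_spec⟩⟩,
      ⟨fun {F G β β'} e => (key F G _).unique e rfl⟩⟩
  have := hff.1
  have := hff.2
  have : (Stk.resSieve R 𝒳).EssSurj := ⟨fun Φ => by
    obtain ⟨A, hA, μ, hμ, hμn⟩ := ho Φ
    obtain ⟨y, i, hi⟩ := exists_overFunctor h A hA
    have H : ∀ a : (Stk.sieveCat R).obj, ∃ χ : y.obj a.obj ≅ Φ.obj a, Vert χ.hom ∧
        χ.hom ≫ μ a = y.map (overToId a.obj) ≫ i.hom := fun a =>
      grpd_exists_vert_fac h (μ a) (y.map (overToId a.obj) ≫ i.hom)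
        ((y.w_obj a.obj).trans (Φ.w_obj a).symm) (by
          rw [Functor.map_comp, hi.2, ← cancel_mono (eqToHom hA), Category.assoc, hμ, Category.assoc,
            eqToHom_trans, hbase]
          exact eqToHom_trans_assoc _ _ _)
    choose χ hχ hχc using H
    refine ⟨y, ⟨isoMk χ hχ fun {a b} φ => ?_⟩⟩
    apply grpd_cancel h (μ b)
    · change (y.map φ.hom ≫ (χ b).hom) ≫ μ b = ((χ a).hom ≫ Φ.map φ) ≫ μ b
      rw [Category.assoc, Category.assoc, hμn, hχc, hχc, ← Category.assoc, ← y.toFunctor.map_comp,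
        show φ.hom ≫ overToId b.obj = overToId a.obj from Over.OverMorphism.ext (over_w φ.hom)]
    · change 𝒳.p.map (y.map φ.hom ≫ (χ b).hom) = 𝒳.p.map ((χ a).hom ≫ Φ.map φ)
      rw [Functor.map_comp, Functor.map_comp, w_map, w_map, (hχ a).2, (hχ b).2]
      simp
      rfl⟩
  exact { }

end Groth.Agent.StFib
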