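import Groth.Agent.StFib.YonGlue
import Groth.Agent.StFib.StackCrit
import Groth.Prelude.Def_AlgSt6

/-!
# Quotient stacks with sheaf torsors: fibred in groupoids, morphisms glue
-/

set_option linter.unusedVariables false
set_option backward.isDefEq.respectTransparency false
set_option backward.isDefEq.respectTransparency.types false

universe u

open CategoryTheory CategoryTheory.Limits AlgebraicGeometry Opposite MonoidalCategory CartesianMonoidalCategory
  MonObj FibCat

namespace Groth.Agent.StFib.SpTors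

variable {S : Scheme.{u}} {B : AlgSp.Sp S} {G : Over B} [GrpObj G] {X : Over B} {aX : AlgSp.GAction G X}

local notation "K" => Scheme.fppfPrecoverage

open Groth.Agent.StFib

/-- The arrows over which a map has a section. -/
def secSieve {T : Over S} {P : AlgSp.Sp S} (π : P ⟶ (AlgSp.yon S).obj T) : Sieve T where
  arrows V f := ∃ s : (AlgSp.yon S).obj V ⟶ P, s ≫ π = (AlgSp.yon S).map f
  downward_closed := fun {V W} f ⟨s, hs⟩ g => ⟨(AlgSp.yon S).map g ≫ s, by rw [Category.assoc, hs, Functor.map_comp]⟩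

theorem hasSecLoc_iff {T : Over S} {P : AlgSp.Sp S} (π : P ⟶ (AlgSp.yon S).obj T) :
    AlgSt.HasSecLoc K π ↔ secSieve π ∈ AlgSp.J S T := by
  refine ⟨fun ⟨R, hR, h⟩ => Groth.Agent.AlgSp.mem_of_cover hR fun W g hg => h g hg, fun h => ?_⟩
  obtain ⟨R, hR, hle⟩ := Groth.Agent.AlgSp.exists_cover_of_mem h
  exact ⟨R, hR, fun T' f hf => hle f hf⟩

theorem exists_pull (A : AlgSt.SpQuotObj K G aX) {V : Over S} (f : V ⟶ A.base) :
    ∃ (B' : AlgSt.SpQuotObj K G aX) (e : B'.base = V) (m : B' ⟶ A), m.base = eqToHom e ≫ f := by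
  let f' := AlgSt.bHom (b := (AlgSp.yon S).map f ≫ A.b) f rfl
  have sq := IsPullback.of_hasPullback A.π f'
  let p₁ := pullback.fst A.π f'
  let p₂ := pullback.snd A.π f'
  have hout : IsPullback ((G ◁ p₁) ≫ A.act.act) (snd G (pullback A.π f')) A.π (p₁ ≫ A.π) :=
    (AlgSt.isPullback_whiskerLeft' p₁).paste_horiz A.cart
  let act' : G ⊗ pullback A.π f' ⟶ pullback A.π f' :=
    pullback.lift ((G ◁ p₁) ≫ A.act.act) (snd G _ ≫ p₂) (by rw [hout.w, Category.assoc, pullback.condition])
  have h1 : act' ≫ p₁ = (G ◁ p₁) ≫ A.act.act := pullback.lift_fst _ _ _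
  have h2 : act' ≫ p₂ = snd G _ ≫ p₂ := pullback.lift_snd _ _ _
  refine ⟨
    { base := V
      b := (AlgSp.yon S).map f ≫ A.b
      P := pullback A.π f'
      act :=
        { act := act'
          one_act := by
            apply pullback.hom_ext
            · rw [Category.assoc, h1, ← whisker_exchange_assoc, A.act.one_act, leftUnitor_naturality]
            · rw [Category.assoc, h2, whiskerRight_snd_assoc, leftUnitor_hom]
          mul_act := by
            apply pullback.hom_ext
            · change (_ ≫ act') ≫ p₁ = (_ ≫ _ ≫ act') ≫ p₁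
              simp only [Category.assoc, h1]
              rw [← whisker_exchange_assoc, A.act.mul_act, ← MonoidalCategory.whiskerLeft_comp_assoc, h1,
                MonoidalCategory.whiskerLeft_comp, Category.assoc, associator_naturality_right_assoc]
            · change (_ ≫ act') ≫ p₂ = (_ ≫ _ ≫ act') ≫ p₂
              simp only [Category.assoc, h2, whiskerRight_snd_assoc]
              rw [whiskerLeft_snd_assoc, h2, associator_hom_snd_snd_assoc] }
      π := p₂
      cart := by
        refine IsPullback.of_right ?_ h2 sq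
        rw [h1, ← pullback.condition]
        exact hout
      loc := by
        rw [hasSecLoc_iff]
        refine GrothendieckTopology.superset_covering _ ?_
          ((AlgSp.J S).pullback_stable f ((hasSecLoc_iff _).1 A.loc))
        rintro W g ⟨s, hs⟩
        have sqf := sq.map (Over.forget B)
        exact ⟨sqf.lift s ((AlgSp.yon S).map g) (by
          change s ≫ A.π.left = (AlgSp.yon S).map g ≫ (AlgSp.yon S).map f
          rw [hs, Functor.map_comp]), sqf.lift_snd _ _ _⟩
      φ := p₁ ≫ A.φ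
      eqv := by
        rw [reassoc_of% h1, A.eqv, ← MonoidalCategory.whiskerLeft_comp_assoc] }, rfl,
    { base := f, wb := rfl, top := p₁, eqv := h1, cart := sq, wφ := rfl }, by simp⟩

theorem exists_fac {y x z : AlgSt.SpQuotObj K G aX} (φ : y ⟶ x) (ψ : z ⟶ x) (g : z.base ⟶ y.base)
    (hg : g ≫ φ.base = ψ.base) : ∃ χ : z ⟶ y, χ.base = g ∧ χ ≫ φ = ψ := by
  have wb : (AlgSp.yon S).map g ≫ y.b = z.b := by
    rw [← φ.wb, ← Category.assoc, ← Functor.map_comp, hg, ψ.wb]
  have hb : AlgSt.bHom g wb ≫ AlgSt.bHom φ.base φ.wb = AlgSt.bHom ψ.base ψ.wb := by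
    refine Over.OverMorphism.ext ?_
    change (AlgSp.yon S).map g ≫ (AlgSp.yon S).map φ.base = (AlgSp.yon S).map ψ.base
    rw [← Functor.map_comp, hg]
  obtain ⟨top, h1, h2⟩ := φ.cart.exists_lift ψ.top (z.π ≫ AlgSt.bHom g wb) (by
    rw [Category.assoc, hb, ψ.cart.w])
  refine ⟨{ base := g, wb := wb, top := top, eqv := ?_, cart := ?_, wφ := ?_ }, rfl,
    AlgSt.SpQuotObj.hom_ext hg h1⟩
  · apply φ.cart.hom_ext
    · rw [Category.assoc, Category.assoc, h1, φ.eqv, ← MonoidalCategory.whiskerLeft_comp_assoc, h1, ψ.eqv]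
    · rw [Category.assoc, Category.assoc, h2, y.cart.w, whiskerLeft_snd_assoc, h2, ← Category.assoc, z.cart.w,
        Category.assoc]
  · refine IsPullback.of_right ?_ h2 φ.cart
    rw [h1, hb]
    exact ψ.cart
  · rw [← φ.wφ, ← Category.assoc, h1, ψ.wφ]

theorem hom_ext_of_cart {y x z : AlgSt.SpQuotObj K G aX} (φ : y ⟶ x) {χ χ' : z ⟶ y}
    (hb : χ.base = χ'.base) (h : χ ≫ φ = χ' ≫ φ) : χ = χ' := by
  refine AlgSt.SpQuotObj.hom_ext hb (φ.cart.hom_ext (congrArg (fun k => k.top) h) ?_)
  rw [χ.cart.w, χ'.cart.w]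
  exact congrArg (z.π ≫ ·) (Over.OverMorphism.ext (congrArg (AlgSp.yon S).map hb))

theorem isFibGrpd : IsFibGrpd (AlgSt.SpQuotSt K G aX).p where
  exists_lift {x V} f := by
    obtain ⟨B', e, m, hm⟩ := exists_pull x f
    refine ⟨B', m, IsHomLift.of_fac' _ _ _ e rfl ?_⟩
    change m.base = eqToHom e ≫ f ≫ eqToHom rfl
    rw [hm, eqToHom_refl, Category.comp_id]
  isStronglyCartesian {y x} φ :=
    { universal_property' := fun {z} g ψ hψ => by
        have hg : g ≫ φ.base = ψ.base :=
          IsHomLift.eq_of_isHomLift (AlgSt.SpQuotSt K G aX).p (g ≫ (AlgSt.SpQuotSt K G aX).p.map φ) ψ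
        obtain ⟨χ, hχ, hχφ⟩ := exists_fac φ ψ g hg
        refine ⟨χ, ⟨?_, hχφ⟩, ?_⟩
        · subst hχ
          exact IsHomLift.map (AlgSt.SpQuotSt K G aX).p χ
        · rintro χ' ⟨hl, hc⟩
          exact hom_ext_of_cart φ
            ((IsHomLift.eq_of_isHomLift (AlgSt.SpQuotSt K G aX).p g χ').symm.trans hχ.symm) (hc.trans hχφ.symm) }

theorem morGlue {U : Over S} (R : Sieve U) (hR : R ∈ AlgSp.J S U) : MorGlue (AlgSt.SpQuotSt K G aX) R := by
  intro A A' hA hA' ν hνb hνn
  subst hA
  have hbase : ∀ C m hm, (ν C m hm).base ≫ eqToHom hA' = m.base := fun C m hm => by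
    refine (hνb C m hm).trans ?_
    exact Category.comp_id _
  let e : A.base ⟶ A'.base := eqToHom hA'.symm
  have hbe : ∀ C m hm, (ν C m hm).base = m.base ≫ e := fun C m hm => by
    rw [← hbase C m hm, Category.assoc, eqToHom_trans, eqToHom_refl, Category.comp_id]
  -- the value at a point lying over the sieve
  have hmem : ∀ {C : AlgSt.SpQuotObj K G aX} (m : C ⟶ A) {V : Over S} (l : (AlgSp.yon S).obj V ⟶ C.P.left)
      (t : V ⟶ C.base), l ≫ C.π.left = (AlgSp.yon S).map t →
      l ≫ m.top.left ≫ A.π.left = (AlgSp.yon S).map (t ≫ m.base) := fun {C} m {V} l t ht => by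
    have := congrArg (fun k => k.left) m.cart.w
    simp only [Over.comp_left] at this
    rw [this, ← Category.assoc, ht, Functor.map_comp]
    rfl
  have hex : ∀ {V : Over S} (t : V ⟶ A.base) (ht : R t) (p : (AlgSp.yon S).obj V ⟶ A.P.left),
      p ≫ A.π.left = (AlgSp.yon S).map t → ∃ q : (AlgSp.yon S).obj V ⟶ A'.P.left,
        ∀ (C : AlgSt.SpQuotObj K G aX) (m : C ⟶ A) (hm : R (m.base ≫ eqToHom rfl)) (l : (AlgSp.yon S).obj V ⟶ C.P.left),
          l ≫ m.top.left = p → l ≫ (ν C m hm).top.left = q := by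
    intro V t ht p hp
    obtain ⟨C₀, e₀, m₀, hm₀⟩ := exists_pull A t
    have hmR : R (m₀.base ≫ eqToHom rfl) := by
      rw [eqToHom_refl, Category.comp_id, hm₀]; exact R.downward_closed ht _
    have sq := m₀.cart.map (Over.forget B)
    obtain ⟨l₀, hl₀, hl₀'⟩ := sq.exists_lift p ((AlgSp.yon S).map (eqToHom e₀.symm)) (by
      change p ≫ A.π.left = _ ≫ (AlgSp.yon S).map m₀.base
      rw [hp, ← Functor.map_comp, hm₀, eqToHom_trans_assoc, eqToHom_refl, Category.id_comp])
    refine ⟨l₀ ≫ (ν C₀ m₀ hmR).top.left, fun C m hm l hl => ?_⟩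
    obtain ⟨k, hk⟩ := (AlgSp.yon S).map_surjective (l ≫ C.π.left)
    have hkt : k ≫ m.base = t := (AlgSp.yon S).map_injective (by rw [← hmem m l k hk.symm, reassoc_of% hl, hp])
    obtain ⟨χ, hχ, hχm⟩ := exists_fac m m₀ (eqToHom e₀ ≫ k) (by rw [Category.assoc, hkt, hm₀])
    have hlχ : l₀ ≫ χ.top.left = l := by
      apply (m.cart.map (Over.forget B)).hom_ext
      · change (l₀ ≫ χ.top.left) ≫ m.top.left = l ≫ m.top.left
        rw [Category.assoc, ← Over.comp_left, ← AlgSt.SpQuotObj.comp_top, hχm, hl]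
        exact hl₀
      · change (l₀ ≫ χ.top.left) ≫ C.π.left = l ≫ C.π.left
        have := congrArg (fun k => k.left) χ.cart.w
        simp only [Over.comp_left] at this
        rw [Category.assoc, this, ← Category.assoc]
        change (l₀ ≫ C₀.π.left) ≫ (AlgSp.yon S).map χ.base = _
        rw [show l₀ ≫ C₀.π.left = _ from hl₀', hχ, ← Functor.map_comp, eqToHom_trans_assoc, eqToHom_refl,
          Category.id_comp, hk]
    subst hχm
    rw [hνn C₀ C χ m hm hmR, AlgSt.SpQuotObj.comp_top, Over.comp_left, ← Category.assoc, hlχ]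
  choose val hval using @hex
  have hvalπ : ∀ {V : Over S} (t : V ⟶ A.base) (ht : R t) p (hp : p ≫ A.π.left = (AlgSp.yon S).map t),
      val t ht p hp ≫ A'.π.left = (AlgSp.yon S).map (t ≫ e) := by
    intro V t ht p hp
    obtain ⟨C, ec, m, hm⟩ := exists_pull A t
    have hmR : R (m.base ≫ eqToHom rfl) := by
      rw [eqToHom_refl, Category.comp_id, hm]; exact R.downward_closed ht _
    obtain ⟨l, hl, hl'⟩ := (m.cart.map (Over.forget B)).exists_lift p ((AlgSp.yon S).map (eqToHom ec.symm)) (by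
      change p ≫ A.π.left = _ ≫ (AlgSp.yon S).map m.base
      rw [hp, ← Functor.map_comp, hm, eqToHom_trans_assoc, eqToHom_refl, Category.id_comp])
    have := congrArg (fun k => k.left) (ν C m hmR).cart.w
    simp only [Over.comp_left] at this
    rw [← hval t ht p hp C m hmR l hl, Category.assoc, this, ← Category.assoc,
      show l ≫ C.π.left = _ from hl']
    change (AlgSp.yon S).map _ ≫ (AlgSp.yon S).map (ν C m hmR).base = _
    rw [← Functor.map_comp, hbe, hm, Category.assoc, eqToHom_trans_assoc, eqToHom_refl, Category.id_comp]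
  have hvalnat : ∀ {V W : Over S} (g : W ⟶ V) (t : V ⟶ A.base) (ht : R t) p (hp : p ≫ A.π.left = (AlgSp.yon S).map t)
      (t' : W ⟶ A.base) (ht' : R t') hp', t' = g ≫ t →
      val t' ht' ((AlgSp.yon S).map g ≫ p) hp' = (AlgSp.yon S).map g ≫ val t ht p hp := by
    rintro V W g t ht p hp t' ht' hp' rfl
    obtain ⟨C, ec, m, hm⟩ := exists_pull A t
    have hmR : R (m.base ≫ eqToHom rfl) := by
      rw [eqToHom_refl, Category.comp_id, hm]; exact R.downward_closed ht _
    obtain ⟨l, hl, hl'⟩ := (m.cart.map (Over.forget B)).exists_lift p ((AlgSp.yon S).map (eqToHom ec.symm)) (by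
      change p ≫ A.π.left = _ ≫ (AlgSp.yon S).map m.base
      rw [hp, ← Functor.map_comp, hm, eqToHom_trans_assoc, eqToHom_refl, Category.id_comp])
    rw [← hval t ht p hp C m hmR l hl, ← Category.assoc]
    exact (hval _ ht' _ hp' C m hmR _ (by rw [Category.assoc]; exact congrArg (_ ≫ ·) hl)).symm
  -- the glued map
  have hglue : ∀ (V : Over S) (p : (AlgSp.yon S).obj V ⟶ A.P.left), ∃ q : (AlgSp.yon S).obj V ⟶ A'.P.left,
      ∀ (t : V ⟶ A.base), p ≫ A.π.left = (AlgSp.yon S).map t → ∀ {W : Over S} (f : W ⟶ V) (hf : R (f ≫ t)) hp,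
        (AlgSp.yon S).map f ≫ q = val (f ≫ t) hf ((AlgSp.yon S).map f ≫ p) hp := by
    intro V p
    obtain ⟨t, ht⟩ := (AlgSp.yon S).map_surjective (p ≫ A.π.left)
    have hp : ∀ {W : Over S} (f : W ⟶ V), ((AlgSp.yon S).map f ≫ p) ≫ A.π.left = (AlgSp.yon S).map (f ≫ t) :=
      fun f => by rw [Category.assoc, ← ht, Functor.map_comp]
    obtain ⟨q, hq⟩ := Glue.exists_glue ((AlgSp.J S).pullback_stable t hR)
      (fun W f hf => val (f ≫ t) hf ((AlgSp.yon S).map f ≫ p) (hp f)) (fun W W' g f hf => by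
        rw [← hvalnat g (f ≫ t) hf _ (hp f) (g ≫ f ≫ t) (R.downward_closed hf g)
          (by rw [← Category.assoc, ← Functor.map_comp, hp]; simp) rfl]
        congr 1
        all_goals simp)
    refine ⟨q, fun t' ht' W f hf _ => ?_⟩
    obtain rfl : t = t' := (AlgSp.yon S).map_injective (ht.trans ht')
    exact hq f hf
  choose θ₀ hθ₀ using hglue
  obtain ⟨θ, hθ⟩ := Glue.exists_hom θ₀ (fun {V W} g p => by
    obtain ⟨t, ht⟩ := (AlgSp.yon S).map_surjective (p ≫ A.π.left)
    apply Glue.ext_of_cover ((AlgSp.J S).pullback_stable (g ≫ t) hR)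
    intro W' f hf
    have hf' : R ((f ≫ g) ≫ t) := by rw [Category.assoc]; exact hf
    rw [← Category.assoc, ← Functor.map_comp,
      hθ₀ V p t ht.symm (f ≫ g) hf' (by rw [Category.assoc, ← ht, ← Functor.map_comp]),
      hθ₀ W _ (g ≫ t) (by rw [Category.assoc, ← ht, ← Functor.map_comp]) f hf
        (by simp only [Category.assoc, ← ht, ← Functor.map_comp])]
    congr 1
    all_goals simp)
  -- on the sieve
  have hθm : ∀ (C : AlgSt.SpQuotObj K G aX) (m : C ⟶ A) hm, m.top.left ≫ θ = (ν C m hm).top.left := by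
    intro C m hm
    refine Groth.Agent.AlgSp.hom_ext_yon fun V l => ?_
    obtain ⟨k, hk⟩ := (AlgSp.yon S).map_surjective (l ≫ C.π.left)
    have ht : (l ≫ m.top.left) ≫ A.π.left = (AlgSp.yon S).map (k ≫ m.base) := by
      rw [Category.assoc]; exact hmem m l k hk.symm
    rw [← Category.assoc, hθ]
    apply Glue.ext_of_cover ((AlgSp.J S).pullback_stable (k ≫ m.base) hR)
    intro W f hf
    rw [hθ₀ V _ (k ≫ m.base) ht f hf (by rw [Category.assoc, ht, ← Functor.map_comp])]
    exact (hval _ hf _ _ C m hm ((AlgSp.yon S).map f ≫ l) (Category.assoc _ _ _)).symm.trans (Category.assoc _ _ _)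
  have hθπ : θ ≫ A'.π.left = A.π.left ≫ (AlgSp.yon S).map e := by
    refine Groth.Agent.AlgSp.hom_ext_yon fun V p => ?_
    obtain ⟨t, ht⟩ := (AlgSp.yon S).map_surjective (p ≫ A.π.left)
    rw [← Category.assoc, hθ, ← Category.assoc, ← ht, ← Functor.map_comp]
    apply Glue.ext_of_cover ((AlgSp.J S).pullback_stable t hR)
    intro W f hf
    rw [← Category.assoc, hθ₀ V p t ht.symm f hf (by rw [Category.assoc, ← ht, ← Functor.map_comp]), hvalπ,
      ← Functor.map_comp, Category.assoc]
  have wb : (AlgSp.yon S).map e ≫ A'.b = A.b := by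
    apply Glue.ext_of_cover hR
    intro V f hf
    obtain ⟨C, ec, m, hm⟩ := exists_pull A f
    have hmR : R (m.base ≫ eqToHom rfl) := by
      rw [eqToHom_refl, Category.comp_id, hm]; exact R.downward_closed hf _
    have h1 := (ν C m hmR).wb
    rw [← m.wb, hbe, hm, Category.assoc] at h1
    simp only [Functor.map_comp, Category.assoc] at h1
    exact (cancel_epi _).1 h1
  have hθhom : θ ≫ A'.P.hom = A.P.hom := by
    rw [← Over.w A'.π, ← Category.assoc, hθπ, Category.assoc]
    exact (congrArg (A.π.left ≫ ·) wb).trans (Over.w A.π)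
  let top : A.P ⟶ A'.P := Over.homMk θ hθhom
  have hθtop : ∀ (C : AlgSt.SpQuotObj K G aX) (m : C ⟶ A) hm, m.top ≫ top = (ν C m hm).top := fun C m hm =>
    Over.OverMorphism.ext (hθm C m hm)
  -- points lying over the sieve come from pullbacks
  have hlocal : ∀ {P : AlgSp.Sp S} (π : P ⟶ (AlgSp.yon S).obj A.base) {V : Over S} (s : (AlgSp.yon S).obj V ⟶ P),
      ∃ R' ∈ AlgSp.J S V, ∀ {W : Over S} (f : W ⟶ V), R'.arrows f →
        ∃ t : W ⟶ A.base, R t ∧ ((AlgSp.yon S).map f ≫ s) ≫ π = (AlgSp.yon S).map t := fun π V s => by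
    obtain ⟨t, ht⟩ := (AlgSp.yon S).map_surjective (s ≫ π)
    exact ⟨_, (AlgSp.J S).pullback_stable t hR, fun f hf => ⟨f ≫ t, hf, by
      rw [Category.assoc, ← ht, Functor.map_comp]⟩⟩
  refine ⟨{ base := e, wb := wb, top := top, eqv := ?_, cart := ?_, wφ := ?_ }, ⟨⟨hA'.symm, rfl⟩,
    fun C m hm => AlgSt.SpQuotObj.hom_ext (hbe C m hm).symm (hθtop C m hm)⟩, ?_⟩
  · refine Glue.hom_ext_over fun V s => ?_
    obtain ⟨R', hR', hs⟩ := hlocal (A.act.act ≫ A.π).left s
    apply Glue.ext_of_cover hR'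
    intro W f hf
    obtain ⟨t, ht, hft⟩ := hs f hf
    obtain ⟨C, ec, m, hm⟩ := exists_pull A t
    have hmR : R (m.base ≫ eqToHom rfl) := by
      rw [eqToHom_refl, Category.comp_id, hm]; exact R.downward_closed ht _
    have sq := ((AlgSt.isPullback_whiskerLeft' (G := G) m.top).paste_vert m.cart).map (Over.forget B)
    obtain ⟨l, hl, -⟩ := sq.exists_lift ((AlgSp.yon S).map f ≫ s) ((AlgSp.yon S).map (eqToHom ec.symm)) (by
      have e1 : snd G A.P ≫ A.π = A.act.act ≫ A.π := A.cart.w.symm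
      change ((AlgSp.yon S).map f ≫ s) ≫ (snd G A.P ≫ A.π).left = _ ≫ (AlgSp.yon S).map m.base
      rw [e1, hft, ← Functor.map_comp, hm, eqToHom_trans_assoc, eqToHom_refl, Category.id_comp])
    change _ ≫ s ≫ (A.act.act ≫ top).left = _ ≫ s ≫ ((G ◁ top) ≫ A'.act.act).left
    rw [← Category.assoc, ← Category.assoc _ s, ← hl]
    change (l ≫ (G ◁ m.top).left) ≫ _ = (l ≫ (G ◁ m.top).left) ≫ _
    rw [Category.assoc, Category.assoc]
    congr 1
    rw [← Over.comp_left, ← Over.comp_left, ← MonoidalCategory.whiskerLeft_comp_assoc, hθtop C m hmR,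
      ← (ν C m hmR).eqv, ← reassoc_of% m.eqv, hθtop C m hmR]
  · refine Glue.isPullback_over_of_points (Over.OverMorphism.ext hθπ) fun V q r hqr => ?_
    obtain ⟨t, rfl⟩ := (AlgSp.yon S).map_surjective r
    have hqt : q ≫ A'.π.left = (AlgSp.yon S).map (t ≫ e) := hqr.trans (Functor.map_comp _ _ _).symm
    -- the unique point over each member of the sieve
    have key : ∀ {W : Over S} (f : W ⟶ V) (hf : R (f ≫ t)), ∃! p : (AlgSp.yon S).obj W ⟶ A.P.left,
        p ≫ θ = (AlgSp.yon S).map f ≫ q ∧ p ≫ A.π.left = (AlgSp.yon S).map (f ≫ t) := by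
      intro W f hf
      obtain ⟨C, ec, m, hm⟩ := exists_pull A (f ≫ t)
      have hmR : R (m.base ≫ eqToHom rfl) := by
        rw [eqToHom_refl, Category.comp_id, hm]; exact R.downward_closed hf _
      obtain ⟨l, hl, hl'⟩ := ((ν C m hmR).cart.map (Over.forget B)).exists_lift ((AlgSp.yon S).map f ≫ q)
        ((AlgSp.yon S).map (eqToHom ec.symm)) (by
          change ((AlgSp.yon S).map f ≫ q) ≫ A'.π.left = _ ≫ (AlgSp.yon S).map (ν C m hmR).base
          rw [Category.assoc, hqt, ← Functor.map_comp, ← Functor.map_comp, hbe, hm, Category.assoc,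
            eqToHom_trans_assoc, eqToHom_refl, Category.id_comp, Category.assoc])
      have hl'' : l ≫ C.π.left = (AlgSp.yon S).map (eqToHom ec.symm) := hl'
      refine ⟨l ≫ m.top.left, ⟨?_, ?_⟩, ?_⟩
      · rw [Category.assoc, hθm C m hmR]; exact hl
      · rw [Category.assoc, hmem m l _ hl'', hm, eqToHom_trans_assoc, eqToHom_refl, Category.id_comp]
      · rintro p ⟨hp, hpt⟩
        obtain ⟨l', hl₁, hl₂⟩ := (m.cart.map (Over.forget B)).exists_lift p ((AlgSp.yon S).map (eqToHom ec.symm)) (by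
          change p ≫ A.π.left = _ ≫ (AlgSp.yon S).map m.base
          rw [hpt, ← Functor.map_comp, hm, eqToHom_trans_assoc, eqToHom_refl, Category.id_comp])
        obtain rfl : l' = l := by
          apply ((ν C m hmR).cart.map (Over.forget B)).hom_ext
          · change l' ≫ (ν C m hmR).top.left = l ≫ (ν C m hmR).top.left
            rw [← hθm C m hmR, ← Category.assoc, show l' ≫ m.top.left = p from hl₁, hp, hθm C m hmR]
            exact hl.symm
          · exact hl₂.trans hl'.symm
        exact hl₁.symm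
    choose p hp hpu using @key
    obtain ⟨P₀, hP₀⟩ := Glue.exists_glue ((AlgSp.J S).pullback_stable t hR) (fun W f hf => p f hf)
      (fun W W' g f hf => hpu _ _ _ ⟨by rw [Category.assoc, (hp f hf).1, ← Category.assoc, ← Functor.map_comp], by
        rw [Category.assoc, (hp f hf).2, ← Functor.map_comp, Category.assoc]⟩)
    refine ⟨P₀, ⟨?_, ?_⟩, fun P₁ ⟨h1, h2⟩ => ?_⟩
    · apply Glue.ext_of_cover ((AlgSp.J S).pullback_stable t hR)
      intro W f hf
      rw [← Category.assoc, hP₀ f hf]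
      exact (hp f hf).1
    · apply Glue.ext_of_cover ((AlgSp.J S).pullback_stable t hR)
      intro W f hf
      rw [← Category.assoc, hP₀ f hf, ← Functor.map_comp]
      exact (hp f hf).2
    · apply Glue.ext_of_cover ((AlgSp.J S).pullback_stable t hR)
      intro W f hf
      rw [hP₀ f hf]
      exact hpu f hf _ ⟨by rw [Category.assoc]; exact congrArg (_ ≫ ·) h1,
        by rw [Category.assoc, Functor.map_comp]; exact congrArg (_ ≫ ·) h2⟩
  · refine Glue.hom_ext_over fun V s => ?_
    obtain ⟨R', hR', hs⟩ := hlocal A.π.left s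
    apply Glue.ext_of_cover hR'
    intro W f hf
    obtain ⟨t, ht, hft⟩ := hs f hf
    obtain ⟨C, ec, m, hm⟩ := exists_pull A t
    have hmR : R (m.base ≫ eqToHom rfl) := by
      rw [eqToHom_refl, Category.comp_id, hm]; exact R.downward_closed ht _
    obtain ⟨l, hl, -⟩ := (m.cart.map (Over.forget B)).exists_lift ((AlgSp.yon S).map f ≫ s)
      ((AlgSp.yon S).map (eqToHom ec.symm)) (by
      change ((AlgSp.yon S).map f ≫ s) ≫ A.π.left = _ ≫ (AlgSp.yon S).map m.base
      rw [hft, ← Functor.map_comp, hm, eqToHom_trans_assoc, eqToHom_refl, Category.id_comp])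
    rw [← Category.assoc, ← Category.assoc _ s, ← hl]
    change (l ≫ m.top.left) ≫ _ = (l ≫ m.top.left) ≫ _
    rw [Category.assoc, Category.assoc, ← Over.comp_left, ← Over.comp_left, ← Category.assoc m.top, hθtop C m hmR,
      (ν C m hmR).wφ, m.wφ]
  · rintro θ' ⟨hv, hθ'⟩
    refine AlgSt.SpQuotObj.hom_ext ?_ (Over.OverMorphism.ext ?_)
    · exact hv.2
    refine Groth.Agent.AlgSp.hom_ext_yon fun V s => ?_
    obtain ⟨R', hR', hs⟩ := hlocal A.π.left s
    apply Glue.ext_of_cover hR'
    intro W f hf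
    obtain ⟨t, ht, hft⟩ := hs f hf
    obtain ⟨C, ec, m, hm⟩ := exists_pull A t
    have hmR : R (m.base ≫ eqToHom rfl) := by
      rw [eqToHom_refl, Category.comp_id, hm]; exact R.downward_closed ht _
    obtain ⟨l, hl, -⟩ := (m.cart.map (Over.forget B)).exists_lift ((AlgSp.yon S).map f ≫ s)
      ((AlgSp.yon S).map (eqToHom ec.symm)) (by
      change ((AlgSp.yon S).map f ≫ s) ≫ A.π.left = _ ≫ (AlgSp.yon S).map m.base
      rw [hft, ← Functor.map_comp, hm, eqToHom_trans_assoc, eqToHom_refl, Category.id_comp])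
    rw [← Category.assoc, ← Category.assoc _ s, ← hl]
    change (l ≫ m.top.left) ≫ _ = (l ≫ m.top.left) ≫ _
    rw [Category.assoc, Category.assoc, ← Over.comp_left, ← AlgSt.SpQuotObj.comp_top, hθ' C m hmR]
    exact congrArg (l ≫ ·) (hθm C m hmR).symm

end Groth.Agent.StFib.SpTors
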