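import Groth.Agent.StFib.SpTorsor

/-!
# Quotient stacks with sheaf torsors: objects glue
-/

set_option linter.unusedVariables false
set_option backward.isDefEq.respectTransparency false
set_option backward.isDefEq.respectTransparency.types false
set_option maxHeartbeats 1600000

universe u

open CategoryTheory CategoryTheory.Limits AlgebraicGeometry Opposite MonoidalCategory CartesianMonoidalCategory
  MonObj FibCat

namespace Groth.Agent.StFib.SpTors

open Groth.Agent.AlgSp (yEquiv yEquiv_map yEquiv_comp hom_ext_yon)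

variable {S : Scheme.{u}} {U : Over S} {R : Sieve U}

/-- A sheaf over `U` with its restrictions to the members of a sieve. -/
structure Cov (R : Sieve U) where
  P : AlgSp.Sp S
  π : P ⟶ (AlgSp.yon S).obj U
  Pa : (Stk.sieveCat R).obj → AlgSp.Sp S
  πa : ∀ a, Pa a ⟶ (AlgSp.yon S).obj a.obj.left
  inc : ∀ a, Pa a ⟶ P
  T : ∀ {a b : (Stk.sieveCat R).obj}, (a ⟶ b) → (Pa a ⟶ Pa b)
  hT : ∀ {a b : (Stk.sieveCat R).obj} (φ : a ⟶ b), T φ ≫ inc b = inc a
  hTπ : ∀ {a b : (Stk.sieveCat R).obj} (φ : a ⟶ b), T φ ≫ πa b = πa a ≫ (AlgSp.yon S).map φ.hom.left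
  sq : ∀ a, IsPullback (inc a) (πa a) π ((AlgSp.yon S).map a.obj.hom)

namespace Cov

variable (C : Cov R)

theorem exists_lift_mem {V : Over S} (t : V ⟶ U) (ht : R t) (p : (AlgSp.yon S).obj V ⟶ C.P)
    (hp : p ≫ C.π = (AlgSp.yon S).map t) :
    ∃ (a : (Stk.sieveCat R).obj) (e : a.obj = Over.mk t) (l : (AlgSp.yon S).obj V ⟶ C.Pa a),
      l ≫ C.inc a = p := by
  let a : (Stk.sieveCat R).obj := ⟨Over.mk t, ht⟩
  exact ⟨a, rfl, (C.sq a).lift p (𝟙 _) (by rw [hp]; exact (Category.id_comp _).symm), (C.sq a).lift_fst _ _ _⟩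

theorem hom_ext (hR : R ∈ AlgSp.J S U) {Y : AlgSp.Sp S} {k k' : C.P ⟶ Y} (h : ∀ a, C.inc a ≫ k = C.inc a ≫ k') :
    k = k' := by
  refine hom_ext_yon fun V p => ?_
  obtain ⟨t, ht⟩ := (AlgSp.yon S).map_surjective (p ≫ C.π)
  apply Glue.ext_of_cover ((AlgSp.J S).pullback_stable t hR)
  intro W f hf
  obtain ⟨a, -, l, hl⟩ := C.exists_lift_mem (f ≫ t) hf ((AlgSp.yon S).map f ≫ p)
    (by rw [Category.assoc, ← ht, Functor.map_comp])
  rw [← Category.assoc, ← Category.assoc, ← hl, Category.assoc, Category.assoc, h]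

theorem exists_desc (hR : R ∈ AlgSp.J S U) {Y : AlgSp.Sp S} (h : ∀ a, C.Pa a ⟶ Y)
    (hn : ∀ {a b : (Stk.sieveCat R).obj} (φ : a ⟶ b), C.T φ ≫ h b = h a) :
    ∃ k : C.P ⟶ Y, ∀ a, C.inc a ≫ k = h a := by
  have hval : ∀ (V : Over S) (p : (AlgSp.yon S).obj V ⟶ C.P), ∃ q : (AlgSp.yon S).obj V ⟶ Y,
      ∀ {W : Over S} (f : W ⟶ V) (a : (Stk.sieveCat R).obj) (l : (AlgSp.yon S).obj W ⟶ C.Pa a),
        l ≫ C.inc a = (AlgSp.yon S).map f ≫ p → (AlgSp.yon S).map f ≫ q = l ≫ h a := by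
    intro V p
    obtain ⟨t, ht⟩ := (AlgSp.yon S).map_surjective (p ≫ C.π)
    let c : ∀ {W : Over S} (f : W ⟶ V), R (f ≫ t) → (Stk.sieveCat R).obj := fun f hf => ⟨Over.mk (f ≫ t), hf⟩
    have hlift : ∀ {W : Over S} (f : W ⟶ V) (hf : R (f ≫ t)), ∃ l : (AlgSp.yon S).obj W ⟶ C.Pa (c f hf),
        l ≫ C.inc _ = (AlgSp.yon S).map f ≫ p ∧ l ≫ C.πa _ = 𝟙 _ := fun f hf => by
      obtain ⟨l, h1, h2⟩ := (C.sq (c f hf)).exists_lift ((AlgSp.yon S).map f ≫ p) (𝟙 _) (by
        rw [Category.assoc, ← ht, ← Functor.map_comp]; exact (Category.id_comp _).symm)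
      exact ⟨l, h1, h2⟩
    choose l hl hlπ using @hlift
    have key : ∀ {W : Over S} (f : W ⟶ V) (hf : R (f ≫ t)) (a : (Stk.sieveCat R).obj)
        (m : (AlgSp.yon S).obj W ⟶ C.Pa a), m ≫ C.inc a = (AlgSp.yon S).map f ≫ p → l f hf ≫ h _ = m ≫ h a := by
      intro W f hf a m hm
      obtain ⟨k, hk⟩ := (AlgSp.yon S).map_surjective (m ≫ C.πa a)
      have hka : k ≫ a.obj.hom = f ≫ t := (AlgSp.yon S).map_injective (by
        rw [Functor.map_comp, hk, Category.assoc, ← (C.sq a).w, reassoc_of% hm, ← ht, ← Functor.map_comp])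
      let φ : c f hf ⟶ a := ObjectProperty.homMk (Over.homMk k hka)
      have : l f hf ≫ C.T φ = m := (C.sq a).hom_ext (by rw [Category.assoc, C.hT, hl, hm])
        (by rw [Category.assoc, C.hTπ, reassoc_of% (hlπ f hf), ← hk]; rfl)
      rw [← this, Category.assoc, hn]
    obtain ⟨q, hq⟩ := Glue.exists_glue ((AlgSp.J S).pullback_stable t hR) (fun W f hf => l f hf ≫ h _)
      (fun W W' g f hf => by
        rw [← Category.assoc]
        exact (key (g ≫ f) (by rw [Category.assoc]; exact R.downward_closed hf g) _ _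
          (by rw [Category.assoc, hl, ← Category.assoc, ← Functor.map_comp])).symm)
    refine ⟨q, fun {W} f a m hm => ?_⟩
    have hft : R (f ≫ t) := by
      obtain ⟨k, hk⟩ := (AlgSp.yon S).map_surjective (m ≫ C.πa a)
      have hka : k ≫ a.obj.hom = f ≫ t := (AlgSp.yon S).map_injective (by
        rw [Functor.map_comp, hk, Category.assoc, ← (C.sq a).w, reassoc_of% hm, ← ht, ← Functor.map_comp])
      exact hka ▸ R.downward_closed a.property k
    exact (hq f hft).trans (key f hft a m hm)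
  choose k₀ hk₀ using hval
  obtain ⟨k, hk⟩ := Glue.exists_hom k₀ (fun {V W} g p => by
    obtain ⟨t, ht⟩ := (AlgSp.yon S).map_surjective (p ≫ C.π)
    apply Glue.ext_of_cover ((AlgSp.J S).pullback_stable (g ≫ t) hR)
    intro W' f hf
    obtain ⟨a, -, l, hl⟩ := C.exists_lift_mem (f ≫ g ≫ t) hf ((AlgSp.yon S).map f ≫ (AlgSp.yon S).map g ≫ p)
      (by simp only [Category.assoc, ← ht, Functor.map_comp])
    rw [hk₀ W _ f a l hl, ← Category.assoc, ← Functor.map_comp]
    exact (hk₀ V p (f ≫ g) a l (by rw [hl, Functor.map_comp, Category.assoc])).symm)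
  refine ⟨k, fun a => hom_ext_yon fun V m => ?_⟩
  have := hk₀ V (m ≫ C.inc a) (𝟙 V) a m (by rw [CategoryTheory.Functor.map_id, Category.id_comp])
  rw [← Category.assoc, hk, ← this, CategoryTheory.Functor.map_id, Category.id_comp]

end Cov

section Sheaf

variable {B : AlgSp.Sp S} {G : Over B} [GrpObj G] {X : Over B} {aX : AlgSp.GAction G X}

local notation "K" => Scheme.fppfPrecoverage

variable (Φ : Stk.sieveCat R ⥤ᵇ AlgSt.SpQuotSt K G aX)

/-- The structure map of a member. -/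
noncomputable def piA (a : (Stk.sieveCat R).obj) : (Φ.obj a).P.left ⟶ (AlgSp.yon S).obj a.obj.left :=
  (Φ.obj a).π.left ≫ (AlgSp.yon S).map (eqToHom (Φ.w_obj a))

theorem base_map {a b : (Stk.sieveCat R).obj} (φ : a ⟶ b) :
    (Φ.map φ).base ≫ eqToHom (Φ.w_obj b) = eqToHom (Φ.w_obj a) ≫ φ.hom.left := by
  have := w_map Φ φ
  change (Φ.map φ).base = _ at this
  rw [this, Category.assoc, Category.assoc, eqToHom_trans, eqToHom_refl]
  exact congrArg (_ ≫ ·) (Category.comp_id _)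

theorem top_piA {a b : (Stk.sieveCat R).obj} (φ : a ⟶ b) :
    (Φ.map φ).top.left ≫ piA Φ b = piA Φ a ≫ (AlgSp.yon S).map φ.hom.left := by
  have h := congrArg (fun k => k.left) (Φ.map φ).cart.w
  simp only [Over.comp_left] at h
  change (Φ.map φ).top.left ≫ (Φ.obj b).π.left ≫ _ = _
  rw [reassoc_of% h, piA, Category.assoc, ← Functor.map_comp, ← base_map]
  exact congrArg ((Φ.obj a).π.left ≫ ·) (((AlgSp.yon S).map_comp _ _).symm)

/-- A section over `V` of the glued sheaf. -/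
structure Sec (V : Over S) : Type (u + 1) where
  t : V ⟶ U
  s : ∀ (a : (Stk.sieveCat R).obj) (k : a.obj.left ⟶ V), k ≫ t = a.obj.hom →
    ((AlgSp.yon S).obj a.obj.left ⟶ (Φ.obj a).P.left)
  hπ : ∀ a k h, s a k h ≫ piA Φ a = 𝟙 _
  nat : ∀ {a b : (Stk.sieveCat R).obj} (φ : a ⟶ b) (k : b.obj.left ⟶ V) (h : k ≫ t = b.obj.hom) (h'),
    s a (φ.hom.left ≫ k) h' ≫ (Φ.map φ).top.left = (AlgSp.yon S).map φ.hom.left ≫ s b k h

variable {Φ}

theorem Sec.ext' {V : Over S} {x y : Sec Φ V} (ht : x.t = y.t) (hs : ∀ a k h h', x.s a k h = y.s a k h') :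
    x = y := by
  cases x
  cases y
  dsimp only at *
  subst ht
  congr
  funext a k h
  exact hs a k h h

theorem Sec.s_eq {V : Over S} {x y : Sec Φ V} (e : x = y) (a : (Stk.sieveCat R).obj) (k : a.obj.left ⟶ V)
    (h : k ≫ x.t = a.obj.hom) : x.s a k h = y.s a k (e ▸ h) := by
  subst e; rfl

theorem Sec.s_congr {V : Over S} (x : Sec Φ V) (a : (Stk.sieveCat R).obj) {k k' : a.obj.left ⟶ V} (e : k = k')
    (h : k ≫ x.t = a.obj.hom) (h' : k' ≫ x.t = a.obj.hom) : x.s a k h = x.s a k' h' := by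
  subst e; rfl

/-- Restriction of a section. -/
def Sec.res {V V' : Over S} (g : V' ⟶ V) (x : Sec Φ V) : Sec Φ V' where
  t := g ≫ x.t
  s a k h := x.s a (k ≫ g) (by rw [Category.assoc]; exact h)
  hπ a k h := x.hπ a _ _
  nat φ k h h' := (congrArg (· ≫ (Φ.map φ).top.left) (x.s_congr _ (Category.assoc _ _ _) _ _)).trans
    (x.nat φ (k ≫ g) (by rw [Category.assoc]; exact h)
      (by rw [Category.assoc, Category.assoc]; exact (Category.assoc _ _ _).symm.trans h'))

variable (Φ)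

/-- The presheaf of sections. -/
noncomputable def secPsh : (Over S)ᵒᵖ ⥤ Type (u + 1) where
  obj V := Sec Φ V.unop
  map g := TypeCat.ofHom (Sec.res g.unop)
  map_id V := by
    ext x
    exact Sec.ext' (Category.id_comp _) fun a k h h' => x.s_congr a (Category.comp_id _) _ _
  map_comp g g' := by
    ext x
    exact Sec.ext' (Category.assoc _ _ _) fun a k h h' => x.s_congr a (Category.assoc _ _ _).symm _ _

theorem isSheaf_secPsh : Presheaf.IsSheaf (AlgSp.J S) (secPsh Φ) := by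
  rw [isSheaf_iff_isSheaf_of_type]
  intro V T hT fam hfam
  rw [Presieve.compatible_iff_sieveCompatible] at hfam
  have hc : ∀ {W W' : Over S} (g : W' ⟶ W) (f : W ⟶ V) (hf : T f),
      fam (g ≫ f) (T.downward_closed hf g) = Sec.res g (fam f hf) := fun g f hf => hfam f g hf
  obtain ⟨tm, htm⟩ := Glue.exists_glue hT (X := (AlgSp.yon S).obj U) (fun W f hf => (AlgSp.yon S).map (fam f hf).t)
    (fun W W' g f hf => by rw [← Functor.map_comp, hc g f hf]; rfl)
  obtain ⟨t, rfl⟩ := (AlgSp.yon S).map_surjective tm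
  have ht : ∀ {W : Over S} (f : W ⟶ V) (hf : T f), f ≫ t = (fam f hf).t := fun f hf =>
    (AlgSp.yon S).map_injective ((Functor.map_comp _ _ _).trans (htm f hf))
  -- restricting the wanted section at one member
  let obj : ∀ (a : (Stk.sieveCat R).obj) {W : Over S} (f : W ⟶ a.obj.left), (Stk.sieveCat R).obj :=
    fun a {W} f => ⟨Over.mk (f ≫ a.obj.hom), R.downward_closed a.property f⟩
  let rs : ∀ (a : (Stk.sieveCat R).obj) {W : Over S} (f : W ⟶ a.obj.left), obj a f ⟶ a :=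
    fun a {W} f => ObjectProperty.homMk (Over.homMk f rfl)
  have hex : ∀ (a : (Stk.sieveCat R).obj) (k : a.obj.left ⟶ V) (h : k ≫ t = a.obj.hom),
      ∃ m : (AlgSp.yon S).obj a.obj.left ⟶ (Φ.obj a).P.left, ∀ {W : Over S} (f : W ⟶ a.obj.left) (hf : T (f ≫ k)) (h'),
        (AlgSp.yon S).map f ≫ m = (fam (f ≫ k) hf).s (obj a f) (𝟙 W) h' ≫ (Φ.map (rs a f)).top.left := by
    intro a k h
    have h' : ∀ {W : Over S} (f : W ⟶ a.obj.left) (hf : T (f ≫ k)), 𝟙 W ≫ (fam (f ≫ k) hf).t = (obj a f).obj.hom :=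
      fun f hf => by rw [Category.id_comp, ← ht, Category.assoc, h]; rfl
    obtain ⟨m, hm⟩ := Glue.exists_glue ((AlgSp.J S).pullback_stable k hT)
      (fun W f hf => (fam (f ≫ k) hf).s (obj a f) (𝟙 W) (h' f hf) ≫ (Φ.map (rs a f)).top.left)
      (fun W W' g f hf => by
        let ψ : obj a (g ≫ f) ⟶ obj a f := ObjectProperty.homMk (Over.homMk g (Category.assoc _ _ _).symm)
        have hψ : rs a (g ≫ f) = ψ ≫ rs a f := ObjectProperty.hom_ext _ (Over.OverMorphism.ext rfl)
        have e1 : (g ≫ f) ≫ k = g ≫ f ≫ k := Category.assoc _ _ _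
        have e2 : ∀ {k₁ : W' ⟶ V} (e : k₁ = g ≫ f ≫ k) (h₁ : T k₁) (h₂),
            (fam k₁ h₁).s (obj a (g ≫ f)) (𝟙 W') h₂ =
              (Sec.res g (fam (f ≫ k) hf)).s (obj a (g ≫ f)) (𝟙 W') (by
                subst e; rw [← hc g (f ≫ k) hf]; exact h₂) := by
          rintro _ rfl h₁ h₂
          have := hc g (f ≫ k) hf
          congr 1
        rw [e2 e1, hψ, Φ.toFunctor.map_comp, AlgSt.SpQuotObj.comp_top, Over.comp_left, ← Category.assoc,
          ← Category.assoc]
        congr 1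
        exact ((fam (f ≫ k) hf).nat ψ (𝟙 W) (h' f hf) (by
          refine (congrArg (· ≫ (fam (f ≫ k) hf).t) (Category.comp_id g)).trans ?_
          rw [← ht, Category.assoc, h]; exact (Category.assoc _ _ _).symm)).symm.trans
          (congrArg (· ≫ _) ((fam (f ≫ k) hf).s_congr _ ((Category.comp_id _).trans (Category.id_comp g).symm) _ _)))
    exact ⟨m, fun f hf _ => hm f hf⟩
  choose s hs using hex
  have hside : ∀ (a : (Stk.sieveCat R).obj) (k : a.obj.left ⟶ V) (h : k ≫ t = a.obj.hom) {W : Over S}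
      (f : W ⟶ a.obj.left) (hf : T (f ≫ k)), 𝟙 W ≫ (fam (f ≫ k) hf).t = (obj a f).obj.hom :=
    fun a k h W f hf => by rw [Category.id_comp, ← ht, Category.assoc, h]; rfl
  let x : Sec Φ V :=
    { t := t
      s := s
      hπ := fun a k h => by
        apply Glue.ext_of_cover ((AlgSp.J S).pullback_stable k hT)
        intro W f hf
        rw [← Category.assoc, hs a k h f hf (hside a k h f hf), Category.assoc, top_piA,
          reassoc_of% ((fam (f ≫ k) hf).hπ _ _ _), Category.comp_id]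
        rfl
      nat := fun {a b} φ k h h' => by
        apply Glue.ext_of_cover ((AlgSp.J S).pullback_stable (φ.hom.left ≫ k) hT)
        intro W f hf
        have hf' : T ((f ≫ φ.hom.left) ≫ k) := by rw [Category.assoc]; exact hf
        refine (Category.assoc _ _ _).symm.trans ((congrArg (· ≫ (Φ.map φ).top.left)
          (hs a _ h' f hf (hside a _ h' f hf))).trans ?_)
        refine Eq.trans ?_ ((congrArg (· ≫ s b k h) ((AlgSp.yon S).map_comp f φ.hom.left)).trans (Category.assoc _ _ _))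
        rw [hs b k h _ hf' (hside b k h _ hf'), Category.assoc, ← Over.comp_left, ← AlgSt.SpQuotObj.comp_top,
          ← Φ.toFunctor.map_comp]
        have ew : f ≫ φ.hom.left ≫ k = (f ≫ φ.hom.left) ≫ k := (Category.assoc _ _ _).symm
        let ψ : obj a f ⟶ obj b (f ≫ φ.hom.left) := ObjectProperty.homMk (Over.homMk (𝟙 W) (by
          change 𝟙 W ≫ (f ≫ φ.hom.left) ≫ b.obj.hom = f ≫ a.obj.hom
          rw [Category.id_comp, Category.assoc, Over.w φ.hom]))
        have hψ : rs a f ≫ φ = ψ ≫ rs b (f ≫ φ.hom.left) :=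
          ObjectProperty.hom_ext _ (Over.OverMorphism.ext (Category.id_comp _).symm)
        rw [hψ, Φ.toFunctor.map_comp, AlgSt.SpQuotObj.comp_top, Over.comp_left, ← Category.assoc]
        congr 1
        have key : ∀ (y : Sec Φ W) (hy : 𝟙 W ≫ y.t = (obj a f).obj.hom) (hy'),
            y.s (obj a f) (𝟙 W) hy ≫ (Φ.map ψ).top.left = y.s (obj b (f ≫ φ.hom.left)) (𝟙 W) hy' := by
          intro y hy hy'
          refine (congrArg (· ≫ (Φ.map ψ).top.left) (y.s_congr _ (Category.comp_id _).symm _ ?_)).trans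
            ((y.nat ψ (𝟙 W) hy' ?_).trans ?_)
          · exact (congrArg (· ≫ y.t) (Category.comp_id _)).trans hy
          · exact (congrArg (· ≫ y.t) (Category.comp_id _)).trans hy
          · exact (congrArg (· ≫ _) ((AlgSp.yon S).map_id W)).trans (Category.id_comp _)
        have e3 : ∀ {k₁ k₂ : W ⟶ V} (e : k₁ = k₂) (h₁ : T k₁) (h₂ : T k₂), fam k₁ h₁ = fam k₂ h₂ := by
          rintro _ _ rfl h₁ h₂; rfl
        have := key (fam _ hf) (hside a _ h' f hf)
          (by rw [e3 ew hf hf']; exact hside b k h _ hf')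
        refine this.trans ?_
        congr 1 }
  refine ⟨x, fun W f hf => Sec.ext' (ht f hf) fun a k h h' => ?_, fun y hy => ?_⟩
  · apply Glue.ext_of_cover ((AlgSp.J S).top_mem a.obj.left)
    intro W' f' _
    have hk : T (f' ≫ k ≫ f) := by rw [← Category.assoc]; exact T.downward_closed hf _
    change (AlgSp.yon S).map f' ≫ s a (k ≫ f) _ = _
    rw [hs a _ _ f' hk (hside a _ (by rw [Category.assoc, ht f hf]; exact h') f' hk)]
    have e3 : ∀ {k₁ : W' ⟶ V} (e : k₁ = (f' ≫ k) ≫ f) (h₁ : T k₁) (h₂),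
        (fam k₁ h₁).s (obj a f') (𝟙 W') h₂ = (fam f hf).s (obj a f') (f' ≫ k) (by
          subst e; rw [hc (f' ≫ k) f hf] at h₂; exact (Category.assoc _ _ _).trans ((Category.id_comp _).symm.trans h₂)) := by
      rintro _ rfl h₁ h₂
      exact (Sec.s_eq (hc (f' ≫ k) f hf) _ _ _).trans ((fam f hf).s_congr _ (Category.id_comp _) _ _)
    rw [e3 (Category.assoc _ _ _).symm]
    exact (fam f hf).nat (rs a f') k h' _
  · refine Sec.ext' ?_ fun a k h h' => ?_
    · apply (AlgSp.yon S).map_injective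
      apply Glue.ext_of_cover hT
      intro W f hf
      rw [htm f hf, ← Functor.map_comp, ← hy f hf]
      rfl
    · apply Glue.ext_of_cover ((AlgSp.J S).pullback_stable k hT)
      intro W f hf
      change _ = (AlgSp.yon S).map f ≫ s a k h'
      rw [hs a k h' f hf (hside a k h' f hf)]
      have e4 : ∀ (z : Sec Φ W) (hz : 𝟙 W ≫ z.t = (obj a f).obj.hom), z = Sec.res (f ≫ k) y →
          (AlgSp.yon S).map f ≫ y.s a k h = z.s (obj a f) (𝟙 W) hz ≫ (Φ.map (rs a f)).top.left := by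
        rintro z hz rfl
        refine ((y.nat (rs a f) k h (by rw [Category.assoc, h]; rfl)).symm).trans ?_
        exact congrArg (· ≫ _) (y.s_congr _ (Category.id_comp _).symm _ _)
      exact e4 _ _ (hy (f ≫ k) hf).symm

/-- The glued sheaf. -/
noncomputable def secSh : AlgSp.Sp S := ⟨secPsh Φ, isSheaf_secPsh Φ⟩

/-- Points of the glued sheaf are sections. -/
noncomputable def secEquiv {V : Over S} : ((AlgSp.yon S).obj V ⟶ secSh Φ) ≃ Sec Φ V := yEquiv

theorem secEquiv_res {V W : Over S} (g : W ⟶ V) (p : (AlgSp.yon S).obj V ⟶ secSh Φ) :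
    secEquiv Φ ((AlgSp.yon S).map g ≫ p) = Sec.res g (secEquiv Φ p) := yEquiv_map g p

attribute [irreducible] secSh secEquiv

theorem base_sq {b c : (Stk.sieveCat R).obj} (φ : b ⟶ c) : IsPullback (Φ.map φ).top.left (piA Φ b) (piA Φ c)
    ((AlgSp.yon S).map φ.hom.left) :=
  ((Φ.map φ).cart.map (Over.forget B)).of_iso (Iso.refl _) (Iso.refl _)
    ((AlgSp.yon S).mapIso (eqToIso (Φ.w_obj b))) ((AlgSp.yon S).mapIso (eqToIso (Φ.w_obj c)))
    (by simp) (by simp [piA]) (by simp [piA]) (by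
      simp only [Functor.mapIso_hom, eqToIso.hom]
      change (AlgSp.yon S).map (Φ.map φ).base ≫ _ = _
      rw [← Functor.map_comp, base_map, Functor.map_comp])

theorem hsq'_aux {b c : (Stk.sieveCat R).obj} (φ : b ⟶ c)
    {l l' : (AlgSp.yon S).obj b.obj.left ⟶ (Φ.obj b).P.left} (h1 : l ≫ piA Φ b = 𝟙 _) (h2 : l' ≫ piA Φ b = 𝟙 _)
    (e : l ≫ (Φ.map φ).top.left = l' ≫ (Φ.map φ).top.left) : l = l' :=
  (base_sq Φ φ).hom_ext e (h1.trans h2.symm)

theorem exists_emb : ∀ (a : (Stk.sieveCat R).obj) (V : Over S) (p : (AlgSp.yon S).obj V ⟶ (Φ.obj a).P.left),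
      ∃ x : Sec Φ V, (AlgSp.yon S).map x.t = p ≫ piA Φ a ≫ (AlgSp.yon S).map a.obj.hom ∧
        ∀ (b : (Stk.sieveCat R).obj) (φ : b ⟶ a) (k : b.obj.left ⟶ V) (h),
          (AlgSp.yon S).map k ≫ p ≫ piA Φ a = (AlgSp.yon S).map φ.hom.left →
          x.s b k h ≫ (Φ.map φ).top.left = (AlgSp.yon S).map k ≫ p := by
  intro a V p
  obtain ⟨r, hr⟩ := (AlgSp.yon S).map_surjective (p ≫ piA Φ a)
  have hlift : ∀ (b : (Stk.sieveCat R).obj) (k : b.obj.left ⟶ V), k ≫ r ≫ a.obj.hom = b.obj.hom →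
      ∃! l : (AlgSp.yon S).obj b.obj.left ⟶ (Φ.obj b).P.left, ∀ φ : b ⟶ a, φ.hom.left = k ≫ r →
        l ≫ (Φ.map φ).top.left = (AlgSp.yon S).map k ≫ p ∧ l ≫ piA Φ b = 𝟙 _ := fun b k h => by
    let φ : b ⟶ a := ObjectProperty.homMk (Over.homMk (k ≫ r) (by rw [Category.assoc]; exact h))
    obtain ⟨l, h1, h2⟩ := (base_sq Φ φ).exists_lift ((AlgSp.yon S).map k ≫ p) (𝟙 _) (by
      rw [Category.assoc, ← hr, ← Functor.map_comp]; exact (Category.id_comp _).symm)
    refine ⟨l, fun φ' hφ' => ?_, fun l' hl' => ?_⟩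
    · obtain rfl : φ' = φ := ObjectProperty.hom_ext _ (Over.OverMorphism.ext hφ')
      exact ⟨h1, h2⟩
    · exact (base_sq Φ φ).hom_ext ((hl' φ rfl).1.trans h1.symm) ((hl' φ rfl).2.trans h2.symm)
  choose l hl hlu using hlift
  refine ⟨{ t := r ≫ a.obj.hom, s := l, hπ := fun b k h =>
      (hl b k h (ObjectProperty.homMk (Over.homMk (k ≫ r) (by rw [Category.assoc]; exact h))) rfl).2, nat := ?_ },
    by rw [Functor.map_comp, hr, Category.assoc], fun b φ k h hk => ?_⟩
  · intro b c ψ k h h'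
    let φ : c ⟶ a := ObjectProperty.homMk (Over.homMk (k ≫ r) (by rw [Category.assoc]; exact h))
    apply (base_sq Φ φ).hom_ext
    · rw [Category.assoc, Category.assoc, ← Over.comp_left, ← AlgSt.SpQuotObj.comp_top, ← Φ.toFunctor.map_comp,
        (hl b _ h' (ψ ≫ φ) (Category.assoc _ _ _).symm).1, (hl c k h φ rfl).1, Functor.map_comp, Category.assoc]
    · rw [Category.assoc, Category.assoc, top_piA, (hl c k h φ rfl).2,
        reassoc_of% (hl b _ h' (ψ ≫ φ) (Category.assoc _ _ _).symm).2, Category.comp_id]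
  · exact (hl b k h φ ((AlgSp.yon S).map_injective (by rw [← hk, Functor.map_comp, hr]))).1

theorem exists_inc (emb : ∀ (a : (Stk.sieveCat R).obj) (V : Over S),
      ((AlgSp.yon S).obj V ⟶ (Φ.obj a).P.left) → Sec Φ V)
    (hembt : ∀ a V p, (AlgSp.yon S).map (emb a V p).t = p ≫ piA Φ a ≫ (AlgSp.yon S).map a.obj.hom)
    (hembs : ∀ (a : (Stk.sieveCat R).obj) (V : Over S) (p : (AlgSp.yon S).obj V ⟶ (Φ.obj a).P.left)
        (b : (Stk.sieveCat R).obj) (φ : b ⟶ a) (k : b.obj.left ⟶ V) h,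
      (AlgSp.yon S).map k ≫ p ≫ piA Φ a = (AlgSp.yon S).map φ.hom.left →
        ((emb a V p).s b k h) ≫ (Φ.map φ).top.left = (AlgSp.yon S).map k ≫ p) :
    ∀ a : (Stk.sieveCat R).obj, ∃ inc : (Φ.obj a).P.left ⟶ secSh Φ, ∀ V p, secEquiv Φ (p ≫ inc) = emb a V p := by
  intro a
  have hpt := @secEquiv_res _ _ _ _ _ _ _ _ Φ
  have hsq' := @hsq'_aux _ _ _ _ _ _ _ _ Φ
  obtain ⟨inc, hinc⟩ := Glue.exists_hom (X := (Φ.obj a).P.left) (Y := secSh Φ) (fun V p => (secEquiv Φ).symm (emb a V p)) (fun {V W} g p => by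
    apply (secEquiv Φ).injective
    rw [hpt, Equiv.apply_symm_apply, Equiv.apply_symm_apply]
    refine Sec.ext' ((AlgSp.yon S).map_injective ?_) fun b k h h' => ?_
    · rw [hembt, Category.assoc, ← hembt a V p, ← Functor.map_comp]; rfl
    · obtain ⟨r, hr⟩ := (AlgSp.yon S).map_surjective (((AlgSp.yon S).map k ≫ (AlgSp.yon S).map g ≫ p) ≫ piA Φ a)
      have hr' : r ≫ a.obj.hom = b.obj.hom := (AlgSp.yon S).map_injective (by
        rw [Functor.map_comp, hr, ← h, Functor.map_comp, hembt]; simp only [Category.assoc])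
      let φ : b ⟶ a := ObjectProperty.homMk (Over.homMk r hr')
      refine hsq' φ ((emb a W _).hπ b k h) ((Sec.res g (emb a V p)).hπ b k h') ?_
      rw [hembs a W _ b φ k h (by simp only [Category.assoc] at hr ⊢; exact hr.symm)]
      change _ = (emb a V p).s b (k ≫ g) _ ≫ _
      rw [hembs a V p b φ (k ≫ g) _ (by rw [Functor.map_comp]; simp only [Category.assoc]; simp only [Category.assoc] at hr ⊢; exact hr.symm),
        Functor.map_comp, Category.assoc])
  exact ⟨inc, fun V p => (congrArg (secEquiv Φ) (hinc V p)).trans (Equiv.apply_symm_apply _ _)⟩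

theorem exists_cov_data : ∃ (π : secSh Φ ⟶ (AlgSp.yon S).obj U) (inc : ∀ a, (Φ.obj a).P.left ⟶ secSh Φ),
    (∀ {a b : (Stk.sieveCat R).obj} (φ : a ⟶ b), (Φ.map φ).top.left ≫ inc b = inc a) ∧
      ∀ a, IsPullback (inc a) (piA Φ a) π ((AlgSp.yon S).map a.obj.hom) := by
  have hpt := @secEquiv_res _ _ _ _ _ _ _ _ Φ
  obtain ⟨π, hπ⟩ := Glue.exists_hom (X := secSh Φ) (Y := (AlgSp.yon S).obj U) (fun V p => (AlgSp.yon S).map ((secEquiv Φ) p).t)
    (fun g p => by rw [hpt, ← Functor.map_comp]; rfl)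
  choose emb hembt hembs using exists_emb Φ
  have hsq' := @hsq'_aux _ _ _ _ _ _ _ _ Φ
  have hinc : ∀ a, ∃ inc : (Φ.obj a).P.left ⟶ secSh Φ, ∀ V p, (secEquiv Φ) (p ≫ inc) = emb a V p :=
    exists_inc Φ emb hembt hembs
  choose inc hincp using hinc
  have hincπ : ∀ a, inc a ≫ π = piA Φ a ≫ (AlgSp.yon S).map a.obj.hom := fun a => hom_ext_yon fun V p => by
    rw [← Category.assoc, hπ, hincp, hembt]
  refine ⟨π, inc, ?_, ?_⟩
  · intro a b φ
    refine hom_ext_yon fun V p => (secEquiv Φ).injective (Sec.ext' ((AlgSp.yon S).map_injective ?_) fun c k h h' => ?_)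
    · rw [← Category.assoc, hincp, hincp, hembt, hembt, Category.assoc, reassoc_of% (top_piA Φ φ), ← Functor.map_comp,
        Over.w φ.hom]
    · obtain ⟨r, hr⟩ := (AlgSp.yon S).map_surjective (((AlgSp.yon S).map k ≫ p) ≫ piA Φ a)
      have e1 : (secEquiv Φ) (p ≫ (Φ.map φ).top.left ≫ inc b) = emb b V (p ≫ (Φ.map φ).top.left) := by
        rw [← Category.assoc, hincp]
      have e2 : (secEquiv Φ) (p ≫ inc a) = emb a V p := hincp a V p
      have hr' : r ≫ a.obj.hom = c.obj.hom := (AlgSp.yon S).map_injective (by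
        rw [Functor.map_comp, hr, ← h', e2, Functor.map_comp, hembt]; simp only [Category.assoc])
      let χ : c ⟶ a := ObjectProperty.homMk (Over.homMk r hr')
      have t1 : ∀ (z : Sec Φ V) (hz : k ≫ z.t = c.obj.hom), z = emb b V (p ≫ (Φ.map φ).top.left) →
          z.s c k hz ≫ (Φ.map (χ ≫ φ)).top.left = (AlgSp.yon S).map k ≫ p ≫ (Φ.map φ).top.left := by
        rintro z hz rfl
        refine hembs b V _ c (χ ≫ φ) k hz ?_
        rw [Category.assoc, top_piA, ← Category.assoc, ← Category.assoc, ← hr]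
        exact ((AlgSp.yon S).map_comp _ _).symm
      have t2 : ∀ (z : Sec Φ V) (hz : k ≫ z.t = c.obj.hom), z = emb a V p →
          z.s c k hz ≫ (Φ.map χ).top.left = (AlgSp.yon S).map k ≫ p := by
        rintro z hz rfl
        exact hembs a V _ c χ k hz (by rw [← Category.assoc]; exact hr.symm)
      refine hsq' (χ ≫ φ) (((secEquiv Φ) _).hπ c k h) (((secEquiv Φ) _).hπ c k h') ?_
      rw [t1 _ h e1, Φ.toFunctor.map_comp, AlgSt.SpQuotObj.comp_top, Over.comp_left, ← Category.assoc (((secEquiv Φ) _).s c k h'),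
        t2 _ h' e2, Category.assoc]
  · intro a
    refine Glue.isPullback_of_points (hincπ a) fun V x r hxr => ?_
    obtain ⟨r, rfl⟩ := (AlgSp.yon S).map_surjective r
    rw [hπ, ← Functor.map_comp] at hxr
    have hxt : ((secEquiv Φ) x).t = r ≫ a.obj.hom := (AlgSp.yon S).map_injective hxr
    let b : (Stk.sieveCat R).obj := ⟨Over.mk (r ≫ a.obj.hom), R.downward_closed a.property r⟩
    let φ : b ⟶ a := ObjectProperty.homMk (Over.homMk r rfl)
    have hb : 𝟙 V ≫ ((secEquiv Φ) x).t = b.obj.hom := (Category.id_comp _).trans hxt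
    refine ⟨((secEquiv Φ) x).s b (𝟙 V) hb ≫ (Φ.map φ).top.left, ⟨?_, ?_⟩, fun q ⟨hq₁, hq₂⟩ => ?_⟩
    · apply (secEquiv Φ).injective
      rw [hincp]
      refine Sec.ext' ((AlgSp.yon S).map_injective ?_) fun c k h h' => ?_
      · rw [hembt, Category.assoc, reassoc_of% (top_piA Φ φ), reassoc_of% (((secEquiv Φ) x).hπ b (𝟙 V) hb), hxt,
          ← Functor.map_comp]
        rfl
      · let χ : c ⟶ b := ObjectProperty.homMk (Over.homMk k (by
          change k ≫ r ≫ a.obj.hom = c.obj.hom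
          rw [← hxt]; exact h'))
        refine hsq' (χ ≫ φ) ((emb a V _).hπ c k h) (((secEquiv Φ) x).hπ c k h') ?_
        rw [hembs a V _ c (χ ≫ φ) k h (by
          rw [Category.assoc, top_piA, reassoc_of% (((secEquiv Φ) x).hπ b (𝟙 V) hb)]
          exact ((AlgSp.yon S).map_comp _ _).symm), Φ.toFunctor.map_comp, AlgSt.SpQuotObj.comp_top, Over.comp_left,
          ← Category.assoc, ← Category.assoc]
        congr 1
        exact (((secEquiv Φ) x).nat χ (𝟙 V) hb ((congrArg (· ≫ ((secEquiv Φ) x).t) (Category.comp_id k)).trans h')).symm.trans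
          (congrArg (· ≫ (Φ.map χ).top.left) (((secEquiv Φ) x).s_congr _ (Category.comp_id k) _ _))
    · rw [Category.assoc, top_piA, reassoc_of% (((secEquiv Φ) x).hπ b (𝟙 V) hb)]
      rfl
    · have e := hincp a V q
      rw [hq₁] at e
      have t2 : ∀ (z : Sec Φ V) (hz : 𝟙 V ≫ z.t = b.obj.hom), z = emb a V q →
          z.s b (𝟙 V) hz ≫ (Φ.map φ).top.left = (AlgSp.yon S).map (𝟙 V) ≫ q := by
        rintro z hz rfl
        exact hembs a V q b φ (𝟙 V) hz (by rw [hq₂]; exact (congrArg (· ≫ _) ((AlgSp.yon S).map_id V)).trans (Category.id_comp _))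
      exact ((t2 _ hb e).trans ((congrArg (· ≫ q) ((AlgSp.yon S).map_id V)).trans (Category.id_comp _))).symm

/-- The covering structure of the glued sheaf. -/
noncomputable def cov : Cov R where
  P := secSh Φ
  π := (exists_cov_data Φ).choose
  Pa a := (Φ.obj a).P.left
  πa := piA Φ
  inc := (exists_cov_data Φ).choose_spec.choose
  T φ := (Φ.map φ).top.left
  hT φ := (exists_cov_data Φ).choose_spec.choose_spec.1 φ
  hTπ φ := top_piA Φ φ
  sq := (exists_cov_data Φ).choose_spec.choose_spec.2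

end Sheaf

end Groth.Agent.StFib.SpTors
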