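import Groth.Agent.StFib.OpenSub
import Groth.Agent.StFib.LocQMore
import Groth.Agent.StFib.RepFp
import Groth.Agent.AlgSpB.Open
import Groth.Agent.AlgSp.ProperSub

/-!
The largest open substack on which a property of representable morphisms holds: the open locus on spaces,
its base change, and its saturation over an atlas.
-/

set_option backward.isDefEq.respectTransparency false
set_option backward.isDefEq.respectTransparency.types false
set_option linter.unusedVariables false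

universe u

open CategoryTheory CategoryTheory.Limits AlgebraicGeometry Opposite FibCat TopologicalSpace Topology

namespace Groth.Agent.StFib

variable {S : Scheme.{u}} {𝒳 𝒴 𝒵 : AlgSt.Cat S}

local notation "K" => Scheme.fppfPrecoverage

/-- The points of the source lying in an open subspace on which a morphism has `P`. -/
def lset (P : MorphismProperty (AlgSp.Sp S)) {X Y : AlgSp.Space S} (a : X ⟶ Y) : Set (AlgSp.Points X.obj) :=
  {p | ∃ (W : AlgSp.Space S) (w : W ⟶ X), AlgSp.RepWith @IsOpenImmersion w.hom ∧ P (w ≫ a).hom ∧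
    p ∈ Set.range (AlgSp.Points.map w.hom)}

/-- `w` is the largest open subspace on which `a` has `P`. -/
def IsLargest (P : MorphismProperty (AlgSp.Sp S)) {X Y W : AlgSp.Space S} (a : X ⟶ Y) (w : W ⟶ X) : Prop :=
  AlgSp.RepWith @IsOpenImmersion w.hom ∧ P (w ≫ a).hom ∧
    ∀ (W₁ : AlgSp.Space S) (w₁ : W₁ ⟶ X), AlgSp.RepWith @IsOpenImmersion w₁.hom → P (w₁ ≫ a).hom →
      ∃ k : W₁ ⟶ W, k ≫ w = w₁

theorem IsLargest.range_eq {P : MorphismProperty (AlgSp.Sp S)} {X Y W : AlgSp.Space S} {a : X ⟶ Y} {w : W ⟶ X}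
    (h : IsLargest P a w) : Set.range (AlgSp.Points.map w.hom) = lset P a := by
  refine subset_antisymm (fun p hp => ⟨W, w, h.1, h.2.1, hp⟩) ?_
  rintro _ ⟨W₁, w₁, h₁, hP, ⟨q, rfl⟩⟩
  obtain ⟨k, hk⟩ := h.2.2 W₁ w₁ h₁ hP
  exact ⟨AlgSp.Points.map k.hom q, by
    rw [← AlgSp.Points.map_comp]; exact congrArg (fun m => AlgSp.Points.map m q) (congrArg InducedCategory.Hom.hom hk)⟩

theorem lset_iso_comp {P : MorphismProperty (AlgSp.Sp S)} {X X' Y : AlgSp.Space S} (φ : X' ≅ X) (a : X ⟶ Y) :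
    lset P (φ.hom ≫ a) = AlgSp.Points.map φ.hom.hom ⁻¹' lset P a := by
  let ψ : X'.obj ≅ X.obj := (ObjectProperty.ι (AlgSp.IsAlgSpace (S := S))).mapIso φ
  ext p
  constructor
  · rintro ⟨W, w, hw, hP, q, rfl⟩
    refine ⟨W, w ≫ φ.hom, (MorphismProperty.cancel_right_of_respectsIso (AlgSp.RepWith @IsOpenImmersion) _ ψ.hom).2 hw,
      by rwa [Category.assoc], q, AlgSp.Points.map_comp _ _ _⟩
  · rintro ⟨W, w, hw, hP, q, hq⟩
    refine ⟨W, w ≫ φ.inv, (MorphismProperty.cancel_right_of_respectsIso (AlgSp.RepWith @IsOpenImmersion) _ ψ.inv).2 hw,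
      by rwa [Category.assoc, φ.inv_hom_id_assoc], q, ?_⟩
    change AlgSp.Points.map (w.hom ≫ ψ.inv) q = p
    rw [AlgSp.Points.map_comp, hq]
    change AlgSp.Points.map ψ.inv (AlgSp.Points.map ψ.hom p) = p
    rw [← AlgSp.Points.map_comp, ψ.hom_inv_id, AlgSp.Points.map_id]

/-- The hypotheses: largest open subspaces exist and commute with base change along `R`. -/
structure LocusData (P Q R : MorphismProperty (AlgSp.Sp S)) : Prop where
  exists_largest : ∀ (X Y : AlgSp.Space S) (f : X ⟶ Y), Q f.hom → ∃ (W : AlgSp.Space S) (w : W ⟶ X), IsLargest P f w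
  bc : ∀ (X Y X' Y' : AlgSp.Space S) (f : X ⟶ Y) (g : Y' ⟶ Y) (f' : X' ⟶ Y') (g' : X' ⟶ X),
    IsPullback g'.hom f'.hom f.hom g.hom → Q f.hom → R g.hom → ∀ (W : AlgSp.Space S) (w : W ⟶ X), IsLargest P f w →
      ∀ (W' : AlgSp.Space S) (w' : W' ⟶ X') (k : W' ⟶ W), IsPullback k.hom w'.hom w.hom g'.hom → IsLargest P f' w'

variable {P Q R : MorphismProperty (AlgSp.Sp S)}

theorem LocusData.lset_preimage (D : LocusData P Q R) {X Y X' Y' : AlgSp.Space S} {f : X ⟶ Y} {g : Y' ⟶ Y}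
    {f' : X' ⟶ Y'} {g' : X' ⟶ X} (sq : IsPullback g'.hom f'.hom f.hom g.hom) (hf : Q f.hom) (hg : R g.hom) :
    lset P f' = AlgSp.Points.map g'.hom ⁻¹' lset P f := by
  obtain ⟨W, w, hw⟩ := D.exists_largest X Y f hf
  let W' : AlgSp.Space S := ⟨pullback w.hom g'.hom,
    Groth.Agent.AlgSp.isAlgSpace_pullback X.property W.property X'.property w.hom g'.hom⟩
  let k : W' ⟶ W := ObjectProperty.homMk (pullback.fst _ _)
  let w' : W' ⟶ X' := ObjectProperty.homMk (pullback.snd _ _)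
  have sqW : IsPullback k.hom w'.hom w.hom g'.hom := IsPullback.of_hasPullback _ _
  rw [← (D.bc X Y X' Y' f g f' g' sq hf hg W w hw W' w' k sqW).range_eq, ← hw.range_eq]
  exact Groth.Agent.AlgSp.range_map_of_isPullback sqW

/-! ## Charts by spaces -/

/-- The map between base changes induced by a map of bases. -/
def fpPull {B B' : AlgSp.Sp S} (k : B' ⟶ B) (y : AlgSt.ofSp B ⥤ᵇ 𝒴) (f : 𝒳 ⥤ᵇ 𝒴) :
    fp (BasedFunctor.comp (AlgSt.ofSpMap k) y) f ⥤ᵇ fp y f :=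
  fpMap (F := y) (G := f) (F' := BasedFunctor.comp (AlgSt.ofSpMap k) y) (G' := f) (AlgSt.ofSpMap k)
    (BasedFunctor.id _) (BasedFunctor.id _) (Iso.refl _) (Iso.refl _)

/-- The space over `B` presenting the base change of `f` to `B`. -/
def chartMap {A B : AlgSp.Space S} {y : AlgSt.ofSp B.obj ⥤ᵇ 𝒴} {f : 𝒳 ⥤ᵇ 𝒴}
    (e : AlgSt.ofSp A.obj ⥤ᵇ fp y f) : A ⟶ B :=
  ObjectProperty.homMk (ObjectProperty.homMk (pshMap (BasedFunctor.comp e (fpFst y f))))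

/-- The chart of a pulled-back base. -/
theorem exists_chart_pull {f : 𝒳 ⥤ᵇ 𝒴} {A B B' : AlgSp.Space S} {y : AlgSt.ofSp B.obj ⥤ᵇ 𝒴}
    {e : AlgSt.ofSp A.obj ⥤ᵇ fp y f} (he : IsEquivOver e) (k : B' ⟶ B) :
    ∃ (A' : AlgSp.Space S) (e' : AlgSt.ofSp A'.obj ⥤ᵇ fp (BasedFunctor.comp (AlgSt.ofSpMap k.hom) y) f)
      (g : A' ⟶ A), IsEquivOver e' ∧ IsPullback g.hom (chartMap e').hom (chartMap e).hom k.hom ∧
      Nonempty (BasedFunctor.comp e' (fpPull k.hom y f) ≅ BasedFunctor.comp (AlgSt.ofSpMap g.hom) e) := by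
  let a := chartMap e
  let A' : AlgSp.Space S := ⟨pullback a.hom k.hom,
    Groth.Agent.AlgSp.isAlgSpace_pullback B.property A.property B'.property a.hom k.hom⟩
  let g : A' ⟶ A := ObjectProperty.homMk (pullback.fst _ _)
  let a' : A' ⟶ B' := ObjectProperty.homMk (pullback.snd _ _)
  have sq : IsPullback g.hom a'.hom a.hom k.hom := IsPullback.of_hasPullback _ _
  have sq' := (IsPullback.map (sheafToPresheaf (AlgSp.J S) (Type (u + 1))) sq).flip
  let N : AlgSt.ofSp A'.obj ⥤ᵇ fp (AlgSt.ofSpMap k.hom) (AlgSt.ofSpMap a.hom) :=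
    fpLift (Stk.ofPshMap a'.hom.hom) (Stk.ofPshMap g.hom.hom) (pshSqIso sq'.w)
  have hN : IsEquivOver N := pshSq_cart sq'
  obtain ⟨ia⟩ : Nonempty (BasedFunctor.comp e (fpFst y f) ≅ AlgSt.ofSpMap a.hom) :=
    exists_iso_pshMap (BasedFunctor.comp e (fpFst y f))
  have : (BasedFunctor.id (AlgSt.ofSp B.obj)).toFunctor.Full := inferInstanceAs (𝟭 _).Full
  have : (BasedFunctor.id (AlgSt.ofSp B.obj)).toFunctor.Faithful := inferInstanceAs (𝟭 _).Faithful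
  let M : fp (AlgSt.ofSpMap k.hom) (AlgSt.ofSpMap a.hom) ⥤ᵇ fp (AlgSt.ofSpMap k.hom) (fpFst y f) :=
    fpMap (F := AlgSt.ofSpMap k.hom) (G := fpFst y f) (F' := AlgSt.ofSpMap k.hom)
      (G' := AlgSt.ofSpMap a.hom) (BasedFunctor.id _) e (BasedFunctor.id _) (Iso.refl _) ia
  have hM : IsEquivOver M := fpMap_isEquivOver _ _ _ _ _ (isEquivOver_id _) he
  let e' := BasedFunctor.comp (BasedFunctor.comp N M) (fpPaste y f (AlgSt.ofSpMap k.hom))
  refine ⟨A', e', g, isEquivOver_comp (isEquivOver_comp hN hM) (fpPaste_isEquivOver _ _ _), ?_, ⟨?_⟩⟩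
  · have : chartMap e' = a' := by
      apply InducedCategory.hom_ext
      apply ObjectProperty.hom_ext
      exact pshMap_ofPshMap a'.hom.hom
    rw [this]
    exact sq
  · let J : BasedFunctor.comp (fpPaste y f (AlgSt.ofSpMap k.hom)) (fpPull k.hom y f) ≅
        fpSnd (AlgSt.ofSpMap k.hom) (fpFst y f) :=
      isoMk (F := BasedFunctor.comp (fpPaste y f (AlgSt.ofSpMap k.hom)) (fpPull k.hom y f))
        (G := fpSnd (AlgSt.ofSpMap k.hom) (fpFst y f))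
        (fun x => fpIsoMk x.obj.iso (Iso.refl _) (by
          change y.map x.obj.iso.hom ≫ x.obj.snd.obj.iso.hom =
            (𝟙 _ ≫ (y.map x.obj.iso.hom ≫ x.obj.snd.obj.iso.hom) ≫ 𝟙 _) ≫ f.map (𝟙 _)
          simp))
        (fun x => vert_fp_iff.2 (vert_fp_iso x))
        (fun {x x'} φ => fp_hom_ext φ.hom.w ((Category.comp_id _).trans (Category.id_comp _).symm))
    exact isoWhiskerLeft (BasedFunctor.comp N M) J

theorem sat_aux {C : Type*} [Category C] {a c₀ c₁ c d d₁ g g' : C} (i : c₁ ≅ c₀) (w : c₁ ≅ c) (u : a ⟶ c)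
    (ι₂ : c ⟶ d) (ι₁ : c₁ ⟶ d₁) (p : d₁ ⟶ g) (χ : g ⟶ g') (p' : d ≅ g') (h : ι₁ ≫ p ≫ χ ≫ p'.inv = w.hom ≫ ι₂) :
    u ≫ ι₂ ≫ p'.hom = u ≫ w.inv ≫ i.hom ≫ i.inv ≫ ι₁ ≫ p ≫ χ := by
  rw [Iso.hom_inv_id_assoc]
  have h2 : ι₂ = w.inv ≫ ι₁ ≫ p ≫ χ ≫ p'.inv := by rw [h, Iso.inv_hom_id_assoc]
  rw [h2]
  simp

section Pair

variable {𝒲 𝒱 : AlgSt.Cat S}

/-- Pairs of objects of a base change with the same second component give pairs of objects of the base. -/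
def pairToBase (v : 𝒲 ⥤ᵇ 𝒴) (f : 𝒳 ⥤ᵇ 𝒴) : fp (fpSnd v f) (fpSnd v f) ⥤ᵇ fp v v :=
  fpLift (BasedFunctor.comp (fpFst (fpSnd v f) (fpSnd v f)) (fpFst v f))
    (BasedFunctor.comp (fpSnd (fpSnd v f) (fpSnd v f)) (fpFst v f))
    (isoWhiskerLeft (fpFst (fpSnd v f) (fpSnd v f)) (fpIso v f) ≪≫
      isoWhiskerRight (fpIso (fpSnd v f) (fpSnd v f)) f ≪≫
      isoWhiskerLeft (fpSnd (fpSnd v f) (fpSnd v f)) (fpIso v f).symm)

theorem exists_pair_functor (v : 𝒲 ⥤ᵇ 𝒴) (f : 𝒳 ⥤ᵇ 𝒴) (ω : 𝒱 ⥤ᵇ fp v v) (κ₁ κ₂ : 𝒱 ⥤ᵇ 𝒲)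
    (i₁ : BasedFunctor.comp ω (fpFst v v) ≅ κ₁) (i₂ : BasedFunctor.comp ω (fpSnd v v) ≅ κ₂) :
    ∃ Ψ : fp ω (pairToBase v f) ⥤ᵇ fp (BasedFunctor.comp κ₁ v) f,
      Nonempty (BasedFunctor.comp Ψ (fpMap (F := v) (G := f) (F' := BasedFunctor.comp κ₁ v) (G' := f) κ₁
          (BasedFunctor.id _) (BasedFunctor.id _) (Iso.refl _) (Iso.refl _)) ≅
        BasedFunctor.comp (fpSnd ω (pairToBase v f)) (fpFst (fpSnd v f) (fpSnd v f))) ∧
      Nonempty (BasedFunctor.comp Ψ (BasedFunctor.comp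
          (fpMap (F := BasedFunctor.comp κ₂ v) (G := f) (F' := BasedFunctor.comp κ₁ v) (G' := f) (BasedFunctor.id _)
            (BasedFunctor.id _) (BasedFunctor.id _)
            (isoWhiskerRight i₂.symm v ≪≫ isoWhiskerLeft ω (fpIso v v).symm ≪≫ isoWhiskerRight i₁ v) (Iso.refl _))
          (fpMap (F := v) (G := f) (F' := BasedFunctor.comp κ₂ v) (G' := f) κ₂
            (BasedFunctor.id _) (BasedFunctor.id _) (Iso.refl _) (Iso.refl _))) ≅
        BasedFunctor.comp (fpSnd ω (pairToBase v f)) (fpSnd (fpSnd v f) (fpSnd v f))) := by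
  let snd := fpSnd v f
  let Φ := pairToBase v f
  let Ψ : fp ω Φ ⥤ᵇ fp (BasedFunctor.comp κ₁ v) f :=
    fpLift (fpFst ω Φ) (BasedFunctor.comp (fpSnd ω Φ) (BasedFunctor.comp (fpFst snd snd) snd))
      (isoWhiskerLeft (fpFst ω Φ) (isoWhiskerRight i₁.symm v) ≪≫
        isoWhiskerRight (fpIso ω Φ) (BasedFunctor.comp (fpFst v v) v) ≪≫
        isoWhiskerLeft (BasedFunctor.comp (fpSnd ω Φ) (fpFst snd snd)) (fpIso v f))
  refine ⟨Ψ, ⟨isoMk (fun x => fpIsoMk ((isoApp i₁ x.obj.fst).symm ≪≫ fpIsoFst x.obj.iso) (Iso.refl _) (by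
        change v.map ((isoApp i₁ x.obj.fst).inv ≫ x.obj.iso.hom.hom.fst) ≫ x.obj.snd.obj.fst.obj.iso.hom =
          (𝟙 _ ≫ (v.map (isoApp i₁ x.obj.fst).inv ≫ v.map x.obj.iso.hom.hom.fst ≫
            x.obj.snd.obj.fst.obj.iso.hom) ≫ 𝟙 _) ≫ f.map (𝟙 _)
        simp))
      (fun x => vert_fp_iff.2 ((vert_isoApp i₁ x.obj.fst).inv.comp (vert_fp_iff.1 (vert_fp_iso x))))
      (fun {x x'} φ => fp_hom_ext
        (isoApp_naturality (isoWhiskerLeft (fpFst ω Φ) i₁.symm ≪≫ isoWhiskerRight (fpIso ω Φ) (fpFst v v)) φ)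
        ((Category.comp_id _).trans (Category.id_comp _).symm))⟩,
    ⟨isoMk (fun x => fpIsoMk ((isoApp i₂ x.obj.fst).symm ≪≫ fpIsoSnd x.obj.iso) x.obj.snd.obj.iso (by
        have hw : v.map x.obj.iso.hom.hom.fst ≫ (x.obj.snd.obj.fst.obj.iso.hom ≫ f.map x.obj.snd.obj.iso.hom ≫
            x.obj.snd.obj.snd.obj.iso.inv) = (ω.obj x.obj.fst).obj.iso.hom ≫ v.map x.obj.iso.hom.hom.snd :=
          x.obj.iso.hom.hom.w
        change v.map ((isoApp i₂ x.obj.fst).inv ≫ x.obj.iso.hom.hom.snd) ≫ x.obj.snd.obj.snd.obj.iso.hom =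
          (𝟙 _ ≫ ((v.map (isoApp i₂ x.obj.fst).inv ≫ (ω.obj x.obj.fst).obj.iso.inv ≫
            v.map (isoApp i₁ x.obj.fst).hom) ≫ (v.map (isoApp i₁ x.obj.fst).inv ≫
            v.map x.obj.iso.hom.hom.fst ≫ x.obj.snd.obj.fst.obj.iso.hom) ≫ 𝟙 _) ≫ 𝟙 _) ≫
            f.map x.obj.snd.obj.iso.hom
        simp only [Category.id_comp, Category.comp_id, Category.assoc, Functor.map_comp]
        exact sat_aux (v.toFunctor.mapIso (isoApp i₁ x.obj.fst)) (ω.obj x.obj.fst).obj.iso _ _ _ _ _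
          x.obj.snd.obj.snd.obj.iso hw))
      (fun x => vert_fp_iff.2 ((vert_isoApp i₂ x.obj.fst).inv.comp (vert_fp_snd (vert_fp_iso x))))
      (fun {x x'} φ => fp_hom_ext
        (isoApp_naturality (isoWhiskerLeft (fpFst ω Φ) i₂.symm ≪≫ isoWhiskerRight (fpIso ω Φ) (fpSnd v v)) φ)
        (φ.hom.snd.hom.w))⟩⟩

end Pair

/-- Saturation of the open locus over an atlas. -/
theorem lset_saturated (D : LocusData P Q R) (h₂ : ∀ (X Y : AlgSp.Space S) (g : X ⟶ Y), AlgSp.LocP @Smooth g.hom → R g.hom)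
    (h𝒳 : AlgSt.IsAlgStack K 𝒳) (h𝒴 : AlgSt.IsAlgStack K 𝒴) {f : 𝒳 ⥤ᵇ 𝒴}
    {B : AlgSp.Space S} {v : AlgSt.ofSp B.obj ⥤ᵇ 𝒴} (hv : AlgSt.RepByAlgSpWith (AlgSp.LocP @Smooth) v)
    {A : AlgSp.Space S} {e : AlgSt.ofSp A.obj ⥤ᵇ fp v f} (he : IsEquivOver e) (hQ : Q (chartMap e).hom)
    (p p' : AlgSt.Points (AlgSt.ofSp A.obj))
    (h : AlgSt.Points.map (BasedFunctor.comp e (fpSnd v f)) p = AlgSt.Points.map (BasedFunctor.comp e (fpSnd v f)) p')
    (hp : toSpPt p ∈ lset P (chartMap e)) : toSpPt p' ∈ lset P (chartMap e) := by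
  have hBg : IsFibGrpd (AlgSt.ofSp B.obj).p := Stk.isFibGrpd_ofPsh _
  have hvv : IsFibGrpd (fp v v).p := isFibGrpd_fp hBg hBg h𝒴.isStack.1 v v
  have hvf : IsFibGrpd (fp v f).p := isFibGrpd_fp hBg h𝒳.isStack.1 h𝒴.isStack.1 v f
  -- a chart of `B ×_𝒴 B`
  obtain ⟨V, w₀, hw₀, hws₀⟩ := atlasProp_smooth.atlas
    (repByAlgSp_fp hBg h𝒴.isStack.1 v v (repByAlgSp1_of_with hv) (repByAlgSp_ofSp B.property))
  let B' : AlgSp.Space S := ⟨(AlgSp.yon S).obj V, isAlgSpace_yon V⟩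
  let ω : AlgSt.ofSp B'.obj ⥤ᵇ fp v v := BasedFunctor.comp (AlgSt.toOverCat V) w₀
  have hω : AlgSt.RepByAlgSpWith (AlgSp.LocP @Smooth) ω :=
    repByAlgSpWith_comp_isEquivOver hw₀ (toOverCat_isEquivOver V)
  have hωs : AlgSt.RepByAlgSpWith AlgSp.IsSurjectiveMor ω :=
    repByAlgSpWith_comp_isEquivOver hws₀ (toOverCat_isEquivOver V)
  let k₁ : B' ⟶ B := ObjectProperty.homMk (ObjectProperty.homMk (pshMap (BasedFunctor.comp ω (fpFst v v))))
  let k₂ : B' ⟶ B := ObjectProperty.homMk (ObjectProperty.homMk (pshMap (BasedFunctor.comp ω (fpSnd v v))))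
  obtain ⟨i₁⟩ : Nonempty (BasedFunctor.comp ω (fpFst v v) ≅ AlgSt.ofSpMap k₁.hom) := exists_iso_pshMap _
  obtain ⟨i₂⟩ : Nonempty (BasedFunctor.comp ω (fpSnd v v) ≅ AlgSt.ofSpMap k₂.hom) := exists_iso_pshMap _
  have hR₁ : R k₁.hom := h₂ _ _ _ (mem_of_repByAlgSpWith_ofSpMap good_smooth.bc good_smooth.det B'.property
    B.property k₁.hom (repByAlgSpWith_of_iso _ i₁ (repByAlgSpWith_comp good_smooth.bc good_smooth.comp
      good_smooth.det (Stk.isFibGrpd_ofPsh _) hvv hω (repByAlgSpWith_fpFst _ _ hv))))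
  have hR₂ : R k₂.hom := h₂ _ _ _ (mem_of_repByAlgSpWith_ofSpMap good_smooth.bc good_smooth.det B'.property
    B.property k₂.hom (repByAlgSpWith_of_iso _ i₂ (repByAlgSpWith_comp good_smooth.bc good_smooth.comp
      good_smooth.det (Stk.isFibGrpd_ofPsh _) hvv hω (repByAlgSpWith_fpSnd _ _ hv))))
  let j : BasedFunctor.comp (AlgSt.ofSpMap k₂.hom) v ≅ BasedFunctor.comp (AlgSt.ofSpMap k₁.hom) v :=
    isoWhiskerRight i₂.symm v ≪≫ isoWhiskerLeft ω (fpIso v v).symm ≪≫ isoWhiskerRight i₁ v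
  obtain ⟨A₁, e₁, g₁, he₁, sq₁, ⟨J₁⟩⟩ := exists_chart_pull he k₁
  obtain ⟨A₂, e₂, g₂, he₂, sq₂, ⟨J₂⟩⟩ := exists_chart_pull he k₂
  have : (BasedFunctor.id 𝒴).toFunctor.Full := inferInstanceAs (𝟭 _).Full
  have : (BasedFunctor.id 𝒴).toFunctor.Faithful := inferInstanceAs (𝟭 _).Faithful
  let C := fpMap (F := BasedFunctor.comp (AlgSt.ofSpMap k₂.hom) v) (G := f)
    (F' := BasedFunctor.comp (AlgSt.ofSpMap k₁.hom) v) (G' := f) (BasedFunctor.id _) (BasedFunctor.id _)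
    (BasedFunctor.id _) j (Iso.refl _)
  have hC : IsEquivOver C := fpMap_isEquivOver _ _ _ _ _ (isEquivOver_id _) (isEquivOver_id _)
  obtain ⟨d₂, hd₂, -, ⟨q₂⟩⟩ := isEquivOver_symm he₂
  let Φ₀ := BasedFunctor.comp (BasedFunctor.comp e₁ C) d₂
  have hΦ₀ : IsEquivOver Φ₀ := isEquivOver_comp (isEquivOver_comp he₁ hC) hd₂
  have := isIso_pshMap (P := A₁.obj.obj) (Q := A₂.obj.obj) hΦ₀
  let φ₀ : A₁.obj ≅ A₂.obj := (fullyFaithfulSheafToPresheaf _ _).preimageIso (asIso (pshMap Φ₀))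
  let φ : A₁ ≅ A₂ := (ObjectProperty.fullyFaithfulι (AlgSp.IsAlgSpace (S := S))).preimageIso φ₀
  obtain ⟨iΦ⟩ : Nonempty (Φ₀ ≅ Stk.ofPshMap (pshMap Φ₀)) := exists_iso_pshMap Φ₀
  have hφ : φ.hom.hom.hom = pshMap Φ₀ := rfl
  let Θ : BasedFunctor.comp (AlgSt.ofSpMap φ.hom.hom) e₂ ≅ BasedFunctor.comp e₁ C :=
    isoWhiskerRight iΦ.symm e₂ ≪≫ isoWhiskerLeft (BasedFunctor.comp e₁ C) q₂
  have hcomm : φ.hom ≫ chartMap e₂ = chartMap e₁ := by
    apply InducedCategory.hom_ext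
    apply ObjectProperty.hom_ext
    change φ.hom.hom.hom ≫ pshMap (BasedFunctor.comp e₂ (fpFst _ f)) = pshMap (BasedFunctor.comp e₁ (fpFst _ f))
    rw [← pshMap_ofPshMap φ.hom.hom.hom, ← pshMap_comp]
    exact pshMap_congr (isoWhiskerRight Θ (fpFst (BasedFunctor.comp (AlgSt.ofSpMap k₂.hom) v) f))
  -- pairs of points with the same image come from `A₁`
  let snd := fpSnd v f
  let Φ := pairToBase v f
  obtain ⟨Ψ, ⟨H₁'⟩, ⟨H₂'⟩⟩ := exists_pair_functor v f ω (AlgSt.ofSpMap k₁.hom) (AlgSt.ofSpMap k₂.hom) i₁ i₂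
  let π₂ := BasedFunctor.comp C (fpPull k₂.hom v f)
  let H₁ : BasedFunctor.comp Ψ (fpPull k₁.hom v f) ≅ BasedFunctor.comp (fpSnd ω Φ) (fpFst snd snd) := H₁'
  let H₂ : BasedFunctor.comp Ψ π₂ ≅ BasedFunctor.comp (fpSnd ω Φ) (fpSnd snd snd) := H₂'
  obtain ⟨r, hr₁, hr₂⟩ := exists_points_fp_of_map_eq hvf hvf h𝒳.isStack.1 snd snd
    (AlgSt.Points.map e p) (AlgSt.Points.map e p') (by
      rw [← Function.comp_apply (f := AlgSt.Points.map snd), ← points_map_comp, h, points_map_comp]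
      rfl)
  have hωsurj : AlgSt.IsSurjective ω := (isSurjective_iff_rep
    (isAlgStack_of_repByAlgSp (repByAlgSp_ofSp B'.property)) (isAlgStack_fp h𝒴.isStack h𝒴.diag
      (isAlgStack_of_repByAlgSp (repByAlgSp_ofSp B.property))
      (isAlgStack_of_repByAlgSp (repByAlgSp_ofSp B.property)) v v) (repByAlgSp1_of_with hω)).2 hωs
  obtain ⟨b, hb⟩ := hωsurj (AlgSt.Points.map Φ r)
  obtain ⟨s, -, hs⟩ := exists_points_fp_of_map_eq (isFibGrpd_fp hvf hvf h𝒳.isStack.1 snd snd)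
    (Stk.isFibGrpd_ofPsh B'.obj.obj) hvv Φ ω b r hb
  have hA₁ := isAlgStack_of_repByAlgSp (repByAlgSp_ofSp A₁.property)
  obtain ⟨c, hc⟩ := (isHomeomorph_points_map (isAlgStack_of_isEquivOver _ he₁ hA₁) he₁).bijective.2
    (AlgSt.Points.map Ψ s)
  have ep : AlgSp.Points.map g₁.hom (toSpPt c) = toSpPt p := by
    rw [← toSpPt_map]
    refine congrArg toSpPt ((isHomeomorph_points_map (isAlgStack_of_isEquivOver _ he
      (isAlgStack_of_repByAlgSp (repByAlgSp_ofSp A.property))) he).bijective.1 ?_)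
    rw [← Function.comp_apply (f := AlgSt.Points.map e), ← points_map_comp, ← points_map_congr J₁,
      points_map_comp, Function.comp_apply, hc, ← Function.comp_apply (f := AlgSt.Points.map (fpPull _ _ _)),
      ← points_map_comp, points_map_congr H₁, points_map_comp, Function.comp_apply, hs, hr₁]
  have ep' : AlgSp.Points.map (φ.hom ≫ g₂).hom (toSpPt c) = toSpPt p' := by
    rw [← toSpPt_map]
    refine congrArg toSpPt ((isHomeomorph_points_map (isAlgStack_of_isEquivOver _ he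
      (isAlgStack_of_repByAlgSp (repByAlgSp_ofSp A.property))) he).bijective.1 ?_)
    have ee : BasedFunctor.comp (AlgSt.ofSpMap (φ.hom ≫ g₂).hom) e ≅ BasedFunctor.comp e₁ π₂ :=
      isoWhiskerLeft (AlgSt.ofSpMap φ.hom.hom) J₂.symm ≪≫ isoWhiskerRight Θ (fpPull k₂.hom v f)
    rw [← Function.comp_apply (f := AlgSt.Points.map e), ← points_map_comp, points_map_congr ee,
      points_map_comp, Function.comp_apply, hc, ← Function.comp_apply (f := AlgSt.Points.map π₂),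
      ← points_map_comp, points_map_congr H₂, points_map_comp, Function.comp_apply, hs, hr₂]
  have h1 : toSpPt c ∈ lset P (chartMap e₁) := by
    rw [D.lset_preimage sq₁ hQ hR₁, Set.mem_preimage, ep]
    exact hp
  rw [← hcomm, lset_iso_comp, Set.mem_preimage, D.lset_preimage sq₂ hQ hR₂, Set.mem_preimage,
    ← AlgSp.Points.map_comp] at h1
  rw [← ep']
  exact h1

end Groth.Agent.StFib
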