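import Groth.Agent.StFib.DMFaithful
import Groth.Agent.StFib.SliceSheaf
import Groth.Agent.StFib.LocQBasic
import Groth.Agent.S10542

/-!
# Slicing a smooth chart of a stack with unramified diagonal
-/

set_option linter.unusedVariables false
set_option backward.isDefEq.respectTransparency false
set_option backward.isDefEq.respectTransparency.types false

universe u

open CategoryTheory CategoryTheory.Limits AlgebraicGeometry Opposite FibCat

namespace Groth.Agent.StFib.SliceDM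

open Slice

variable {S : Scheme.{u}} {𝒳 : AlgSt.Cat S}

theorem eq_of_vert_over {U T : Over S} {p q : T ⟶ U} {m : (Over.mk p : (overCat U).obj) ⟶ Over.mk q}
    (h : Vert (𝒳 := overCat U) m) : p = q := by
  obtain ⟨h1, h2⟩ := h
  have e : m.left = 𝟙 T := h2
  have := Over.w m
  rw [e] at this
  exact this.symm.trans (Category.id_comp q)

/-- Lifts at a closed point along an unramified morphism are unique. -/
theorem lift_unique {V P : Scheme.{u}} (b : V ⟶ P) [LocallyOfFiniteType b] [FormallyUnramified b]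
    {K : Type u} [Field K] (δ δ' : dualPt K ⟶ V) (h : δ ≫ b = δ' ≫ b) (h₀ : incl K ≫ δ = incl K ≫ δ') :
    δ = δ' := by
  let p := pullback.lift δ δ' h
  have hr : Set.range p ⊆ Set.range (pullback.diagonal b) := by
    refine range_subset_of_incl p ?_
    have : incl K ≫ p = (incl K ≫ δ) ≫ pullback.diagonal b := by
      apply pullback.hom_ext
      · simp only [Category.assoc, p, pullback.lift_fst, pullback.diagonal_fst, Category.comp_id]
      · simp only [Category.assoc, p, pullback.lift_snd, pullback.diagonal_snd, Category.comp_id, h₀]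
    rw [this]
    rintro _ ⟨q, rfl⟩
    exact ⟨(incl K ≫ δ) q, (Scheme.Hom.comp_apply _ _ _).symm⟩
  have hl := IsOpenImmersion.lift_fac (pullback.diagonal b) p hr
  have h1 : p ≫ pullback.fst b b = δ := pullback.lift_fst _ _ _
  have h2 : p ≫ pullback.snd b b = δ' := pullback.lift_snd _ _ _
  rw [← h1, ← h2, ← hl, Category.assoc, Category.assoc, pullback.diagonal_fst, pullback.diagonal_snd]

theorem exists_unramified_pair (h𝒳 : AlgSt.IsDMOver 𝒳) {U V : Over S} (x : overCat U ⥤ᵇ 𝒳)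
    (w : overCat V ⥤ᵇ fp x x) (hw : AlgSt.RepByAlgSpWith AlgSp.IsEtaleMor w) (h𝒳g : IsFibGrpd 𝒳.p)
    {t s : V ⟶ U} (it : BasedFunctor.comp w (fpFst x x) ≅ AlgSt.overMap t)
    (is : BasedFunctor.comp w (fpSnd x x) ≅ AlgSt.overMap s) :
    ∃ (P : Over S) (b : V ⟶ P) (p₁ p₂ : P ⟶ U), b ≫ p₁ = t ∧ b ≫ p₂ = s ∧
      (∀ {T : Over S} (g g' : T ⟶ P), g ≫ p₁ = g' ≫ p₁ → g ≫ p₂ = g' ≫ p₂ → g = g') ∧
      LocallyOfFiniteType b.left ∧ FormallyUnramified b.left := by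
  let O : Over S := Over.mk (𝟙 S)
  let h : U ⟶ O := Over.homMk U.hom (Category.comp_id _)
  obtain ⟨N, hN, ⟨n₁⟩, ⟨n₂⟩⟩ := exists_equiv_pullback h h
  have hu : ∀ {T : Over S} (a b : T ⟶ O), a = b := fun a b =>
    Over.OverMorphism.ext (((Category.comp_id _).symm.trans (Over.w a)).trans
      ((Over.w b).symm.trans (Category.comp_id _)))
  have : (toSelf (overCat O)).toFunctor.Faithful := ⟨fun h => Over.OverMorphism.ext h⟩
  have : (toSelf (overCat O)).toFunctor.Full := ⟨fun {a b} g => ⟨Over.homMk g (hu _ _), rfl⟩⟩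
  let q : 𝒳 ⥤ᵇ selfOver (C := Over S) := toSelf 𝒳
  let xt := BasedFunctor.comp x q
  obtain ⟨i⟩ := exists_iso_toSelf (BasedFunctor.comp (AlgSt.overMap h) (toSelf (overCat O)))
  obtain ⟨j⟩ := exists_iso_toSelf xt
  let E := fpMap (F := xt) (G := xt) (F' := AlgSt.overMap h) (G' := AlgSt.overMap h) (BasedFunctor.id _)
    (BasedFunctor.id _) (toSelf (overCat O)) (j ≪≫ i.symm) (j ≪≫ i.symm)
  have hNE : IsEquivOver (BasedFunctor.comp N E) :=
    isEquivOver_comp hN (fpMap_isEquivOver _ _ _ _ _ (isEquivOver_id _) (isEquivOver_id _))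
  obtain ⟨d, hd, -, ⟨jd⟩⟩ := isEquivOver_symm hNE
  let u : fp x x ⥤ᵇ fp xt xt := fpLift (fpFst x x) (fpSnd x x) (isoWhiskerRight (fpIso x x) q)
  have hu' : AlgSt.RepByAlgSpWith (AlgSp.LocP (@LocallyOfFiniteType ⊓ @FormallyUnramified)) u := by
    have hcart := comp_cart x x q (isoWhiskerRight (fpIso x x) q) fun _ => rfl
    exact (repByAlgSpWith_iff_of_equiv _ _ (BasedFunctor.id _) hcart (isEquivOver_id _)
      (f := fpFst (compPhi x x q) (diag q)) (f' := u) (Iso.refl _)).1 (repByAlgSpWith_fpFst _ _ h𝒳)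
  obtain ⟨F₀, e₀, he₀⟩ := repByAlgSp_selfOver (S := S)
  have hself : IsFibGrpd (selfOver (C := Over S)).p := isFibGrpd_of_isEquivOver he₀ (Stk.isFibGrpd_ofPsh _)
  have hR : IsFibGrpd (fp x x).p := isFibGrpd_fp (isFibGrpd_overCat U) (isFibGrpd_overCat U) h𝒳g x x
  have hwu : AlgSt.RepByAlgSpWith (AlgSp.LocP (@LocallyOfFiniteType ⊓ @FormallyUnramified))
      (BasedFunctor.comp w u) :=
    repByAlgSpWith_comp good_unramified.bc good_unramified.comp good_unramified.det (isFibGrpd_overCat V) hR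
      (repByAlgSpWith_mono hw fun F T m hm A B a b k ha hb e =>
        Groth.Agent.AlgSpCov.standard_unramified.of_etale _
          (Groth.Agent.AlgSpCov.locP_etale_of_isEtaleMor hm a b k ha hb e)) hu'
  obtain ⟨b, ⟨ib⟩⟩ := exists_iso_overMap (BasedFunctor.comp (BasedFunctor.comp w u) d)
  have hb : (@LocallyOfFiniteType ⊓ @FormallyUnramified : MorphismProperty Scheme.{u}) b.left :=
    mem_scheme_of_overMap Groth.Agent.AlgSpCov.standard_unramified (repByAlgSpWith_of_iso _ ib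
      ((repByAlgSpWith_iff_of_equiv _ (BasedFunctor.id _) (BasedFunctor.comp N E) (isEquivOver_id _) hNE
        (f := BasedFunctor.comp w u) (f' := BasedFunctor.comp (BasedFunctor.comp w u) d)
        (isoWhiskerLeft (BasedFunctor.comp w u) jd)).1 hwu))
  have key : BasedFunctor.comp (AlgSt.overMap b) (BasedFunctor.comp N E) ≅ BasedFunctor.comp w u :=
    isoWhiskerRight ib.symm (BasedFunctor.comp N E) ≪≫ isoWhiskerLeft (BasedFunctor.comp w u) jd
  refine ⟨pullback h h, b, pullback.fst h h, pullback.snd h h, ?_, ?_, fun g g' h1 h2 => pullback.hom_ext h1 h2,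
    hb.1, hb.2⟩
  · exact overMap_injective (overMapCompIso b (pullback.fst h h) ≪≫
      isoWhiskerLeft (AlgSt.overMap b) n₁.symm ≪≫ isoWhiskerRight key (fpFst xt xt) ≪≫ it)
  · exact overMap_injective (overMapCompIso b (pullback.snd h h) ≪≫
      isoWhiskerLeft (AlgSt.overMap b) n₂.symm ≪≫ isoWhiskerRight key (fpSnd xt xt) ≪≫ is)

end Groth.Agent.StFib.SliceDM

namespace Groth.Agent.StFib.SliceDM

open Slice

variable {S : Scheme.{u}} {𝒳 : AlgSt.Cat S}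

/-- The relation of a smooth chart of a stack with unramified diagonal has corresponding tangent vectors. -/
theorem tangentRel_of_stack_chart (h𝒳 : IsFibGrpd 𝒳.p) (hDM : AlgSt.IsDMOver 𝒳) {U V : Over S}
    (x : overCat U ⥤ᵇ 𝒳) (F : AlgSp.Space S) (e : AlgSt.ofSp F.obj ⥤ᵇ fp x x) (he : IsEquivOver e)
    (a : (AlgSp.yon S).obj V ⟶ F.obj) (ha : AlgSp.RepWith @Etale a)
    (hw : AlgSt.RepByAlgSpWith AlgSp.IsEtaleMor
      (BasedFunctor.comp (BasedFunctor.comp (AlgSt.ofOverCat V) (AlgSt.ofSpMap a)) e))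
    {t s : V ⟶ U}
    (it : BasedFunctor.comp (BasedFunctor.comp (BasedFunctor.comp (AlgSt.ofOverCat V) (AlgSt.ofSpMap a)) e)
      (fpFst x x) ≅ AlgSt.overMap t)
    (is : BasedFunctor.comp (BasedFunctor.comp (BasedFunctor.comp (AlgSt.ofOverCat V) (AlgSt.ofSpMap a)) e)
      (fpSnd x x) ≅ AlgSt.overMap s) :
    TangentRel s.left t.left := by
  let w := BasedFunctor.comp (BasedFunctor.comp (AlgSt.ofOverCat V) (AlgSt.ofSpMap a)) e
  obtain ⟨P, b, p₁, p₂, hbt, hbs, hP, hbl, hbu⟩ := exists_unramified_pair hDM x w hw h𝒳 it is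
  intro K _ v₁ v₂ hv δ₁ hδ₁
  have hvV : v₁ ≫ V.hom = v₂ ≫ V.hom := by rw [← Over.w t, reassoc_of% hv]
  let X₀ : Over S := Over.mk (v₂ ≫ V.hom)
  let X : Over S := Over.mk (retr K ≫ v₂ ≫ V.hom)
  let ρ : X ⟶ X₀ := Over.homMk (retr K) rfl
  let i₀ : X₀ ⟶ X := Over.homMk (incl K) (incl_retr_assoc K _)
  let v₁' : X₀ ⟶ V := Over.homMk v₁ hvV
  let v₂' : X₀ ⟶ V := Over.homMk v₂ rfl
  have hv' : v₁' ≫ t = v₂' ≫ t := Over.OverMorphism.ext hv
  let δ₁' : X ⟶ V := Over.homMk δ₁ (by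
    rw [← Over.w s, reassoc_of% hδ₁.2, Over.w s, hvV]
    rfl)
  have hi₁ : i₀ ≫ δ₁' = v₁' := Over.OverMorphism.ext hδ₁.1
  have hiρ : i₀ ≫ ρ = 𝟙 X₀ := Over.OverMorphism.ext (incl_retr K)
  have hδs : δ₁' ≫ s = (ρ ≫ v₁') ≫ s := Over.OverMorphism.ext (hδ₁.2.trans (Category.assoc _ _ _).symm)
  have hρt : (ρ ≫ v₁') ≫ t = (ρ ≫ v₂') ≫ t := by rw [Category.assoc, Category.assoc, hv']
  -- the isomorphisms of the relation
  obtain ⟨ι, hι⟩ : ∃ ι : BasedFunctor.comp (AlgSt.overMap t) x ≅ BasedFunctor.comp (AlgSt.overMap s) x,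
      ∀ φ, x.map (isoApp it φ).hom ≫ (isoApp ι φ).hom = (w.obj φ).obj.iso.hom ≫ x.map (isoApp is φ).hom := by
    refine ⟨isoWhiskerRight it.symm x ≪≫ isoWhiskerLeft w (fpIso x x) ≪≫ isoWhiskerRight is x, fun φ => ?_⟩
    change x.map (isoApp it φ).hom ≫ x.map (isoApp it φ).inv ≫ (w.obj φ).obj.iso.hom ≫ x.map (isoApp is φ).hom = _
    rw [← Category.assoc, ← x.toFunctor.map_comp, Iso.hom_inv_id, x.toFunctor.map_id]
    exact Category.id_comp _
  let T (φ : (overCat V).obj) : (fp x x).obj :=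
    fpMk ((AlgSt.overMap t).obj φ) ((AlgSt.overMap s).obj φ) (isoApp ι φ) (vert_isoApp ι φ)
  have hT : ∀ φ, ∃ k : w.obj φ ≅ T φ, Vert k.hom := fun φ =>
    ⟨fpIsoMk (isoApp it φ) (isoApp is φ) (hι φ), vert_fp_iff.2 (vert_isoApp it φ)⟩
  -- the object over the dual numbers
  let A₁ : (overCat V).obj := Over.mk δ₁'
  let A₂ : (overCat V).obj := Over.mk (ρ ≫ v₁')
  let A₃ : (overCat V).obj := Over.mk (ρ ≫ v₂')
  have E₁ : (AlgSt.overMap s).obj A₁ = (AlgSt.overMap s).obj A₂ := congrArg Over.mk hδs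
  have E₂ : (AlgSt.overMap t).obj A₂ = (AlgSt.overMap t).obj A₃ := congrArg Over.mk hρt
  let J : x.obj ((AlgSt.overMap t).obj A₁) ≅ x.obj ((AlgSt.overMap s).obj A₃) :=
    isoApp ι A₁ ≪≫ x.toFunctor.mapIso (eqToIso E₁) ≪≫ (isoApp ι A₂).symm ≪≫
      x.toFunctor.mapIso (eqToIso E₂) ≪≫ isoApp ι A₃
  have hJ : Vert J.hom := (vert_isoApp ι A₁).comp (((vert_eqToHom E₁).map x).comp ((vert_isoApp_inv ι A₂).comp
    (((vert_eqToHom E₂).map x).comp (vert_isoApp ι A₃))))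
  let o : (fp x x).obj := fpMk ((AlgSt.overMap t).obj A₁) ((AlgSt.overMap s).obj A₃) J hJ
  obtain ⟨z, ζ, hζ⟩ := exists_vert_iso_of_isEquivOver he o
  obtain ⟨T₀, sec⟩ := z
  have hT₀ : T₀ = X := (e.w_obj _).symm.trans hζ.base_eq
  subst hT₀
  let r : (AlgSp.yon S).obj X ⟶ F.obj := Groth.Agent.AlgSp.yEquiv.symm sec
  -- its restriction to the closed point
  let B₁ : (overCat V).obj := Over.mk v₁'
  let B₂ : (overCat V).obj := Over.mk v₂'
  let m₁ : B₁ ⟶ A₁ := Over.homMk i₀ hi₁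
  let m₁' : B₁ ⟶ A₂ := Over.homMk i₀ (show i₀ ≫ ρ ≫ v₁' = v₁' by rw [← Category.assoc, hiρ, Category.id_comp])
  let m₂ : B₂ ⟶ A₃ := Over.homMk i₀ (show i₀ ≫ ρ ≫ v₂' = v₂' by rw [← Category.assoc, hiρ, Category.id_comp])
  have E₀ : (AlgSt.overMap t).obj B₂ = (AlgSt.overMap t).obj B₁ := congrArg Over.mk hv'.symm
  have hmo : x.map (eqToHom E₀ ≫ (AlgSt.overMap t).map m₁) ≫ J.hom =
      (isoApp ι B₂).hom ≫ x.map ((AlgSt.overMap s).map m₂) := by
    have n₁ := isoApp_naturality ι m₁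
    have n₁' := isoApp_naturality ι m₁'
    have n₂ := isoApp_naturality ι m₂
    have c₁ : (AlgSt.overMap s).map m₁ ≫ eqToHom E₁ = (AlgSt.overMap s).map m₁' := Over.OverMorphism.ext
      ((congrArg (((AlgSt.overMap s).map m₁).left ≫ ·) (Over.eqToHom_left E₁)).trans (Category.comp_id _))
    have c₂ : (eqToHom E₀ ≫ (AlgSt.overMap t).map m₁') ≫ eqToHom E₂ = (AlgSt.overMap t).map m₂ :=
      Over.OverMorphism.ext (by
        change ((eqToHom E₀).left ≫ i₀) ≫ (eqToHom E₂).left = i₀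
        rw [Over.eqToHom_left, Over.eqToHom_left]
        exact (Category.comp_id _).trans (Category.id_comp _))
    change x.map ((AlgSt.overMap t).map m₁) ≫ _ = _ ≫ x.map ((AlgSt.overMap s).map m₁) at n₁
    change x.map ((AlgSt.overMap t).map m₁') ≫ _ = _ ≫ x.map ((AlgSt.overMap s).map m₁') at n₁'
    change x.map ((AlgSt.overMap t).map m₂) ≫ _ = _ ≫ x.map ((AlgSt.overMap s).map m₂) at n₂
    have n₁i : x.map ((AlgSt.overMap s).map m₁') ≫ (isoApp ι A₂).inv =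
        (isoApp ι B₁).inv ≫ x.map ((AlgSt.overMap t).map m₁') :=
      (Iso.eq_inv_comp _).2 (by rw [← Category.assoc, ← n₁', Category.assoc, Iso.hom_inv_id, Category.comp_id])
    change _ ≫ (isoApp ι A₁).hom ≫ x.map (eqToHom E₁) ≫ (isoApp ι A₂).inv ≫ x.map (eqToHom E₂) ≫
      (isoApp ι A₃).hom = _
    rw [x.toFunctor.map_comp, Category.assoc, reassoc_of% n₁, ← Functor.map_comp_assoc, c₁, reassoc_of% n₁i,
      Iso.hom_inv_id_assoc, ← Functor.map_comp_assoc, ← Functor.map_comp_assoc, c₂]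
    exact n₂
  let Mo : T B₂ ⟶ o := fpHom (F := x) (G := x) (eqToHom E₀ ≫ (AlgSt.overMap t).map m₁) ((AlgSt.overMap s).map m₂) hmo
  obtain ⟨k₂, hk₂⟩ := hT B₂
  let s₁ := a.hom.app (op X₀) ⟨v₂'⟩
  let s₂ := F.obj.obj.map i₀.op sec
  let M₁ : e.obj ⟨X₀, s₁⟩ ⟶ o := k₂.hom ≫ Mo
  let ζ₀ : (⟨X₀, s₂⟩ : (AlgSt.ofSp F.obj).obj) ⟶ ⟨X, sec⟩ := ⟨i₀, rfl⟩
  let M₂ : e.obj ⟨X₀, s₂⟩ ⟶ o := e.map ζ₀ ≫ ζ.hom
  have hR : IsFibGrpd (fp x x).p := isFibGrpd_fp (isFibGrpd_overCat U) (isFibGrpd_overCat U) h𝒳 x x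
  have hs12 : s₁ = s₂ := by
    obtain ⟨χ, hχ, -⟩ := grpd_exists_vert_fac hR M₂ M₁ ((e.w_obj ⟨X₀, s₁⟩).trans (e.w_obj ⟨X₀, s₂⟩).symm) (by
      obtain ⟨hk0, hk⟩ := hk₂
      obtain ⟨hz0, hz⟩ := hζ
      have hM : (fp x x).p.map Mo = i₀ := by
        change (eqToHom E₀ ≫ (AlgSt.overMap t).map m₁).left = i₀
        rw [Over.comp_left, Over.eqToHom_left]
        exact Category.id_comp _
      change _ ≫ (fp x x).p.map (e.map ζ₀ ≫ ζ.hom) = (fp x x).p.map (k₂.hom ≫ Mo)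
      rw [Functor.map_comp, Functor.map_comp, hk, hz, hM, w_map e ζ₀]
      simp only [eqToHom_trans_assoc, Category.assoc, eqToHom_trans, eqToHom_refl]
      rfl)
    have := full_of_isEquivOver he
    obtain ⟨q, hq⟩ := e.toFunctor.map_surjective χ.hom
    have hqv : Vert (𝒳 := AlgSt.ofSp F.obj) q := by
      refine ⟨rfl, ?_⟩
      obtain ⟨h0, h0'⟩ := hχ
      have := w_map e q
      rw [hq, h0'] at this
      rw [← cancel_epi (eqToHom (e.w_obj ⟨X₀, s₁⟩)), ← cancel_mono (eqToHom (e.w_obj ⟨X₀, s₂⟩).symm)]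
      simpa using this.symm
    exact ofPsh_eq_of_vert hqv
  have hr : r.hom.app (op X) ⟨𝟙 X⟩ = sec := Groth.Agent.AlgSp.yEquiv.apply_symm_apply sec
  have hσ₀ : (AlgSp.yon S).map v₂' ≫ a = (AlgSp.yon S).map i₀ ≫ r := by
    apply Groth.Agent.AlgSp.yEquiv.injective
    rw [Groth.Agent.AlgSp.yEquiv_map i₀ r,
      show Groth.Agent.AlgSp.yEquiv r = sec from Groth.Agent.AlgSp.yEquiv.apply_symm_apply sec]
    refine Eq.trans ?_ hs12
    exact congrArg (fun k => a.hom.app (op X₀) ⟨k⟩) (Category.id_comp v₂' :)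
  obtain ⟨O, eO, fst, hO⟩ := ha.1 r
  have hmem : Etale eO.left := ha.2 r fst eO hO
  obtain ⟨σ₀, hσ₀'⟩ := (AlgSp.yon S).map_surjective (hO.lift _ _ hσ₀)
  obtain ⟨fst, rfl⟩ := (AlgSp.yon S).map_surjective fst
  have hσe : σ₀ ≫ eO = i₀ := (AlgSp.yon S).map_injective (by
    rw [Functor.map_comp, hσ₀']; exact hO.lift_snd _ _ _)
  have hσf : σ₀ ≫ fst = v₂' := (AlgSp.yon S).map_injective (by
    rw [Functor.map_comp, hσ₀']; exact hO.lift_fst _ _ _)
  obtain ⟨σ, ⟨hσ₁, hσ₂⟩, -⟩ := existsUnique_section eO.left σ₀.left (congrArg (fun k => k.left) hσe)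
  let σ' : X ⟶ O := Over.homMk σ (by rw [← Over.w eO, reassoc_of% hσ₂])
  have hσ'e : σ' ≫ eO = 𝟙 X := Over.OverMorphism.ext hσ₂
  have hσ'i : i₀ ≫ σ' = σ₀ := Over.OverMorphism.ext hσ₁
  let δ₂ := σ' ≫ fst
  have hδ₂a : (AlgSp.yon S).map δ₂ ≫ a = r := by
    rw [Functor.map_comp, Category.assoc, hO.w, ← Category.assoc, ← Functor.map_comp, hσ'e,
      CategoryTheory.Functor.map_id, Category.id_comp]
  have hsecδ : a.hom.app (op X) ⟨δ₂⟩ = sec := by
    rw [← hr, ← hδ₂a]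
    exact congrArg (fun k => a.hom.app (op X) ⟨k⟩) (Category.id_comp _).symm
  obtain ⟨k₃, hk₃⟩ := hT (Over.mk δ₂)
  have hobj : w.obj (Over.mk δ₂) = e.obj ⟨X, sec⟩ := congrArg (fun k => e.obj ⟨X, k⟩) hsecδ
  let K₃ : T (Over.mk δ₂) ⟶ o := k₃.inv ≫ eqToHom hobj ≫ ζ.hom
  have hK₃ : Vert K₃ := hk₃.inv.comp ((vert_eqToHom hobj).comp hζ)
  have h2t : δ₂ ≫ t = δ₁' ≫ t := eq_of_vert_over (vert_fp_iff.1 hK₃)
  have h2s : δ₂ ≫ s = (ρ ≫ v₂') ≫ s := eq_of_vert_over (vert_fp_snd hK₃)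
  have h2i : i₀ ≫ δ₂ = v₂' := by rw [← Category.assoc, hσ'i, hσf]
  refine ⟨δ₂.left, ⟨⟨congrArg (fun k => k.left) h2i,
    (congrArg (fun k => k.left) h2s).trans (Category.assoc _ _ _)⟩, congrArg (fun k => k.left) h2t⟩, fun δ hδ => ?_⟩
  let δ' : X ⟶ V := Over.homMk δ (by
    rw [← Over.w s, reassoc_of% hδ.1.2, Over.w s]
    rfl)
  have ht' : δ' ≫ t = δ₂ ≫ t := (Over.OverMorphism.ext hδ.2).trans h2t.symm
  have hs' : δ' ≫ s = δ₂ ≫ s := (Over.OverMorphism.ext (hδ.1.2.trans (Category.assoc _ _ _).symm)).trans h2s.symm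
  have hb' : δ' ≫ b = δ₂ ≫ b := hP _ _ (by rw [Category.assoc, Category.assoc, hbt, ht'])
    (by rw [Category.assoc, Category.assoc, hbs, hs'])
  exact lift_unique b.left δ δ₂.left (congrArg (fun k => k.left) hb')
    (hδ.1.1.trans (congrArg (fun k => k.left) h2i).symm)

end Groth.Agent.StFib.SliceDM
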