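import Groth.Agent.StFib.SpTorsor
import Groth.Agent.StFib.Fp
import Groth.Agent.StFib.Psh
import Groth.Agent.FibC.Basic

/-!
# The canonical map to a quotient stack: its fibres are the torsors
-/

set_option linter.unusedVariables false
set_option backward.isDefEq.respectTransparency false
set_option backward.isDefEq.respectTransparency.types false
set_option maxHeartbeats 1600000

universe u

open CategoryTheory CategoryTheory.Limits AlgebraicGeometry Opposite MonoidalCategory CartesianMonoidalCategory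
  MonObj FibCat

namespace Groth.Agent.StFib.SpTors

open Groth.Agent.AlgSp (yEquiv yEquiv_map yEquiv_comp hom_ext_yon)

variable {S : Scheme.{u}} {B : AlgSp.Sp S} {G : Over B} [GrpObj G] {X : Over B} {aX : AlgSp.GAction G X}

local notation "K" => Scheme.fppfPrecoverage

/-- The unit section of a trivial torsor. -/
noncomputable def unitSec (T : Over B) : T ⟶ G ⊗ T := lift (toUnit _ ≫ η[G]) (𝟙 T)

theorem unitSec_snd (T : Over B) : unitSec (G := G) T ≫ snd G T = 𝟙 T := lift_snd _ _

theorem unitSec_whisker {T T' : Over B} (f : T ⟶ T') :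
    unitSec (G := G) T ≫ (G ◁ f) = f ≫ unitSec (G := G) T' := by
  apply CartesianMonoidalCategory.hom_ext <;>
    simp only [unitSec, Category.assoc, whiskerLeft_fst, whiskerLeft_snd, lift_fst, lift_snd, lift_fst_assoc,
      lift_snd_assoc, Category.comp_id, Category.id_comp]
  rw [← Category.assoc, toUnit_unique (f ≫ toUnit T') (toUnit T)]

theorem unitSec_act {T P : Over B} (a : AlgSp.GAction G P) (f : T ⟶ P) :
    unitSec (G := G) T ≫ (G ◁ f) ≫ a.act = f := by
  rw [← Category.assoc, unitSec_whisker, Category.assoc]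
  have h : unitSec (G := G) P = (λ_ P).inv ≫ η[G] ▷ P := by
    apply CartesianMonoidalCategory.hom_ext <;> simp [unitSec, toUnit_unique _ (toUnit P)]
  rw [h, Category.assoc, a.one_act, Iso.inv_hom_id, Category.comp_id]

theorem spLeftMul_unit (T : Over B) :
    (G ◁ unitSec (G := G) T) ≫ (AlgSt.spLeftMul G T).act = 𝟙 _ := by
  apply CartesianMonoidalCategory.hom_ext
  · simp only [unitSec, AlgSt.spLeftMul, Category.assoc, lift_fst, whiskerLeft_fst, MonObj.comp_mul,
      whiskerLeft_snd_assoc, Category.id_comp]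
    rw [← Category.assoc, toUnit_unique (snd G T ≫ toUnit T) (toUnit _), ← Hom.one_def, _root_.mul_one]
  · simp only [unitSec, AlgSt.spLeftMul, Category.assoc, lift_snd, whiskerLeft_snd_assoc, Category.id_comp,
      Category.comp_id]

/-- The point of the chart under a point of a torsor. -/
noncomputable def ptX (A : AlgSt.SpQuotObj K G aX) (p : (AlgSt.ofSp A.P.left).obj) : (AlgSt.ofSp X.left).obj :=
  ⟨p.base, A.φ.left.hom.app _ p.sec⟩

theorem secYon_ptX (A : AlgSt.SpQuotObj K G aX) (p : (AlgSt.ofSp A.P.left).obj) :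
    AlgSt.secYon (ptX A p) = AlgSt.secYon p ≫ A.φ.left := by
  apply yEquiv.injective
  rw [yEquiv_comp, Equiv.apply_symm_apply]
  exact (congrArg (fun m => A.φ.left.hom.app _ m) (Equiv.apply_symm_apply _ p.sec)).symm

theorem exists_ptBase (A : AlgSt.SpQuotObj K G aX) (p : (AlgSt.ofSp A.P.left).obj) :
    ∃ k : p.base ⟶ A.base, (AlgSp.yon S).map k = AlgSt.secYon p ≫ A.π.left :=
  (AlgSp.yon S).map_surjective _

/-- The base point under a point of a torsor. -/
noncomputable def ptBase (A : AlgSt.SpQuotObj K G aX) (p : (AlgSt.ofSp A.P.left).obj) : p.base ⟶ A.base :=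
  (exists_ptBase A p).choose

theorem ptBase_spec (A : AlgSt.SpQuotObj K G aX) (p : (AlgSt.ofSp A.P.left).obj) :
    (AlgSp.yon S).map (ptBase A p) = AlgSt.secYon p ≫ A.π.left :=
  (exists_ptBase A p).choose_spec

theorem ptBase_comp (A : AlgSt.SpQuotObj K G aX) {p q : (AlgSt.ofSp A.P.left).obj} (f : p ⟶ q) :
    f.hom ≫ ptBase A q = ptBase A p := by
  apply (AlgSp.yon S).map_injective
  rw [Functor.map_comp, ptBase_spec, ptBase_spec, ← Category.assoc, AlgSt.secYon_comp]

/-- A point of a torsor, over `B`. -/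
noncomputable def ptOver (A : AlgSt.SpQuotObj K G aX) (p : (AlgSt.ofSp A.P.left).obj) :
    Over.mk (AlgSt.secYon (ptX A p) ≫ X.hom) ⟶ A.P :=
  Over.homMk (AlgSt.secYon p) (by
    change AlgSt.secYon p ≫ A.P.hom = AlgSt.secYon (ptX A p) ≫ X.hom
    rw [secYon_ptX, Category.assoc, Over.w A.φ])

theorem ptBase_wb (A : AlgSt.SpQuotObj K G aX) (p : (AlgSt.ofSp A.P.left).obj) :
    (AlgSp.yon S).map (ptBase A p) ≫ A.b = AlgSt.secYon (ptX A p) ≫ X.hom := by
  rw [ptBase_spec, Category.assoc, secYon_ptX, Category.assoc, Over.w A.φ]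
  exact congrArg (_ ≫ ·) (Over.w A.π)

/-- The trivialization of a torsor by one of its points. -/
noncomputable def ptHom (A : AlgSt.SpQuotObj K G aX) (p : (AlgSt.ofSp A.P.left).obj) :
    (AlgSt.spQuotMap K G aX).obj (ptX A p) ⟶ A where
  base := ptBase A p
  wb := ptBase_wb A p
  top := (G ◁ ptOver A p) ≫ A.act.act
  eqv := by
    change (AlgSt.spLeftMul G _).act ≫ (G ◁ ptOver A p) ≫ A.act.act = (G ◁ ((G ◁ ptOver A p) ≫ A.act.act)) ≫ A.act.act
    have hm : (G ◁ A.act.act) ≫ A.act.act = (α_ G G A.P).inv ≫ (μ[G] ▷ A.P) ≫ A.act.act := by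
      rw [A.act.mul_act, Iso.inv_hom_id_assoc]
    rw [MonoidalCategory.whiskerLeft_comp, Category.assoc, hm, ← Category.assoc, ← Category.assoc _ _ A.act.act,
      ← Category.assoc _ _ A.act.act]
    congr 1
    have hμ : fst (G ⊗ G) A.P ≫ μ[G] = (fst _ _ ≫ fst G G) * (fst _ _ ≫ snd G G) := by
      rw [Hom.mul_def, ← comp_lift, lift_fst_snd, Category.comp_id]
    apply CartesianMonoidalCategory.hom_ext <;>
      simp only [AlgSt.spLeftMul, Category.assoc, lift_fst, lift_snd, lift_fst_assoc, lift_snd_assoc, comp_lift,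
        MonObj.comp_mul, whiskerLeft_fst, whiskerLeft_snd, whiskerLeft_fst_assoc, whiskerLeft_snd_assoc,
        whiskerRight_fst, whiskerRight_snd, associator_inv_fst_fst, associator_inv_fst_snd, associator_inv_snd, hμ]
  cart := by
    have e : ptOver A p ≫ A.π = AlgSt.bHom (ptBase A p) (ptBase_wb A p) :=
      Over.OverMorphism.ext (ptBase_spec A p).symm
    rw [← e]
    exact (AlgSt.isPullback_whiskerLeft' _).paste_horiz A.cart
  wφ := by
    change ((G ◁ ptOver A p) ≫ A.act.act) ≫ A.φ = (G ◁ AlgSt.secOver (ptX A p)) ≫ aX.act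
    rw [Category.assoc, A.eqv, ← MonoidalCategory.whiskerLeft_comp_assoc]
    congr 2
    exact Over.OverMorphism.ext (secYon_ptX A p).symm

theorem unit_ptHom (A : AlgSt.SpQuotObj K G aX) (p : (AlgSt.ofSp A.P.left).obj) :
    unitSec (G := G) _ ≫ (ptHom A p).top = ptOver A p :=
  unitSec_act A.act _

/-- The map of charts induced by a map of points. -/
def ptXMap (A : AlgSt.SpQuotObj K G aX) {p q : (AlgSt.ofSp A.P.left).obj} (f : p ⟶ q) : ptX A p ⟶ ptX A q :=
  ⟨f.hom, by
    change X.left.obj.map f.hom.op (A.φ.left.hom.app _ q.sec) = A.φ.left.hom.app _ p.sec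
    rw [← f.map_sec]
    exact (congrArg (fun m => m q.sec) (A.φ.left.hom.naturality f.hom.op)).symm⟩

theorem ptHom_nat (A : AlgSt.SpQuotObj K G aX) {p q : (AlgSt.ofSp A.P.left).obj} (f : p ⟶ q) :
    (AlgSt.spQuotMap K G aX).map (ptXMap A f) ≫ ptHom A q = ptHom A p := by
  refine AlgSt.SpQuotObj.hom_ext (ptBase_comp A f) ?_
  change (G ◁ _) ≫ (G ◁ ptOver A q) ≫ A.act.act = (G ◁ ptOver A p) ≫ A.act.act
  rw [← MonoidalCategory.whiskerLeft_comp_assoc]
  congr 2
  exact Over.OverMorphism.ext (AlgSt.secYon_comp f)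

/-- A morphism from a trivial torsor is determined by the image of the unit. -/
theorem trivial_top {A : AlgSt.SpQuotObj K G aX} {a : (AlgSt.ofSp X.left).obj}
    (m : (AlgSt.spQuotMap K G aX).obj a ⟶ A) :
    m.top = (G ◁ (unitSec (G := G) _ ≫ m.top)) ≫ A.act.act := by
  have h : (AlgSt.spLeftMul G (Over.mk (AlgSt.secYon a ≫ X.hom))).act ≫ m.top = (G ◁ m.top) ≫ A.act.act := m.eqv
  rw [MonoidalCategory.whiskerLeft_comp, Category.assoc]
  refine Eq.trans ?_ (congrArg ((G ◁ unitSec (G := G) _) ≫ ·) h)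
  rw [← Category.assoc, spLeftMul_unit]
  exact (Category.id_comp _).symm

/-- Morphisms from trivial torsors come from points. -/
theorem exists_pt {A : AlgSt.SpQuotObj K G aX} {a : (AlgSt.ofSp X.left).obj}
    (m : (AlgSt.spQuotMap K G aX).obj a ⟶ A) :
    ∃ (p : (AlgSt.ofSp A.P.left).obj) (i : ptX A p ≅ a), Vert i.hom ∧
      (AlgSt.spQuotMap K G aX).map i.hom ≫ m = ptHom A p := by
  let s : (AlgSp.yon S).obj a.base ⟶ A.P.left := (unitSec (G := G) _ ≫ m.top).left
  let p : (AlgSt.ofSp A.P.left).obj := ⟨a.base, yEquiv s⟩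
  have hp : AlgSt.secYon p = s := Equiv.symm_apply_apply _ s
  have hsec : AlgSt.secYon (ptX A p) = AlgSt.secYon a := by
    rw [secYon_ptX, hp]
    change (unitSec (G := G) _ ≫ m.top).left ≫ A.φ.left = (AlgSt.secOver a).left
    rw [← Over.comp_left, Category.assoc, m.wφ]
    exact congrArg (fun k => k.left) (unitSec_act aX _)
  have hx : A.φ.left.hom.app _ p.sec = a.sec := ((AlgSp.J S).uliftYonedaEquiv).symm.injective hsec
  let i : ptX A p ≅ a := eltIso (a := ptX A p) (b := a) rfl ((psh_map_id _ _).trans hx.symm)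
  refine ⟨p, i, vert_eltIso _ _, ?_⟩
  have hπ : ptBase A p = m.base := by
    apply (AlgSp.yon S).map_injective
    rw [ptBase_spec, hp]
    change (unitSec (G := G) _ ≫ m.top).left ≫ A.π.left = _
    rw [← Over.comp_left, Category.assoc, m.cart.w]
    refine congrArg (fun k : Over.mk (AlgSt.secYon a ≫ X.hom) ⟶ Over.mk A.b => k.left)
      (?_ : _ = AlgSt.bHom m.base m.wb)
    exact (Category.assoc _ _ _).symm.trans
      ((congrArg (· ≫ AlgSt.bHom m.base m.wb) (unitSec_snd (G := G) _)).trans (Category.id_comp _))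
  refine AlgSt.SpQuotObj.hom_ext ((Category.id_comp _).trans hπ.symm) ?_
  change (G ◁ _) ≫ m.top = (G ◁ ptOver A p) ≫ A.act.act
  rw [trivial_top m, ← MonoidalCategory.whiskerLeft_comp_assoc]
  congr 2
  refine Over.OverMorphism.ext ?_
  change (AlgSp.yon S).map (𝟙 a.base) ≫ s = AlgSt.secYon p
  rw [hp, CategoryTheory.Functor.map_id]
  exact Category.id_comp _

/-- The fibre of the canonical map over a chart is the torsor. -/
theorem exists_fp_quotMap {U : Over S} (y : overCat U ⥤ᵇ AlgSt.SpQuotSt K G aX) :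
    ∃ e : AlgSt.ofSp (y.obj (Over.mk (𝟙 U))).P.left ⥤ᵇ fp y (AlgSt.spQuotMap K G aX), IsEquivOver e ∧
      AlgSt.spMapOfOver (BasedFunctor.comp e (fpFst y (AlgSt.spQuotMap K G aX))) =
        (y.obj (Over.mk (𝟙 U))).π.left ≫ (AlgSp.yon S).map (eqToHom (y.w_obj (Over.mk (𝟙 U)))) := by
  let top : (overCat U).obj := Over.mk (𝟙 U)
  let A := y.obj top
  let q := AlgSt.spQuotMap K G aX
  let eU : A.base ⟶ U := eqToHom (y.w_obj top)
  let g : (AlgSt.ofSp A.P.left).obj → (overCat U).obj := fun p => Over.mk (ptBase A p ≫ eU)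
  have hbase : ∀ h : (overCat U).obj, (y.map (overToId h)).base ≫ eU = eqToHom (y.w_obj h) ≫ h.hom := fun h => by
    have := w_map y (overToId h)
    change (y.map (overToId h)).base = _ at this
    rw [this]
    simp only [eU, Category.assoc, eqToHom_trans, eqToHom_refl]
    exact congrArg (_ ≫ ·) (Category.comp_id h.hom)
  have H : ∀ p, ∃ χ : y.obj (g p) ≅ q.obj (ptX A p), Vert χ.hom ∧ χ.hom ≫ ptHom A p = y.map (overToId (g p)) :=
    fun p => grpd_exists_vert_fac isFibGrpd (ptHom A p) (y.map (overToId (g p))) (y.w_obj (g p)) (by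
      rw [← cancel_mono eU]
      refine Eq.trans ?_ (hbase (g p)).symm
      exact Category.assoc _ _ _)
  choose χ hχ hχm using H
  let emap : ∀ {p p' : (AlgSt.ofSp A.P.left).obj} (f : p ⟶ p'), (g p ⟶ g p') := fun {p p'} f =>
    Over.homMk f.hom ((Category.assoc _ _ _).symm.trans (congrArg (· ≫ eU) (ptBase_comp A f)))
  have hto : ∀ {h h' : (overCat U).obj} (k : h ⟶ h'), k ≫ overToId h' = overToId h := fun k =>
    Over.OverMorphism.ext (over_w k)
  let E₀ : (AlgSt.ofSp A.P.left).obj ⥤ (fp y q).obj :=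
    { obj := fun p => fpMk (g p) (ptX A p) (χ p) (hχ p)
      map := fun {p p'} f => fpHom (emap f) (ptXMap A f) (by
        apply grpd_cancel isFibGrpd (ptHom A p')
        · change (y.map (emap f) ≫ (χ p').hom) ≫ ptHom A p' = ((χ p).hom ≫ q.map (ptXMap A f)) ≫ ptHom A p'
          rw [Category.assoc, Category.assoc, hχm, ptHom_nat, hχm, ← y.toFunctor.map_comp, hto]
        · change (AlgSt.SpQuotSt K G aX).p.map (y.map (emap f) ≫ (χ p').hom) =
            (AlgSt.SpQuotSt K G aX).p.map ((χ p).hom ≫ q.map (ptXMap A f))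
          rw [Functor.map_comp, Functor.map_comp, (hχ p').2, (hχ p).2, w_map, w_map]
          simp
          rfl)
      map_id := fun p => fp_hom_ext (Over.OverMorphism.ext rfl) (Stk.EltObj.hom_ext rfl)
      map_comp := fun f f' => fp_hom_ext (Over.OverMorphism.ext rfl) (Stk.EltObj.hom_ext rfl) }
  let E : AlgSt.ofSp A.P.left ⥤ᵇ fp y q := { toFunctor := E₀, w := rfl }
  have : E.toFunctor.Faithful := ⟨fun {p p'} f f' h =>
    Stk.EltObj.hom_ext (congrArg (fun k => k.hom.fst.left) h)⟩
  have : E.toFunctor.Full := ⟨fun {p p'} k => by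
    let g0 : p.base ⟶ p'.base := k.hom.snd.hom
    have w : y.map k.hom.fst ≫ (χ p').hom = (χ p).hom ≫ q.map k.hom.snd := k.hom.w
    have w' : q.map k.hom.snd ≫ ptHom A p' = ptHom A p := by
      rw [← cancel_epi (χ p).hom, ← Category.assoc, ← w, Category.assoc, hχm, ← y.toFunctor.map_comp]
      exact (congrArg y.toFunctor.map (hto k.hom.fst)).trans (hχm p).symm
    have hl : (AlgSp.yon S).map g0 ≫ AlgSt.secYon p' = AlgSt.secYon p := by
      have e : unitSec (G := G) _ ≫ (q.map k.hom.snd ≫ ptHom A p').top = ptOver A p :=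
        (congrArg (fun t => unitSec (G := G) _ ≫ t.top) w').trans (unit_ptHom A p)
      refine Eq.trans ?_ (congrArg (fun t => t.left) e)
      change _ = (unitSec (G := G) (Over.mk (AlgSt.secYon (ptX A p) ≫ X.hom)) ≫ (G ◁ AlgSt.bHom g0 _) ≫ (ptHom A p').top).left
      rw [← Category.assoc, unitSec_whisker, Category.assoc]
      exact congrArg ((AlgSp.yon S).map g0 ≫ ·) (congrArg (fun t => t.left) (unit_ptHom A p')).symm
    let f : p ⟶ p' := ⟨g0, by
      have h2 := congrArg yEquiv hl
      rw [yEquiv_map] at h2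
      exact (congrArg (fun m => A.P.left.obj.map g0.op m) (Equiv.apply_symm_apply _ p'.sec)).symm.trans
        (h2.trans (Equiv.apply_symm_apply _ p.sec))⟩
    have hb : k.hom.fst.left = g0 := by
      refine Eq.symm ((fp_snd_map (F := y) (G := q) k).trans ?_)
      exact (Category.id_comp _).trans (Category.comp_id _)
    exact ⟨f, fp_hom_ext (Over.OverMorphism.ext hb.symm) (Stk.EltObj.hom_ext rfl)⟩⟩
  refine ⟨E, Groth.Agent.FibC.isEquivOver_of_fullyFaithful E fun x => ?_, ?_⟩
  · let h := x.obj.fst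
    let a := x.obj.snd
    obtain ⟨p, i, hi, him⟩ := exists_pt (x.obj.iso.inv ≫ y.map (overToId h) : q.obj a ⟶ A)
    have hx := vert_fp_iso x
    have hbe : p.base = h.left := hi.base_eq.trans (fp_base_eq x).symm
    have hx1 : x.obj.iso.inv.base = eqToHom hx.inv.base_eq := hx.inv.2
    have h3 : (q.map i.hom).base = eqToHom hi.base_eq := hi.2
    have hb : ptBase A p ≫ eU = eqToHom hbe ≫ h.hom := by
      refine (congrArg (fun t => t.base ≫ eU) him).symm.trans ?_
      change ((q.map i.hom).base ≫ x.obj.iso.inv.base ≫ (y.map (overToId h)).base) ≫ eU = _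
      rw [Category.assoc, Category.assoc, hbase, hx1, h3]
      exact ((congrArg (eqToHom _ ≫ ·) (eqToHom_trans_assoc _ _ _)).trans (eqToHom_trans_assoc _ _ _)).trans rfl
    let i₁ : g p ≅ h := Over.isoMk (eqToIso hbe) hb.symm
    have hcomm : y.map i₁.hom ≫ x.obj.iso.hom = (χ p).hom ≫ q.map i.hom := by
      have : q.map i.hom = (χ p).inv ≫ y.map i₁.hom ≫ x.obj.iso.hom := by
        apply grpd_cancel isFibGrpd (x.obj.iso.inv ≫ y.map (overToId h))
        · rw [Category.assoc, Category.assoc, Iso.hom_inv_id_assoc, ← y.toFunctor.map_comp, hto]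
          exact him.trans ((Iso.inv_hom_id_assoc (χ p) _).symm.trans (congrArg ((χ p).inv ≫ ·) (hχm p)))
        · have e1 : (χ p).inv.base = eqToHom (hχ p).inv.base_eq := (hχ p).inv.2
          have e2 : x.obj.iso.hom.base = eqToHom hx.base_eq := hx.2
          have e3 : (y.map i₁.hom).base = eqToHom (y.w_obj (g p)) ≫ eqToHom hbe ≫ eqToHom (y.w_obj h).symm :=
            w_map y i₁.hom
          change (q.map i.hom).base = (χ p).inv.base ≫ (y.map i₁.hom).base ≫ x.obj.iso.hom.base
          rw [h3, e1, e2, e3]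
          simp
      rw [this, Iso.hom_inv_id_assoc]
    exact ⟨p, fpIsoMk (x := E.obj p) i₁ i hcomm, IsHomLift.of_fac' _ _ _ hbe rfl
      (show i₁.hom.left = _ by simp [i₁])⟩
  · refine hom_ext_yon fun V s => yEquiv.injective ?_
    apply ULift.ext
    change AlgSt.secHom (BasedFunctor.comp E (fpFst y q)) ⟨V, yEquiv s⟩ = _
    have hs : AlgSt.secYon (X := A.P) ⟨V, yEquiv s⟩ = s := Equiv.symm_apply_apply _ s
    obtain ⟨k, hk⟩ := (AlgSp.yon S).map_surjective (s ≫ A.π.left)
    have hk' : ptBase A ⟨V, yEquiv s⟩ = k := (AlgSp.yon S).map_injective (by rw [ptBase_spec, hs, hk])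
    rw [← Category.assoc s, ← hk, ← Functor.map_comp]
    refine Eq.trans ?_ (congrArg (· ≫ eU) hk')
    exact Category.id_comp _

end Groth.Agent.StFib.SpTors
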