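import Groth.Prelude.Def_AlgSt6
import Groth.Prelude.Def_AlgSt5
import Groth.Agent.AlgSp.Basic
import Mathlib.CategoryTheory.Monoidal.Grp

/-!
# Schemes over a base as sheaves over the final sheaf
-/

set_option linter.unusedVariables false
set_option backward.isDefEq.respectTransparency false
set_option backward.isDefEq.respectTransparency.types false

universe u

open CategoryTheory CategoryTheory.Limits AlgebraicGeometry Opposite MonoidalCategory CartesianMonoidalCategory
  MonObj

namespace Groth.Agent.StFib.QuotBr

variable (S : Scheme.{u})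

/-- The final sheaf. -/
abbrev hS : AlgSp.Sp S := (AlgSp.yon S).obj (Over.mk (𝟙 S))

/-- The final sheaf is terminal. -/
noncomputable def hSTerminal : IsTerminal (hS S) :=
  IsTerminal.isTerminalObj (AlgSp.yon S) _ Over.mkIdTerminal

/-- A sheaf over the final sheaf. -/
noncomputable def liftT : AlgSp.Sp S ⥤ Over (hS S) where
  obj F := Over.mk ((hSTerminal S).from F)
  map f := Over.homMk f ((hSTerminal S).hom_ext _ _)

instance : (liftT S).IsEquivalence :=
  have : (liftT S).Faithful := ⟨fun {F F'} f g h => congrArg (fun k => k.left) h⟩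
  have : (liftT S).Full := ⟨fun {F F'} f => ⟨f.left, Over.OverMorphism.ext rfl⟩⟩
  have : (liftT S).EssSurj := ⟨fun Z => ⟨Z.left, ⟨Over.isoMk (Iso.refl _) ((hSTerminal S).hom_ext _ _)⟩⟩⟩
  { }

/-- Schemes over `S` as sheaves over the final sheaf. -/
noncomputable def toH : Over S ⥤ Over (hS S) := AlgSp.yon S ⋙ liftT S

instance : (toH S).Full := inferInstanceAs (AlgSp.yon S ⋙ liftT S).Full
instance : (toH S).Faithful := inferInstanceAs (AlgSp.yon S ⋙ liftT S).Faithful

instance : PreservesLimitsOfShape WalkingCospan (toH S) :=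
  inferInstanceAs (PreservesLimitsOfShape WalkingCospan (AlgSp.yon S ⋙ liftT S))

instance : PreservesFiniteProducts (toH S) :=
  have : PreservesFiniteProducts (AlgSp.yon S) := ⟨fun _ => inferInstance⟩
  inferInstanceAs (PreservesFiniteProducts (AlgSp.yon S ⋙ liftT S))

noncomputable instance : (toH S).Monoidal := Functor.Monoidal.ofChosenFiniteProducts _

variable {S}

noncomputable instance grpH (G : Over S) [GrpObj G] : GrpObj ((toH S).obj G) := (toH S).grpObjObj

open Functor.LaxMonoidal (ε) in
/-- A scheme action as an action on sheaves. -/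
noncomputable def actH {G X : Over S} [GrpObj G] (a : AlgGrp.Action G X) :
    AlgSp.GAction ((toH S).obj G) ((toH S).obj X) where
  act := Functor.LaxMonoidal.μ (toH S) G X ≫ (toH S).map a.act
  one_act := by
    rw [show (η : 𝟙_ (Over (hS S)) ⟶ (toH S).obj G) = ε (toH S) ≫ (toH S).map η from rfl]
    simp only [comp_whiskerRight, Category.assoc, Functor.LaxMonoidal.μ_natural_left_assoc]
    rw [← Functor.map_comp, a.one_act, Functor.LaxMonoidal.left_unitality]
  mul_act := by
    rw [show (MonObj.mul : _ ⟶ (toH S).obj G) = Functor.LaxMonoidal.μ (toH S) G G ≫ (toH S).map MonObj.mul from rfl]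
    simp only [comp_whiskerRight, Category.assoc, Functor.LaxMonoidal.μ_natural_left_assoc,
      MonoidalCategory.whiskerLeft_comp, Functor.LaxMonoidal.μ_natural_right_assoc]
    rw [← Functor.map_comp, a.mul_act, Functor.map_comp, Functor.map_comp,
      ← Functor.LaxMonoidal.associativity_assoc]

theorem actH_act {G X : Over S} [GrpObj G] (a : AlgGrp.Action G X) :
    (actH a).act = Functor.LaxMonoidal.μ (toH S) G X ≫ (toH S).map a.act := rfl

open Functor.LaxMonoidal (ε) in
/-- An action on the sheaf of a scheme comes from a scheme action. -/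
theorem exists_actH {G P : Over S} [GrpObj G] (b : AlgSp.GAction ((toH S).obj G) ((toH S).obj P)) :
    ∃ a : AlgGrp.Action G P, (actH a).act = b.act := by
  obtain ⟨a, ha⟩ := (toH S).map_surjective (inv (Functor.LaxMonoidal.μ (toH S) G P) ≫ b.act)
  have hact : b.act = Functor.LaxMonoidal.μ (toH S) G P ≫ (toH S).map a := by
    rw [ha, IsIso.hom_inv_id_assoc]
  refine ⟨⟨a, ?_, ?_⟩, hact.symm⟩
  · have h := b.one_act
    rw [hact, show (η : 𝟙_ (Over (hS S)) ⟶ (toH S).obj G) = ε (toH S) ≫ (toH S).map η from rfl,
      Functor.LaxMonoidal.left_unitality] at h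
    simp only [comp_whiskerRight, Category.assoc, Functor.LaxMonoidal.μ_natural_left_assoc] at h
    rw [← Functor.map_comp] at h
    exact (toH S).map_injective ((cancel_epi _).1 ((cancel_epi _).1 h))
  · have h := b.mul_act
    rw [hact, show (MonObj.mul : _ ⟶ (toH S).obj G) = Functor.LaxMonoidal.μ (toH S) G G ≫ (toH S).map MonObj.mul from rfl] at h
    simp only [comp_whiskerRight, Category.assoc, Functor.LaxMonoidal.μ_natural_left_assoc,
      MonoidalCategory.whiskerLeft_comp, Functor.LaxMonoidal.μ_natural_right_assoc] at h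
    rw [← Functor.LaxMonoidal.associativity_assoc, ← Functor.map_comp, ← Functor.map_comp, ← Functor.map_comp] at h
    exact (toH S).map_injective ((cancel_epi _).1 ((cancel_epi _).1 h))

end Groth.Agent.StFib.QuotBr
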