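import Groth.Agent.StFib.SliceScheme
import Mathlib.AlgebraicGeometry.Limits
import Mathlib.AlgebraicGeometry.Pullbacks

/-!
# An etale cover cut out of a smooth relation
-/

set_option linter.unusedVariables false
set_option linter.unusedSectionVars false
set_option backward.isDefEq.respectTransparency false
set_option backward.isDefEq.respectTransparency.types false

universe u

open CategoryTheory CategoryTheory.Limits AlgebraicGeometry TopologicalSpace TensorProduct

namespace Groth.Agent.StFib.Slice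

variable {S U V : Scheme.{u}} (πU : U ⟶ S) (s t : V ⟶ U)

theorem isPullback_comp_mono {C : Type*} [Category C] {P X Y Z Z' : C} {f : P ⟶ X} {g : P ⟶ Y} {h : X ⟶ Z}
    {k : Y ⟶ Z} (sq : IsPullback f g h k) (m : Z ⟶ Z') [Mono m] : IsPullback f g (h ≫ m) (k ≫ m) := by
  refine IsPullback.of_isLimit (c := PullbackCone.mk f g (by rw [reassoc_of% sq.w])) ?_
  refine PullbackCone.IsLimit.mk _ (fun c => sq.lift c.fst c.snd ((cancel_mono m).1 (by simpa using c.condition)))
    (fun c => sq.lift_fst _ _ _) (fun c => sq.lift_snd _ _ _) fun c l h1 h2 => sq.hom_ext ?_ ?_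
  · rw [sq.lift_fst]; exact h1
  · rw [sq.lift_snd]; exact h2

theorem ker_eq_primeIdealOf {X : Scheme.{u}} {W : X.Opens} (hW : IsAffineOpen W) {v : X} (hv : v ∈ W)
    {K : Type u} [Field K] (φ : Γ(X, W) →+* K) {z : Spec (CommRingCat.of K)}
    (h : (Spec.map (CommRingCat.ofHom φ) ≫ hW.fromSpec) z = v) :
    RingHom.ker φ = (hW.primeIdealOf ⟨v, hv⟩).asIdeal := by
  have h1 : Spec.map (CommRingCat.ofHom φ) z = hW.primeIdealOf ⟨v, hv⟩ :=
    hW.fromSpec.isOpenEmbedding.injective ((Scheme.Hom.comp_apply _ _ _).symm.trans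
      (h.trans (hW.fromSpec_primeIdealOf ⟨v, hv⟩).symm))
  rw [← h1]
  change RingHom.ker φ = Ideal.comap φ z.asIdeal
  have hz : z.asIdeal = (⊥ : Ideal K) := Ideal.eq_bot_of_prime _
  rw [hz]
  rfl

variable {UB : U.Opens} (hB : IsAffineOpen UB) {d : ℕ} (a : Fin d → Γ(U, UB))

include hB in
/-- Around every point with the same image as a point of an etale chart there are small etale charts. -/
theorem exists_etaleChart_at [Smooth s] (H : TangentRel s t) {UR₁ : U.Opens} {VT₁ : V.Opens}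
    (hR₁ : IsAffineOpen UR₁) (hT₁ : IsAffineOpen VT₁) (hle₁ : VT₁ ≤ s ⁻¹ᵁ UR₁) (hB₁ : VT₁ ≤ t ⁻¹ᵁ UB)
    (he : IsEtaleChart s t a hle₁ hB₁) (v₁ : V) (hv₁ : v₁ ∈ VT₁) (v : V) (hv : t v₁ = t v)
    (O : U.Opens) (hO : s v ∈ O) (O' : V.Opens) (hO' : v ∈ O') :
    ∃ (UR : U.Opens) (VT : V.Opens) (hR : IsAffineOpen UR) (hT : IsAffineOpen VT) (hle : VT ≤ s ⁻¹ᵁ UR)
      (hB' : VT ≤ t ⁻¹ᵁ UB), UR ≤ O ∧ VT ≤ O' ∧ v ∈ VT ∧ IsEtaleChart s t a hle hB' := by
  obtain ⟨_, ⟨UR, (hR : IsAffineOpen UR), rfl⟩, hvR, hRO⟩ :=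
    U.isBasis_affineOpens.exists_subset_of_mem_open (show s v ∈ O from hO) O.isOpen
  obtain ⟨_, ⟨VT, (hT : IsAffineOpen VT), rfl⟩, hv', hVT⟩ := V.isBasis_affineOpens.exists_subset_of_mem_open
    (show v ∈ ((s ⁻¹ᵁ UR) ⊓ (t ⁻¹ᵁ UB) ⊓ O' : V.Opens) from
      ⟨⟨hvR, show t v ∈ UB from hv ▸ hB₁ hv₁⟩, hO'⟩) (Opens.isOpen _)
  have hle : VT ≤ s ⁻¹ᵁ UR := fun x hx => (hVT hx).1.1
  have hB' : VT ≤ t ⁻¹ᵁ UB := fun x hx => (hVT hx).1.2
  obtain ⟨z, hz₁, hz₂⟩ := Scheme.Pullback.exists_preimage_pullback v₁ v hv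
  let P := pullback t t
  let K := P.residueField z
  let m₁ : Spec K ⟶ V := P.fromSpecResidueField z ≫ pullback.fst t t
  let m₂ : Spec K ⟶ V := P.fromSpecResidueField z ≫ pullback.snd t t
  have r₁ : ∀ p, m₁ p = v₁ := fun p => by
    rw [Scheme.Hom.comp_apply, Scheme.fromSpecResidueField_apply]; exact hz₁
  have r₂ : ∀ p, m₂ p = v := fun p => by
    rw [Scheme.Hom.comp_apply, Scheme.fromSpecResidueField_apply]; exact hz₂
  have hr₁ : Set.range m₁ ⊆ Set.range hT₁.fromSpec := by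
    rw [hT₁.range_fromSpec]; rintro _ ⟨p, rfl⟩; rw [r₁]; exact hv₁
  have hr₂ : Set.range m₂ ⊆ Set.range hT.fromSpec := by
    rw [hT.range_fromSpec]; rintro _ ⟨p, rfl⟩; rw [r₂]; exact hv'
  have f₁ := IsOpenImmersion.lift_fac hT₁.fromSpec m₁ hr₁
  have f₂ := IsOpenImmersion.lift_fac hT.fromSpec m₂ hr₂
  let φ₁ : Γ(V, VT₁) →+* K := (Spec.preimage (IsOpenImmersion.lift hT₁.fromSpec m₁ hr₁)).hom
  let φ : Γ(V, VT) →+* K := (Spec.preimage (IsOpenImmersion.lift hT.fromSpec m₂ hr₂)).hom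
  have p₁ : pt hT₁ φ₁ = m₁ := by
    change Spec.map (Spec.preimage _) ≫ hT₁.fromSpec = m₁
    rw [Spec.map_preimage]; exact f₁
  have p₂ : pt hT φ = m₂ := by
    change Spec.map (Spec.preimage _) ≫ hT.fromSpec = m₂
    rw [Spec.map_preimage]; exact f₂
  have hg : GoodAt s t a hle hB' φ := goodAt_transfer s t hB a H hR₁ hT₁ hle₁ hB₁ φ₁ hR hT hle hB' φ
    (by rw [p₁, p₂]; simp only [m₁, m₂, Category.assoc, pullback.condition])
    (goodAt_of_etaleChart s t a hR₁ hT₁ hle₁ hB₁ he φ₁)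
  have hker : RingHom.ker φ = (hT.primeIdealOf ⟨v, hv'⟩).asIdeal :=
    ker_eq_primeIdealOf hT hv' φ (z := IsLocalRing.closedPoint K) (by
      change pt hT φ _ = v
      rw [p₂]; exact r₂ _)
  obtain ⟨f, hvf, hf⟩ := exists_etaleChart s t a hR hT hle hB' hv' φ hker hg
  exact ⟨UR, V.basicOpen f, hR, hT.basicOpen f, _, _, hRO, (V.basicOpen_le f).trans fun x hx => (hVT hx).2,
    hvf, hf⟩

section Piece

variable {SA : S.Opens} (hA : IsAffineOpen SA) (hBA : UB ≤ πU ⁻¹ᵁ SA) (W : U.Opens) (hW : W ≤ UB)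
  {D : Type u} [CommRing D] (ι : Γ(S, SA) →+* D) (x : Fin d → D)

/-- The open set with coordinates, mapping to affine space. -/
noncomputable def toAff : W.toScheme ⟶ Spec (CommRingCat.of (MvPolynomial (Fin d) Γ(S, SA))) :=
  U.homOfLE hW ≫ hB.isoSpec.hom ≫ Spec.map (CommRingCat.ofHom (MvPolynomial.eval₂Hom (πU.appLE SA UB hBA).hom a))

/-- The slice along a point of affine space. -/
noncomputable def piece : Scheme.{u} :=
  pullback (toAff πU hB a hBA W hW) (Spec.map (CommRingCat.ofHom (MvPolynomial.eval₂Hom ι x)))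

/-- The slice mapped into the open set. -/
noncomputable def pieceMap : piece πU hB a hBA W hW ι x ⟶ U := pullback.fst _ _ ≫ W.ι

theorem exists_chart_piece (hst : s ≫ πU = t ≫ πU) {UR : U.Opens} {VT : V.Opens} (hR : IsAffineOpen UR)
    (hT : IsAffineOpen VT) (hle : VT ≤ s ⁻¹ᵁ UR) (hB' : VT ≤ t ⁻¹ᵁ UB) (hRA : UR ≤ πU ⁻¹ᵁ SA)
    (hVW : VT ≤ t ⁻¹ᵁ W) (hι : ι.Etale) (he : IsEtaleChart s t a hle hB') :
    ∃ (Q : Scheme.{u}) (j : Q ⟶ pullback t (pieceMap πU hB a hBA W hW ι x)) (_ : IsOpenImmersion j),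
      Etale (j ≫ pullback.fst _ _ ≫ s) ∧ (∀ z, pullback.fst t (pieceMap πU hB a hBA W hW ι x) z ∈ VT → z ∈ Set.range j) ∧
      ∀ (K : CommRingCat.{u}) (m : Spec K ⟶ Spec Γ(V, VT)) (n : Spec K ⟶ Spec (CommRingCat.of D)),
        m ≫ Spec.map (CommRingCat.ofHom (MvPolynomial.eval₂Hom
            ((s.appLE UR VT hle).hom.comp (πU.appLE SA UR hRA).hom) fun i => (t.appLE UB VT hB').hom (a i))) =
          n ≫ Spec.map (CommRingCat.ofHom (MvPolynomial.eval₂Hom ι x)) →
        ∃ l : Spec K ⟶ Q, l ≫ j ≫ pullback.fst _ _ = m ≫ hT.fromSpec := by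
  let A := Γ(S, SA)
  let R := Γ(U, UR)
  let T := Γ(V, VT)
  let PA := MvPolynomial (Fin d) A
  let PR := MvPolynomial (Fin d) R
  let ct : Fin d → T := fun i => (t.appLE UB VT hB').hom (a i)
  let _ : Algebra A R := (πU.appLE SA UR hRA).hom.toAlgebra
  let _ : Algebra R T := (s.appLE UR VT hle).hom.toAlgebra
  let _ : Algebra A T := ((s.appLE UR VT hle).hom.comp (πU.appLE SA UR hRA).hom).toAlgebra
  have : IsScalarTower A R T := IsScalarTower.of_algebraMap_eq' rfl
  let _ : Algebra A D := ι.toAlgebra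
  let _ : Algebra PA D := (MvPolynomial.eval₂Hom ι x).toAlgebra
  let _ : Algebra PA T := (MvPolynomial.eval₂Hom (algebraMap A T) ct).toAlgebra
  let _ : Algebra PR T := (MvPolynomial.eval₂Hom (s.appLE UR VT hle).hom ct).toAlgebra
  have : IsScalarTower A PA D := IsScalarTower.of_algebraMap_eq fun r => (MvPolynomial.eval₂_C _ _ r).symm
  have : IsScalarTower A PA T := IsScalarTower.of_algebraMap_eq fun r => (MvPolynomial.eval₂_C _ _ r).symm
  have : IsScalarTower R PR T := IsScalarTower.of_algebraMap_eq fun r => (MvPolynomial.eval₂_C _ _ r).symm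
  have : Algebra.Etale A D := hι
  have : Algebra.Etale PR T := he
  have hX : ∀ i, algebraMap PA T (MvPolynomial.X i) = algebraMap PR T (MvPolynomial.X i) := fun i =>
    (MvPolynomial.eval₂_X _ _ i).trans (MvPolynomial.eval₂_X _ _ i).symm
  have hev : (CommRingCat.ofHom (MvPolynomial.eval₂Hom (πU.appLE SA UB hBA).hom a) ≫ t.appLE UB VT hB') =
      CommRingCat.ofHom (algebraMap PA T) := by
    refine CommRingCat.hom_ext (MvPolynomial.ringHom_ext (fun r => ?_) fun i => ?_)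
    · have hcomp : πU.appLE SA UB hBA ≫ t.appLE UB VT hB' = πU.appLE SA UR hRA ≫ s.appLE UR VT hle := by
        rw [Scheme.Hom.appLE_comp_appLE, Scheme.Hom.appLE_comp_appLE]
        simp [hst]
      refine Eq.trans ?_ ((congr($hcomp r)).trans (MvPolynomial.eval₂Hom_C (algebraMap A T) ct r).symm)
      exact congrArg (t.appLE UB VT hB').hom (MvPolynomial.eval₂Hom_C _ _ r)
    · exact (congrArg (t.appLE UB VT hB').hom (MvPolynomial.eval₂Hom_X' _ _ i)).trans
        (MvPolynomial.eval₂Hom_X' (algebraMap A T) ct i).symm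
  let aT : Spec T ⟶ Spec (CommRingCat.of PA) := Spec.map (CommRingCat.ofHom (algebraMap PA T))
  let aD : Spec (CommRingCat.of D) ⟶ Spec (CommRingCat.of PA) := Spec.map (CommRingCat.ofHom (algebraMap PA D))
  let pm := pieceMap πU hB a hBA W hW ι x
  let Q := pullback aT aD
  have hr : Set.range (hT.fromSpec ≫ t) ⊆ Set.range W.ι := by
    rw [W.range_ι]
    rintro _ ⟨p, rfl⟩
    rw [Scheme.Hom.comp_apply]
    exact hVW (hT.range_fromSpec.subset ⟨p, rfl⟩)
  let mT : Spec T ⟶ W.toScheme := IsOpenImmersion.lift W.ι (hT.fromSpec ≫ t) hr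
  have hmT : mT ≫ W.ι = hT.fromSpec ≫ t := IsOpenImmersion.lift_fac _ _ _
  have hmw : mT ≫ toAff πU hB a hBA W hW = aT := by
    have h1 : (mT ≫ U.homOfLE hW ≫ hB.isoSpec.hom) = Spec.map (t.appLE UB VT hB') := by
      rw [← cancel_mono hB.fromSpec, hB.SpecMap_appLE_fromSpec t hT hB', ← hmT]
      rw [Category.assoc, Category.assoc, IsAffineOpen.fromSpec, Iso.hom_inv_id_assoc, Scheme.homOfLE_ι]
    rw [toAff, reassoc_of% h1, ← Spec.map_comp, hev]
  let p₀ : Q ⟶ piece πU hB a hBA W hW ι x := pullback.lift (pullback.fst aT aD ≫ mT) (pullback.snd aT aD)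
    (by rw [Category.assoc, hmw, pullback.condition]; rfl)
  have hp₀1 : p₀ ≫ pullback.fst _ _ = pullback.fst aT aD ≫ mT := pullback.lift_fst _ _ _
  have hp₀2 : p₀ ≫ pullback.snd _ _ = pullback.snd aT aD := pullback.lift_snd _ _ _
  have sq1 : IsPullback p₀ (pullback.fst aT aD) (pullback.fst _ _) mT := by
    refine IsPullback.of_right ?_ hp₀1 (IsPullback.of_hasPullback (toAff πU hB a hBA W hW)
      (Spec.map (CommRingCat.ofHom (MvPolynomial.eval₂Hom ι x)))).flip
    rw [hp₀2, hmw]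
    exact (IsPullback.of_hasPullback aT aD).flip
  have sq2 : IsPullback p₀ (pullback.fst aT aD) pm (hT.fromSpec ≫ t) := hmT ▸ isPullback_comp_mono sq1 W.ι
  let j : Q ⟶ pullback t pm := pullback.lift (pullback.fst aT aD ≫ hT.fromSpec) p₀
    (by rw [Category.assoc]; exact sq2.w.symm)
  have hj1 : j ≫ pullback.fst t pm = pullback.fst aT aD ≫ hT.fromSpec := pullback.lift_fst _ _ _
  have hj2 : j ≫ pullback.snd t pm = p₀ := pullback.lift_snd _ _ _
  have sq3 : IsPullback (pullback.fst aT aD) j hT.fromSpec (pullback.fst t pm) := by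
    refine IsPullback.flip (IsPullback.of_right ?_ hj1 (IsPullback.of_hasPullback t pm).flip)
    rw [hj2]
    exact sq2
  have hjo : IsOpenImmersion j := MorphismProperty.of_isPullback sq3 inferInstance
  refine ⟨Q, j, hjo, ?_, fun z hz => ?_, fun K m n h => ?_⟩
  · have hEt := etale_tensor (A := A) (R := R) (D := D) (T := T) (d := d) hX
    rw [reassoc_of% hj1, ← hR.SpecMap_appLE_fromSpec s hT hle, ← Category.assoc]
    refine MorphismProperty.comp_mem @Etale _ _ ?_ inferInstance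
    have : pullback.fst aT aD ≫ Spec.map (s.appLE UR VT hle) = (pullbackSpecIso PA T D).hom ≫
        Spec.map (CommRingCat.ofHom (Algebra.TensorProduct.includeLeftRingHom.comp (algebraMap R T) :
          R →+* T ⊗[PA] D)) := by
      rw [← pullbackSpecIso_hom_fst PA T D, Category.assoc, ← Spec.map_comp]
      rfl
    rw [this]
    exact (MorphismProperty.cancel_left_of_respectsIso @Etale _ _).2 (HasRingHomProperty.Spec_iff.2 hEt)
  · obtain ⟨p, hp⟩ : pullback.fst t pm z ∈ Set.range hT.fromSpec := hT.range_fromSpec.symm.subset hz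
    obtain ⟨q, -, hq⟩ := Scheme.exists_preimage_of_isPullback sq3 p z hp
    exact ⟨q, hq⟩
  · refine ⟨pullback.lift m n h, ?_⟩
    rw [hj1, pullback.lift_fst_assoc]

include hB in
theorem etale_piece (hst : s ≫ πU = t ≫ πU) [Smooth s] (H : TangentRel s t) {UR₁ : U.Opens} {VT₁ : V.Opens}
    (hR₁ : IsAffineOpen UR₁) (hT₁ : IsAffineOpen VT₁) (hle₁ : VT₁ ≤ s ⁻¹ᵁ UR₁) (hB₁ : VT₁ ≤ t ⁻¹ᵁ UB)
    (he₁ : IsEtaleChart s t a hle₁ hB₁) (hWV : (W : Set U) ⊆ t '' (VT₁ : Set V)) (hι : ι.Etale) :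
    Etale (pullback.fst t (pieceMap πU hB a hBA W hW ι x) ≫ s) := by
  let pm := pieceMap πU hB a hBA W hW ι x
  let P := pullback t pm
  have hmem : ∀ z : P, ∃ (Q : Scheme.{u}) (j : Q ⟶ P) (_ : IsOpenImmersion j),
      Etale (j ≫ pullback.fst t pm ≫ s) ∧ z ∈ Set.range j := by
    intro z
    let v := pullback.fst t pm z
    have hvW : t v ∈ W := by
      have : t v = W.ι (pullback.fst (toAff πU hB a hBA W hW) _ (pullback.snd t pm z)) := by
        rw [← Scheme.Hom.comp_apply, pullback.condition, Scheme.Hom.comp_apply]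
        exact Scheme.Hom.comp_apply _ _ _
      rw [this]
      exact (pullback.fst (toAff πU hB a hBA W hW) _ (pullback.snd t pm z)).2
    obtain ⟨v₁, hv₁, hv⟩ := hWV hvW
    obtain ⟨UR, VT, hR, hT, hle, hB', hRA, hVW, hvT, he⟩ := exists_etaleChart_at s t hB a H hR₁ hT₁ hle₁ hB₁ he₁
      v₁ hv₁ v hv (πU ⁻¹ᵁ SA) (show πU (s v) ∈ SA by
        rw [← Scheme.Hom.comp_apply, hst, Scheme.Hom.comp_apply]; exact hBA (hW hvW)) (t ⁻¹ᵁ W) hvW
    obtain ⟨Q, j, hj, hje, hjr, -⟩ := exists_chart_piece πU s t hB a hBA W hW ι x hst hR hT hle hB' hRA hVW hι he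
    exact ⟨Q, j, hj, hje, hjr z hvT⟩
  choose Q j hj hje hjz using hmem
  let 𝒰 : P.OpenCover := Scheme.Cover.mkOfCovers P Q j (fun z => ⟨z, hjz z⟩) hj
  exact IsZariskiLocalAtSource.of_openCover (P := @Etale) 𝒰 hje

end Piece

/-- A smooth relation with corresponding tangent vectors has an etale slice. -/
theorem exists_slice (hst : s ≫ πU = t ≫ πU) [Smooth s] [Smooth t] [Surjective s] (H : TangentRel s t) :
    ∃ (U' : Scheme.{u}) (q : U' ⟶ U), Etale (pullback.fst t q ≫ s) ∧ Surjective (pullback.fst t q ≫ s) := by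
  have hmain : ∀ u : U, ∃ (Y : Scheme.{u}) (q : Y ⟶ U), Etale (pullback.fst t q ≫ s) ∧
      u ∈ Set.range (pullback.fst t q ≫ s) := by
    intro u
    obtain ⟨v, rfl⟩ := s.surjective u
    obtain ⟨_, ⟨SA, (hA : IsAffineOpen SA), rfl⟩, huA, -⟩ :=
      S.isBasis_affineOpens.exists_subset_of_mem_open (Set.mem_univ (πU (s v))) isOpen_univ
    have hvA : πU (t v) ∈ SA := by
      rw [← Scheme.Hom.comp_apply, ← hst, Scheme.Hom.comp_apply]; exact huA
    obtain ⟨_, ⟨UB, (hB : IsAffineOpen UB), rfl⟩, hvB, hBA⟩ :=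
      U.isBasis_affineOpens.exists_subset_of_mem_open (show t v ∈ (πU ⁻¹ᵁ SA) from hvA) (Opens.isOpen _)
    obtain ⟨d, a, UR₁, VT₁, hR₁, hT₁, hle₁, hB₁, hv₁, he₁⟩ := exists_coordinates s t hB H v hvB
    let W : U.Opens := ⟨t '' (VT₁ : Set V), t.isOpenMap _ VT₁.isOpen⟩
    have hW : W ≤ UB := by rintro _ ⟨y, hy, rfl⟩; exact hB₁ hy
    obtain ⟨UR, VT, hR, hT, hle, hB', hRA, hVW, hvT, he⟩ := exists_etaleChart_at s t hB a H hR₁ hT₁ hle₁ hB₁ he₁
      v hv₁ v rfl (πU ⁻¹ᵁ SA) huA (t ⁻¹ᵁ W) ⟨v, hv₁, rfl⟩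
    -- the image of the chart in affine space over the fibre
    let R := Γ(U, UR)
    let ev := MvPolynomial.eval₂Hom (s.appLE UR VT hle).hom fun i => (t.appLE UB VT hB').hom (a i)
    let g : Spec Γ(V, VT) ⟶ Spec (CommRingCat.of (MvPolynomial (Fin d) R)) := Spec.map (CommRingCat.ofHom ev)
    have : Etale g := HasRingHomProperty.Spec_iff.2 he
    let pv := hT.primeIdealOf ⟨v, hvT⟩
    obtain ⟨_, ⟨_, ⟨c, rfl⟩, rfl⟩, hmc, hcO⟩ := PrimeSpectrum.isBasis_basic_opens.exists_subset_of_mem_open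
      (show g pv ∈ Set.range g from ⟨pv, rfl⟩) g.isOpenMap.isOpen_range
    let Pu := (hR.primeIdealOf ⟨s v, hle hvT⟩).asIdeal
    let F := AlgebraicClosure Pu.ResidueField
    let φ : R →+* F := (algebraMap Pu.ResidueField F).comp (algebraMap R Pu.ResidueField)
    have hφ : ∀ r, φ r = 0 → r ∈ Pu := fun r h => by
      refine (Ideal.algebraMap_residueField_eq_zero (I := Pu)).1 ((map_eq_zero (algebraMap Pu.ResidueField F)).1 h)
    have hc0 : MvPolynomial.map φ c ≠ 0 := fun h0 => by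
      refine hmc ?_
      change c ∈ Ideal.comap ev pv.asIdeal
      rw [MvPolynomial.as_sum c]
      refine Ideal.sum_mem _ fun m _ => ?_
      have h1 : c.coeff m ∈ Pu := hφ _ (by
        have := congrArg (MvPolynomial.coeff m) h0
        simpa [MvPolynomial.coeff_map] using this)
      rw [Ideal.mem_comap, ← mul_one (c.coeff m), ← MvPolynomial.C_mul_monomial, map_mul]
      refine Ideal.mul_mem_right _ _ ?_
      rw [show ev (MvPolynomial.C (c.coeff m)) = (s.appLE UR VT hle).hom (c.coeff m) from MvPolynomial.eval₂_C _ _ _]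
      exact (congrArg PrimeSpectrum.asIdeal
        (IsAffineOpen.comap_primeIdealOf_appLE UR hR VT hT hle hvT)).ge h1
    obtain ⟨D, _, _, hD, σ, x, hσ, hx⟩ := exists_etale_section (φ.comp (πU.appLE SA UR hRA).hom) _ hc0
    let evF := MvPolynomial.eval₂Hom φ fun i => σ (x i)
    let gF : Spec (CommRingCat.of F) ⟶ Spec (CommRingCat.of (MvPolynomial (Fin d) R)) :=
      Spec.map (CommRingCat.ofHom evF)
    obtain ⟨w₁, hw₁⟩ : gF (IsLocalRing.closedPoint F) ∈ Set.range g := hcO (by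
      intro h0
      refine hx ?_
      rw [MvPolynomial.eval_map]
      have hz : (IsLocalRing.closedPoint F).asIdeal = (⊥ : Ideal F) := Ideal.eq_bot_of_prime _
      change evF c ∈ (IsLocalRing.closedPoint F).asIdeal at h0
      rw [hz, Ideal.mem_bot] at h0
      exact h0)
    obtain ⟨z, hz₁, hz₂⟩ := Scheme.Pullback.exists_preimage_pullback (f := g) (g := gF) w₁ (IsLocalRing.closedPoint F) hw₁
    let K := (pullback g gF).residueField z
    let m : Spec K ⟶ Spec Γ(V, VT) := (pullback g gF).fromSpecResidueField z ≫ pullback.fst g gF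
    let n : Spec K ⟶ Spec (CommRingCat.of F) := (pullback g gF).fromSpecResidueField z ≫ pullback.snd g gF
    have hι : (algebraMap Γ(S, SA) D).Etale := RingHom.etale_algebraMap.2 hD
    obtain ⟨Q, j, hj, hje, hjr, hjl⟩ := exists_chart_piece πU s t hB a hBA W hW (algebraMap Γ(S, SA) D) x hst
      hR hT hle hB' hRA hVW hι he
    let mA : CommRingCat.of (MvPolynomial (Fin d) Γ(S, SA)) ⟶ CommRingCat.of (MvPolynomial (Fin d) R) :=
      CommRingCat.ofHom (MvPolynomial.map (πU.appLE SA UR hRA).hom)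
    have e1 : Spec.map (CommRingCat.ofHom (MvPolynomial.eval₂Hom
        ((s.appLE UR VT hle).hom.comp (πU.appLE SA UR hRA).hom) fun i => (t.appLE UB VT hB').hom (a i))) =
          g ≫ Spec.map mA := by
      rw [← Spec.map_comp]
      congr 1
      refine CommRingCat.hom_ext (MvPolynomial.ringHom_ext (fun r => ?_) fun i => ?_)
      · simp [mA, ev]
        exact (MvPolynomial.eval₂Hom_C _ _ _).symm
      · simp [mA, ev]
        exact (MvPolynomial.eval₂_X (s.appLE UR VT hle).hom (fun i => (t.appLE UB VT hB').hom (a i)) i).symm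
    have e2 : Spec.map (CommRingCat.ofHom σ) ≫
        Spec.map (CommRingCat.ofHom (MvPolynomial.eval₂Hom (algebraMap Γ(S, SA) D) x)) = gF ≫ Spec.map mA := by
      rw [← Spec.map_comp, ← Spec.map_comp]
      congr 1
      refine CommRingCat.hom_ext (MvPolynomial.ringHom_ext (fun r => ?_) fun i => ?_)
      · simpa [mA, evF] using congr($hσ r)
      · simp [mA, evF]
    obtain ⟨l, hl⟩ := hjl K m (n ≫ Spec.map (CommRingCat.ofHom σ)) (by
      rw [e1, Category.assoc n, e2]
      simp only [m, n, Category.assoc, pullback.condition_assoc])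
    refine ⟨_, pieceMap πU hB a hBA W hW (algebraMap Γ(S, SA) D) x,
      etale_piece πU s t hB a hBA W hW (algebraMap Γ(S, SA) D) x hst H hR₁ hT₁ hle₁ hB₁ he₁ subset_rfl hι,
      (l ≫ j) (IsLocalRing.closedPoint K), ?_⟩
    have hms : m ≫ Spec.map (s.appLE UR VT hle) = n ≫ Spec.map (CommRingCat.ofHom φ) := by
      have hg' : Spec.map (s.appLE UR VT hle) =
          g ≫ Spec.map (CommRingCat.ofHom (MvPolynomial.C : R →+* MvPolynomial (Fin d) R)) := by
        rw [← Spec.map_comp]; congr 1; ext r; simp [ev]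
      have hF' : Spec.map (CommRingCat.ofHom φ) =
          gF ≫ Spec.map (CommRingCat.ofHom (MvPolynomial.C : R →+* MvPolynomial (Fin d) R)) := by
        rw [← Spec.map_comp]; congr 1; ext r; simp [evF]
      rw [hg', hF']
      simp only [m, n, Category.assoc, pullback.condition_assoc]
    calc (pullback.fst t _ ≫ s) ((l ≫ j) (IsLocalRing.closedPoint K))
        = (l ≫ j ≫ pullback.fst t _ ≫ s) (IsLocalRing.closedPoint K) := by simp
      _ = (m ≫ Spec.map (s.appLE UR VT hle) ≫ hR.fromSpec) (IsLocalRing.closedPoint K) := by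
        rw [hR.SpecMap_appLE_fromSpec s hT hle, reassoc_of% hl]
      _ = hR.fromSpec ((n ≫ Spec.map (CommRingCat.ofHom φ)) (IsLocalRing.closedPoint K)) := by
        rw [← hms]; simp; rfl
      _ = s v := by
        refine Eq.trans (congrArg hR.fromSpec (PrimeSpectrum.ext ?_)) (hR.fromSpec_primeIdealOf ⟨s v, hle hvT⟩)
        change Ideal.comap φ (n (IsLocalRing.closedPoint K)).asIdeal = Pu
        have hz : (n (IsLocalRing.closedPoint K)).asIdeal = (⊥ : Ideal F) := Ideal.eq_bot_of_prime _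
        rw [hz]
        refine le_antisymm (fun r hr => hφ r hr) fun r hr => ?_
        change φ r = 0
        change algebraMap Pu.ResidueField F (algebraMap R Pu.ResidueField r) = 0
        rw [show algebraMap R Pu.ResidueField r = 0 from Ideal.algebraMap_residueField_eq_zero.2 hr, map_zero]
  choose Y q hq hu using hmain
  let q' : (∐ Y) ⟶ U := Sigma.desc q
  let 𝒰 := (sigmaOpenCover Y)
  refine ⟨∐ Y, q', ?_, ⟨fun u => ?_⟩⟩
  · let P := pullback t q'
    let jj : ∀ i, pullback t (q i) ⟶ P := fun i => pullback.map t (q i) t q' (𝟙 V) (Sigma.ι Y i) (𝟙 U)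
      (by simp) (by simp [q'])
    have sq : ∀ i, IsPullback (jj i) (pullback.snd t (q i)) (pullback.snd t q') (Sigma.ι Y i) := fun i => by
      refine IsPullback.of_right (h₁₂ := pullback.fst t q') (v₁₃ := t) (h₂₂ := q') ?_ (by simp [jj]) (IsPullback.of_hasPullback t q')
      rw [show jj i ≫ pullback.fst t q' = pullback.fst t (q i) by simp [jj],
        show Sigma.ι Y i ≫ q' = q i by simp [q']]
      exact IsPullback.of_hasPullback t (q i)
    have hj : ∀ i, IsOpenImmersion (jj i) := fun i => MorphismProperty.of_isPullback (sq i).flip inferInstance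
    have hcov : ∀ z : P, ∃ i, z ∈ Set.range (jj i) := fun z => by
      obtain ⟨y, hy⟩ := 𝒰.covers (pullback.snd t q' z)
      obtain ⟨w, hw, -⟩ := Scheme.exists_preimage_of_isPullback (sq _) z y hy.symm
      exact ⟨_, w, hw⟩
    let 𝒱 : P.OpenCover := Scheme.Cover.mkOfCovers U (fun i => pullback t (q i)) jj hcov hj
    refine IsZariskiLocalAtSource.of_openCover (P := @Etale) 𝒱 fun i => ?_
    change Etale (jj i ≫ pullback.fst t q' ≫ s)
    rw [show jj i ≫ pullback.fst t q' ≫ s = pullback.fst t (q i) ≫ s by simp [jj]]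
    exact hq i
  · obtain ⟨z, hz⟩ := hu u
    refine ⟨(pullback.map t (q u) t q' (𝟙 V) (Sigma.ι Y u) (𝟙 U) (by simp) (by simp [q'])) z, ?_⟩
    refine (Scheme.Hom.comp_apply _ _ _).symm.trans (Eq.trans ?_ hz)
    congr 2
    simp

end Groth.Agent.StFib.Slice
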