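import Mathlib.RingTheory.Kaehler.Basic
import Mathlib.RingTheory.Kaehler.Polynomial
import Mathlib.RingTheory.Etale.StandardEtale
import Mathlib.RingTheory.Etale.Locus
import Mathlib.RingTheory.RingHom.Etale
import Mathlib.RingTheory.RootsOfUnity.AlgebraicallyClosed
import Mathlib.FieldTheory.IsAlgClosed.AlgebraicClosure
import Mathlib.Combinatorics.Nullstellensatz
import Mathlib.LinearAlgebra.Dual.Lemmas
import Groth.Agent.EtStruct.Tower

/-!
# Slicing smooth algebras: tangent coordinates, etale points
-/

set_option linter.unusedVariables false
set_option linter.unusedSectionVars false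
set_option linter.unusedSimpArgs false
set_option backward.isDefEq.respectTransparency false
set_option backward.isDefEq.respectTransparency.types false

universe u

open TensorProduct

namespace Groth.Agent.StFib.Slice

section Tangent

variable {R T : Type u} [CommRing R] [CommRing T] [Algebra R T]
  (K : Type u) [Field K] [Algebra T K] [Algebra R K] [IsScalarTower R T K]

/-- Coordinates of a tangent vector at a `K`-point. -/
def tangentMap {d : ℕ} (a : Fin d → T) : Derivation R T K →ₗ[K] (Fin d → K) where
  toFun D i := D (a i)
  map_add' _ _ := rfl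
  map_smul' _ _ := rfl

variable {K}

theorem tangentMap_apply {d : ℕ} (a : Fin d → T) (D : Derivation R T K) (i : Fin d) :
    tangentMap K a D i = D (a i) := rfl

/-- Elements of a family separating tangent vectors contain a system of tangent coordinates. -/
theorem exists_bijective_tangentMap [Algebra.FiniteType R T] {B : Type u} (g : B → T)
    (h : ∀ D : Derivation R T K, (∀ b, D (g b) = 0) → D = 0) :
    ∃ (d : ℕ) (a : Fin d → B), Function.Bijective (tangentMap K (R := R) fun i => g (a i)) := by
  obtain ⟨t, ht⟩ := Algebra.FiniteType.out (R := R) (A := T)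
  let e : Derivation R T K →ₗ[K] (t → K) :=
    { toFun := fun D x => D x.1, map_add' := fun _ _ => rfl, map_smul' := fun _ _ => rfl }
  have : FiniteDimensional K (Derivation R T K) := FiniteDimensional.of_injective e fun D D' hD =>
    Derivation.ext_of_adjoin_eq_top (t : Set T) ht fun x hx => congrFun hD ⟨x, hx⟩
  let ev : B → Module.Dual K (Derivation R T K) := fun b =>
    { toFun := fun D => D (g b), map_add' := fun _ _ => rfl, map_smul' := fun _ _ => rfl }
  have hspan : Submodule.span K (Set.range ev) = ⊤ := by
    refine Submodule.span_eq_top_of_ne_zero fun D hD => ?_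
    obtain ⟨b, hb⟩ := not_forall.1 fun H => hD (h D H)
    exact ⟨ev b, ⟨b, rfl⟩, hb⟩
  obtain ⟨κ, f, -, hsp, hli⟩ := exists_linearIndependent' K ev
  rw [hspan] at hsp
  have : Finite κ := hli.finite
  have : Fintype κ := Fintype.ofFinite κ
  let eκ := Fintype.equivFin κ
  let a : Fin (Fintype.card κ) → B := fun i => f (eκ.symm i)
  refine ⟨Fintype.card κ, a, ?_⟩
  have hinj : Function.Injective (tangentMap K (R := R) fun i => g (a i)) := by
    refine (injective_iff_map_eq_zero _).2 fun D hD => ?_
    have : ∀ φ : Module.Dual K (Derivation R T K), φ D = 0 := by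
      intro φ
      have hφ : φ ∈ Submodule.span K (Set.range (ev ∘ f)) := hsp ▸ Submodule.mem_top
      induction hφ using Submodule.span_induction with
      | mem x hx =>
        obtain ⟨k, rfl⟩ := hx
        have := congrFun hD (eκ k)
        simpa [a, tangentMap_apply, ev] using this
      | zero => rfl
      | add x y _ _ hx hy => simp [hx, hy]
      | smul c x _ hx => simp [hx]
    exact (Module.forall_dual_apply_eq_zero_iff K D).1 this
  refine ⟨hinj, (LinearMap.injective_iff_surjective_of_finrank_eq_finrank ?_).1 hinj⟩
  rw [Module.finrank_fintype_fun_eq_card, Fintype.card_fin, ← Subspace.dual_finrank_eq]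
  exact Module.finrank_eq_card_basis (Module.Basis.mk hli hsp.ge)

variable {k : Type u} [Field k] [Algebra T k] [Algebra R k] [IsScalarTower R T k]
  [Algebra k K] [IsScalarTower T k K]

/-- Being a system of tangent coordinates does not depend on the field. -/
theorem bijective_tangentMap_iff {d : ℕ} (a : Fin d → T) :
    Function.Bijective (tangentMap K (R := R) a) ↔ Function.Bijective (tangentMap k (R := R) a) := by
  have : IsScalarTower R k K := IsScalarTower.of_algebraMap_eq fun r => by
    rw [IsScalarTower.algebraMap_apply R T K, IsScalarTower.algebraMap_apply R T k,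
      ← IsScalarTower.algebraMap_apply T k K]
  let inc : k →ₗ[T] K := (IsScalarTower.toAlgHom T k K).toLinearMap
  constructor
  · rintro ⟨hi, hs⟩
    refine ⟨(injective_iff_map_eq_zero _).2 fun D hD => ?_, fun c => ?_⟩
    · have h0 : inc.compDer D = (0 : Derivation R T K) := hi (funext fun i => by
        have := congrFun hD i
        simp [tangentMap_apply] at this ⊢
        simp [this])
      ext x
      exact (algebraMap k K).injective ((congr($h0 x)).trans (map_zero _).symm)
    · obtain ⟨D, hD⟩ := hs fun i => algebraMap k K (c i)
      obtain ⟨r, hr⟩ := (Algebra.linearMap k K).exists_leftInverse_of_injective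
        (LinearMap.ker_eq_bot.2 (algebraMap k K).injective)
      refine ⟨(r.restrictScalars T).compDer D, funext fun i => ?_⟩
      have := congr($hr (c i))
      simp [tangentMap_apply] at this ⊢
      rw [show D (a i) = algebraMap k K (c i) from congrFun hD i]
      exact this
  · rintro ⟨hi, hs⟩
    refine ⟨(injective_iff_map_eq_zero _).2 fun D hD => ?_, fun c => ?_⟩
    · ext x
      refine (Module.forall_dual_apply_eq_zero_iff k (D x)).1 fun r => ?_
      have h0 : (r.restrictScalars T).compDer D = (0 : Derivation R T k) := hi (funext fun i => by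
        have := congrFun hD i
        simp [tangentMap_apply] at this ⊢
        simp [this])
      exact congr($h0 x)
    · choose D hD using fun j : Fin d => hs (Pi.single j 1)
      refine ⟨∑ j, c j • inc.compDer (D j), ?_⟩
      rw [map_sum]
      funext i
      simp only [map_smul, Finset.sum_apply, Pi.smul_apply]
      have hv : ∀ j, tangentMap K (R := R) a (inc.compDer (D j)) i = if i = j then 1 else 0 := fun j => by
        change algebraMap k K (D j (a i)) = _
        rw [show D j (a i) = (Pi.single j (1 : k) : Fin d → k) i from congrFun (hD j) i, Pi.single_apply]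
        split_ifs <;> simp
      simp [hv, smul_eq_mul]

end Tangent

section Poly

variable {R T : Type u} [CommRing R] [CommRing T] [Algebra R T] {d : ℕ}
  [Algebra (MvPolynomial (Fin d) R) T] [IsScalarTower R (MvPolynomial (Fin d) R) T]

local notation "Q" => MvPolynomial (Fin d) R

attribute [-instance] IsLocalRing.instModuleResidueFieldOfAlgebra

theorem derivation_eq_zero_of_X {M : Type u} [AddCommGroup M] [Module T M] [Module R M] [IsScalarTower R T M]
    (D : Derivation R T M) (h : ∀ i, D (algebraMap Q T (MvPolynomial.X i)) = 0) (x : Q) :
    D (algebraMap Q T x) = 0 := by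
  induction x using MvPolynomial.induction_on with
  | C r =>
    rw [← MvPolynomial.algebraMap_eq, ← IsScalarTower.algebraMap_apply]
    exact D.map_algebraMap r
  | add p q hp hq => simp [map_add, hp, hq]
  | mul_X p i hp => simp [map_mul, D.leibniz, hp, h i]

/-- Tangent coordinates at the residue field give an etale map to affine space. -/
theorem isEtaleAt_of_bijective [Algebra.Smooth R T] (p : Ideal T) [p.IsPrime]
    [Algebra R p.ResidueField] [IsScalarTower R T p.ResidueField]
    (h : Function.Bijective (tangentMap p.ResidueField (R := R) fun i : Fin d => algebraMap Q T (MvPolynomial.X i))) :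
    Algebra.IsEtaleAt Q p := by
  have : Algebra.FiniteType Q T := Algebra.FiniteType.of_restrictScalars_finiteType R Q T
  have hC : Algebra.IsSmoothAt R p := by
    have : Algebra.FormallyEtale T (Localization.AtPrime p) := .of_isLocalization p.primeCompl
    exact Algebra.FormallySmooth.comp R T _
  let k := p.ResidueField
  have hsm : Algebra.IsSmoothAt Q p := by
    rw [EtStruct.isSmoothAt_tower_iff_injective (R := R) p hC]
    let b := ((KaehlerDifferential.mvPolynomialBasis R (Fin d)).baseChange T).baseChange k
    have hb : ∀ i, (KaehlerDifferential.mapBaseChange R Q T).lTensor k (b i) =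
        (1 : k) ⊗ₜ[T] KaehlerDifferential.D R T (algebraMap Q T (MvPolynomial.X i)) := fun i => by
      simp [b]
    have hli : LinearIndependent k fun i : Fin d =>
        (1 : k) ⊗ₜ[T] KaehlerDifferential.D R T (algebraMap Q T (MvPolynomial.X i)) := by
      rw [Fintype.linearIndependent_iff]
      intro c hc j
      obtain ⟨D, hD⟩ := h.2 (Pi.single j 1)
      let ℓ : KaehlerDifferential R T →ₗ[T] k := D.liftKaehlerDifferential
      have hℓ : ∀ t, ℓ (KaehlerDifferential.D R T t) = D t := D.liftKaehlerDifferential_comp_D
      have := congrArg (LinearMap.liftBaseChange k ℓ) hc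
      simp only [map_sum, map_smul, LinearMap.liftBaseChange_tmul, one_smul,
        hℓ, map_zero, smul_eq_mul] at this
      simpa [show ∀ i, D (algebraMap Q T (MvPolynomial.X i)) = (Pi.single j (1 : k) : Fin d → k) i from
        fun i => congrFun hD i, Pi.single_apply] using this
    let L : k ⊗[T] (T ⊗[Q] KaehlerDifferential R Q) →ₗ[k] k ⊗[T] KaehlerDifferential R T :=
      (KaehlerDifferential.mapBaseChange R Q T).baseChange k
    change Function.Injective L
    refine LinearMap.ker_eq_bot.1 (LinearMap.ker_eq_bot'.2 fun x hx => ?_)
    rw [← b.sum_repr x] at hx ⊢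
    simp only [map_sum, map_smul] at hx
    have := Fintype.linearIndependent_iff.1 hli (fun i => b.repr x i) (by
      convert hx using 4 with i _
      exact (hb i).symm)
    simp [this]
  have hun : Algebra.IsUnramifiedAt Q p := by
    change (⟨p, inferInstance⟩ : PrimeSpectrum T) ∈ Algebra.unramifiedLocus Q T
    rw [Algebra.unramifiedLocus_eq_compl_support, Set.mem_compl_iff,
      Module.mem_support_iff_nontrivial_residueField_tensorProduct, not_nontrivial_iff_subsingleton]
    refine subsingleton_of_forall_eq 0 fun x => ?_
    refine (Module.forall_dual_apply_eq_zero_iff k x).1 fun φ => ?_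
    let ℓ : KaehlerDifferential Q T →ₗ[T] k := (φ.restrictScalars T).comp (TensorProduct.mk T k _ 1)
    let D : Derivation R T k := (ℓ.comp (KaehlerDifferential.map R Q T T)).compDer (KaehlerDifferential.D R T)
    have hDt : ∀ t, D t = ℓ (KaehlerDifferential.D Q T t) := fun t => by
      change ℓ (KaehlerDifferential.map R Q T T (KaehlerDifferential.D R T t)) = _
      simp
    have hD : D = 0 := h.1 (a₂ := (0 : Derivation R T k)) (funext fun i => by
      rw [tangentMap_apply, tangentMap_apply, hDt, (KaehlerDifferential.D Q T).map_algebraMap, map_zero]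
      rfl)
    induction x with
    | zero => simp
    | add x y hx hy => simp [hx, hy]
    | tmul c w =>
      have hw : w ∈ Submodule.span T (Set.range (KaehlerDifferential.D Q T)) := by
        rw [KaehlerDifferential.span_range_derivation]; trivial
      have h1 : ℓ w = 0 := by
        induction hw using Submodule.span_induction with
        | mem y hy =>
          obtain ⟨t, rfl⟩ := hy
          rw [← hDt]; exact congr($hD t)
        | zero => simp
        | add y z _ _ hy hz => simp [hy, hz]
        | smul t y _ hy => simp [hy]
      have : c ⊗ₜ[T] w = c • ((1 : k) ⊗ₜ[T] w) := by simp [TensorProduct.smul_tmul']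
      rw [this, map_smul, show φ ((1 : k) ⊗ₜ[T] w) = ℓ w from rfl, h1, smul_zero]
  exact Algebra.FormallyEtale.of_formallyUnramified_and_formallySmooth

/-- An etale map to affine space gives tangent coordinates at every point. -/
theorem bijective_of_formallyEtale [Algebra.FormallyEtale Q T] [Algebra.FormallySmooth R T]
    (K : Type u) [Field K] [Algebra T K] [Algebra R K] [IsScalarTower R T K] :
    Function.Bijective (tangentMap K (R := R) fun i : Fin d => algebraMap Q T (MvPolynomial.X i)) := by
  have he := (EtStruct.formallyEtale_iff_bijective R Q T).1 inferInstance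
  let e := LinearEquiv.ofBijective _ he
  let b := (KaehlerDifferential.mvPolynomialBasis R (Fin d)).baseChange T
  have hb : ∀ i, e (b i) = KaehlerDifferential.D R T (algebraMap Q T (MvPolynomial.X i)) := fun i => by
    simp [e, b]
  let bT := b.map e
  refine ⟨fun D D' h => ?_, fun c => ⟨(bT.constr T c).compDer (KaehlerDifferential.D R T), ?_⟩⟩
  · have : D.liftKaehlerDifferential = D'.liftKaehlerDifferential := bT.ext fun i => by
      simp only [bT, Module.Basis.map_apply, hb, Derivation.liftKaehlerDifferential_comp_D]
      exact congrFun h i
    ext x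
    rw [← D.liftKaehlerDifferential_comp_D, this, D'.liftKaehlerDifferential_comp_D]
  · funext i
    change bT.constr T c (KaehlerDifferential.D R T (algebraMap Q T (MvPolynomial.X i))) = c i
    rw [← hb, ← Module.Basis.map_apply b e i, Module.Basis.constr_basis]

end Poly

/-- A nonzero polynomial over an algebraically closed field takes a nonzero value at a point which comes from a
point of an etale algebra over any given subring. -/
theorem exists_etale_section {A : Type u} [CommRing A] {F : Type u} [Field F] [IsAlgClosed F] (φ : A →+* F)
    {d : ℕ} (h : MvPolynomial (Fin d) F) (hh : h ≠ 0) :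
    ∃ (D : Type u) (_ : CommRing D) (_ : Algebra A D) (_ : Algebra.Etale A D) (σ : D →+* F) (x : Fin d → D),
      σ.comp (algebraMap A D) = φ ∧ MvPolynomial.eval (fun i => σ (x i)) h ≠ 0 := by
  classical
  obtain ⟨n, hn, hnp⟩ := Nat.exists_infinite_primes (max h.totalDegree (ringChar F) + 1)
  have hnF : (n : F) ≠ 0 := fun h0 => by
    rcases (Nat.dvd_prime hnp).1 ((ringChar.spec F n).1 h0) with h2 | h2
    · exact CharP.ringChar_ne_one h2
    · omega
  have : NeZero n := ⟨hnp.ne_zero⟩
  have : NeZero (n : F) := ⟨hnF⟩
  obtain ⟨ζ, hζ⟩ := HasEnoughRootsOfUnity.exists_primitiveRoot F n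
  let roots : Finset F := (Finset.range n).image (ζ ^ ·)
  have hcard : roots.card = n := by
    rw [Finset.card_image_of_injOn, Finset.card_range]
    intro i hi j hj hij
    exact hζ.pow_inj (Finset.mem_range.1 hi) (Finset.mem_range.1 hj) hij
  obtain ⟨y, hy, hy0⟩ : ∃ y : Fin d → F, (∀ i, y i ∈ roots) ∧ MvPolynomial.eval y h ≠ 0 := by
    by_contra H
    refine hh (MvPolynomial.eq_zero_of_eval_zero_at_prod_finset h (fun _ => roots) (fun i => ?_)
      fun x hx => not_not.1 fun hx0 => H ⟨x, hx, hx0⟩)
    calc h.degreeOf i ≤ h.totalDegree := MvPolynomial.degreeOf_le_totalDegree _ _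
      _ < n := by omega
      _ = roots.card := hcard.symm
  choose e he he' using fun i => Finset.mem_image.1 (hy i)
  open Polynomial in
  let pr : StandardEtalePair A :=
    { f := X ^ n - C 1
      monic_f := monic_X_pow_sub_C 1 hnp.ne_zero
      g := C (n : A)
      cond := ⟨X, -C (n : A), 1, by
        obtain ⟨m, rfl⟩ := Nat.exists_eq_succ_of_ne_zero hnp.ne_zero
        simp [derivative_pow, Nat.succ_eq_add_one]
        ring⟩ }
  let _ : Algebra A F := φ.toAlgebra
  have hmap : pr.HasMap (ζ : F) := by
    refine ⟨?_, ?_⟩
    · simp [pr, hζ.pow_eq_one]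
    · simp [pr]
      exact hnF
  let σ := pr.lift ζ hmap
  refine ⟨pr.Ring, inferInstance, inferInstance, inferInstance, σ.toRingHom, fun i => pr.X ^ e i,
    RingHom.ext σ.commutes, ?_⟩
  convert hy0 using 3
  funext i
  change σ (pr.X ^ e i) = y i
  rw [map_pow, pr.lift_X ζ hmap, he' i]

section Tensor

variable {A R D T : Type u} [CommRing A] [CommRing R] [CommRing D] [CommRing T] {d : ℕ}
  [Algebra A R] [Algebra A D] [Algebra A T] [Algebra R T] [IsScalarTower A R T]
  [Algebra (MvPolynomial (Fin d) A) D] [IsScalarTower A (MvPolynomial (Fin d) A) D]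
  [Algebra (MvPolynomial (Fin d) A) T] [IsScalarTower A (MvPolynomial (Fin d) A) T]
  [Algebra (MvPolynomial (Fin d) R) T] [IsScalarTower R (MvPolynomial (Fin d) R) T]

/-- The restriction of an etale map to affine space along an etale point of affine space is etale. -/
theorem etale_tensor [Algebra.Etale A D] [Algebra.Etale (MvPolynomial (Fin d) R) T]
    (hX : ∀ i, algebraMap (MvPolynomial (Fin d) A) T (MvPolynomial.X i) =
      algebraMap (MvPolynomial (Fin d) R) T (MvPolynomial.X i)) :
    (Algebra.TensorProduct.includeLeftRingHom.comp (algebraMap R T) :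
      R →+* T ⊗[MvPolynomial (Fin d) A] D).Etale := by
  let PA := MvPolynomial (Fin d) A
  let PR := MvPolynomial (Fin d) R
  let W := T ⊗[PA] D
  have : Algebra.FinitePresentation PA D :=
    Algebra.FinitePresentation.of_restrict_scalars_finitePresentation A _ _
  have : Algebra.FinitePresentation R T := Algebra.FinitePresentation.trans R PR T
  have : Algebra.FinitePresentation R W := Algebra.FinitePresentation.trans R T W
  have hfe : Algebra.FormallyEtale R W := by
    rw [Algebra.FormallyEtale.iff_comp_bijective]
    intro C _ _ I hI
    let _ : Algebra A C := ((algebraMap R C).comp (algebraMap A R)).toAlgebra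
    have : IsScalarTower A R C := IsScalarTower.of_algebraMap_eq fun _ => rfl
    let iL : T →ₐ[R] W := IsScalarTower.toAlgHom R T W
    let iR : D →ₐ[A] W := (Algebra.TensorProduct.includeRight (R := PA) (A := T)).restrictScalars A
    have hrel : ∀ i, iL (algebraMap PR T (MvPolynomial.X i)) = iR (algebraMap PA D (MvPolynomial.X i)) := by
      intro i
      rw [← hX]
      change algebraMap T W (algebraMap PA T _) = (1 : T) ⊗ₜ[PA] algebraMap PA D _
      exact Algebra.TensorProduct.tmul_one_eq_one_tmul _
    constructor
    · intro g g' hgg
      have hD : (g.restrictScalars A).comp iR = (g'.restrictScalars A).comp iR :=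
        (Algebra.FormallyEtale.comp_bijective A D I hI).1 (AlgHom.ext fun x => congr($hgg (iR x)))
      let v : Fin d → C := fun i => g (iR (algebraMap PA D (MvPolynomial.X i)))
      let _ : Algebra PR C := (MvPolynomial.aeval v).toRingHom.toAlgebra
      have : IsScalarTower R PR C := IsScalarTower.of_algebraMap_eq fun r => (MvPolynomial.aeval v).commutes r |>.symm
      have hg : ∀ γ : W →ₐ[R] C, (∀ i, γ (iR (algebraMap PA D (MvPolynomial.X i))) = v i) →
          ∀ x : PR, γ (iL (algebraMap PR T x)) = algebraMap PR C x := fun γ hγ x =>
        congr($(MvPolynomial.algHom_ext (f := (γ.comp iL).comp (IsScalarTower.toAlgHom R PR T))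
          (g := MvPolynomial.aeval v) fun i => by
            change γ (iL (algebraMap PR T (MvPolynomial.X i))) = _
            rw [hrel, hγ, MvPolynomial.aeval_X]) x)
      let gT : T →ₐ[PR] C := { (g.comp iL).toRingHom with commutes' := hg g fun i => rfl }
      let gT' : T →ₐ[PR] C := { (g'.comp iL).toRingHom with commutes' := hg g' fun i => congr($hD _).symm }
      have hT : gT = gT' := (Algebra.FormallyEtale.comp_bijective PR T I hI).1
        (AlgHom.ext fun x => congr($hgg (iL x)))
      refine AlgHom.ext fun w => ?_
      induction w using TensorProduct.induction_on with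
      | zero => simp
      | add a b ha hb => simp [map_add, ha, hb]
      | tmul t x =>
        rw [show t ⊗ₜ[PA] x = iL t * iR x by simp [iL, iR, W, Algebra.TensorProduct.algebraMap_apply],
          map_mul, map_mul, show g (iL t) = g' (iL t) from congr($hT t), show g (iR x) = g' (iR x) from congr($hD x)]
    · intro f
      obtain ⟨gD, hgD⟩ := (Algebra.FormallyEtale.comp_bijective A D I hI).2 ((f.restrictScalars A).comp iR)
      let v : Fin d → C := fun i => gD (algebraMap PA D (MvPolynomial.X i))
      let _ : Algebra PR C := (MvPolynomial.aeval v).toRingHom.toAlgebra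
      have : IsScalarTower R PR C := IsScalarTower.of_algebraMap_eq fun r => (MvPolynomial.aeval v).commutes r |>.symm
      let fT : T →ₐ[PR] C ⧸ I :=
        { (f.comp iL).toRingHom with
          commutes' := fun x => congr($(MvPolynomial.algHom_ext
            (f := (f.comp iL).comp (IsScalarTower.toAlgHom R PR T))
            (g := (Ideal.Quotient.mkₐ R I).comp (MvPolynomial.aeval v)) fun i => by
              change f (iL (algebraMap PR T (MvPolynomial.X i))) = Ideal.Quotient.mk I (MvPolynomial.aeval v (MvPolynomial.X i))
              rw [hrel, MvPolynomial.aeval_X]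
              exact congr($hgD (algebraMap PA D (MvPolynomial.X i))).symm) x) }
      obtain ⟨gT, hgT⟩ := (Algebra.FormallyEtale.comp_bijective PR T I hI).2 fT
      let _ : Algebra PA C := (MvPolynomial.aeval v).toRingHom.toAlgebra
      have : IsScalarTower A PA C := IsScalarTower.of_algebraMap_eq fun r => (MvPolynomial.aeval v).commutes r |>.symm
      have h1 : ∀ x : PA, gT (algebraMap PA T x) = algebraMap PA C x := fun x =>
        congr($(MvPolynomial.algHom_ext
          (f := (gT.restrictScalars R |>.restrictScalars A).comp (IsScalarTower.toAlgHom A PA T))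
          (g := MvPolynomial.aeval v) fun i => by
            change gT (algebraMap PA T (MvPolynomial.X i)) = MvPolynomial.aeval v (MvPolynomial.X i)
            rw [hX, gT.commutes, MvPolynomial.aeval_X]
            exact MvPolynomial.aeval_X _ _) x)
      have h2 : ∀ x : PA, gD (algebraMap PA D x) = algebraMap PA C x := fun x =>
        congr($(MvPolynomial.algHom_ext (f := gD.comp (IsScalarTower.toAlgHom A PA D))
          (g := MvPolynomial.aeval v) fun i => by
            change gD (algebraMap PA D (MvPolynomial.X i)) = MvPolynomial.aeval v (MvPolynomial.X i)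
            rw [MvPolynomial.aeval_X]) x)
      let G₁ : T →ₐ[PA] C := { gT.toRingHom with commutes' := h1 }
      let G₂ : D →ₐ[PA] C := { gD.toRingHom with commutes' := h2 }
      let G : W →ₐ[PA] C := Algebra.TensorProduct.lift G₁ G₂ fun _ _ => Commute.all _ _
      refine ⟨{ G.toRingHom with commutes' := fun r => ?_ }, AlgHom.ext fun w => ?_⟩
      · change G (algebraMap R T r ⊗ₜ[PA] 1) = _
        refine (Algebra.TensorProduct.lift_tmul G₁ G₂ _ _ _).trans ?_
        rw [map_one, mul_one]
        exact (gT.restrictScalars R).commutes r
      · induction w using TensorProduct.induction_on with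
        | zero => simp
        | add a b ha hb => rw [map_add, map_add, ha, hb]
        | tmul t x =>
          rw [show t ⊗ₜ[PA] x = iL t * iR x by simp [iL, iR, W, Algebra.TensorProduct.algebraMap_apply],
            map_mul, map_mul]
          congr 1
          · refine Eq.trans ?_ congr($hgT t)
            exact congrArg (Ideal.Quotient.mk I) ((Algebra.TensorProduct.lift_tmul G₁ G₂ (fun _ _ => Commute.all _ _) t 1).trans (by
              rw [map_one, mul_one]; rfl))
          · refine Eq.trans ?_ congr($hgD x)
            exact congrArg (Ideal.Quotient.mk I) ((Algebra.TensorProduct.lift_tmul G₁ G₂ (fun _ _ => Commute.all _ _) 1 x).trans (by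
              rw [map_one, one_mul]; rfl))
  exact RingHom.etale_algebraMap.2 ⟨hfe, inferInstance⟩

end Tensor

end Groth.Agent.StFib.Slice
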