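import Groth.Agent.StFib.SliceRing
import Mathlib.AlgebraicGeometry.Morphisms.Etale
import Mathlib.AlgebraicGeometry.Morphisms.Smooth
import Mathlib.AlgebraicGeometry.Morphisms.UniversallyOpen
import Mathlib.AlgebraicGeometry.PullbackCarrier
import Mathlib.Algebra.TrivSqZeroExt.Basic

/-!
# Slicing a smooth relation of schemes
-/

set_option linter.unusedVariables false
set_option linter.unusedSectionVars false
set_option backward.isDefEq.respectTransparency false
set_option backward.isDefEq.respectTransparency.types false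

universe u

open CategoryTheory CategoryTheory.Limits AlgebraicGeometry TopologicalSpace

namespace Groth.Agent.StFib.Slice

attribute [-instance] IsLocalRing.instModuleResidueFieldOfAlgebra

variable {S U V : Scheme.{u}} (πU : U ⟶ S) (s t : V ⟶ U)

/-- The scheme of dual numbers of a field. -/
noncomputable abbrev dualPt (K : Type u) [Field K] : Scheme.{u} := Spec (CommRingCat.of (TrivSqZeroExt K K))

/-- The closed point of the dual numbers. -/
noncomputable abbrev incl (K : Type u) [Field K] : Spec (CommRingCat.of K) ⟶ dualPt K :=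
  Spec.map (CommRingCat.ofHom (TrivSqZeroExt.fstHom K K K).toRingHom)

/-- The constant tangent vector. -/
noncomputable abbrev retr (K : Type u) [Field K] : dualPt K ⟶ Spec (CommRingCat.of K) :=
  Spec.map (CommRingCat.ofHom (TrivSqZeroExt.inlHom K K))

@[reassoc]
theorem incl_retr (K : Type u) [Field K] : incl K ≫ retr K = 𝟙 _ := by
  rw [← Spec.map_comp, ← Spec.map_id]
  congr 1

/-- Tangent vectors at `v` along the fibre of `s`. -/
def IsLift {K : Type u} [Field K] (v : Spec (CommRingCat.of K) ⟶ V) (δ : dualPt K ⟶ V) : Prop :=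
  incl K ≫ δ = v ∧ δ ≫ s = retr K ≫ v ≫ s

/-- Relative tangent vectors at points with the same image correspond to each other. -/
def TangentRel : Prop :=
  ∀ (K : Type u) [Field K] (v₁ v₂ : Spec (CommRingCat.of K) ⟶ V), v₁ ≫ t = v₂ ≫ t →
    ∀ δ₁, IsLift s v₁ δ₁ → ∃! δ₂, IsLift s v₂ δ₂ ∧ δ₂ ≫ t = δ₁ ≫ t

theorem range_subset_of_incl {K : Type u} [Field K] (δ : dualPt K ⟶ V) {O : Set V}
    (h : Set.range (incl K ≫ δ) ⊆ O) : Set.range δ ⊆ O := by
  rintro _ ⟨p, rfl⟩
  obtain ⟨q, rfl⟩ : ∃ q, incl K q = p := by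
    let z : PrimeSpectrum K := ⟨⊥, Ideal.isPrime_bot⟩
    refine ⟨z, PrimeSpectrum.ext (Ideal.ext fun x => ?_)⟩
    change TrivSqZeroExt.fst x ∈ (⊥ : Ideal K) ↔ x ∈ p.asIdeal
    have hx : ∀ m : K, TrivSqZeroExt.inr m ∈ p.asIdeal := fun m => p.isPrime.mem_of_pow_mem 2 (by
      rw [pow_two, TrivSqZeroExt.inr_mul_inr]
      exact zero_mem _)
    rw [Ideal.mem_bot]
    refine ⟨fun h => ?_, fun h => ?_⟩
    · rw [← TrivSqZeroExt.inl_fst_add_inr_snd_eq x, h, TrivSqZeroExt.inl_zero, zero_add]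
      exact hx _
    · by_contra h0
      exact p.isPrime.ne_top (Ideal.eq_top_of_isUnit_mem _ h (TrivSqZeroExt.isUnit_iff_isUnit_fst.2 (Ne.isUnit h0)))
  exact h ⟨q, rfl⟩

variable {K : Type u} [Field K]

section Chart

variable {UR : U.Opens} {VT : V.Opens} (hR : IsAffineOpen UR) (hT : IsAffineOpen VT) (hle : VT ≤ s ⁻¹ᵁ UR)
  (φ : Γ(V, VT) →+* K)

/-- The point of a chart given by a ring map. -/
noncomputable abbrev pt : Spec (CommRingCat.of K) ⟶ V := Spec.map (CommRingCat.ofHom φ) ≫ hT.fromSpec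

include hR in
theorem exists_of_lift (δ : dualPt K ⟶ V) (hδ : IsLift s (pt hT φ) δ) :
    letI := (s.appLE UR VT hle).hom.toAlgebra
    letI := φ.toAlgebra
    letI : Algebra Γ(U, UR) K := (φ.comp (s.appLE UR VT hle).hom).toAlgebra
    haveI : IsScalarTower Γ(U, UR) Γ(V, VT) K := IsScalarTower.of_algebraMap_eq' rfl
    ∃ D : Derivation Γ(U, UR) Γ(V, VT) K, ∃ ψ : Γ(V, VT) →+* TrivSqZeroExt K K,
      δ = Spec.map (CommRingCat.ofHom ψ) ≫ hT.fromSpec ∧
        ∀ x, ψ x = TrivSqZeroExt.inl (φ x) + TrivSqZeroExt.inr (D x) := by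
  let := (s.appLE UR VT hle).hom.toAlgebra
  let := φ.toAlgebra
  let : Algebra Γ(U, UR) K := (φ.comp (s.appLE UR VT hle).hom).toAlgebra
  have : IsScalarTower Γ(U, UR) Γ(V, VT) K := IsScalarTower.of_algebraMap_eq' rfl
  have hr : Set.range δ ⊆ Set.range hT.fromSpec := by
    refine range_subset_of_incl δ ?_
    rw [hδ.1]
    rintro _ ⟨x, rfl⟩
    exact ⟨_, rfl⟩
  let m : dualPt K ⟶ Spec Γ(V, VT) := IsOpenImmersion.lift hT.fromSpec δ hr
  have hm : m ≫ hT.fromSpec = δ := IsOpenImmersion.lift_fac _ _ _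
  let ψ := Spec.preimage m
  have hψ : Spec.map ψ ≫ hT.fromSpec = δ := by rw [Spec.map_preimage, hm]
  have h1 : ψ ≫ CommRingCat.ofHom (TrivSqZeroExt.fstHom K K K).toRingHom = CommRingCat.ofHom φ := by
    refine Spec.map_injective ?_
    rw [← cancel_mono hT.fromSpec, Spec.map_comp, Category.assoc, hψ]
    exact hδ.1
  have h2 : s.appLE UR VT hle ≫ ψ =
      s.appLE UR VT hle ≫ CommRingCat.ofHom φ ≫ CommRingCat.ofHom (TrivSqZeroExt.inlHom K K) := by
    refine Spec.map_injective ?_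
    rw [← cancel_mono hR.fromSpec]
    simp only [Spec.map_comp, Category.assoc, hR.SpecMap_appLE_fromSpec s hT hle]
    rw [← Category.assoc (Spec.map ψ), hψ, hδ.2]
    simp
  have hfst : ∀ x, TrivSqZeroExt.fst (ψ.hom x) = φ x := fun x => congr($h1 x)
  refine ⟨Derivation.mk'
      { toFun := fun x => TrivSqZeroExt.snd (ψ.hom x)
        map_add' := fun x y => by simp
        map_smul' := fun r x => ?_ } (fun x y => ?_), ψ.hom, hψ.symm, fun x => ?_⟩
  · rw [Algebra.smul_def, map_mul, TrivSqZeroExt.snd_mul, RingHom.id_apply, Algebra.smul_def]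
    have : ψ.hom (algebraMap Γ(U, UR) Γ(V, VT) r) = TrivSqZeroExt.inl (algebraMap Γ(U, UR) K r) := congr($h2 r)
    rw [this]
    simp
    rw [Algebra.smul_def]
  · change TrivSqZeroExt.snd (ψ.hom (x * y)) = φ x • TrivSqZeroExt.snd (ψ.hom y) + φ y • TrivSqZeroExt.snd (ψ.hom x)
    rw [map_mul, TrivSqZeroExt.snd_mul, hfst, hfst]
    simp [mul_comm]
  · exact TrivSqZeroExt.ext (by simp [hfst]) (by simp)

include hR in
theorem exists_lift_of_derivation :
    letI := (s.appLE UR VT hle).hom.toAlgebra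
    letI := φ.toAlgebra
    letI : Algebra Γ(U, UR) K := (φ.comp (s.appLE UR VT hle).hom).toAlgebra
    haveI : IsScalarTower Γ(U, UR) Γ(V, VT) K := IsScalarTower.of_algebraMap_eq' rfl
    ∀ D : Derivation Γ(U, UR) Γ(V, VT) K, ∃ δ, IsLift s (pt hT φ) δ ∧ ∃ ψ : Γ(V, VT) →+* TrivSqZeroExt K K,
      δ = Spec.map (CommRingCat.ofHom ψ) ≫ hT.fromSpec ∧
        ∀ x, ψ x = TrivSqZeroExt.inl (φ x) + TrivSqZeroExt.inr (D x) := by
  let := (s.appLE UR VT hle).hom.toAlgebra
  let := φ.toAlgebra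
  let : Algebra Γ(U, UR) K := (φ.comp (s.appLE UR VT hle).hom).toAlgebra
  have : IsScalarTower Γ(U, UR) Γ(V, VT) K := IsScalarTower.of_algebraMap_eq' rfl
  intro D
  let ψ : Γ(V, VT) →+* TrivSqZeroExt K K :=
    { toFun := fun x => TrivSqZeroExt.inl (φ x) + TrivSqZeroExt.inr (D x)
      map_one' := by ext <;> simp
      map_mul' := fun x y => by
        ext
        · simp
        · simp only [D.leibniz, TrivSqZeroExt.snd_mul, Algebra.smul_def]
          simp only [TrivSqZeroExt.fst_add, TrivSqZeroExt.fst_inl, TrivSqZeroExt.fst_inr, add_zero,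
            TrivSqZeroExt.snd_add, TrivSqZeroExt.snd_inl, TrivSqZeroExt.snd_inr, zero_add,
            smul_eq_mul, MulOpposite.smul_eq_mul_unop, MulOpposite.unop_op, RingHom.algebraMap_toAlgebra]
          exact congrArg (φ x * D y + ·) (mul_comm _ _)
      map_zero' := by ext <;> simp
      map_add' := fun x y => by ext <;> simp }
  refine ⟨Spec.map (CommRingCat.ofHom ψ) ≫ hT.fromSpec, ⟨?_, ?_⟩, ψ, rfl, fun x => rfl⟩
  · rw [← Category.assoc, ← Spec.map_comp]
    congr 2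
    refine CommRingCat.hom_ext (RingHom.ext fun x => ?_)
    simp [ψ]
  · rw [pt, Category.assoc, Category.assoc, ← hR.SpecMap_appLE_fromSpec s hT hle]
    simp only [retr, ← Category.assoc, ← Spec.map_comp]
    congr 2
    refine CommRingCat.hom_ext (RingHom.ext fun r => TrivSqZeroExt.ext ?_ ?_)
    · simp [ψ]
    · simp only [ψ]
      simp
      exact D.map_algebraMap r

end Chart

variable {UB : U.Opens} (hB : IsAffineOpen UB) {d : ℕ} (a : Fin d → Γ(U, UB))

section Chart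

variable {UR : U.Opens} {VT : V.Opens} (hR : IsAffineOpen UR) (hT : IsAffineOpen VT) (hle : VT ≤ s ⁻¹ᵁ UR)
  (hle' : VT ≤ t ⁻¹ᵁ UB) (φ : Γ(V, VT) →+* K)

/-- The functions give tangent coordinates at a point of a chart. -/
def GoodAt : Prop :=
  letI := (s.appLE UR VT hle).hom.toAlgebra
  letI := φ.toAlgebra
  letI : Algebra Γ(U, UR) K := (φ.comp (s.appLE UR VT hle).hom).toAlgebra
  haveI : IsScalarTower Γ(U, UR) Γ(V, VT) K := IsScalarTower.of_algebraMap_eq' rfl
  Function.Bijective (tangentMap K (R := Γ(U, UR)) fun i => (t.appLE UB VT hle').hom (a i))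

include hB hle' in
theorem comp_t_eq {ψ : Γ(V, VT) →+* TrivSqZeroExt K K} :
    (Spec.map (CommRingCat.ofHom ψ) ≫ hT.fromSpec) ≫ t =
      Spec.map (t.appLE UB VT hle' ≫ CommRingCat.ofHom ψ) ≫ hB.fromSpec := by
  rw [Category.assoc, ← hB.SpecMap_appLE_fromSpec t hT hle', Spec.map_comp, Category.assoc]

end Chart

include hB in
/-- Tangent coordinates are shared by the points with the same image. -/
theorem goodAt_transfer (H : TangentRel s t) {UR UR' : U.Opens} {VT VT' : V.Opens} (hR : IsAffineOpen UR)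
    (hT : IsAffineOpen VT) (hle : VT ≤ s ⁻¹ᵁ UR) (hB1 : VT ≤ t ⁻¹ᵁ UB) (φ : Γ(V, VT) →+* K)
    (hR' : IsAffineOpen UR') (hT' : IsAffineOpen VT') (hle₂ : VT' ≤ s ⁻¹ᵁ UR') (hB2 : VT' ≤ t ⁻¹ᵁ UB)
    (φ' : Γ(V, VT') →+* K) (hpt : pt hT φ ≫ t = pt hT' φ' ≫ t) (h : GoodAt s t a hle hB1 φ) :
    GoodAt s t a hle₂ hB2 φ' := by
  let := (s.appLE UR VT hle).hom.toAlgebra
  let := φ.toAlgebra
  let : Algebra Γ(U, UR) K := (φ.comp (s.appLE UR VT hle).hom).toAlgebra
  have : IsScalarTower Γ(U, UR) Γ(V, VT) K := IsScalarTower.of_algebraMap_eq' rfl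
  let := (s.appLE UR' VT' hle₂).hom.toAlgebra
  let := φ'.toAlgebra
  let : Algebra Γ(U, UR') K := (φ'.comp (s.appLE UR' VT' hle₂).hom).toAlgebra
  have : IsScalarTower Γ(U, UR') Γ(V, VT') K := IsScalarTower.of_algebraMap_eq' rfl
  obtain ⟨hi, hs⟩ := h
  -- equal images give equal values
  have coord : ∀ {D : Derivation Γ(U, UR) Γ(V, VT) K} {D' : Derivation Γ(U, UR') Γ(V, VT') K}
      {ψ : Γ(V, VT) →+* TrivSqZeroExt K K} {ψ' : Γ(V, VT') →+* TrivSqZeroExt K K},
      (∀ x, ψ x = TrivSqZeroExt.inl (φ x) + TrivSqZeroExt.inr (D x)) →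
      (∀ x, ψ' x = TrivSqZeroExt.inl (φ' x) + TrivSqZeroExt.inr (D' x)) →
      (Spec.map (CommRingCat.ofHom ψ) ≫ hT.fromSpec) ≫ t = (Spec.map (CommRingCat.ofHom ψ') ≫ hT'.fromSpec) ≫ t →
      ∀ b, D ((t.appLE UB VT hB1).hom b) = D' ((t.appLE UB VT' hB2).hom b) := by
    intro D D' ψ ψ' hψ hψ' he b
    rw [comp_t_eq t hB hT hB1, comp_t_eq t hB hT' hB2, cancel_mono] at he
    have := congr(TrivSqZeroExt.snd ($(Spec.map_injective he) b))
    simpa [hψ, hψ'] using this
  refine ⟨(injective_iff_map_eq_zero _).2 fun D' hD' => ?_, fun c => ?_⟩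
  · obtain ⟨δ', hl', ψ', rfl, hψ'⟩ := exists_lift_of_derivation s hR' hT' hle₂ φ' D'
    obtain ⟨δ, ⟨hl, ht⟩, -⟩ := H K (pt hT' φ') (pt hT φ) hpt.symm _ hl'
    obtain ⟨D, ψ, rfl, hψ⟩ := exists_of_lift s hR hT hle φ δ hl
    have hD : D = 0 := hi (a₂ := 0) (funext fun i => by
      rw [map_zero]
      exact (coord hψ hψ' ht (a i)).trans (congrFun hD' i))
    obtain ⟨δ₀, hl₀, ψ₀, rfl, hψ₀⟩ := exists_lift_of_derivation s hR' hT' hle₂ φ' 0
    have heq := (H K (pt hT φ) (pt hT' φ') hpt _ hl).unique ⟨hl', ht.symm⟩ ⟨hl₀, by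
      rw [comp_t_eq t hB hT hB1, comp_t_eq t hB hT' hB2]
      congr 2
      refine CommRingCat.hom_ext (RingHom.ext fun b => ?_)
      have hb : φ ((t.appLE UB VT hB1).hom b) = φ' ((t.appLE UB VT' hB2).hom b) := by
        have he := hpt
        rw [pt, pt, Category.assoc, Category.assoc, ← hB.SpecMap_appLE_fromSpec t hT hB1,
          ← hB.SpecMap_appLE_fromSpec t hT' hB2, ← Category.assoc, ← Category.assoc, ← Spec.map_comp,
          ← Spec.map_comp, cancel_mono] at he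
        exact congr($(Spec.map_injective he) b)
      simp [hψ, hψ₀, hD, hb]⟩
    rw [cancel_mono] at heq
    refine Derivation.ext fun x => ?_
    have := congr(TrivSqZeroExt.snd ($(Spec.map_injective heq) x))
    simpa [hψ', hψ₀] using this
  · obtain ⟨D, hD⟩ := hs c
    obtain ⟨δ, hl, ψ, rfl, hψ⟩ := exists_lift_of_derivation s hR hT hle φ D
    obtain ⟨δ', ⟨hl', ht⟩, -⟩ := H K (pt hT φ) (pt hT' φ') hpt _ hl
    obtain ⟨D', ψ', rfl, hψ'⟩ := exists_of_lift s hR' hT' hle₂ φ' δ' hl'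
    exact ⟨D', funext fun i => (coord hψ hψ' ht.symm (a i)).symm.trans (congrFun hD i)⟩

/-- The map to affine space is etale on a chart. -/
def IsEtaleChart {UR : U.Opens} {VT : V.Opens} (hle : VT ≤ s ⁻¹ᵁ UR) (hB' : VT ≤ t ⁻¹ᵁ UB) : Prop :=
  RingHom.Etale (MvPolynomial.eval₂Hom (s.appLE UR VT hle).hom fun i => (t.appLE UB VT hB').hom (a i))

theorem goodAt_of_etaleChart [Smooth s] {UR : U.Opens} {VT : V.Opens} (hR : IsAffineOpen UR)
    (hT : IsAffineOpen VT) (hle : VT ≤ s ⁻¹ᵁ UR) (hB' : VT ≤ t ⁻¹ᵁ UB)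
    (h : IsEtaleChart s t a hle hB') (φ : Γ(V, VT) →+* K) : GoodAt s t a hle hB' φ := by
  let := (s.appLE UR VT hle).hom.toAlgebra
  let := φ.toAlgebra
  let : Algebra Γ(U, UR) K := (φ.comp (s.appLE UR VT hle).hom).toAlgebra
  have : IsScalarTower Γ(U, UR) Γ(V, VT) K := IsScalarTower.of_algebraMap_eq' rfl
  let ev := MvPolynomial.eval₂Hom (s.appLE UR VT hle).hom fun i => (t.appLE UB VT hB').hom (a i)
  let := ev.toAlgebra
  have : IsScalarTower Γ(U, UR) (MvPolynomial (Fin d) Γ(U, UR)) Γ(V, VT) :=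
    IsScalarTower.of_algebraMap_eq fun r => (MvPolynomial.eval₂_C _ _ r).symm
  have : Algebra.Etale (MvPolynomial (Fin d) Γ(U, UR)) Γ(V, VT) := h
  have : Algebra.Smooth Γ(U, UR) Γ(V, VT) := s.smooth_appLE hR hT hle
  have := bijective_of_formallyEtale (R := Γ(U, UR)) (T := Γ(V, VT)) (d := d) K
  have hX : ∀ i, algebraMap (MvPolynomial (Fin d) Γ(U, UR)) Γ(V, VT) (MvPolynomial.X i) =
      (t.appLE UB VT hB').hom (a i) := fun i => MvPolynomial.eval₂_X _ _ i
  simp only [hX] at this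
  exact this

/-- A point with tangent coordinates has an etale chart around it. -/
theorem exists_etaleChart [Smooth s] {UR : U.Opens} {VT : V.Opens} (hR : IsAffineOpen UR)
    (hT : IsAffineOpen VT) (hle : VT ≤ s ⁻¹ᵁ UR) (hB' : VT ≤ t ⁻¹ᵁ UB) {v : V} (hv : v ∈ VT)
    (φ : Γ(V, VT) →+* K) (hφ : RingHom.ker φ = (hT.primeIdealOf ⟨v, hv⟩).asIdeal)
    (h : GoodAt s t a hle hB' φ) :
    ∃ f : Γ(V, VT), v ∈ V.basicOpen f ∧ IsEtaleChart s t a (VT := V.basicOpen f)
      ((V.basicOpen_le f).trans hle) ((V.basicOpen_le f).trans hB') := by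
  let := (s.appLE UR VT hle).hom.toAlgebra
  let := φ.toAlgebra
  let : Algebra Γ(U, UR) K := (φ.comp (s.appLE UR VT hle).hom).toAlgebra
  have : IsScalarTower Γ(U, UR) Γ(V, VT) K := IsScalarTower.of_algebraMap_eq' rfl
  let ev := MvPolynomial.eval₂Hom (s.appLE UR VT hle).hom fun i => (t.appLE UB VT hB').hom (a i)
  let := ev.toAlgebra
  have : IsScalarTower Γ(U, UR) (MvPolynomial (Fin d) Γ(U, UR)) Γ(V, VT) :=
    IsScalarTower.of_algebraMap_eq fun r => (MvPolynomial.eval₂_C _ _ r).symm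
  have : Algebra.Smooth Γ(U, UR) Γ(V, VT) := s.smooth_appLE hR hT hle
  let p := (hT.primeIdealOf ⟨v, hv⟩).asIdeal
  let ι : p.ResidueField →+* K := Ideal.ResidueField.lift p φ hφ.ge (fun x hx => by
    refine isUnit_iff_ne_zero.2 fun h0 => hx ?_
    change x ∈ p
    rw [show p = RingHom.ker φ from hφ.symm]
    exact RingHom.mem_ker.2 h0)
  let := ι.toAlgebra
  have : IsScalarTower Γ(V, VT) p.ResidueField K :=
    IsScalarTower.of_algebraMap_eq fun x => (Ideal.ResidueField.lift_algebraMap _ _ _ _ x).symm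
  have hX : ∀ i, algebraMap (MvPolynomial (Fin d) Γ(U, UR)) Γ(V, VT) (MvPolynomial.X i) =
      (t.appLE UB VT hB').hom (a i) := fun i => MvPolynomial.eval₂_X _ _ i
  have : Algebra.FinitePresentation (MvPolynomial (Fin d) Γ(U, UR)) Γ(V, VT) :=
    Algebra.FinitePresentation.of_restrict_scalars_finitePresentation Γ(U, UR) _ _
  have : Algebra.IsEtaleAt (MvPolynomial (Fin d) Γ(U, UR)) p := by
    refine isEtaleAt_of_bijective p ?_
    simp only [hX]
    exact (bijective_tangentMap_iff (K := K) (k := p.ResidueField) _).1 h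
  obtain ⟨f, hf, he⟩ := Algebra.exists_etale_of_isEtaleAt (R := MvPolynomial (Fin d) Γ(U, UR)) p
  refine ⟨f, ?_, ?_⟩
  · have h1 := (hT.fromSpec_preimage_basicOpen f).ge (x := hT.primeIdealOf ⟨v, hv⟩) hf
    have h2 : hT.fromSpec (hT.primeIdealOf ⟨v, hv⟩) = v := hT.fromSpec_primeIdealOf ⟨v, hv⟩
    exact h2 ▸ h1
  · let := hT.isLocalization_basicOpen f
    let e := (IsLocalization.algEquiv (Submonoid.powers f) (Localization.Away f) Γ(V, V.basicOpen f))
    have hres : ∀ {W : U.Opens} (g : V ⟶ U) (hW : VT ≤ g ⁻¹ᵁ W),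
        (g.appLE W (V.basicOpen f) ((V.basicOpen_le f).trans hW)).hom =
          (algebraMap Γ(V, VT) Γ(V, V.basicOpen f)).comp (g.appLE W VT hW).hom := fun g hW =>
      congrArg CommRingCat.Hom.hom (Scheme.Hom.appLE_map g hW (homOfLE (V.basicOpen_le f)).op).symm
    have : MvPolynomial.eval₂Hom (s.appLE UR (V.basicOpen f) ((V.basicOpen_le f).trans hle)).hom
        (fun i => (t.appLE UB (V.basicOpen f) ((V.basicOpen_le f).trans hB')).hom (a i)) =
          e.toAlgHom.toRingHom.comp (algebraMap (MvPolynomial (Fin d) Γ(U, UR)) (Localization.Away f)) := by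
      have h1 : e.toAlgHom.toRingHom.comp (algebraMap (MvPolynomial (Fin d) Γ(U, UR)) (Localization.Away f)) =
          (algebraMap Γ(V, VT) Γ(V, V.basicOpen f)).comp ev := RingHom.ext fun x => by
        change e (algebraMap _ _ x) = _
        rw [IsScalarTower.algebraMap_apply (MvPolynomial (Fin d) Γ(U, UR)) Γ(V, VT) (Localization.Away f), e.commutes]
        rfl
      rw [h1]
      refine MvPolynomial.ringHom_ext (fun r => ?_) fun i => ?_
      · simp [ev, hres s hle]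
      · simp [ev, hres t hB']
    rw [IsEtaleChart, this]
    exact RingHom.Etale.respectsIso.1 _ e.toRingEquiv (RingHom.etale_algebraMap.2 he)

include hB in
/-- A point where some functions give an etale map to affine space. -/
theorem exists_coordinates [Smooth s] (H : TangentRel s t) (v : V) (hvB : t v ∈ UB) :
    ∃ (d : ℕ) (a : Fin d → Γ(U, UB)) (UR : U.Opens) (VT : V.Opens) (hR : IsAffineOpen UR)
      (hT : IsAffineOpen VT) (hle : VT ≤ s ⁻¹ᵁ UR) (hB' : VT ≤ t ⁻¹ᵁ UB),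
        v ∈ VT ∧ IsEtaleChart s t a hle hB' := by
  obtain ⟨_, ⟨UR, (hR : IsAffineOpen UR), rfl⟩, hvR, -⟩ := U.isBasis_affineOpens.exists_subset_of_mem_open
    (Set.mem_univ (s v)) isOpen_univ
  obtain ⟨_, ⟨VT, (hT : IsAffineOpen VT), rfl⟩, hv, hVT⟩ := V.isBasis_affineOpens.exists_subset_of_mem_open
    (show v ∈ ((s ⁻¹ᵁ UR) ⊓ (t ⁻¹ᵁ UB) : V.Opens) from ⟨hvR, hvB⟩) (Opens.isOpen _)
  have hle : VT ≤ s ⁻¹ᵁ UR := fun x hx => (hVT hx).1
  have hB' : VT ≤ t ⁻¹ᵁ UB := fun x hx => (hVT hx).2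
  let p := (hT.primeIdealOf ⟨v, hv⟩).asIdeal
  let K := p.ResidueField
  let φ : Γ(V, VT) →+* K := algebraMap _ _
  let := (s.appLE UR VT hle).hom.toAlgebra
  let := φ.toAlgebra
  let : Algebra Γ(U, UR) K := (φ.comp (s.appLE UR VT hle).hom).toAlgebra
  have : IsScalarTower Γ(U, UR) Γ(V, VT) K := IsScalarTower.of_algebraMap_eq' rfl
  have : Algebra.Smooth Γ(U, UR) Γ(V, VT) := s.smooth_appLE hR hT hle
  obtain ⟨d, a, ha⟩ := exists_bijective_tangentMap (R := Γ(U, UR)) (K := K) (fun b => (t.appLE UB VT hB').hom b)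
    fun D hD => by
      obtain ⟨δ, hl, ψ, rfl, hψ⟩ := exists_lift_of_derivation s hR hT hle φ D
      obtain ⟨δ₀, hl₀, ψ₀, rfl, hψ₀⟩ := exists_lift_of_derivation s hR hT hle φ 0
      have heq := (H K (pt hT φ) (pt hT φ) rfl _ hl).unique ⟨hl, rfl⟩ ⟨hl₀, by
        rw [comp_t_eq t hB hT hB', comp_t_eq t hB hT hB']
        congr 2
        refine CommRingCat.hom_ext (RingHom.ext fun b => ?_)
        simp [hψ, hψ₀, hD]⟩
      rw [cancel_mono] at heq
      refine Derivation.ext fun x => ?_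
      have := congr(TrivSqZeroExt.snd ($(Spec.map_injective heq) x))
      simpa [hψ, hψ₀] using this
  obtain ⟨f, hvf, hf⟩ := exists_etaleChart s t a hR hT hle hB' hv φ (Ideal.ker_algebraMap_residueField p) ha
  exact ⟨d, a, UR, V.basicOpen f, hR, hT.basicOpen f, _, _, hvf, hf⟩

end Groth.Agent.StFib.Slice
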