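import Groth.Agent.SpecTop.Basic
import Mathlib.Topology.Spectral.Hom
import Groth.Agent.S7524

/-!
# The quotient of a spectral space by a quasi-compact open relation is spectral
-/

set_option linter.unusedVariables false

open Set Topology TopologicalSpace Groth.Agent.SpecTop

namespace Groth.Agent.StFib

universe u

theorem spectralSpace_of_qc_relation {U : Type u} {W : Type u} {X : Type*} [TopologicalSpace U]
    [TopologicalSpace W] [TopologicalSpace X] [SpectralSpace U] [SpectralSpace W] {f : U → X} {s t : W → U}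
    (hfc : Continuous f) (hfo : IsOpenMap f) (hfs : Function.Surjective f)
    (hs : IsSpectralMap s) (ht : IsSpectralMap t) (hto : IsOpenMap t)
    (hst : ∀ w, f (s w) = f (t w)) (hex : ∀ u v, f u = f v → ∃ w, s w = u ∧ t w = v) :
    SpectralSpace X := by
  have hpre : ∀ A : Set U, f ⁻¹' (f '' A) = t '' (s ⁻¹' A) := fun A => by
    ext v
    refine ⟨fun ⟨u, hu, huv⟩ => ?_, ?_⟩
    · obtain ⟨w, hw, hw'⟩ := hex u v huv
      exact ⟨w, by rw [mem_preimage, hw]; exact hu, hw'⟩
    · rintro ⟨w, hw, rfl⟩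
      exact ⟨s w, hw, hst w⟩
  have hclop : ∀ A : Set U, IsOpen A → IsCompact A → @IsClopen U (constructibleTopology U) (f ⁻¹' (f '' A)) := fun A hA hAc =>
    isClopen_cons_of_compactOpen ((hfo A hA).preimage hfc)
      (by rw [hpre]; exact (hs.isCompact_preimage_of_isOpen hA hAc).image ht.continuous)
  -- the relation detects specializations
  have horb : ∀ v, @IsCompact U (constructibleTopology U) (f ⁻¹' {f v}) := fun v => by
    have h1 : f ⁻¹' {f v} = t '' (s ⁻¹' {v}) := by
      rw [← hpre, image_singleton]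
    have hv : IsClosed[constructibleTopology U] ({v} : Set U) :=
      @isClosed_singleton U (constructibleTopology U) (@T2Space.t1Space U (constructibleTopology U) (t2Space_cons U)) v
    have hsc := continuous_cons_of_isSpectralMap hs
    have htc := continuous_cons_of_isSpectralMap ht
    rw [h1]
    exact @IsCompact.image W U (constructibleTopology W) (constructibleTopology U) _ t
      (isCompact_cons_of_isClosed (@IsClosed.preimage W U (constructibleTopology W) (constructibleTopology U) s hsc _ hv)) htc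
  have hgen : ∀ {u v : U}, f v ⤳ f u → ∃ u' ∈ f ⁻¹' {f v}, u' ⤳ u := fun {u v} huv => by
    let ι := {A : Set U // IsOpen A ∧ IsCompact A ∧ u ∈ A}
    have hne : ∀ S : Finset ι, (f ⁻¹' {f v} ∩ ⋂ A ∈ S, (A : Set U)).Nonempty := fun S => by
      have hO : IsOpen (⋂ A ∈ S, (A : Set U)) := isOpen_biInter_finset fun A _ => A.2.1
      have hu : u ∈ ⋂ A ∈ S, (A : Set U) := mem_iInter₂.2 fun A _ => A.2.2.2
      obtain ⟨x, hx, hxv⟩ := huv.mem_open (hfo _ hO) ⟨u, hu, rfl⟩
      exact ⟨x, hxv, hx⟩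
    obtain ⟨x, hx, hxA⟩ := @IsCompact.inter_iInter_nonempty U (constructibleTopology U) (f ⁻¹' {f v}) ι (horb v)
      (fun A => (A : Set U)) (fun A => isClosed_cons_of_compactOpen A.2.1 A.2.2.1) hne
    refine ⟨x, hx, specializes_iff_forall_open.2 fun O hO huO => ?_⟩
    obtain ⟨A, ⟨hA, hAc⟩, huA, hAO⟩ := PrespectralSpace.isTopologicalBasis.exists_subset_of_mem_open huO hO
    exact hAO (mem_iInter.1 hxA ⟨A, hA, hAc, huA⟩)
  have : T0Space X := ⟨fun a b hab => by
    obtain ⟨u, rfl⟩ := hfs a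
    obtain ⟨v, rfl⟩ := hfs b
    -- a maximally generic point of the orbit of `u`
    let O := f ⁻¹' {f u}
    let P := {x : U // x ∈ O}
    have hchain : ∀ c : Set P, IsChain (fun a b : P => (b : U) ⤳ a) c → ∃ m : P, ∀ a ∈ c, (m : U) ⤳ a := fun c hc => by
      classical
      rcases c.eq_empty_or_nonempty with rfl | ⟨c₀, hc₀⟩
      · exact ⟨⟨u, rfl⟩, fun a ha => ha.elim⟩
      let ι := {A : Set U // IsOpen A ∧ IsCompact A ∧ ∃ a ∈ c, (a : U) ∈ A}
      have hne : ∀ S : Finset ι, (O ∩ ⋂ A ∈ S, (A : Set U)).Nonempty := fun S => by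
        suffices h : ∃ m ∈ c, ∀ A ∈ S, (m : U) ∈ (A : Set U) by
          obtain ⟨m, -, hm⟩ := h
          exact ⟨m, m.2, mem_iInter₂.2 hm⟩
        induction S using Finset.induction with
        | empty => exact ⟨c₀, hc₀, by simp⟩
        | insert A S _ ih =>
          obtain ⟨m, hm, hmS⟩ := ih
          obtain ⟨a, ha, haA⟩ := A.2.2.2
          rcases eq_or_ne a m with rfl | hne
          · exact ⟨a, ha, Finset.forall_mem_insert _ _ _ |>.2 ⟨haA, hmS⟩⟩
          · rcases hc ha hm hne with h | h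
            · exact ⟨m, hm, Finset.forall_mem_insert _ _ _ |>.2 ⟨h.mem_open A.2.1 haA, hmS⟩⟩
            · exact ⟨a, ha, Finset.forall_mem_insert _ _ _ |>.2 ⟨haA, fun B hB => h.mem_open B.2.1 (hmS B hB)⟩⟩
      obtain ⟨x, hx, hxA⟩ := @IsCompact.inter_iInter_nonempty U (constructibleTopology U) O ι (horb u)
        (fun A => (A : Set U)) (fun A => isClosed_cons_of_compactOpen A.2.1 A.2.2.1) hne
      refine ⟨⟨x, hx⟩, fun a ha => specializes_iff_forall_open.2 fun V hV haV => ?_⟩
      obtain ⟨A, ⟨hA, hAc⟩, haA, hAV⟩ := PrespectralSpace.isTopologicalBasis.exists_subset_of_mem_open haV hV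
      exact hAV (mem_iInter.1 hxA ⟨A, hA, hAc, a, ha, haA⟩)
    obtain ⟨u₀, hmax⟩ := exists_maximal_of_chains_bounded (r := fun a b : P => (b : U) ⤳ a) hchain
      (fun {a b c} hab hbc => hbc.trans hab)
    have hu₀ : f u₀.1 = f u := u₀.2
    obtain ⟨v₁, hv₁, h1⟩ := hgen (u := u₀.1) (v := v) (hu₀ ▸ hab.specializes')
    obtain ⟨u₁, hu₁, h2⟩ := hgen (u := v₁) (v := u) (by
      rw [show f v₁ = f v from hv₁]; exact hab.specializes)
    have h3 : (u₀ : U) ⤳ u₁ := hmax ⟨u₁, hu₁⟩ (h2.trans h1)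
    have e : v₁ = u₀.1 := (h1.antisymm (h3.trans h2)).eq
    exact (e ▸ hu₀).symm.trans hv₁⟩
  -- a finer compact topology
  refine @spectralSpace_of_generateFrom X ((constructibleTopology U).coinduced f) _ this ((f '' ·) '' {A | IsOpen A ∧ IsCompact A}) ?_ ?_ ?_
  · refine IsTopologicalBasis.eq_generateFrom (isTopologicalBasis_of_isOpen_of_nhds ?_ fun a V haV hV => ?_)
    · rintro _ ⟨A, hA, rfl⟩
      exact hfo A hA.1
    · obtain ⟨u, rfl⟩ := hfs a
      obtain ⟨A, hA, huA, hAV⟩ := PrespectralSpace.isTopologicalBasis.exists_subset_of_mem_open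
        (show u ∈ f ⁻¹' V from haV) (hV.preimage hfc)
      exact ⟨f '' A, ⟨A, hA, rfl⟩, ⟨u, huA, rfl⟩, image_subset_iff.2 hAV⟩
  · exact @Function.Surjective.compactSpace U X (constructibleTopology U) ((constructibleTopology U).coinduced f) f (by
      exact continuous_coinduced_rng) (compactSpace_cons U) hfs
  · rintro _ ⟨A, hA, rfl⟩
    exact ⟨isClosed_coinduced.2 (hclop A hA.1 hA.2).1, isOpen_coinduced.2 (hclop A hA.1 hA.2).2⟩

end Groth.Agent.StFib
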